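import Cfsg.Agent.Cit.Commute
import Cfsg.Agent.Cit.Nil.ROne.QEight
import Mathlib
import Mathlib.GroupTheory.SpecificGroups.Alternating
import Cfsg.Prelude.Def_SporadicB
import Cfsg.Agent.Cit.Defs
import Cfsg.Agent.Lib.CoprimeCommutator
import Cfsg.Agent.StandardComponent.AltAut
import Cfsg.Agent.Lib.GenFitting
import Cfsg.Agent.Cit.OneBasic
import Cfsg.Agent.Cit.CorTwo
import Cfsg.Agent.Lib.NormalAbelian
import Mathlib.Data.Nat.Multiplicity
import Cfsg.Agent.Nodes.SimplyLaced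
import Cfsg.Agent.Nodes.KindBase
import Cfsg.Agent.StdEven.Syl
import Cfsg.Agent.OddOrderLocal.NilParts
import Cfsg.Prelude.Def_TwoFusion
import Cfsg.Agent.AschCrit.CommFour.Orbits_m3
import Cfsg.Agent.TwoFusion.QuatQuotient
import Cfsg.Agent.TwoFusion.StronglyEmbeddedBasic
import Cfsg.Agent.Cit.LemmaB
import Cfsg.Agent.FixBN.FixSplit
import Cfsg.Agent.Cit.Sub
import Cfsg.Prelude.Def_Local
import Cfsg.Agent.FastGrp
import Cfsg.Agent.Prune
set_option linter.all false

section
prune_inst 0x7f00000000000000000000000000000000000000000000000000000000000000000000000000000000000000000000000000000000000000000000000000000000000000000000000000000000000000003fffffffffffffffffffffffffffbeffbdffffffff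

section
prune_inst 0xbcfefb2ff8addfffff7e7ffef5dffc19d05fffffdff94bbfe0a9ff0fdf030c2be5fb8f8de050ff0ee7e29410b87813f97ece7fea6bdc7ffffd5ff45ffbee1fe5febd0c5197b8341ffc6ffefbf17f8e7f000000000000000000000000000000004200000000

-- part: Cit/Nil/ROne/Defs
section
set_option linter.all false
open scoped Cfsg.Agent.FastGrp

/-!
# (6b), `r = 1`, core-free: the world (helper194)

`W Z K` : `Z` is an invariant set of involutions, `K z` (`z ∈ Z`) a quaternion group of order 8 with involution `z`,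
`K (g z g⁻¹) = g (K z) g⁻¹` (so `K z` is normal in `C(z)`).

* `CP K u v` : `(u, v)` is a C-pair (`u ≠ v`, `[K u, K v] = 1`);
* `Inn K g z y` : `g` acts on `K z` as the inner automorphism by `y ∈ K z`, `y² = z`;
* `Trn K g z a` : `g` acts on `K z` as a transposition inverting `a`;
* `C3 Z K`, `OneCls Z`, `NilP Z K` : additional hypotheses;
* `W.hyp` : `Hyp (K '' Z)`; `W.of_hyp` : `W` from `Hyp Om`.
-/

set_option autoImplicit false
set_option linter.style.haveILetI false
set_option linter.unusedSectionVars false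

namespace Cfsg.Agent.Cit.Nil.ROne

open Subgroup Cfsg Cit QuaternionGroup

variable {G : Type*} [Group G]

/-- see the head of the file -/
structure W (Z : Set G) (K : G → Subgroup G) : Prop where
  sq : ∀ z ∈ Z, z * z = 1
  ne : ∀ z ∈ Z, z ≠ 1
  mem : ∀ z ∈ Z, z ∈ K z
  conjZ : ∀ z ∈ Z, ∀ g, g * z * g⁻¹ ∈ Z
  conjK : ∀ z ∈ Z, ∀ g, K (g * z * g⁻¹) = cj g (K z)
  q8 : ∀ z ∈ Z, Nonempty (K z ≃* QuaternionGroup 2)

/-- `(u, v)` is a C-pair -/
def CP (K : G → Subgroup G) (u v : G) : Prop := u ≠ v ∧ ∀ a ∈ K u, ∀ b ∈ K v, a * b = b * a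

/-- `g` centralises `K z` -/
def Cen (K : G → Subgroup G) (g z : G) : Prop := ∀ k ∈ K z, g * k = k * g

/-- `g` acts on `K z` as `y` -/
structure Inn (K : G → Subgroup G) (g z y : G) : Prop where
  mem : y ∈ K z
  sq : y * y = z
  act : ∀ k ∈ K z, g * k * g⁻¹ = y * k * y⁻¹

/-- `g` acts on `K z` as a transposition inverting `a` -/
structure Trn (K : G → Subgroup G) (g z a : G) : Prop where
  mem : a ∈ K z
  sq : a * a = z
  inv : g * a * g⁻¹ = a⁻¹
  ne : ∀ b ∈ K z, b * b = z → b ≠ a → b ≠ a⁻¹ → g * b * g⁻¹ ≠ b ∧ g * b * g⁻¹ ≠ b⁻¹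

/-- (C3) : no cyclic subgroup of order 4 of `K z` is normal in `C(z)` -/
def C3 (Z : Set G) (K : G → Subgroup G) : Prop :=
  ∀ z ∈ Z, ∀ y ∈ K z, y * y = z → ∃ g, g * z = z * g ∧ g * y * g⁻¹ ≠ y ∧ g * y * g⁻¹ ≠ y⁻¹

/-- `Z` is a class -/
def OneCls (Z : Set G) : Prop := ∀ z ∈ Z, ∀ u ∈ Z, ∃ g, g * z * g⁻¹ = u

/-- all C-pairs are nil: `v ∈ O₂(C(u))` -/
def NilP (Z : Set G) (K : G → Subgroup G) : Prop :=
  ∀ u ∈ Z, ∀ v ∈ Z, CP K u v →
    ∃ N : Subgroup G, N ≤ centralizer {u} ∧ centralizer {u} ≤ normalizer (N : Set G) ∧ IsPGroup 2 N ∧ v ∈ N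

namespace W

variable {Z : Set G} {K : G → Subgroup G} {z u v g x y b k : G}

section basic

variable (h : W Z K)

include h

theorem inv (hz : z ∈ Z) : z⁻¹ = z := inv_eq_of_mul_eq_one_right (h.sq z hz)

theorem ord (hz : z ∈ Z) : orderOf z = 2 :=
  orderOf_eq_prime (by rw [pow_two]; exact h.sq z hz) (h.ne z hz)

/-- the model isomorphism -/
noncomputable def e (hz : z ∈ Z) : K z ≃* QEight.Q := (h.q8 z hz).some

theorem e_z (hz : z ∈ Z) : h.e hz ⟨z, h.mem z hz⟩ = a 2 := by
  have h1 : ∀ x : QEight.Q, x * x = 1 → x ≠ 1 → x = a 2 := by decide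
  apply h1
  · rw [← map_mul, ← map_one (h.e hz)]
    exact congrArg (h.e hz) (Subtype.ext (h.sq z hz))
  · intro h2
    rw [← map_one (h.e hz)] at h2
    exact h.ne z hz (congrArg Subtype.val ((h.e hz).injective h2))

/-- an element of `K z` with square `1` is `1` or `z` -/
theorem uniq (hz : z ∈ Z) (hx : x ∈ K z) (hxx : x * x = 1) : x = 1 ∨ x = z := by
  by_cases h1 : x = 1
  · exact Or.inl h1
  right
  have h2 : ∀ x : QEight.Q, x * x = 1 → x ≠ 1 → x = a 2 := by decide
  have h3 : h.e hz ⟨x, hx⟩ = a 2 := by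
    apply h2
    · rw [← map_mul, ← map_one (h.e hz)]
      exact congrArg (h.e hz) (Subtype.ext hxx)
    · intro h3
      rw [← map_one (h.e hz)] at h3
      exact h1 (congrArg Subtype.val ((h.e hz).injective h3))
  rw [← h.e_z hz] at h3
  exact congrArg Subtype.val ((h.e hz).injective h3)

/-- the other elements have square `z` -/
theorem sq_eq (hz : z ∈ Z) (hx : x ∈ K z) (h1 : x ≠ 1) (h2 : x ≠ z) : x * x = z := by
  have h3 : ∀ x : QEight.Q, x ≠ 1 → x ≠ a 2 → x * x = a 2 := by decide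
  have h4 : h.e hz ⟨x, hx⟩ * h.e hz ⟨x, hx⟩ = a 2 := by
    apply h3
    · intro h3
      rw [← map_one (h.e hz)] at h3
      exact h1 (congrArg Subtype.val ((h.e hz).injective h3))
    · intro h3
      rw [← h.e_z hz] at h3
      exact h2 (congrArg Subtype.val ((h.e hz).injective h3))
  rw [← map_mul, ← h.e_z hz] at h4
  exact congrArg Subtype.val ((h.e hz).injective h4)

theorem card8 (hz : z ∈ Z) : Nat.card (K z) = 8 := by
  rw [Nat.card_congr (h.e hz).toEquiv, Nat.card_eq_fintype_card]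
  decide

theorem two (hz : z ∈ Z) : IsPGroup 2 (K z) := by
  haveI : Fact (Nat.Prime 2) := ⟨Nat.prime_two⟩
  exact IsPGroup.of_card (n := 3) (h.card8 hz)

/-- `K z ≤ C(z)` -/
theorem cent (hz : z ∈ Z) (hx : x ∈ K z) : x * z = z * x := by
  have h3 : ∀ x : QEight.Q, x * a 2 = a 2 * x := by decide
  have h4 := h3 (h.e hz ⟨x, hx⟩)
  rw [← h.e_z hz, ← map_mul, ← map_mul] at h4
  exact congrArg Subtype.val ((h.e hz).injective h4)

theorem K_le (hz : z ∈ Z) : K z ≤ centralizer {z} := fun _ hx =>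
  mem_centralizer_singleton_iff.2 (h.cent hz hx)

/-- `C(z)` normalises `K z` -/
theorem norm (hz : z ∈ Z) (hg : g * z = z * g) : cj g (K z) = K z := by
  rw [← h.conjK z hz g, hg, mul_inv_cancel_right]

theorem mem_norm (hz : z ∈ Z) (hg : g * z = z * g) : g ∈ normalizer (K z : Set G) :=
  mem_normalizer_iff_cj.2 (h.norm hz hg)

theorem norm_mem (hz : z ∈ Z) (hg : g * z = z * g) (hx : x ∈ K z) : g * x * g⁻¹ ∈ K z := by
  have h1 := conj_mem_cj (g := g) hx
  rwa [h.norm hz hg] at h1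

theorem norm_mem' (hz : z ∈ Z) (hg : g * z = z * g) (hx : x ∈ K z) : g⁻¹ * x * g ∈ K z := by
  have h1 : g⁻¹ * z = z * g⁻¹ := by
    rw [inv_mul_eq_iff_eq_mul, ← mul_assoc, hg, mul_inv_cancel_right]
  have h2 := h.norm_mem hz h1 hx
  rwa [inv_inv] at h2

/-- elements `i`, `j` generating `K z` -/
theorem exists_ij (hz : z ∈ Z) : ∃ i ∈ K z, ∃ j ∈ K z, i * i = z ∧ j * j = z ∧ j * i = z * (i * j) ∧
    ∀ x ∈ K z, x = 1 ∨ x = z ∨ x = i ∨ x = z * i ∨ x = j ∨ x = z * j ∨ x = i * j ∨ x = z * (i * j) := by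
  obtain ⟨e⟩ : Nonempty (K z ≃* QEight.Q) := ⟨h.e hz⟩
  have hez := h.e_z hz
  set f := h.e hz with hf
  have lift : ∀ p q : K z, f p = f q → (p : G) = q := fun p q hpq => congrArg Subtype.val (f.injective hpq)
  refine ⟨(f.symm (a 1) : K z), (f.symm (a 1)).2, (f.symm (xa 0) : K z), (f.symm (xa 0)).2, ?_, ?_, ?_, ?_⟩
  · refine lift (f.symm (a 1) * f.symm (a 1)) ⟨z, h.mem z hz⟩ ?_
    rw [map_mul, hez, f.apply_symm_apply]; decide
  · refine lift (f.symm (xa 0) * f.symm (xa 0)) ⟨z, h.mem z hz⟩ ?_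
    rw [map_mul, hez, f.apply_symm_apply]; decide
  · refine lift (f.symm (xa 0) * f.symm (a 1)) (⟨z, h.mem z hz⟩ * (f.symm (a 1) * f.symm (xa 0))) ?_
    rw [map_mul, map_mul, map_mul, hez, f.apply_symm_apply, f.apply_symm_apply]; decide
  · intro x hx
    have h1 : ∀ x : QEight.Q, x = 1 ∨ x = a 2 ∨ x = a 1 ∨ x = a 2 * a 1 ∨ x = xa 0 ∨ x = a 2 * xa 0 ∨
        x = a 1 * xa 0 ∨ x = a 2 * (a 1 * xa 0) := by decide
    have key : ∀ p : K z, f ⟨x, hx⟩ = f p → x = p := fun p hp => lift ⟨x, hx⟩ p hp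
    have hz' : f.symm (a 2) = ⟨z, h.mem z hz⟩ := by rw [← hez, f.symm_apply_apply]
    have conv : ∀ q : QEight.Q, f ⟨x, hx⟩ = q → x = (f.symm q : K z) := by
      intro q hq
      exact key _ (by rw [f.apply_symm_apply]; exact hq)
    rcases h1 (f ⟨x, hx⟩) with h2 | h2 | h2 | h2 | h2 | h2 | h2 | h2
    · left; rw [conv _ h2, map_one]; rfl
    · right; left; rw [conv _ h2, hz']
    · right; right; left; exact conv _ h2
    · right; right; right; left; rw [conv _ h2, map_mul, hz']; rfl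
    · right; right; right; right; left; exact conv _ h2
    · right; right; right; right; right; left; rw [conv _ h2, map_mul, hz']; rfl
    · right; right; right; right; right; right; left; rw [conv _ h2, map_mul]; rfl
    · right; right; right; right; right; right; right; rw [conv _ h2, map_mul, map_mul, hz']; rfl

end basic

/-! ### The conjugation action on `K z` -/

section act

variable (h : W Z K)

/-- conjugation by `g ∈ C(z)` on `K z` -/
def actK (hz : z ∈ Z) (g : G) (hg : g * z = z * g) : MulAut (K z) where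
  toFun x := ⟨g * x * g⁻¹, h.norm_mem hz hg x.2⟩
  invFun x := ⟨g⁻¹ * x * g, h.norm_mem' hz hg x.2⟩
  left_inv x := Subtype.ext (by change g⁻¹ * (g * x * g⁻¹) * g = x; group)
  right_inv x := Subtype.ext (by change g * (g⁻¹ * x * g) * g⁻¹ = x; group)
  map_mul' x y := Subtype.ext (by change g * (x * y) * g⁻¹ = (g * x * g⁻¹) * (g * y * g⁻¹); group)

/-- conjugation by `g ∈ C(z)` on the model of `K z` -/
noncomputable def rho (hz : z ∈ Z) (g : G) (hg : g * z = z * g) : MulAut QEight.Q :=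
  ((h.e hz).symm.trans (h.actK hz g hg)).trans (h.e hz)

theorem rho_e (hz : z ∈ Z) (hg : g * z = z * g) (hx : x ∈ K z) :
    h.rho hz g hg (h.e hz ⟨x, hx⟩) = h.e hz ⟨g * x * g⁻¹, h.norm_mem hz hg hx⟩ := by
  change h.e hz (h.actK hz g hg ((h.e hz).symm (h.e hz ⟨x, hx⟩))) = _
  rw [(h.e hz).symm_apply_apply]
  rfl

theorem e_inj (hz : z ∈ Z) (hx : x ∈ K z) (hy : y ∈ K z) (he : h.e hz ⟨x, hx⟩ = h.e hz ⟨y, hy⟩) : x = y :=
  congrArg Subtype.val ((h.e hz).injective he)

theorem exists_e (hz : z ∈ Z) (p : QEight.Q) : ∃ x, ∃ hx : x ∈ K z, h.e hz ⟨x, hx⟩ = p :=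
  ⟨((h.e hz).symm p : K z), ((h.e hz).symm p).2, (h.e hz).apply_symm_apply p⟩

theorem e_mul (hz : z ∈ Z) (hx : x ∈ K z) (hy : y ∈ K z) :
    h.e hz ⟨x * y, mul_mem hx hy⟩ = h.e hz ⟨x, hx⟩ * h.e hz ⟨y, hy⟩ := by
  rw [← map_mul]; rfl

theorem e_inv (hz : z ∈ Z) (hx : x ∈ K z) : h.e hz ⟨x⁻¹, inv_mem hx⟩ = (h.e hz ⟨x, hx⟩)⁻¹ := by
  rw [← map_inv]; rfl

theorem rho_mul (hz : z ∈ Z) {g' : G} (hg : g * z = z * g) (hg' : g' * z = z * g') (hgg : (g * g') * z = z * (g * g')) :
    h.rho hz (g * g') hgg = h.rho hz g hg * h.rho hz g' hg' := by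
  refine MulEquiv.ext fun p => ?_
  obtain ⟨x, hx, rfl⟩ := h.exists_e hz p
  rw [MulAut.mul_apply, rho_e, rho_e, rho_e]
  congr 1
  exact Subtype.ext (by change (g * g') * x * (g * g')⁻¹ = g * (g' * x * g'⁻¹) * g⁻¹; group)

theorem rho_eq_one (hz : z ∈ Z) (hg : g * z = z * g) : h.rho hz g hg = 1 ↔ Cen K g z := by
  constructor
  · intro h1 k hk
    have h2 := h.rho_e hz hg hk
    rw [h1, MulAut.one_apply] at h2
    have h3 := h.e_inj hz _ _ h2
    exact (eq_mul_inv_iff_mul_eq.1 h3).symm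
  · intro h1
    refine MulEquiv.ext fun p => ?_
    obtain ⟨x, hx, rfl⟩ := h.exists_e hz p
    rw [rho_e, MulAut.one_apply]
    congr 1
    exact Subtype.ext (by change g * x * g⁻¹ = x; rw [h1 x hx, mul_inv_cancel_right])

end act

end W

end Cfsg.Agent.Cit.Nil.ROne
end

-- part: Cit/Nil/ROne/Base
section
prune_inst 0x4201008005120000000180010a0003e42da000000002b0401f5600f02068e3d41a0070721f8e00f010112aa64203e804811100059021000002a008200411801a0142a12468048b00021001040e007180c00000000000000000000000000041000000000000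
set_option linter.all false
open scoped Cfsg.Agent.FastGrp

-- part: Cit/Nil/ROne/TwinDef
section
/-!
# `r = 1`: C-swaps, twins: shared definitions (sections 2, 3, 5 of `blueprints/R18-6b-r1-helper545.md`)

Conjugation is written `g * x * g⁻¹`.

* `CSw K u v` : `(u, v)` is a C-swap: `(u, v u v⁻¹)` is a C-pair;
* `wt u v` : `w(u, v) = u · v u v⁻¹`;
* `ZC Z K s` : `Z(s)`, the `z ∈ Z` with `[s, K z] = 1`;
* `NC s y` : `⟨y ^ C(s)⟩`;
* `cl Z K z` : `c[z] = {z} ∪ a₀(z)`;
* `Tw Z K z u` : `u ∈ [z]`, i.e. `u ∈ Z` and `c[z] = c[u]`.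
-/

set_option autoImplicit false

namespace Cfsg.Agent.Cit.Nil.ROne

open Subgroup Cfsg Cit

variable {G : Type*} [Group G]

/-- `(u, v)` is a C-swap -/
def CSw (K : G → Subgroup G) (u v : G) : Prop := CP K u (v * u * v⁻¹)

/-- `w(u, v)` -/
def wt (u v : G) : G := u * (v * u * v⁻¹)

/-- `Z(s)` -/
def ZC (Z : Set G) (K : G → Subgroup G) (s : G) : Set G := {z | z ∈ Z ∧ Cen K s z}

/-- `⟨y ^ C(s)⟩` -/
def NC (s y : G) : Subgroup G := closure {x | ∃ g, g * s = s * g ∧ x = g * y * g⁻¹}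

/-- `c[z]` -/
def cl (Z : Set G) (K : G → Subgroup G) (z : G) : Set G := {x | x ∈ Z ∧ (x = z ∨ CP K z x)}

/-- `u ∈ [z]` -/
def Tw (Z : Set G) (K : G → Subgroup G) (z u : G) : Prop := u ∈ Z ∧ cl Z K z = cl Z K u

variable {Z : Set G} {K : G → Subgroup G} {z u v x y g s : G}

theorem mem_cl : x ∈ cl Z K z ↔ x ∈ Z ∧ (x = z ∨ CP K z x) := Iff.rfl

theorem CP.symm (h : CP K u v) : CP K v u := ⟨h.1.symm, fun a ha b hb => (h.2 b hb a ha).symm⟩

theorem CP.comm (w : W Z K) (hu : u ∈ Z) (hv : v ∈ Z) (h : CP K u v) : u * v = v * u :=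
  h.2 u (w.mem u hu) v (w.mem v hv)

theorem self_mem_cl (hz : z ∈ Z) : z ∈ cl Z K z := ⟨hz, Or.inl rfl⟩

theorem Tw.refl (hz : z ∈ Z) : Tw Z K z z := ⟨hz, rfl⟩

theorem Tw.symm (hz : z ∈ Z) (h : Tw Z K z u) : Tw Z K u z := ⟨hz, h.2.symm⟩

theorem Tw.trans (h : Tw Z K z u) (h' : Tw Z K u v) : Tw Z K z v := ⟨h'.1, h.2.trans h'.2⟩

/-- twins are equal or form a C-pair -/
theorem Tw.cp (hz : z ∈ Z) (h : Tw Z K z u) (hne : z ≠ u) : CP K z u := by
  have h1 : z ∈ cl Z K u := by rw [← h.2]; exact self_mem_cl hz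
  rcases h1.2 with h2 | h2
  · exact absurd h2 hne
  · exact h2.symm

/-- (5.4) -/
theorem Tw.cp_of (h : Tw Z K z u) (hx : x ∈ Z) (hc : CP K z x) (hne : x ≠ u) : CP K u x := by
  have h1 : x ∈ cl Z K u := by rw [← h.2]; exact ⟨hx, Or.inr hc⟩
  rcases h1.2 with h2 | h2
  · exact absurd h2 hne
  · exact h2

section conj

variable (w : W Z K)
include w

theorem W.conjZ_iff (g : G) : g * x * g⁻¹ ∈ Z ↔ x ∈ Z := by
  refine ⟨fun h => ?_, fun h => w.conjZ x h g⟩
  have h1 := w.conjZ _ h g⁻¹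
  have h2 : g⁻¹ * (g * x * g⁻¹) * g⁻¹⁻¹ = x := by group
  rwa [h2] at h1

theorem W.cp_conj (hu : u ∈ Z) (hv : v ∈ Z) (h : CP K u v) (g : G) : CP K (g * u * g⁻¹) (g * v * g⁻¹) := by
  refine ⟨fun h1 => h.1 (by simpa using h1), ?_⟩
  rw [w.conjK u hu g, w.conjK v hv g]
  intro a ha b hb
  rw [mem_cj] at ha hb
  have h1 := h.2 _ ha _ hb
  have h2 : a * b = g * ((g⁻¹ * a * g) * (g⁻¹ * b * g)) * g⁻¹ := by group
  rw [h2, h1]; group

theorem W.cp_conj_iff (hu : u ∈ Z) (hv : v ∈ Z) (g : G) : CP K (g * u * g⁻¹) (g * v * g⁻¹) ↔ CP K u v := by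
  refine ⟨fun h => ?_, fun h => w.cp_conj hu hv h g⟩
  have h1 := w.cp_conj (w.conjZ u hu g) (w.conjZ v hv g) h g⁻¹
  have h2 : g⁻¹ * (g * u * g⁻¹) * g⁻¹⁻¹ = u := by group
  have h3 : g⁻¹ * (g * v * g⁻¹) * g⁻¹⁻¹ = v := by group
  rwa [h2, h3] at h1

theorem W.mem_cl_conj (hz : z ∈ Z) (g : G) : g * x * g⁻¹ ∈ cl Z K (g * z * g⁻¹) ↔ x ∈ cl Z K z := by
  rw [mem_cl, mem_cl, w.conjZ_iff]
  constructor
  · rintro ⟨h1, h2⟩
    refine ⟨h1, ?_⟩
    rcases h2 with h2 | h2
    · left; simpa using h2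
    · right; exact (w.cp_conj_iff hz h1 g).1 h2
  · rintro ⟨h1, h2⟩
    refine ⟨h1, ?_⟩
    rcases h2 with h2 | h2
    · left; rw [h2]
    · right; exact w.cp_conj hz h1 h2 g

theorem W.tw_conj (hz : z ∈ Z) (h : Tw Z K z u) (g : G) : Tw Z K (g * z * g⁻¹) (g * u * g⁻¹) := by
  refine ⟨w.conjZ u h.1 g, ?_⟩
  ext x
  have h1 : x = g * (g⁻¹ * x * g) * g⁻¹ := by group
  rw [h1, w.mem_cl_conj hz, w.mem_cl_conj h.1, h.2]

theorem W.csw_conj (hu : u ∈ Z) (h : CSw K u v) (g : G) : CSw K (g * u * g⁻¹) (g * v * g⁻¹) := by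
  unfold CSw at *
  have h1 := w.cp_conj hu (w.conjZ u hu v) h g
  have h2 : g * (v * u * v⁻¹) * g⁻¹ = g * v * g⁻¹ * (g * u * g⁻¹) * (g * v * g⁻¹)⁻¹ := by group
  rwa [h2] at h1

omit w in
theorem wt_conj (g : G) : wt (g * u * g⁻¹) (g * v * g⁻¹) = g * wt u v * g⁻¹ := by
  unfold wt; group

end conj

end Cfsg.Agent.Cit.Nil.ROne
end

-- part: Cit/Nil/ROne/Base
section
/-!
# (6b), `r = 1`, core-free: commuting pairs (helper194)

Sections 0 and 1 of `blueprints/R18-6b-r1-helper545.md`.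

* `W.hyp` : `Hyp (K '' Z)`; `W.com` : members in a 2-group commute;
* `W.inv_cases` : an element of `C(z)` whose square centralises `K z`: `Cen`, `Inn` or `Trn`;
* `W.quat_act` : a quaternion group acts on `K z` with non-trivial kernel;
* `W.csymm`, `W.cen_symm`, `W.cen_iff` : `u` centralises `K z` iff `u = z` or `(z, u)` is a C-pair;
* `NP K z u` (N-pair), `TI`, `TS`; `W.tri` : the trichotomy; `W.flip`, `W.mul_mem`, `W.np_mul`;
* `W.ti_four` : (1.1); `AN`, `CS`, `TT`; lemmas on `NC`.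
-/

set_option autoImplicit false
set_option linter.style.haveILetI false
set_option linter.unusedSectionVars false

namespace Cfsg.Agent.Cit.Nil.ROne

open Subgroup Cfsg Cit

variable {G : Type*} [Group G]

/-- `(z, u)` is an N-pair -/
def NP (K : G → Subgroup G) (z u : G) : Prop := z ≠ u ∧ z * u = u * z ∧ ¬ CP K z u

/-- type I: both act as inner automorphisms -/
def TI (K : G → Subgroup G) (z u : G) : Prop := ∃ y y', Inn K u z y ∧ Inn K z u y'

/-- type TS: both act as transpositions -/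
def TS (K : G → Subgroup G) (z u : G) : Prop := ∃ b b', Trn K u z b ∧ Trn K z u b'

/-- `AN(s)` : `Z(s) ≤ O₂(C(s))` -/
def AN (Z : Set G) (K : G → Subgroup G) (s : G) : Prop :=
  ∀ z ∈ Z, Cen K s z →
    ∃ N : Subgroup G, N ≤ centralizer {s} ∧ centralizer {s} ≤ normalizer (N : Set G) ∧ IsPGroup 2 N ∧ z ∈ N

/-- the involutions of the members in `S` -/
def CS (Z : Set G) (K : G → Subgroup G) (S : Subgroup G) : Set G := {z | z ∈ Z ∧ K z ≤ S}

/-- `T_S` -/
def TT (Z : Set G) (K : G → Subgroup G) (S : Subgroup G) : Subgroup G := closure (CS Z K S)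

section pairs

variable {K : G → Subgroup G} {z u x y g : G}

theorem TI.symm (h : TI K z u) : TI K u z := by
  obtain ⟨y, y', h1, h2⟩ := h
  exact ⟨y', y, h2, h1⟩

theorem TS.symm (h : TS K z u) : TS K u z := by
  obtain ⟨y, y', h1, h2⟩ := h
  exact ⟨y', y, h2, h1⟩

theorem NP.symm (h : NP K z u) : NP K u z := ⟨h.1.symm, h.2.1.symm, fun h1 => h.2.2 h1.symm⟩

theorem Cen.mul {g' : G} (h1 : Cen K g z) (h2 : Cen K g' z) : Cen K (g * g') z := fun k hk => by
  rw [mul_assoc, h2 k hk, ← mul_assoc, h1 k hk, mul_assoc]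

theorem Cen.inv (h1 : Cen K g z) : Cen K g⁻¹ z := fun k hk => by
  rw [inv_mul_eq_iff_eq_mul, ← mul_assoc, h1 k hk, mul_inv_cancel_right]

theorem Cen.one : Cen K 1 z := fun k _ => by rw [one_mul, mul_one]

end pairs

namespace W

variable {Z : Set G} {K : G → Subgroup G} {z u v g x y b k : G} (h : W Z K)

section basic

include h

theorem zz_K (hz : z ∈ Z) : zz (K z) = z := by
  have h1 := zz_spec (K := K z) ⟨z, h.mem z hz, h.ord hz⟩
  rcases h.uniq hz h1.1 (by rw [← pow_two, ← h1.2, pow_orderOf_eq_one]) with h2 | h2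
  · rw [h2, orderOf_one] at h1
    omega
  · exact h2

theorem K_inj (hz : z ∈ Z) (hu : u ∈ Z) (he : K z = K u) : z = u := by
  rw [← h.zz_K hz, he, h.zz_K hu]

theorem hyp : Hyp (K '' Z) := by
  haveI : Fact (Nat.Prime 2) := ⟨Nat.prime_two⟩
  refine ⟨?_, ?_, ?_, ?_, ?_, ?_⟩
  · rintro _ ⟨z, hz, rfl⟩ g
    exact ⟨g * z * g⁻¹, h.conjZ z hz g, h.conjK z hz g⟩
  · rintro _ ⟨z, hz, rfl⟩
    have h1 : IsPGroup 2 (⊤ : Subgroup (K z)) := (h.two hz).to_subgroup ⊤
    have h2 : ¬ 2 ∣ (⊤ : Subgroup (K z)).index := by rw [index_top]; omega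
    exact ⟨h1.toSylow h2, 0, ⟨topEquiv.trans (h.e hz)⟩⟩
  · rintro _ ⟨z, hz, rfl⟩ t ht h2
    rw [h.zz_K hz]
    rcases h.uniq hz ht (by rw [← pow_two, ← h2, pow_orderOf_eq_one]) with h3 | h3
    · rw [h3, orderOf_one] at h2
      omega
    · exact h3
  · rintro _ ⟨z, hz, rfl⟩
    rw [h.zz_K hz]
    refine Subgroup.Normal.isSubnormal ?_
    exact (normal_subgroupOf_iff_le_normalizer (h.K_le hz)).2 fun g hg =>
      h.mem_norm hz (mem_centralizer_singleton_iff.1 hg)
  · rintro _ ⟨z, hz, rfl⟩ _ ⟨u, hu, rfl⟩ he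
    rw [h.zz_K hz, h.zz_K hu] at he
    rw [he]
    exact Or.inl rfl
  · rintro _ ⟨z, hz, rfl⟩ _ ⟨u, hu, rfl⟩ y _ _ _ hy
    rw [h.zz_K hu] at hy
    exact h.mem_norm hu hy

/-- members in a common 2-group commute -/
theorem com [Finite G] {S : Subgroup G} (hz : z ∈ Z) (hu : u ∈ Z) (hS : IsPGroup 2 S) (h1 : K z ≤ S)
    (h2 : K u ≤ S) (hne : z ≠ u) : CP K z u := by
  have h3 : ∀ {v}, v ∈ Z → K v ≤ S → K v ∈ OmS (K '' Z) S := fun hv hvS =>
    mem_OmS_of_le ⟨_, hv, rfl⟩ ⟨le_rfl, h.two hv, by rw [relIndex_self]; omega⟩ hvS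
  exact ⟨hne, fun a ha b hb => h.hyp.comm hS (h3 hz h1) (h3 hu h2) (fun he => hne (h.K_inj hz hu he))
    ⟨ha, h1 ha⟩ ⟨hb, h2 hb⟩⟩

end basic

/-! ### Actions on `K z` -/

section act

include h

theorem inv_cases (hz : z ∈ Z) (hg : g * z = z * g) (hgg : Cen K (g * g) z) :
    Cen K g z ∨ (∃ y, Inn K g z y) ∨ (∃ b, Trn K g z b) := by
  have hg2 : (g * g) * z = z * (g * g) := by rw [mul_assoc, hg, ← mul_assoc, hg, mul_assoc]
  have h1 : h.rho hz g hg * h.rho hz g hg = 1 := by
    rw [← h.rho_mul hz hg hg hg2]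
    exact (h.rho_eq_one hz hg2).2 hgg
  have h2 : ∀ x, h.rho hz g hg (h.rho hz g hg x) = x := fun x => congrArg (fun f : MulAut QEight.Q => f x) h1
  have hact : ∀ {y : G} (hy : y ∈ K z), (∀ x, h.rho hz g hg x = h.e hz ⟨y, hy⟩ * x * (h.e hz ⟨y, hy⟩)⁻¹) →
      ∀ k ∈ K z, g * k * g⁻¹ = y * k * y⁻¹ := by
    intro y hy h3 k hk
    have h4 := h3 (h.e hz ⟨k, hk⟩)
    rw [h.rho_e hz hg hk, ← h.e_mul hz hy hk, ← h.e_inv hz hy, ← h.e_mul hz (mul_mem hy hk) (inv_mem hy)] at h4
    exact h.e_inj hz _ _ h4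
  have hsq : ∀ {y : G} (hy : y ∈ K z), h.e hz ⟨y, hy⟩ * h.e hz ⟨y, hy⟩ = QuaternionGroup.a 2 ↔ y * y = z := by
    intro y hy
    rw [← h.e_mul hz hy hy, ← h.e_z hz]
    exact ⟨fun h3 => h.e_inj hz _ _ h3, fun h3 => congrArg (h.e hz) (Subtype.ext h3)⟩
  rcases QEight.invol _ h2 with h3 | ⟨p, hp, h3⟩ | ⟨p, hp, h3, h4⟩
  · left
    rw [← h.rho_eq_one hz hg]
    exact MulEquiv.ext h3
  · right; left
    obtain ⟨y, hy, rfl⟩ := h.exists_e hz p
    exact ⟨y, hy, (hsq hy).1 hp, hact hy h3⟩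
  · right; right
    obtain ⟨y, hy, rfl⟩ := h.exists_e hz p
    refine ⟨y, hy, (hsq hy).1 hp, ?_, ?_⟩
    · rw [h.rho_e hz hg hy, ← h.e_inv hz hy] at h3
      exact h.e_inj hz _ _ h3
    · intro b hb hbb hby hby'
      obtain ⟨h5, h6⟩ := h4 (h.e hz ⟨b, hb⟩) ((hsq hb).2 hbb) (fun h7 => hby (h.e_inj hz _ _ h7))
        (fun h7 => hby' (by rw [← h.e_inv hz hy] at h7; exact h.e_inj hz _ _ h7))
      rw [h.rho_e hz hg hb] at h5 h6
      refine ⟨fun h7 => h5 (congrArg (h.e hz) (Subtype.ext h7)), fun h7 => h6 ?_⟩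
      rw [← h.e_inv hz hb]
      exact congrArg (h.e hz) (Subtype.ext h7)

/-- `i`, `j ∈ C(z)` generating a quaternion group: `w = i²` centralises `K z` -/
theorem quat_act (hz : z ∈ Z) {i j w : G} (hi : i * z = z * i) (hj : j * z = z * j) (hii : i * i = w)
    (hjj : j * j = w) (hji : j * i = w * (i * j)) : Cen K w z := by
  have hw : w * z = z * w := by rw [← hii, mul_assoc, hi, ← mul_assoc, hi, mul_assoc]
  have hij : (i * j) * z = z * (i * j) := by rw [mul_assoc, hj, ← mul_assoc, hi, mul_assoc]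
  have hji' : (j * i) * z = z * (j * i) := by rw [mul_assoc, hi, ← mul_assoc, hj, mul_assoc]
  have hcast : ∀ {a b : G} (ha : a * z = z * a) (hb : b * z = z * b), a = b → h.rho hz a ha = h.rho hz b hb := by
    intro a b ha hb hab
    subst hab
    rfl
  have hw' : (i * i) * z = z * (i * i) := by rw [hii]; exact hw
  have h1 : h.rho hz i hi * h.rho hz i hi = h.rho hz w hw := by
    rw [← h.rho_mul hz hi hi hw']
    exact hcast _ _ hii
  have h2 : h.rho hz j hj * h.rho hz j hj = h.rho hz w hw := by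
    rw [← h.rho_mul hz hj hj (by rw [hjj]; exact hw)]
    exact hcast _ _ hjj
  have h3 : h.rho hz j hj * h.rho hz i hi = h.rho hz i hi * h.rho hz i hi * h.rho hz i hi * h.rho hz j hj := by
    rw [← h.rho_mul hz hj hi hji', h1, mul_assoc, ← h.rho_mul hz hi hj hij, ← h.rho_mul hz hw hij (by
      rw [← hji]; exact hji')]
    exact hcast _ _ hji
  have h4 := QEight.quat _ _ (h1.trans h2.symm) h3
  rw [h1] at h4
  exact (h.rho_eq_one hz hw).1 h4

/-- `u` centralises `K z`, then `[K z, K u] = 1` -/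
theorem csymm (hz : z ∈ Z) (hu : u ∈ Z) (hne : z ≠ u) (hc : Cen K u z) : CP K z u := by
  refine ⟨hne, fun a ha b hb => ?_⟩
  obtain ⟨i, hi, j, hj, hii, hjj, hji, -⟩ := h.exists_ij hz
  have h1 : Cen K z u := h.quat_act hu (hc i hi).symm (hc j hj).symm hii hjj hji
  have h2 : a * b * a⁻¹ ∈ K u := h.norm_mem hu (hc a ha).symm hb
  have h3 : b * a⁻¹ * b⁻¹ ∈ K z := h.norm_mem hz (h1 b hb).symm (inv_mem ha)
  set x := a * b * a⁻¹ * b⁻¹ with hx
  have hxu : x ∈ K u := mul_mem h2 (inv_mem hb)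
  have hxz : x ∈ K z := by
    have : x = a * (b * a⁻¹ * b⁻¹) := by rw [hx]; group
    rw [this]
    exact mul_mem ha h3
  have hx1 : x = 1 := by
    by_contra hne1
    by_cases hxz' : x = z
    · rcases h.uniq hu hxu (by rw [hxz', h.sq z hz]) with h4 | h4
      · exact hne1 h4
      · exact hne (hxz'.symm.trans h4)
    · have h4 := h.sq_eq hz hxz hne1 hxz'
      by_cases hxu' : x = u
      · rw [hxu', h.sq u hu] at h4
        exact h.ne z hz h4.symm
      · exact hne (h4.symm.trans (h.sq_eq hu hxu hne1 hxu'))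
  rw [hx, mul_inv_eq_one, mul_inv_eq_iff_eq_mul] at hx1
  exact hx1

theorem cen_symm (hz : z ∈ Z) (hu : u ∈ Z) (hc : Cen K u z) : Cen K z u := by
  by_cases hne : z = u
  · rw [hne]
    exact fun k hk => (h.cent hu hk).symm
  · exact fun b hb => (h.csymm hz hu hne hc).2 z (h.mem z hz) b hb

theorem cen_iff (hz : z ∈ Z) (hu : u ∈ Z) : Cen K u z ↔ z = u ∨ CP K z u := by
  constructor
  · intro hc
    by_cases hne : z = u
    · exact Or.inl hne
    · exact Or.inr (h.csymm hz hu hne hc)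
  · rintro (rfl | hc)
    · exact fun k hk => (h.cent hz hk).symm
    · exact fun k hk => (hc.2 k hk u (h.mem u hu)).symm

theorem cen_of_cp (hu : u ∈ Z) (hc : CP K z u) : Cen K u z := fun k hk => (hc.2 k hk u (h.mem u hu)).symm

theorem comm_of_cp (hz : z ∈ Z) (hu : u ∈ Z) (hc : CP K z u) : z * u = u * z := hc.comm h hz hu

/-- two elements of order 4 of `K z` on different axes -/
theorem inv_of_ne (hz : z ∈ Z) (hy : y ∈ K z) (hyy : y * y = z) (hb : b ∈ K z) (hbb : b * b = z) (h1 : b ≠ y)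
    (h2 : b ≠ y⁻¹) : y * b * y⁻¹ = b⁻¹ := by
  have h3 : ∀ p q : QEight.Q, p * p = QuaternionGroup.a 2 → q * q = QuaternionGroup.a 2 → q ≠ p → q ≠ p⁻¹ →
      p * q * p⁻¹ = q⁻¹ := by decide
  have hsq : ∀ {y : G} (hy : y ∈ K z), y * y = z → h.e hz ⟨y, hy⟩ * h.e hz ⟨y, hy⟩ = QuaternionGroup.a 2 := by
    intro y hy h4
    rw [← h.e_mul hz hy hy, ← h.e_z hz]
    exact congrArg (h.e hz) (Subtype.ext h4)
  have h4 := h3 _ _ (hsq hy hyy) (hsq hb hbb) (fun h5 => h1 (h.e_inj hz _ _ h5))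
    (fun h5 => h2 (by rw [← h.e_inv hz hy] at h5; exact h.e_inj hz _ _ h5))
  rw [← h.e_mul hz hy hb, ← h.e_inv hz hy, ← h.e_mul hz (mul_mem hy hb) (inv_mem hy), ← h.e_inv hz hb] at h4
  exact h.e_inj hz _ _ h4

/-- an element of order 4 is inverted by another one -/
theorem exists_inv (hz : z ∈ Z) (hy : y ∈ K z) (hyy : y * y = z) :
    ∃ c ∈ K z, c * c = z ∧ c ≠ y ∧ c ≠ y⁻¹ ∧ y * c * y⁻¹ = c⁻¹ ∧ c * y * c⁻¹ = y⁻¹ := by
  obtain ⟨i, hi, j, hj, hii, hjj, hji, -⟩ := h.exists_ij hz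
  have hne : i ≠ j := by
    rintro rfl
    rw [hii, h.sq z hz] at hji
    exact h.ne z hz hji
  have hne' : i ≠ j⁻¹ := by
    rintro rfl
    have h2 := h.cent hz hj
    rw [mul_inv_cancel, inv_mul_cancel, mul_one] at hji
    exact h.ne z hz hji.symm
  have key : ∀ c ∈ K z, c * c = z → c ≠ y → c ≠ y⁻¹ → c * y * c⁻¹ = y⁻¹ := fun c hc hcc h1 h2 =>
    h.inv_of_ne hz hc hcc hy hyy (Ne.symm h1) (fun h3 => h2 (by rw [h3, inv_inv]))
  by_cases h1 : i ≠ y ∧ i ≠ y⁻¹
  · exact ⟨i, hi, hii, h1.1, h1.2, h.inv_of_ne hz hy hyy hi hii h1.1 h1.2, key i hi hii h1.1 h1.2⟩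
  · have h2 : j ≠ y ∧ j ≠ y⁻¹ := by
      rw [not_and_or, not_not, not_not] at h1
      rcases h1 with h1 | h1
      · exact ⟨fun h3 => hne (h1.trans h3.symm), fun h3 => hne' (by rw [h3, inv_inv]; exact h1)⟩
      · exact ⟨fun h3 => hne' (by rw [h3]; exact h1), fun h3 => hne (h1.trans h3.symm)⟩
    exact ⟨j, hj, hjj, h2.1, h2.2, h.inv_of_ne hz hy hyy hj hjj h2.1 h2.2, key j hj hjj h2.1 h2.2⟩

theorem comm_of_inn (hi : Inn K g z y) : g * y = y * g := by
  have h1 := hi.act y hi.mem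
  rw [mul_inv_cancel_right, mul_inv_eq_iff_eq_mul] at h1
  exact h1

/-- a square does not act as a transposition -/
theorem not_trn_sq (hz : z ∈ Z) (hg : g * z = z * g) (ht : Trn K (g * g) z b) : False := by
  have hsq : ∀ {y : G} (hy : y ∈ K z), h.e hz ⟨y, hy⟩ * h.e hz ⟨y, hy⟩ = QuaternionGroup.a 2 ↔ y * y = z := by
    intro y hy
    rw [← h.e_mul hz hy hy, ← h.e_z hz]
    exact ⟨fun h3 => h.e_inj hz _ _ h3, fun h3 => congrArg (h.e hz) (Subtype.ext h3)⟩
  have hgg : ∀ {x : G} (hx : x ∈ K z), h.rho hz g hg (h.rho hz g hg (h.e hz ⟨x, hx⟩)) =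
      h.e hz ⟨(g * g) * x * (g * g)⁻¹, by
        have := h.norm_mem hz hg (h.norm_mem hz hg hx)
        have h1 : (g * g) * x * (g * g)⁻¹ = g * (g * x * g⁻¹) * g⁻¹ := by group
        rw [h1]; exact this⟩ := by
    intro x hx
    rw [h.rho_e hz hg hx, h.rho_e hz hg]
    exact congrArg (h.e hz) (Subtype.ext (by change g * (g * x * g⁻¹) * g⁻¹ = _; group))
  refine QEight.sq_trn (h.rho hz g hg) (h.e hz ⟨b, ht.mem⟩) ⟨(hsq ht.mem).2 ht.sq, ?_, ?_⟩
  · change h.rho hz g hg (h.rho hz g hg _) = _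
    rw [hgg ht.mem, ← h.e_inv hz ht.mem]
    exact congrArg (h.e hz) (Subtype.ext ht.inv)
  · intro q hq h1 h2
    obtain ⟨c, hc, rfl⟩ := h.exists_e hz q
    change h.rho hz g hg (h.rho hz g hg _) ≠ _ ∧ h.rho hz g hg (h.rho hz g hg _) ≠ _
    rw [hgg hc]
    obtain ⟨h3, h4⟩ := ht.ne c hc ((hsq hc).1 hq) (fun h5 => h1 (congrArg (h.e hz) (Subtype.ext h5)))
      (fun h5 => h2 (by rw [← h.e_inv hz ht.mem]; exact congrArg (h.e hz) (Subtype.ext h5)))
    exact ⟨fun h5 => h3 (h.e_inj hz _ _ h5), fun h5 => h4 (by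
      rw [← h.e_inv hz hc] at h5
      exact h.e_inj hz _ _ h5)⟩

/-- **the trichotomy** for commuting elements -/
theorem tri (hz : z ∈ Z) (hu : u ∈ Z) (hne : z ≠ u) (hc : z * u = u * z) : CP K z u ∨ TI K z u ∨ TS K z u := by
  have hone : ∀ {a b : G}, a ∈ Z → Cen K (a * a) b := fun ha k _ => by rw [h.sq _ ha, one_mul, mul_one]
  rcases h.inv_cases hz hc.symm (hone hu) with h1 | ⟨y, h1⟩ | ⟨y, h1⟩
  · exact Or.inl (h.csymm hz hu hne h1)
  · rcases h.inv_cases hu hc (hone hz) with h2 | ⟨y', h2⟩ | ⟨y', h2⟩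
    · exact Or.inl (h.csymm hu hz hne.symm h2).symm
    · exact Or.inr (Or.inl ⟨y, y', h1, h2⟩)
    · exfalso
      rw [← h1.sq] at h2
      exact h.not_trn_sq hu (h.comm_of_inn h1).symm h2
  · rcases h.inv_cases hu hc (hone hz) with h2 | ⟨y', h2⟩ | ⟨y', h2⟩
    · exact Or.inl (h.csymm hu hz hne.symm h2).symm
    · exfalso
      rw [← h2.sq] at h1
      exact h.not_trn_sq hz (h.comm_of_inn h2).symm h1
    · exact Or.inr (Or.inr ⟨y, y', h1, h2⟩)

/-- an element acting as a non-trivial inner automorphism does not centralise -/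
theorem not_cen_of_inn (hz : z ∈ Z) (hi : Inn K g z y) : ¬ Cen K g z := by
  intro hc
  obtain ⟨c, hcK, hcc, -, -, hyc, -⟩ := h.exists_inv hz hi.mem hi.sq
  have h1 := hi.act c hcK
  rw [hc c hcK, mul_inv_cancel_right, hyc] at h1
  have h2 : c * c = 1 := by
    nth_rewrite 1 [h1]
    exact inv_mul_cancel c
  rw [hcc] at h2
  exact h.ne z hz h2

theorem not_cen_of_trn (hz : z ∈ Z) (hi : Trn K g z b) : ¬ Cen K g z := by
  intro hc
  have h1 := hi.inv
  rw [hc b hi.mem, mul_inv_cancel_right] at h1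
  have h2 : b * b = 1 := by
    nth_rewrite 1 [h1]
    exact inv_mul_cancel b
  rw [hi.sq] at h2
  exact h.ne z hz h2

theorem not_inn_trn (hz : z ∈ Z) (hi : Inn K g z y) (ht : Trn K g z b) : False := by
  have h1 := ht.inv
  rw [hi.act b ht.mem] at h1
  -- `y b y⁻¹ = b⁻¹`, so `y ≠ b^±1`; `y` is fixed by `g`
  have hyb : y ≠ b := by
    rintro rfl
    rw [mul_inv_cancel_right] at h1
    have h2 : y * y = 1 := by
      nth_rewrite 1 [h1]
      exact inv_mul_cancel y
    rw [hi.sq] at h2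
    exact h.ne z hz h2
  have hyb' : y ≠ b⁻¹ := by
    rintro rfl
    rw [inv_mul_cancel, one_mul, inv_inv] at h1
    have h2 : b * b = 1 := by
      nth_rewrite 1 [h1]
      exact inv_mul_cancel b
    rw [ht.sq] at h2
    exact h.ne z hz h2
  have h2 := (ht.ne y hi.mem hi.sq hyb hyb').1
  rw [hi.act y hi.mem, mul_inv_cancel_right] at h2
  exact h2 rfl

theorem ts_not_cp (hz : z ∈ Z) (hu : u ∈ Z) (hi : TS K z u) : ¬ CP K z u := by
  obtain ⟨y, y', h1, -⟩ := hi
  exact fun hc => h.not_cen_of_trn hz h1 (h.cen_of_cp hu hc)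

theorem ti_not_ts (hz : z ∈ Z) (hi : TI K z u) : ¬ TS K z u := by
  obtain ⟨y, y', h1, -⟩ := hi
  rintro ⟨b, b', h2, -⟩
  exact h.not_inn_trn hz h1 h2

/-- an N-pair has type I or TS -/
theorem np_cases (hz : z ∈ Z) (hu : u ∈ Z) (hn : NP K z u) : TI K z u ∨ TS K z u :=
  (h.tri hz hu hn.1 hn.2.1).resolve_left hn.2.2

/-- `u` inverts an element of order 4 of `K z`; it moves `u` to `z u` -/
theorem flip (hz : z ∈ Z) (hu : u ∈ Z) (hn : NP K z u) :
    ∃ c ∈ K z, c * c = z ∧ u * c * u⁻¹ = c⁻¹ ∧ c * u * c⁻¹ = z * u ∧ c⁻¹ * u * c = z * u := by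
  have key : ∃ c ∈ K z, c * c = z ∧ u * c * u⁻¹ = c⁻¹ := by
    rcases h.np_cases hz hu hn with ⟨y, y', h1, -⟩ | ⟨b, b', h1, -⟩
    · obtain ⟨c, hc, hcc, -, -, hyc, -⟩ := h.exists_inv hz h1.mem h1.sq
      exact ⟨c, hc, hcc, by rw [h1.act c hc, hyc]⟩
    · exact ⟨b, h1.mem, h1.sq, h1.inv⟩
  obtain ⟨c, hc, hcc, h1⟩ := key
  have h2 : u * c⁻¹ * u⁻¹ = c := by
    have : u * c⁻¹ * u⁻¹ = (u * c * u⁻¹)⁻¹ := by group
    rw [this, h1, inv_inv]
  refine ⟨c, hc, hcc, h1, ?_, ?_⟩
  · calc c * u * c⁻¹ = c * (u * c⁻¹ * u⁻¹) * u := by group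
      _ = z * u := by rw [h2, hcc]
  · have h3 : c⁻¹ * c⁻¹ = z := by rw [← mul_inv_rev, hcc, h.inv hz]
    calc c⁻¹ * u * c = c⁻¹ * (u * c * u⁻¹) * u := by group
      _ = z * u := by rw [h1, h3]

theorem mul_mem_of_np (hz : z ∈ Z) (hu : u ∈ Z) (hn : NP K z u) : z * u ∈ Z := by
  obtain ⟨c, -, -, -, h1, -⟩ := h.flip hz hu hn
  rw [← h1]
  exact h.conjZ u hu c

/-- **(1.1)** -/
theorem ti_act (hz : z ∈ Z) {c : G} (hi : Inn K u z y) (hcc : c * c = u) (hcz : c * z = z * c) :
    c * y * c⁻¹ = y ∧ ∀ b ∈ K z, b * b = z → b ≠ y → b ≠ y⁻¹ → c * b * c⁻¹ ≠ b ∧ c * b * c⁻¹ ≠ b⁻¹ := by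
  have h2 : ∀ b ∈ K z, b * b = z → b ≠ y → b ≠ y⁻¹ → c * b * c⁻¹ ≠ b ∧ c * b * c⁻¹ ≠ b⁻¹ := by
    intro b hb hbb hby hby'
    have h3 : c * (c * b * c⁻¹) * c⁻¹ = b⁻¹ := by
      rw [← h.inv_of_ne hz hi.mem hi.sq hb hbb hby hby', ← hi.act b hb, ← hcc]; group
    have h4 : b⁻¹ ≠ b := by
      intro h5
      have h6 : b * b = 1 := by
        nth_rewrite 1 [← h5]
        exact inv_mul_cancel b
      rw [hbb] at h6
      exact h.ne z hz h6
    constructor
    · intro h5
      rw [h5, h5] at h3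
      exact h4 h3.symm
    · intro h5
      have h6 : c * b⁻¹ * c⁻¹ = b := by
        have : c * b⁻¹ * c⁻¹ = (c * b * c⁻¹)⁻¹ := by group
        rw [this, h5, inv_inv]
      rw [h5, h6] at h3
      exact h4 h3.symm
  refine ⟨?_, h2⟩
  -- `c y c⁻¹` is one of the elements inverted neither.. : use the model
  have hc2 : (c * c) * z = z * (c * c) := by rw [mul_assoc, hcz, ← mul_assoc, hcz, mul_assoc]
  have hsq : h.e hz ⟨y, hi.mem⟩ * h.e hz ⟨y, hi.mem⟩ = QuaternionGroup.a 2 := by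
    rw [← h.e_mul hz hi.mem hi.mem, ← h.e_z hz]
    exact congrArg (h.e hz) (Subtype.ext hi.sq)
  have h3 := QEight.sq_inn (h.rho hz c hcz) (h.e hz ⟨y, hi.mem⟩) hsq (by
    intro p
    obtain ⟨x, hx, rfl⟩ := h.exists_e hz p
    rw [h.rho_e hz hcz hx, h.rho_e hz hcz, ← h.e_mul hz hi.mem hx, ← h.e_inv hz hi.mem,
      ← h.e_mul hz (mul_mem hi.mem hx) (inv_mem hi.mem)]
    refine congrArg (h.e hz) (Subtype.ext ?_)
    change c * (c * x * c⁻¹) * c⁻¹ = y * x * y⁻¹
    rw [← hi.act x hx, ← hcc]; group)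
  rw [h.rho_e hz hcz hi.mem] at h3
  exact h.e_inj hz _ _ h3

/-- **(1.1)** : an element of order 4 of `K u` centralises `z` -/
theorem ti_four (hi : TI K z u) : ∃ c ∈ K u, c * c = u ∧ c * z = z * c := by
  obtain ⟨y, y', -, h2⟩ := hi
  exact ⟨y', h2.mem, h2.sq, (h.comm_of_inn h2).symm⟩

end act

/-! ### Conjugation -/

section conj

include h

theorem mem_K_conj (hz : z ∈ Z) (g : G) : x ∈ K (g * z * g⁻¹) ↔ g⁻¹ * x * g ∈ K z := by
  rw [h.conjK z hz g, mem_cj]

theorem conj_mem_K (hz : z ∈ Z) (g : G) (hx : x ∈ K z) : g * x * g⁻¹ ∈ K (g * z * g⁻¹) := by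
  rw [h.conjK z hz g]
  exact conj_mem_cj hx

theorem cen_conj (hz : z ∈ Z) (g : G) (hc : Cen K x z) : Cen K (g * x * g⁻¹) (g * z * g⁻¹) := by
  intro k hk
  have h1 := hc _ ((h.mem_K_conj hz g).1 hk)
  calc g * x * g⁻¹ * k = g * (x * (g⁻¹ * k * g)) * g⁻¹ := by group
    _ = g * ((g⁻¹ * k * g) * x) * g⁻¹ := by rw [h1]
    _ = k * (g * x * g⁻¹) := by group

theorem np_conj (hz : z ∈ Z) (hu : u ∈ Z) (g : G) (hn : NP K z u) : NP K (g * z * g⁻¹) (g * u * g⁻¹) := by
  refine ⟨fun h1 => hn.1 ?_, ?_, fun h1 => hn.2.2 ((h.cp_conj_iff hz hu g).1 h1)⟩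
  · have h2 : g * z = g * u := mul_right_cancel h1
    exact mul_left_cancel h2
  · calc g * z * g⁻¹ * (g * u * g⁻¹) = g * (z * u) * g⁻¹ := by group
      _ = g * (u * z) * g⁻¹ := by rw [hn.2.1]
      _ = g * u * g⁻¹ * (g * z * g⁻¹) := by group

theorem inn_conj (hz : z ∈ Z) (g : G) (hi : Inn K x z y) : Inn K (g * x * g⁻¹) (g * z * g⁻¹) (g * y * g⁻¹) := by
  refine ⟨h.conj_mem_K hz g hi.mem, ?_, ?_⟩
  · rw [← hi.sq]; group
  · intro k hk
    have h1 := hi.act _ ((h.mem_K_conj hz g).1 hk)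
    calc g * x * g⁻¹ * k * (g * x * g⁻¹)⁻¹ = g * (x * (g⁻¹ * k * g) * x⁻¹) * g⁻¹ := by group
      _ = g * (y * (g⁻¹ * k * g) * y⁻¹) * g⁻¹ := by rw [h1]
      _ = _ := by group

theorem trn_conj (hz : z ∈ Z) (g : G) (hi : Trn K x z b) : Trn K (g * x * g⁻¹) (g * z * g⁻¹) (g * b * g⁻¹) := by
  refine ⟨h.conj_mem_K hz g hi.mem, ?_, ?_, ?_⟩
  · rw [← hi.sq]; group
  · calc g * x * g⁻¹ * (g * b * g⁻¹) * (g * x * g⁻¹)⁻¹ = g * (x * b * x⁻¹) * g⁻¹ := by group
      _ = (g * b * g⁻¹)⁻¹ := by rw [hi.inv]; group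
  · intro c hc hcc h1 h2
    obtain ⟨h3, h4⟩ := hi.ne _ ((h.mem_K_conj hz g).1 hc) (by
      have : g⁻¹ * c * g * (g⁻¹ * c * g) = g⁻¹ * (c * c) * g := by group
      rw [this, hcc]; group) (fun h5 => h1 (by rw [← h5]; group)) (fun h5 => h2 (by
        have : c = g * (g⁻¹ * c * g) * g⁻¹ := by group
        rw [this, h5]; group))
    refine ⟨fun h5 => h3 ?_, fun h5 => h4 ?_⟩
    · calc x * (g⁻¹ * c * g) * x⁻¹ = g⁻¹ * (g * x * g⁻¹ * c * (g * x * g⁻¹)⁻¹) * g := by group
        _ = g⁻¹ * c * g := by rw [h5]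
    · calc x * (g⁻¹ * c * g) * x⁻¹ = g⁻¹ * (g * x * g⁻¹ * c * (g * x * g⁻¹)⁻¹) * g := by group
        _ = (g⁻¹ * c * g)⁻¹ := by rw [h5]; group

theorem ti_conj (hz : z ∈ Z) (hu : u ∈ Z) (g : G) (hi : TI K z u) : TI K (g * z * g⁻¹) (g * u * g⁻¹) := by
  obtain ⟨y, y', h1, h2⟩ := hi
  exact ⟨_, _, h.inn_conj hz g h1, h.inn_conj hu g h2⟩

/-- **(1.2)** -/
theorem np_mul (hz : z ∈ Z) (hu : u ∈ Z) (hn : NP K z u) : NP K z (z * u) := by
  obtain ⟨c, hc, -, -, h1, -⟩ := h.flip hz hu hn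
  have h2 := h.np_conj hz hu c hn
  rwa [h1, h.cent hz hc, mul_inv_cancel_right] at h2

/-- the product of two elements of a C-pair commutes with both.. and is not `1` -/
theorem cp_mul_ne (hu : u ∈ Z) (hc : CP K z u) : z * u ≠ 1 := fun h1 =>
  hc.1 (by rw [mul_eq_one_iff_eq_inv] at h1; rw [h1, h.inv hu])

end conj

/-! ### Cliques and `T_S` -/

section clique

theorem mem_CS {S : Subgroup G} : z ∈ CS Z K S ↔ z ∈ Z ∧ K z ≤ S := Iff.rfl

include h

/-- a clique lies in a 2-group -/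
theorem isPGroup_clique [Finite G] (A : Finset G) (hA : ∀ z ∈ A, z ∈ Z)
    (hc : ∀ z ∈ A, ∀ u ∈ A, z ≠ u → CP K z u) : IsPGroup 2 (⨆ z ∈ A, K z : Subgroup G) := by
  classical
  induction A using Finset.induction_on with
  | empty =>
    have h1 : (⨆ z ∈ (∅ : Finset G), K z : Subgroup G) = ⊥ := by simp
    rw [h1]
    exact IsPGroup.of_bot
  | insert a A ha ih =>
    rw [Finset.iSup_insert]
    have h1 := ih (fun z hz => hA z (Finset.mem_insert_of_mem hz)) fun z hz u hu =>
      hc z (Finset.mem_insert_of_mem hz) u (Finset.mem_insert_of_mem hu)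
    refine IsPGroup.to_sup_of_normal_right' (h.two (hA a (Finset.mem_insert_self a A))) h1 ?_
    -- `K a` centralises the other members
    have h2 : (⨆ z ∈ A, K z : Subgroup G) ≤ centralizer (K a : Set G) := by
      refine iSup₂_le fun z hz b hb => mem_centralizer_iff.2 fun c hcK => ?_
      exact (hc a (Finset.mem_insert_self a A) z (Finset.mem_insert_of_mem hz) (by
        rintro rfl; exact ha hz)).2 c hcK b hb
    intro c hcK
    rw [mem_normalizer_iff]
    intro x
    have h3 : ∀ x ∈ (⨆ z ∈ A, K z : Subgroup G), c * x * c⁻¹ = x := fun x hx => by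
      rw [mem_centralizer_iff.1 (h2 hx) c hcK, mul_inv_cancel_right]
    constructor
    · intro hx
      rw [h3 x hx]; exact hx
    · intro hx
      have h4 : x = c⁻¹ * (c * x * c⁻¹) * c := by group
      have h5 : c⁻¹ * (c * x * c⁻¹) * c = c * x * c⁻¹ := by
        have h6 := mem_centralizer_iff.1 (h2 hx) c⁻¹ (inv_mem hcK)
        rw [h6, inv_mul_cancel_right]
      rw [h4, h5]; exact hx

theorem cj_CS (g : G) (S : Subgroup G) (hz : z ∈ Z) : g * z * g⁻¹ ∈ CS Z K (cj g S) ↔ z ∈ CS Z K S := by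
  rw [mem_CS, mem_CS, h.conjK z hz g, cj_le_cj]
  exact ⟨fun h1 => ⟨hz, h1.2⟩, fun h1 => ⟨h.conjZ z hz g, h1.2⟩⟩

theorem ncard_CS_cj [Finite G] (g : G) (S : Subgroup G) : (CS Z K (cj g S)).ncard = (CS Z K S).ncard := by
  have h1 : CS Z K (cj g S) = (fun x => g * x * g⁻¹) '' CS Z K S := by
    ext x
    constructor
    · intro hx
      have hx' : x = g * (g⁻¹ * x * g) * g⁻¹ := by group
      have hxZ : g⁻¹ * x * g ∈ Z := by
        have := h.conjZ x hx.1 g⁻¹
        rwa [inv_inv] at this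
      refine ⟨g⁻¹ * x * g, ?_, hx'.symm⟩
      rw [hx'] at hx
      exact (h.cj_CS g S hxZ).1 hx
    · rintro ⟨y, hy, rfl⟩
      exact (h.cj_CS g S hy.1).2 hy
  rw [h1]
  refine Set.ncard_image_of_injective _ fun a b hab => ?_
  exact mul_left_cancel (mul_right_cancel hab)

/-- `C_S` is a maximal clique -/
theorem mem_CS_of_clique [Finite G] (S : Sylow 2 G) (hu : u ∈ Z) (hc : ∀ z ∈ CS Z K S, z = u ∨ CP K z u) :
    u ∈ CS Z K S := by
  classical
  haveI : Fact (Nat.Prime 2) := ⟨Nat.prime_two⟩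
  by_contra hn
  have hfin : (CS Z K (S : Subgroup G)).Finite := Set.toFinite _
  set A : Finset G := insert u hfin.toFinset with hA
  have hAZ : ∀ z ∈ A, z ∈ Z := by
    intro z hz
    rw [hA, Finset.mem_insert, Set.Finite.mem_toFinset] at hz
    rcases hz with rfl | hz
    · exact hu
    · exact hz.1
  have hcS : ∀ z ∈ CS Z K (S : Subgroup G), CP K z u := fun z hz => (hc z hz).resolve_left (by
    rintro rfl; exact hn hz)
  have hAc : ∀ z ∈ A, ∀ v ∈ A, z ≠ v → CP K z v := by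
    intro z hz v hv hne
    rw [hA, Finset.mem_insert, Set.Finite.mem_toFinset] at hz hv
    rcases hz with rfl | hz <;> rcases hv with rfl | hv
    · exact absurd rfl hne
    · exact (hcS v hv).symm
    · exact hcS z hz
    · exact h.com hz.1 hv.1 S.isPGroup' hz.2 hv.2 hne
  obtain ⟨S', hS'⟩ := (h.isPGroup_clique A hAZ hAc).exists_le_sylow
  obtain ⟨g, hg⟩ := MulAction.exists_smul_eq G S S'
  have hgS : (S' : Subgroup G) = cj g S := by
    rw [← hg]
    rfl
  have h1 : (CS Z K (S' : Subgroup G)).ncard = (CS Z K (S : Subgroup G)).ncard := by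
    rw [hgS]
    exact h.ncard_CS_cj g S
  have h2 : (A : Set G) ⊆ CS Z K (S' : Subgroup G) := fun z hz =>
    ⟨hAZ z hz, (le_iSup₂ (f := fun z (_ : z ∈ A) => K z) z hz).trans hS'⟩
  have h3 := Set.ncard_le_ncard h2 (Set.toFinite _)
  rw [Set.ncard_coe_finset, hA, Finset.card_insert_of_notMem (by rw [Set.Finite.mem_toFinset]; exact hn), h1,
    Set.ncard_eq_toFinset_card _ hfin] at h3
  omega

theorem TT_cen {S : Subgroup G} [Finite G] (hS : IsPGroup 2 S) (hz : z ∈ CS Z K S) (hx : x ∈ TT Z K S) :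
    Cen K x z := by
  have h1 : TT Z K S ≤ centralizer (K z : Set G) := by
    refine (closure_le _).2 fun u hu => mem_centralizer_iff.2 fun k hk => ?_
    by_cases hne : z = u
    · subst hne
      exact h.cent hz.1 hk
    · exact (h.com hz.1 hu.1 hS hz.2 hu.2 hne).2 k hk u (h.mem u hu.1)
  exact fun k hk => (mem_centralizer_iff.1 (h1 hx) k hk).symm

theorem TT_comm {S : Subgroup G} [Finite G] (hS : IsPGroup 2 S) (hx : x ∈ TT Z K S) (hy : y ∈ TT Z K S) :
    x * y = y * x := by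
  have h1 : TT Z K S ≤ centralizer ({x} : Set G) := by
    refine (closure_le _).2 fun u hu => mem_centralizer_singleton_iff.2 ?_
    exact (h.TT_cen hS hu hx u (h.mem u hu.1)).symm
  exact (mem_centralizer_singleton_iff.1 (h1 hy)).symm

theorem TT_sq {S : Subgroup G} [Finite G] (hS : IsPGroup 2 S) (hx : x ∈ TT Z K S) : x * x = 1 := by
  refine closure_induction (p := fun x _ => x * x = 1) ?_ ?_ ?_ ?_ hx
  · exact fun u hu => h.sq u hu.1
  · rw [one_mul]
  · intro a b ha hb h1 h2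
    calc a * b * (a * b) = a * (b * a) * b := by group
      _ = (a * a) * (b * b) := by rw [h.TT_comm hS hb ha]; group
      _ = 1 := by rw [h1, h2, one_mul]
  · intro a _ h1
    rw [← mul_inv_rev, h1, inv_one]

/-- `T_S ⊓ Z = C_S` -/
theorem mem_CS_of_mem_TT [Finite G] (S : Sylow 2 G) (hu : u ∈ Z) (hT : u ∈ TT Z K S) : u ∈ CS Z K S :=
  h.mem_CS_of_clique S hu fun _ hz => (h.cen_iff hz.1 hu).1 (h.TT_cen S.isPGroup' hz hT)

theorem TT_le {S : Subgroup G} : TT Z K S ≤ S := (closure_le _).2 fun u hu => hu.2 (h.mem u hu.1)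

/-- a C-pair lies in a Sylow subgroup -/
theorem exists_sylow_of_cp [Finite G] (hz : z ∈ Z) (hu : u ∈ Z) (hc : CP K z u) :
    ∃ S : Sylow 2 G, z ∈ CS Z K S ∧ u ∈ CS Z K S := by
  classical
  obtain ⟨S, hS⟩ := (h.isPGroup_clique {z, u} (by
    intro x hx
    rw [Finset.mem_insert, Finset.mem_singleton] at hx
    rcases hx with rfl | rfl
    · exact hz
    · exact hu) (by
    intro x hx y hy hne
    rw [Finset.mem_insert, Finset.mem_singleton] at hx hy
    rcases hx with rfl | rfl <;> rcases hy with rfl | rfl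
    · exact absurd rfl hne
    · exact hc
    · exact hc.symm
    · exact absurd rfl hne)).exists_le_sylow
  exact ⟨S, ⟨hz, (le_iSup₂ (f := fun x (_ : x ∈ ({z, u} : Finset G)) => K x) z (by simp)).trans hS⟩,
    ⟨hu, (le_iSup₂ (f := fun x (_ : x ∈ ({z, u} : Finset G)) => K x) u (by simp)).trans hS⟩⟩

/-- `z` lies in some `C_S` -/
theorem exists_sylow [Finite G] (hz : z ∈ Z) : ∃ S : Sylow 2 G, z ∈ CS Z K S := by
  obtain ⟨S, hS⟩ := (h.two hz).exists_le_sylow
  exact ⟨S, hz, hS⟩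

end clique

end W

/-! ### Normal closures -/

section nc

variable {Z : Set G} {K : G → Subgroup G} {s y g : G}

theorem self_mem_NC : y ∈ NC s y := subset_closure ⟨1, by rw [one_mul, mul_one], by group⟩

theorem conj_mem_NC (hg : g * s = s * g) : g * y * g⁻¹ ∈ NC s y := subset_closure ⟨g, hg, rfl⟩

theorem cj_NC (hg : g * s = s * g) : cj g (NC s y) = NC s y := by
  have key : ∀ {g : G}, g * s = s * g → cj g (NC s y) ≤ NC s y := by
    intro g hg
    rw [cj, map_le_iff_le_comap]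
    refine (closure_le _).2 ?_
    rintro _ ⟨f, hf, rfl⟩
    change g * (f * y * f⁻¹) * g⁻¹ ∈ NC s y
    have h1 : g * (f * y * f⁻¹) * g⁻¹ = (g * f) * y * (g * f)⁻¹ := by group
    rw [h1]
    refine conj_mem_NC ?_
    rw [mul_assoc, hf, ← mul_assoc, hg, mul_assoc]
  refine le_antisymm (key hg) ?_
  have h1 : g⁻¹ * s = s * g⁻¹ := by rw [inv_mul_eq_iff_eq_mul, ← mul_assoc, hg, mul_inv_cancel_right]
  have h2 := cj_mono g (key h1)
  rwa [cj_cj_inv] at h2

theorem mem_NC_conj (hg : g * s = s * g) {x : G} (hx : x ∈ NC s y) : g * x * g⁻¹ ∈ NC s y := by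
  rw [← cj_NC (y := y) hg]
  exact conj_mem_cj hx

theorem NC_le (hy : y * s = s * y) : NC s y ≤ centralizer {s} := by
  refine (closure_le _).2 ?_
  rintro _ ⟨g, hg, rfl⟩
  rw [SetLike.mem_coe, mem_centralizer_singleton_iff]
  have h1 : g⁻¹ * s = s * g⁻¹ := by rw [inv_mul_eq_iff_eq_mul, ← mul_assoc, hg, mul_inv_cancel_right]
  calc g * y * g⁻¹ * s = g * y * (g⁻¹ * s) := by group
    _ = g * (y * s) * g⁻¹ := by rw [h1]; group
    _ = g * s * y * g⁻¹ := by rw [hy]; group
    _ = s * (g * y * g⁻¹) := by rw [hg]; group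

/-- `NC s y` is a 2-group -/
theorem NC_two (ha : AN Z K s) (hy : y ∈ ZC Z K s) : IsPGroup 2 (NC s y) := by
  obtain ⟨N, -, hN, h2, hyN⟩ := ha y hy.1 hy.2
  refine h2.to_le ((closure_le _).2 ?_)
  rintro _ ⟨g, hg, rfl⟩
  exact (mem_normalizer_iff.1 (hN (mem_centralizer_singleton_iff.2 hg)) y).1 hyN

end nc

end Cfsg.Agent.Cit.Nil.ROne
end
end

-- part: Cit/Nil/LO/FormQ
section
set_option linter.all false
open scoped Cfsg.Agent.FastGrp

/-!
# S1309, (D3), node (n1), piece (C): `Q₈` on a module or on a plane with a form (no fields, no tori)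

Replaces (3.2), (3.3), (3.4) of blueprints/CIT-6b-LieOdd-helper443.md.

* `wedd` : automorphisms commuting with an irreducible set of automorphisms of a finite abelian group commute
  (Schur, Wedderburn);
* `formQ` : `V` abelian of order `|Q|²`, `β : V × V → Q` with `β(v, ·)` onto `Q` for `v ≠ 1`, `e` an involution of `V`
  with `[V, e] ⟂ C_V(e)`; every `1 ≠ d ∈ [V, e]` has `1 ≠ d' ∈ [V, e]` with `d ⟂ d'` : then `e = 1` or `e = -1`;
* `card_ker` : the kernel of `β(v, ·)` has order `|Q|`.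
-/

set_option autoImplicit false

namespace Cfsg.Agent.Cit.Nil.LO.FormQ

section wedd

variable {V : Type*} [CommGroup V] [Finite V]

/-- an automorphism as endomorphism -/
def toE (f : MulAut V) : AddMonoid.End (Additive V) := MonoidHom.toAdditive (f : V ≃* V).toMonoidHom

omit [Finite V] in
theorem toE_apply (f : MulAut V) (v : V) : toE f (Additive.ofMul v) = Additive.ofMul (f v) := rfl

omit [Finite V] in
theorem toE_mul (f g : MulAut V) : toE (f * g) = toE f * toE g := by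
  apply AddMonoidHom.ext
  intro v
  rfl

omit [Finite V] in
theorem toE_inj {f g : MulAut V} (e : toE f = toE g) : f = g := by
  ext v
  exact Additive.ofMul.injective (DFunLike.congr_fun e (Additive.ofMul v))

/-- **Schur and Wedderburn.** -/
theorem wedd {J : Set (MulAut V)} (irr : ∀ U : Subgroup V, (∀ j ∈ J, ∀ u ∈ U, j u ∈ U) → U = ⊥ ∨ U = ⊤)
    {a b : MulAut V} (ha : ∀ j ∈ J, j * a = a * j) (hb : ∀ j ∈ J, j * b = b * j) : a * b = b * a := by
  classical
  rcases subsingleton_or_nontrivial V with hV | hV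
  · ext v
    exact Subsingleton.elim _ _
  let S : Subring (AddMonoid.End (Additive V)) := Subring.centralizer (toE '' J)
  have hfin : Finite (AddMonoid.End (Additive V)) := by
    have : Finite (Additive V) := inferInstanceAs (Finite V)
    exact Finite.of_injective (fun f : AddMonoid.End (Additive V) => (f : Additive V → Additive V))
      DFunLike.coe_injective
  have hS : ∀ f : MulAut V, (∀ j ∈ J, j * f = f * j) → toE f ∈ S := by
    intro f hf
    rw [Subring.mem_centralizer_iff]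
    rintro _ ⟨j, hj, rfl⟩
    rw [← toE_mul, ← toE_mul, hf j hj]
  have hinj : ∀ f : S, f ≠ 0 → ∀ v : Additive V, (f : AddMonoid.End (Additive V)) v = 0 → v = 0 := by
    intro f hf
    have hc := (Subring.mem_centralizer_iff).1 f.2
    let U : Subgroup V := AddSubgroup.toSubgroup' (AddMonoidHom.ker (f : AddMonoid.End (Additive V)))
    have hU : ∀ v : V, v ∈ U ↔ (f : AddMonoid.End (Additive V)) (Additive.ofMul v) = 0 := fun v => Iff.rfl
    rcases irr U (by
      intro j hj u hu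
      rw [hU] at hu ⊢
      have h1 := DFunLike.congr_fun (hc _ ⟨j, hj, rfl⟩) (Additive.ofMul u)
      change toE j ((f : AddMonoid.End (Additive V)) (Additive.ofMul u)) =
        (f : AddMonoid.End (Additive V)) (toE j (Additive.ofMul u)) at h1
      rw [hu, map_zero] at h1
      rw [← toE_apply]
      exact h1.symm) with h1 | h1
    · intro v hv
      have : (Additive.toMul v) ∈ U := (hU _).2 hv
      rw [h1, Subgroup.mem_bot] at this
      exact this
    · exfalso
      apply hf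
      apply Subtype.ext
      apply AddMonoidHom.ext
      intro v
      have : (Additive.toMul v) ∈ U := by rw [h1]; exact Subgroup.mem_top _
      exact (hU _).1 this
  have : Nontrivial S := ⟨0, 1, by
    intro e
    obtain ⟨v, hv⟩ := exists_ne (1 : V)
    apply hv
    have h1 := congrArg (fun f : S => (f : AddMonoid.End (Additive V)) (Additive.ofMul v)) e
    exact Additive.ofMul.injective h1.symm⟩
  have : NoZeroDivisors S := ⟨by
    intro f g hfg
    by_contra hcon
    push Not at hcon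
    apply hcon.2
    apply Subtype.ext
    apply AddMonoidHom.ext
    intro v
    apply hinj f hcon.1
    have h1 := congrArg (fun f : S => (f : AddMonoid.End (Additive V)) v) hfg
    exact h1⟩
  have : IsDomain S := NoZeroDivisors.to_isDomain S
  have hF : IsField S := Finite.isDomain_to_isField S
  have h1 := hF.mul_comm ⟨toE a, hS a ha⟩ ⟨toE b, hS b hb⟩
  have h2 : toE a * toE b = toE b * toE a := congrArg Subtype.val h1
  rw [← toE_mul, ← toE_mul] at h2
  exact toE_inj h2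

end wedd

section form

variable {V Q : Type*} [Group V] [Finite V] [Group Q] [Finite Q]

omit [Finite Q] in
theorem card_ker {f : V →* Q} (hf : Function.Surjective f) (hV : Nat.card V = Nat.card Q * Nat.card Q) :
    Nat.card f.ker = Nat.card Q := by
  have : Finite Q := Finite.of_surjective f hf
  have h1 := Subgroup.card_mul_index f.ker
  rw [Subgroup.index_ker, MonoidHom.range_eq_top.2 hf, Subgroup.card_top, hV] at h1
  exact Nat.eq_of_mul_eq_mul_right Nat.card_pos h1

/-- **The plane lemma.** -/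
theorem formQ (hc : ∀ u v : V, u * v = v * u) (hodd : Odd (Nat.card V))
    (hV : Nat.card V = Nat.card Q * Nat.card Q) (β : V → V →* Q) (nd : ∀ v, v ≠ 1 → Function.Surjective (β v))
    (e : MulAut V) (he : ∀ v, e (e v) = v) (perp : ∀ c d, e c = c → e d = d⁻¹ → β c d = 1 ∧ β d c = 1)
    (iso : ∀ d, d ≠ 1 → e d = d⁻¹ → ∃ d', d' ≠ 1 ∧ e d' = d'⁻¹ ∧ β d d' = 1) :
    (∀ v, e v = v) ∨ ∀ v, e v = v⁻¹ := by
  have hsq : ∀ v : V, v * v = 1 → v = 1 := by
    intro v hv
    have h1 : orderOf v ∣ 2 := orderOf_dvd_of_pow_eq_one (by rw [pow_two]; exact hv)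
    exact orderOf_eq_one_iff.1 (Nat.eq_one_of_dvd_coprimes (Nat.coprime_two_left.2 hodd) h1 (orderOf_dvd_natCard v))
  -- square roots
  have hroot : ∀ v : V, ∃ w : V, w * w = v := by
    have hinj : Function.Injective (fun w : V => w * w) := by
      intro w w' h1
      change w * w = w' * w' at h1
      have h2 : w * w'⁻¹ * (w * w'⁻¹) = 1 := by
        calc w * w'⁻¹ * (w * w'⁻¹) = w * (w'⁻¹ * w) * w'⁻¹ := by group
          _ = w * (w * w'⁻¹) * w'⁻¹ := by rw [hc w'⁻¹ w]
          _ = (w * w) * (w'⁻¹ * w'⁻¹) := by group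
          _ = 1 := by rw [h1]; group
      exact mul_inv_eq_one.1 (hsq _ h2)
    exact Finite.surjective_of_injective hinj
  by_contra hcon
  push Not at hcon
  obtain ⟨⟨v1, hv1⟩, v2, hv2⟩ := hcon
  -- `c ≠ 1` fixed, `d ≠ 1` inverted
  set d : V := e v1 * v1⁻¹ with hd
  set c : V := e v2 * v2 with hcdef
  have hd1 : d ≠ 1 := fun h1 => hv1 (mul_inv_eq_one.1 h1)
  have hc1 : c ≠ 1 := fun h1 => hv2 (mul_eq_one_iff_eq_inv.1 h1)
  have hed : e d = d⁻¹ := by
    rw [hd, map_mul, map_inv, he, mul_inv_rev, inv_inv]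
  have hec : e c = c := by
    rw [hcdef, map_mul, he, hc]
  let D : Subgroup V :=
    { carrier := {v | e v = v⁻¹}
      mul_mem' := fun {v w} hv hw => by
        change e v = v⁻¹ at hv
        change e w = w⁻¹ at hw
        change e (v * w) = (v * w)⁻¹
        rw [map_mul, hv, hw, mul_inv_rev, hc]
      one_mem' := by change e 1 = 1⁻¹; rw [map_one, inv_one]
      inv_mem' := fun {v} hv => by
        change e v = v⁻¹ at hv
        change e v⁻¹ = v⁻¹⁻¹
        rw [map_inv, hv] }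
  have hD : ∀ v, v ∈ D ↔ e v = v⁻¹ := fun v => Iff.rfl
  -- `|D| ≤ |Q|`
  have h1 : Nat.card D ≤ Nat.card Q := by
    rw [← card_ker (nd c hc1) hV]
    exact Subgroup.card_le_of_le (fun v hv => (perp c v hec ((hD v).1 hv)).1)
  -- `β d` maps `D` onto `Q`
  have h2 : Function.Surjective ((β d).comp D.subtype) := by
    intro q
    obtain ⟨v, hv⟩ := nd d hd1 q
    obtain ⟨w, hw⟩ := hroot v
    have e1 : w * (e w)⁻¹ ∈ D := by
      rw [hD, map_mul, map_inv, he, mul_inv_rev, inv_inv]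
    have e2 : e (w * e w) = w * e w := by rw [map_mul, he, hc]
    refine ⟨⟨w * (e w)⁻¹, e1⟩, ?_⟩
    change β d (w * (e w)⁻¹) = q
    have e3 : w * (e w)⁻¹ * (w * e w) = v := by
      rw [← hw]
      calc w * (e w)⁻¹ * (w * e w) = w * ((e w)⁻¹ * w) * e w := by group
        _ = w * (w * (e w)⁻¹) * e w := by rw [hc (e w)⁻¹ w]
        _ = w * w := by group
    rw [← e3, map_mul, (perp _ d e2 hed).2, mul_one] at hv
    exact hv
  -- with nontrivial kernel
  obtain ⟨d', hd'1, hed', hdd'⟩ := iso d hd1 hed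
  have h3 := Subgroup.card_mul_index ((β d).comp D.subtype).ker
  rw [Subgroup.index_ker, MonoidHom.range_eq_top.2 h2, Subgroup.card_top] at h3
  have h4 : 1 < Nat.card ((β d).comp D.subtype).ker := by
    rw [Finite.one_lt_card_iff_nontrivial]
    refine ⟨1, ⟨⟨d', (hD _).2 hed'⟩, hdd'⟩, fun h5 => hd'1 ?_⟩
    exact (congrArg (fun x : ((β d).comp D.subtype).ker => ((x : D) : V)) h5).symm
  have h5 : 0 < Nat.card Q := Nat.card_pos
  nlinarith

end form

end Cfsg.Agent.Cit.Nil.LO.FormQ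
end

-- part: Cit/ExclAlt
section
set_option linter.all false
open scoped Cfsg.Agent.FastGrp

/-!
# Alternating groups have no classical involution

Let `z` be an involution of a group `G` isomorphic to an alternating group (any finite set) and `K ≤ C_G(z)`
subnormal in `C_G(z)` with `z` as its only involution.  Then every element of odd order of `K` is trivial on the
support of `z` (`fixes`), so `z` is not in `O^2(K)` and `K / O(K)` is a 2-group (`isPGroup_of_alt`).
In particular `K / O(K)` is neither `SL(2, F)`, `F` of odd order, nor the double cover of `A_7`.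
-/

set_option autoImplicit false
set_option linter.style.haveILetI false
set_option linter.unusedSectionVars false

namespace Cfsg.Agent.Cit.ExclAlt

open Subgroup Cfsg
open scoped commutatorElement

/-! ### The coprime argument -/

section abstract
variable {G : Type*} [Group G] [Finite G]

omit [Finite G] in
theorem le_of_le_commutator {A K : Subgroup G} (hK : K.IsSubnormal) (h : A ≤ ⁅A, K⁆) : A ≤ K := by
  induction hK with
  | top => exact le_top
  | step H L hle _ hN ih =>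
    have h1 : A ≤ L := ih (h.trans (commutator_mono le_rfl hle))
    have h2 : ⁅L, H⁆ ≤ H := by
      rw [commutator_le]
      intro l hl g hg
      have h3 := hN.conj_mem ⟨g, hle hg⟩ (mem_subgroupOf.2 hg) ⟨l, hl⟩
      have h4 : l * g * l⁻¹ ∈ H := mem_subgroupOf.1 h3
      rw [commutatorElement_def]
      exact H.mul_mem h4 (H.inv_mem hg)
    exact h.trans ((commutator_mono h1 le_rfl).trans h2)

/-- `K` subnormal in `C(z)` with only one involution `z`, `E` a normal subgroup of exponent two of `C(z)`: elements of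
odd order of `K` centralise `E` -/
theorem comm_of_odd {z : G} {K E : Subgroup G} (hK : K ≤ centralizer {z})
    (hs : (K.subgroupOf (centralizer {z})).IsSubnormal)
    (hu : ∀ t ∈ K, t * t = 1 → t ≠ 1 → t = z) (hE : E ≤ centralizer {z})
    (hEn : ∀ c ∈ centralizer ({z} : Set G), ∀ e ∈ E, c * e * c⁻¹ ∈ E) (hE2 : ∀ e ∈ E, e * e = 1)
    {x : G} (hx : x ∈ K) (ho : Odd (orderOf x)) : ∀ e ∈ E, x * e = e * x := by
  haveI : Fact (Nat.Prime 2) := ⟨Nat.prime_two⟩
  let C := centralizer ({z} : Set G)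
  let K' : Subgroup C := K.subgroupOf C
  let E' : Subgroup C := E.subgroupOf C
  let x' : C := ⟨x, hK hx⟩
  let A : Subgroup C := zpowers x'
  have hE'n : E'.Normal := by
    constructor
    intro e he c
    exact hEn c c.2 e he
  have hE'2 : IsPGroup 2 E' := by
    intro e
    refine ⟨1, ?_⟩
    apply Subtype.ext; apply Subtype.ext
    have := hE2 _ e.2
    simpa [pow_two] using this
  have hAo : Nat.card A = orderOf x := by
    rw [Nat.card_zpowers]
    exact (Subgroup.orderOf_coe x').symm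
  have hcop : (Nat.card A).Coprime (Nat.card E') := by
    obtain ⟨n, hn⟩ := IsPGroup.iff_card.1 hE'2
    rw [hAo, hn]
    apply Nat.Coprime.pow_right
    rw [Nat.coprime_two_right]; exact ho
  have hAE : A ≤ normalizer (E' : Set C) := by
    rw [normalizer_eq_top]; exact le_top
  have h1 := Lib.CoprimeCommutator.commutator_commutator_eq A E' hAE hcop
  have hAK : A ≤ K' := by
    rw [zpowers_le]; exact hx
  have h2 : ⁅E', A⁆ ≤ K' := le_of_le_commutator hs (by
    conv_lhs => rw [← h1]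
    exact commutator_mono le_rfl hAK)
  have h3 : ⁅E', A⁆ ≤ E' := Lib.CoprimeCommutator.commutator_le_left hAE
  have h4 : A ≤ centralizer ((⁅E', A⁆ : Subgroup C) : Set C) := by
    intro a _
    rw [mem_centralizer_iff]
    intro d hd
    have hd1 : (d : G) * d = 1 := hE2 _ (h3 hd)
    by_cases h : (d : G) = 1
    · have : d = 1 := Subtype.ext h
      rw [this]; simp
    · have hz : (d : G) = z := hu _ (h2 hd) hd1 h
      apply Subtype.ext
      have := mem_centralizer_singleton_iff.1 a.2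
      change (d : G) * a = a * d
      rw [hz]; exact this.symm
  have h5 := Lib.CoprimeCommutator.le_centralizer_of_commutator A E' hAE hcop h4
  intro e he
  have h6 := h5 (mem_zpowers x')
  rw [mem_centralizer_iff] at h6
  have h7 := h6 ⟨e, hE he⟩ he
  have h8 := congrArg (fun y : C => (y : G)) h7
  exact h8.symm

end abstract

/-! ### Permutations -/

section perm
variable {α : Type*} [Fintype α] [DecidableEq α]

open Equiv

omit [Fintype α] [DecidableEq α] in
theorem AIS (f : Perm α) (a : α) : f (f⁻¹ a) = a := f.apply_symm_apply a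

/-- the even permutations which preserve every orbit of the involution `z` -/
def EE (z : Perm α) (hz : z * z = 1) : Subgroup (alternatingGroup α) where
  carrier := {g | ∀ a, (g : Perm α) a = a ∨ (g : Perm α) a = z a}
  one_mem' := fun a => Or.inl rfl
  mul_mem' := by
    intro g h hg hh a
    have hzz : ∀ a, z (z a) = a := fun a => by rw [← Perm.mul_apply, hz]; rfl
    change (g : Perm α) ((h : Perm α) a) = a ∨ (g : Perm α) ((h : Perm α) a) = z a
    rcases hh a with h1 | h1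
    · rw [h1]; exact hg a
    · rw [h1]
      rcases hg (z a) with h2 | h2
      · right; exact h2
      · left; rw [h2, hzz]
  inv_mem' := by
    intro g hg a
    have hzz : ∀ a, z (z a) = a := fun a => by rw [← Perm.mul_apply, hz]; rfl
    change (g : Perm α)⁻¹ a = a ∨ (g : Perm α)⁻¹ a = z a
    rcases hg ((g : Perm α)⁻¹ a) with h1 | h1
    · left
      rw [AIS] at h1
      exact h1.symm
    · right
      rw [AIS] at h1
      rw [← hzz ((g : Perm α)⁻¹ a), ← h1]

/-- the product of two transpositions of `z` -/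
def e2 (z : Perm α) (a b : α) (ha : z a ≠ a) (hb : z b ≠ b) : alternatingGroup α :=
  ⟨swap a (z a) * swap b (z b), by
    rw [Perm.mem_alternatingGroup, Perm.sign_mul, Perm.sign_swap (Ne.symm ha), Perm.sign_swap (Ne.symm hb)]
    decide⟩

theorem e2_mem {z : Perm α} (hz : z * z = 1) {a b : α} (ha : z a ≠ a) (hb : z b ≠ b) (h1 : b ≠ a) (h2 : b ≠ z a) :
    e2 z a b ha hb ∈ EE z hz := by
  have hzz : ∀ a, z (z a) = a := fun a => by rw [← Perm.mul_apply, hz]; rfl
  intro c
  change swap a (z a) (swap b (z b) c) = c ∨ swap a (z a) (swap b (z b) c) = z c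
  have h3 : z b ≠ a := fun h => h2 (by rw [← h, hzz])
  have h4 : z b ≠ z a := fun h => h1 (z.injective h)
  by_cases hcb : c = b
  · right
    rw [hcb, swap_apply_left, swap_apply_of_ne_of_ne h3 h4]
  · by_cases hcb' : c = z b
    · right
      rw [hcb', swap_apply_right, swap_apply_of_ne_of_ne h1 h2, hzz]
    · rw [swap_apply_of_ne_of_ne hcb hcb']
      by_cases hca : c = a
      · right; rw [hca, swap_apply_left]
      · by_cases hca' : c = z a
        · right; rw [hca', swap_apply_right, hzz]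
        · left; rw [swap_apply_of_ne_of_ne hca hca']

theorem fix_of_pow {x : Perm α} (ho : Odd (orderOf x)) {a : α} (h : x (x (x (x a))) = a) : x a = a := by
  have h4 : (x ^ 4) a = a := by
    simp only [pow_succ, pow_zero, one_mul, Perm.mul_apply]; exact h
  have hc : Nat.Coprime (orderOf x) 4 := by
    have : Nat.Coprime (orderOf x) 2 := by rw [Nat.coprime_two_right]; exact ho
    have h2 := Nat.Coprime.pow_right 2 this
    norm_num at h2; exact h2
  obtain ⟨m, hm⟩ := exists_pow_eq_self_of_coprime (x := x) (n := 4) hc.symm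
  have h5 : ∀ n : ℕ, ((x ^ 4) ^ n) a = a := by
    intro n
    induction n with
    | zero => simp
    | succ n ih => rw [pow_succ, Perm.mul_apply, h4, ih]
  rw [← hm]
  exact h5 m

variable {G : Type*} [Group G] [Finite G]

end perm

/-! ### `SL(2, F)` and the double cover of `A_7` are not 2-groups -/

/-! ### Members of a family with Hyp -/

section hyp
variable {G : Type*} [Group G] [Finite G] {Om : Set (Subgroup G)}

end hyp

end Cfsg.Agent.Cit.ExclAlt
end

-- part: Cit/Nil/LO/AltG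
section
prune_inst 0x430000d000122000000180010a0003e42da000002002b040195600e0006863d4020020721f0a00d1100122644003c006813180050421000000a000000011801a0102810068008a000200010008007180c00000000000000000000000000041000000000000
set_option linter.all false
open scoped Cfsg.Agent.FastGrp

/-!
# S1309, (n1)(E): alternating groups, `G ≤ Aut(Aₙ)`

`AltG.alt_false` : if `F*(G)` is isomorphic to `Aₙ`, `n ≥ 7`, then `G` has no family with `Hyp`.

The argument of `Unbal/Alt.lean` for a faithful action `F` of `X` on `α` whose image contains the alternating group.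
`z = zz K`, `V = ⟨y, x⟩ ≤ K` quaternion of order 8.  The even involution `(p, zp)(yp, zyp)` shows with (H2) that `V` is
regular on the support of `z` (`trans`).  With a conjugate `z'` of `z` commuting with `y`, with the same support, (H3)
gives an action of `y` on a regular quaternion group `V'`, `z' ∈ V'`, and `y² = z` acts as `z'` on the support
(evaluation: `hol`): contradiction.
-/

set_option autoImplicit false
set_option linter.style.haveILetI false
set_option linter.unusedSectionVars false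
set_option maxHeartbeats 400000

namespace Cfsg.Agent.Cit.Nil.LO.AltG

open Subgroup Cfsg Cit Nil QuaternionGroup
open scoped commutatorElement
open Cfsg.Agent.Cit.Nil.ROne.QEight (F Ok aut_ok funF aut_a2)

/-- the quaternion group of order 8 -/
abbrev Q := QuaternionGroup 2

/-! ### Homomorphisms from `Q` -/

section hom

variable {X : Type*} [Group X]

theorem pow_val_add {y : X} (h1 : y ^ 4 = 1) (i j : ZMod 4) : y ^ (i + j).val = y ^ i.val * y ^ j.val := by
  rw [← pow_add, ZMod.val_add, ← pow_eq_pow_mod _ h1]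

theorem pow_val_neg {y : X} (h1 : y ^ 4 = 1) (i : ZMod 4) : y ^ (-i).val = (y ^ i.val)⁻¹ := by
  rw [eq_inv_iff_mul_eq_one, ← pow_val_add h1, neg_add_cancel, ZMod.val_zero, pow_zero]

theorem pow_comm {y x : X} (h3 : y * x = x * y⁻¹) (n : ℕ) : y ^ n * x = x * (y ^ n)⁻¹ := by
  induction n with
  | zero => simp
  | succ n ih =>
    rw [pow_succ, mul_assoc, h3, ← mul_assoc, ih, mul_inv_rev, mul_assoc]
    congr 1
    rw [← mul_inv_rev, ← mul_inv_rev, ← pow_succ, ← pow_succ']

/-- the homomorphism with `a 1 ↦ y`, `xa 0 ↦ x` -/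
def EQ (y x : X) (h1 : y ^ 4 = 1) (h2 : x * x = y ^ 2) (h3 : y * x = x * y⁻¹) : Q →* X where
  toFun q := match q with
    | a i => y ^ i.val
    | xa i => x * y ^ i.val
  map_one' := by
    change y ^ (0 : ZMod 4).val = 1
    rw [ZMod.val_zero, pow_zero]
  map_mul' := by
    rintro (i | i) (j | j)
    · change y ^ (i + j).val = y ^ i.val * y ^ j.val
      exact pow_val_add h1 i j
    · change x * y ^ (j - i).val = y ^ i.val * (x * y ^ j.val)
      rw [← mul_assoc, pow_comm h3, mul_assoc, ← pow_val_neg h1]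
      congr 1
      rw [sub_eq_neg_add]
      exact pow_val_add h1 (-i) j
    · change x * y ^ (i + j).val = x * y ^ i.val * y ^ j.val
      rw [mul_assoc]
      congr 1
      exact pow_val_add h1 i j
    · change y ^ ((2 : ZMod 4) + j - i).val = x * y ^ i.val * (x * y ^ j.val)
      have e1 : x * y ^ i.val * (x * y ^ j.val) = x * (y ^ i.val * x) * y ^ j.val := by group
      rw [e1, pow_comm h3, ← mul_assoc, h2, ← pow_val_neg h1, mul_assoc, ← pow_val_add h1]
      have e2 : (2 : ZMod 4) + j - i = 2 + (-i + j) := by ring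
      rw [e2, pow_val_add h1]
      rfl

theorem EQ_a1 {y x : X} (h1 : y ^ 4 = 1) (h2 : x * x = y ^ 2) (h3 : y * x = x * y⁻¹) : EQ y x h1 h2 h3 (a 1) = y := by
  change y ^ (1 : ZMod 4).val = y
  exact pow_one y

theorem EQ_xa0 {y x : X} (h1 : y ^ 4 = 1) (h2 : x * x = y ^ 2) (h3 : y * x = x * y⁻¹) :
    EQ y x h1 h2 h3 (xa 0) = x := by
  change x * y ^ (0 : ZMod 4).val = x
  rw [ZMod.val_zero, pow_zero, mul_one]

end hom

/-! ### Evaluations -/

set_option maxRecDepth 100000 in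
set_option maxHeartbeats 4000000 in
theorem hol_aux : ∀ p q : Q, Ok p q → ∀ r : Q, (∀ x, F p q (F p q x * r) * r ≠ x) →
    (∀ x, F p q (F p q (F p q (F p q x * r) * r) * r) * r = x) → ∀ x, F p q (F p q x * r) * r = a 2 * x := by
  decide +kernel

/-- an element of the holomorph of `Q` whose square is a fixed-point-free involution -/
theorem hol (α : MulAut Q) (r : Q) (h1 : ∀ x, α (α x * r) * r ≠ x)
    (h2 : ∀ x, α (α (α (α x * r) * r) * r) * r = x) (x : Q) : α (α x * r) * r = a 2 * x := by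
  have h3 := hol_aux _ _ (aut_ok α) r
  rw [← funF α] at h3
  exact h3 h1 h2 x

/-- the permutation `(1, z)(y, zy)` -/
def G0 : Equiv.Perm Q := Equiv.swap 1 (a 2) * Equiv.swap (a 1) (a 3)

/-- the permutation `(z, x)(zy, yx)` -/
def S0 : Equiv.Perm Q := Equiv.swap (a 2) (xa 0) * Equiv.swap (a 3) (a 1 * xa 0)

theorem sign_G0 : Equiv.Perm.sign G0 = 1 := by decide +kernel

theorem sign_S0 : Equiv.Perm.sign S0 = 1 := by decide +kernel

theorem G0_z : ∀ q, G0 (a 2 * q) = a 2 * G0 q := by decide +kernel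

theorem G0_inv : G0⁻¹ = G0 := by decide +kernel

/-- `[G0, x]` -/
def K0 (q : Q) : Q := G0 (xa 0 * G0 ((xa 0)⁻¹ * q))

theorem K0_sq : ∀ q, K0 (K0 q) = q := by decide +kernel

theorem K0_one : K0 1 ≠ 1 := by decide +kernel

theorem S0_comm : ∀ q, a 1 * S0 (a 2 * S0⁻¹ q) = S0 (a 2 * S0⁻¹ (a 1 * q)) := by decide +kernel

theorem S0_ne : S0 (a 2 * S0⁻¹ 1) ≠ a 2 := by decide +kernel

/-- a faithful action on `α` whose image contains the alternating group -/
structure Ac (X : Type*) [Group X] (α : Type*) [Fintype α] [DecidableEq α] where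
  f : X →* Equiv.Perm α
  inj : Function.Injective f
  alt : ∀ σ : Equiv.Perm α, Equiv.Perm.sign σ = 1 → ∃ g, f g = σ

/-! ### The action on the points -/

section act

variable {X : Type*} [Group X] {α : Type*} [Fintype α] [DecidableEq α] (f : Ac X α)

/-- the action on the points -/
def A (g : X) (b : α) : α := f.f g b

theorem A_mul (g h : X) (b : α) : A f (g * h) b = A f g (A f h b) := by
  unfold A
  rw [map_mul]
  rfl

theorem A_one (b : α) : A f 1 b = b := by
  unfold A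
  rw [map_one]
  rfl

theorem A_inv (g : X) (b : α) : A f g⁻¹ (A f g b) = b := by rw [← A_mul, inv_mul_cancel, A_one]

theorem A_inv' (g : X) (b : α) : A f g (A f g⁻¹ b) = b := by rw [← A_mul, mul_inv_cancel, A_one]

theorem A_inj {g : X} {b c : α} (h : A f g b = A f g c) : b = c := by rw [← A_inv f g b, h, A_inv]

theorem A_ext {g h : X} (hgh : ∀ b, A f g b = A f h b) : g = h :=
  f.inj (Equiv.ext hgh)

theorem exists_A {σ : Equiv.Perm α} (hσ : Equiv.Perm.sign σ = 1) : ∃ g, ∀ b, A f g b = σ b := by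
  obtain ⟨g, hg⟩ := f.alt σ hσ
  exact ⟨g, fun b => by unfold A; rw [hg]⟩

/-- the orbit map -/
def ph (E : Q →* X) (p : α) (q : Q) : α := A f (E q) p

variable {E : Q →* X} {p b : α}

theorem A_ph (q q' : Q) : A f (E q) (ph f E p q') = ph f E p (q * q') := by
  unfold ph
  rw [map_mul, A_mul]

theorem ph_inj (hp : A f (E (a 2)) p ≠ p) : Function.Injective (ph f E p) := by
  intro q q' h
  have h1 : A f (E (q⁻¹ * q')) p = p := by
    rw [map_mul, A_mul]
    change A f (E q⁻¹) (ph f E p q') = p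
    rw [← h]
    change A f (E q⁻¹) (A f (E q) p) = p
    rw [← A_mul, ← map_mul, inv_mul_cancel, map_one, A_one]
  have h2 : ∀ s : Q, s = 1 ∨ s = a 2 ∨ s * s = a 2 := by decide
  rcases h2 (q⁻¹ * q') with h3 | h3 | h3
  · exact (inv_mul_eq_one.1 h3)
  · rw [h3] at h1
    exact absurd h1 hp
  · exfalso
    apply hp
    rw [← h3, map_mul, A_mul, h1, h1]

theorem exists_lift (hp : A f (E (a 2)) p ≠ p) (σ : Equiv.Perm Q) (hσ : Equiv.Perm.sign σ = 1) :
    ∃ g : X, (∀ q, A f g (ph f E p q) = ph f E p (σ q)) ∧ ∀ b ∉ Set.range (ph f E p), A f g b = b := by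
  let φ : Q ↪ α := ⟨ph f E p, ph_inj f hp⟩
  obtain ⟨g, hg⟩ := exists_A f (σ := σ.viaFintypeEmbedding φ)
    (by rw [Equiv.Perm.viaFintypeEmbedding_sign]; exact hσ)
  refine ⟨g, fun q => ?_, fun b hb => ?_⟩
  · rw [hg]
    exact Equiv.Perm.viaFintypeEmbedding_apply_image σ φ q
  · rw [hg]
    exact Equiv.Perm.viaFintypeEmbedding_apply_notMem_range σ φ hb

theorem notMem_range (hb : b ∉ Set.range (ph f E p)) (q : Q) : A f (E q) b ∉ Set.range (ph f E p) := by
  rintro ⟨q', hq'⟩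
  apply hb
  refine ⟨q⁻¹ * q', ?_⟩
  rw [← A_ph, hq', ← A_mul, ← map_mul, inv_mul_cancel, map_one, A_one]

end act

/-! ### (H2): `V` is transitive on the support of `z` -/

section trans

variable {X : Type*} [Group X] [Finite X] {α : Type*} [Fintype α] [DecidableEq α] (f : Ac X α)
variable {Om : Set (Subgroup X)} {K L : Subgroup X} {E : Q →* X} {p b : α}

theorem trans (h : Hyp Om) (hL : L ∈ Om) (hE : ∀ q, E q ∈ L) (hz : E (a 2) = zz L)
    (hp : A f (zz L) p ≠ p) (hb : A f (zz L) b ≠ b) : b ∈ Set.range (ph f E p) := by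
  by_contra hbr
  have hp' : A f (E (a 2)) p ≠ p := by rw [hz]; exact hp
  have hzz := h.zz_mul hL
  obtain ⟨g, hg1, hg2⟩ := exists_lift f hp' G0 sign_G0
  have hgi1 : ∀ q, A f g⁻¹ (ph f E p q) = ph f E p (G0 q) := by
    intro q
    apply A_inj f (g := g)
    rw [A_inv', hg1]
    have h1 : G0 (G0 q) = q := by
      nth_rewrite 1 [← G0_inv]
      exact G0.symm_apply_apply q
    rw [h1]
  have hgi2 : ∀ b ∉ Set.range (ph f E p), A f g⁻¹ b = b := by
    intro b hb
    apply A_inj f (g := g)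
    rw [A_inv', hg2 b hb]
  -- `g` commutes with `z`
  have hgz : g * zz L = zz L * g := by
    rw [← hz]
    apply A_ext f
    intro c
    rw [A_mul, A_mul]
    by_cases hc : c ∈ Set.range (ph f E p)
    · obtain ⟨q, rfl⟩ := hc
      rw [A_ph, hg1, hg1, A_ph, G0_z]
    · rw [hg2 c hc, hg2 _ (notMem_range f hc _)]
  have hLg : cj g L ∈ Om := h.conj L hL g
  have hzg : zz (cj g L) = zz L := by
    rw [h.zz_cj hL, hgz, mul_inv_cancel_right]
  have hxb : ∀ q, A f (g * E q * g⁻¹) b = A f (E q) b := by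
    intro q
    rw [A_mul, A_mul, hgi2 b hbr, hg2 _ (notMem_range f hbr q)]
  rcases h.h2 L hL _ hLg hzg.symm with h1 | h1
  · -- `L = L^g`
    obtain ⟨k, hk⟩ : ∃ k, k = g * E (xa 0) * g⁻¹ * (E (xa 0))⁻¹ := ⟨_, rfl⟩
    have hkL : k ∈ L := by
      rw [hk]
      refine mul_mem ?_ (inv_mem (hE _))
      rw [h1]
      exact conj_mem_cj (hE _)
    have hk1 : ∀ q, A f k (ph f E p q) = ph f E p (K0 q) := by
      intro q
      rw [hk, A_mul, A_mul, A_mul, ← map_inv, A_ph, hgi1, A_ph, hg1]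
      rfl
    have hk2 : ∀ c ∉ Set.range (ph f E p), A f k c = c := by
      intro c hc
      have h2 := notMem_range f hc (xa 0)⁻¹
      rw [hk, A_mul, A_mul, A_mul, ← map_inv, hgi2 _ h2, ← A_mul f (E (xa 0)), ← map_mul, mul_inv_cancel, map_one,
        A_one, hg2 c hc]
    have hkk : k * k = 1 := by
      apply A_ext f
      intro c
      rw [A_mul, A_one]
      by_cases hc : c ∈ Set.range (ph f E p)
      · obtain ⟨q, rfl⟩ := hc
        rw [hk1, hk1, K0_sq]
      · rw [hk2 c hc, hk2 c hc]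
    have hkne : k ≠ 1 := by
      rintro rfl
      have h2 := hk1 1
      rw [A_one] at h2
      exact K0_one (ph_inj f hp' h2).symm
    have hkz := h.eq_zz hL hkL hkk hkne
    apply hb
    rw [← hkz]
    exact hk2 b hbr
  · -- `[L, L^g] ≤ O(L)`
    obtain ⟨d, hd⟩ : ∃ d, d = E (a 1) * (g * E (xa 0) * g⁻¹) * (E (a 1))⁻¹ * (g * E (xa 0) * g⁻¹)⁻¹ := ⟨_, rfl⟩
    have hdO : d ∈ OO L := by
      rw [hd]
      exact (h1 (commutator_mem_commutator (hE _) (conj_mem_cj (hE _)))).1
    have hconj : ∀ q, ∀ c ∉ Set.range (ph f E p), A f (g * E q * g⁻¹) c = A f (E q) c := by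
      intro q c hc
      rw [A_mul, A_mul, hgi2 c hc, hg2 _ (notMem_range f hc q)]
    have hdz : ∀ c ∉ Set.range (ph f E p), A f d c = A f (E (a 2)) c := by
      intro c hc
      have e1 : (g * E (xa 0) * g⁻¹)⁻¹ = g * E (xa 0)⁻¹ * g⁻¹ := by rw [map_inv]; group
      rw [hd, e1, A_mul, A_mul, A_mul, hconj _ c hc, ← map_inv, hconj _ _ (notMem_range f (notMem_range f hc _) _),
        ← A_mul, ← A_mul, ← A_mul, ← map_mul, ← map_mul, ← map_mul]
      rfl
    have hd1 : A f d b = A f (zz L) b := by rw [hdz b hbr, hz]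
    have hd2 : A f d (A f d b) = b := by
      rw [hd1, ← hz, hdz _ (notMem_range f hbr _), ← A_mul, ← map_mul]
      have h2 : (a 2 : Q) * a 2 = 1 := by decide
      rw [h2, map_one, A_one]
    have hodd : Odd (orderOf d) := by
      rw [← Nat.not_even_iff_odd, even_iff_two_dvd]
      intro h2
      apply odd_OO L
      have h3 := orderOf_dvd_natCard (⟨d, hdO⟩ : OO L)
      rw [Subgroup.orderOf_mk] at h3
      exact h2.trans h3
    obtain ⟨m, hm⟩ := hodd
    have h2 : ∀ n : ℕ, A f (d ^ (2 * n)) b = b := by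
      intro n
      induction n with
      | zero => rw [mul_zero, pow_zero, A_one]
      | succ n ih => rw [mul_add, mul_one, pow_add, pow_two, A_mul, A_mul, hd2, ih]
    have h3 : A f d b = b := by
      have h4 : A f (d ^ (2 * m + 1)) b = b := by rw [← hm, pow_orderOf_eq_one, A_one]
      have h5 : A f (d * d ^ (2 * m)) b = b := by rw [← pow_succ']; exact h4
      rwa [A_mul, h2] at h5
    exact hb (by rw [← hd1]; exact h3)

end trans

/-! ### The contradiction -/

section kill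

variable {X : Type*} [Group X] [Finite X] {α : Type*} [Fintype α] [DecidableEq α] (f : Ac X α)
variable {Om : Set (Subgroup X)} {K L : Subgroup X} {E : Q →* X} {p b : α}

/-- the elements of `X` which preserve every orbit of the involution `z` -/
def EG (z : X) (hz : z * z = 1) : Subgroup X where
  carrier := {g | ∀ b, A f g b = b ∨ A f g b = A f z b}
  one_mem' := fun b => Or.inl (A_one f b)
  mul_mem' := by
    intro g h hg hh b
    have hzz : ∀ b, A f z (A f z b) = b := fun b => by rw [← A_mul, hz, A_one]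
    rw [A_mul]
    rcases hh b with h1 | h1
    · rw [h1]; exact hg b
    · rw [h1]
      rcases hg (A f z b) with h2 | h2
      · right; exact h2
      · left; rw [h2, hzz]
  inv_mem' := by
    intro g hg b
    have hzz : ∀ b, A f z (A f z b) = b := fun b => by rw [← A_mul, hz, A_one]
    rcases hg (A f g⁻¹ b) with h1 | h1
    · left
      rw [A_inv'] at h1
      exact h1.symm
    · right
      rw [A_inv'] at h1
      rw [h1, hzz, ← h1]

theorem A_fix_of_pow {x : X} (ho : Odd (orderOf x)) {c : α} (h : A f x (A f x (A f x (A f x c))) = c) :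
    A f x c = c := by
  refine ExclAlt.fix_of_pow (x := f.f x) ?_ h
  rw [orderOf_injective f.f f.inj]
  exact ho

/-- elements of odd order of `K` fix the points moved by `z` -/
theorem fixes {z : X} {K : Subgroup X} (hz : z * z = 1)
    (hK : K ≤ centralizer {z}) (hs : (K.subgroupOf (centralizer {z})).IsSubnormal)
    (hu : ∀ t ∈ K, t * t = 1 → t ≠ 1 → t = z) {x : X} (hx : x ∈ K) (ho : Odd (orderOf x))
    {c : α} (hc : A f z c ≠ c) : A f x c = c := by
  have hzz : ∀ b, A f z (A f z b) = b := fun b => by rw [← A_mul, hz, A_one]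
  have hEE : ∀ g, g ∈ EG f z hz → g * g = 1 := by
    intro g hg
    apply A_ext f
    intro b
    rw [A_mul, A_one]
    rcases hg b with h1 | h1
    · rw [h1, h1]
    · rw [h1]
      rcases hg (A f z b) with h2 | h2
      · rw [h2]
        by_contra h3
        have h4 : A f g (A f z b) = A f g b := by rw [h2, h1]
        exact h3 (A_inj f h4)
      · rw [h2, hzz]
  have hcomm := ExclAlt.comm_of_odd (E := EG f z hz) hK hs hu (by
      intro g hg
      rw [mem_centralizer_singleton_iff]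
      apply A_ext f
      intro b
      rw [A_mul, A_mul]
      rcases hg b with h1 | h1
      · rcases hg (A f z b) with h2 | h2
        · rw [h1, h2]
        · rw [h1, h2, hzz]
          rw [hzz] at h2
          have h4 : A f g (A f z b) = A f g b := by rw [h2, h1]
          exact (A_inj f h4).symm
      · rw [h1, hzz]
        rcases hg (A f z b) with h2 | h2
        · have h4 : A f g (A f z b) = A f g b := by rw [h2, h1]
          have h5 := A_inj f h4
          rw [h2, h5]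
        · rw [h2, hzz])
    (fun g hg e he => by
      rw [mem_centralizer_singleton_iff] at hg
      intro b
      have h2 : ∀ b, A f g (A f z b) = A f z (A f g b) := fun b => by rw [← A_mul, hg, A_mul]
      rw [A_mul, A_mul]
      rcases he (A f g⁻¹ b) with h3 | h3
      · left; rw [h3, A_inv']
      · right; rw [h3, h2, A_inv'])
    hEE hx ho
  have hxz : ∀ b, A f x (A f z b) = A f z (A f x b) := fun b => by
    rw [← A_mul, mem_centralizer_singleton_iff.1 (hK hx), A_mul]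
  -- the square of `x` preserves every block
  have h2 : ∀ c, A f z c ≠ c → A f x (A f x c) = c ∨ A f x (A f x c) = A f z c := by
    intro c hc
    by_cases h3 : A f x c = c
    · left; rw [h3, h3]
    by_cases h4 : A f x c = A f z c
    · left; rw [h4, hxz, h4, hzz]
    have hb : A f z (A f x c) ≠ A f x c := fun h => by
      rw [← hxz] at h
      exact hc (A_inj f h)
    have hsz : f.f z * f.f z = 1 := by rw [← map_mul, hz, map_one]
    obtain ⟨e, he⟩ := exists_A f (σ := Equiv.swap c (A f z c) * Equiv.swap (A f x c) (A f z (A f x c))) (by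
      rw [Equiv.Perm.sign_mul, Equiv.Perm.sign_swap (Ne.symm hc), Equiv.Perm.sign_swap (Ne.symm hb)]
      decide)
    have heE : e ∈ EG f z hz := by
      intro b
      have h5 := ExclAlt.e2_mem hsz (a := c) (b := A f x c) hc hb h3 h4 b
      rw [he]
      exact h5
    have h5 := hcomm e heE
    have h6 := congrArg (fun g => A f g (A f x c)) h5
    simp only [A_mul] at h6
    rw [he, he, Equiv.Perm.mul_apply, Equiv.Perm.mul_apply] at h6
    have h7 : A f z (A f x c) ≠ c := fun h => h4 (by rw [← hzz (A f x c), h])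
    have h8 : A f z (A f x c) ≠ A f z c := fun h => h3 (A_inj f h)
    rw [Equiv.swap_apply_left, Equiv.swap_apply_of_ne_of_ne h7 h8, hxz] at h6
    by_contra h9
    rw [not_or] at h9
    have h10 : A f x (A f x c) ≠ A f x c := fun h => h3 (A_inj f h)
    have h11 : A f x (A f x c) ≠ A f z (A f x c) := fun h => by
      rw [← hxz] at h
      exact h4 (A_inj f h)
    rw [Equiv.swap_apply_of_ne_of_ne h10 h11, Equiv.swap_apply_of_ne_of_ne h9.1 h9.2] at h6
    rw [← hxz, ← hxz] at h6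
    exact hc (A_inj f (A_inj f h6))
  apply A_fix_of_pow f ho
  rcases h2 c hc with h3 | h3
  · rw [h3, h3]
  · rw [h3]
    have h4 : A f z (A f z c) ≠ A f z c := by rw [hzz]; exact Ne.symm hc
    rcases h2 _ h4 with h5 | h5
    · exfalso
      rw [hxz, hxz, h3, hzz] at h5
      exact hc h5.symm
    · rw [h5, hzz]

/-- an element of `L` fixing a point of the support of `zz L` is trivial on the support -/
theorem triv (h : Hyp Om) (hL : L ∈ Om) {l : X} (hl : l ∈ L) {c : α} (hc : A f (zz L) c ≠ c)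
    (hlc : A f l c = c) {d : α} (hd : A f (zz L) d ≠ d) : A f l d = d := by
  have hpow : ∀ n : ℕ, A f (l ^ n) c = c := by
    intro n
    induction n with
    | zero => rw [pow_zero, A_one]
    | succ n ih => rw [pow_succ, A_mul, hlc, ih]
  have hodd : Odd (orderOf l) := by
    rw [← Nat.not_even_iff_odd]
    rintro ⟨m, hm⟩
    have hpos := orderOf_pos l
    have h1 : l ^ m * l ^ m = 1 := by rw [← pow_add, ← hm, pow_orderOf_eq_one]
    have h2 : l ^ m ≠ 1 := by
      intro h2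
      have h3 := Nat.le_of_dvd (by omega) (orderOf_dvd_of_pow_eq_one h2)
      omega
    have h3 := h.eq_zz hL (pow_mem hl m) h1 h2
    apply hc
    rw [← h3, hpow]
  exact fixes f (h.zz_mul hL) (h.le_centralizer hL) (h.sub L hL)
    (fun t ht htt ht1 => h.eq_zz hL ht htt ht1) hl hodd hd

include f in
/-- **no member in an alternating group** -/
theorem kill (h : Hyp Om) (hK : K ∈ Om) : False := by
  obtain ⟨P, hP⟩ := Hyp.exists_syl K
  obtain ⟨c, y, n, hgq⟩ := h.exists_gq hK hP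
  obtain ⟨x, hx, hx4, hxy⟩ := hgq.exists_inverting hgq.v_mem hgq.orderOf_v
  have hyy : y * y = zz K := hgq.v_sq
  have hxx : x * x = zz K := h.sq_eq_zz hK (hP.1 hx) hx4
  have hzz := h.zz_mul hK
  have h1 : y ^ 4 = 1 := by
    rw [show 4 = 2 * 2 from rfl, pow_mul, pow_two y, hyy, pow_two, hzz]
  have h2 : x * x = y ^ 2 := by rw [hxx, pow_two, hyy]
  have h3 : y * x = x * y⁻¹ := by
    have h4 := congrArg (fun t => t⁻¹ * x) hxy
    simp only [mul_inv_rev, inv_inv] at h4
    rw [← h4]; group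
  obtain ⟨E, hE⟩ : ∃ E, E = EQ y x h1 h2 h3 := ⟨_, rfl⟩
  have hEa1 : E (a 1) = y := by rw [hE]; exact EQ_a1 h1 h2 h3
  have hEx : E (xa 0) = x := by rw [hE]; exact EQ_xa0 h1 h2 h3
  have hEz : E (a 2) = zz K := by
    have h4 : (a 2 : Q) = a 1 * a 1 := by decide
    rw [h4, map_mul, hEa1, hyy]
  have hEK : ∀ q, E q ∈ K := by
    intro q
    have h4 : ∀ q : Q, ∃ i : Fin 4, q = (a 1) ^ (i : ℕ) ∨ q = xa 0 * (a 1) ^ (i : ℕ) := by decide
    obtain ⟨i, h5 | h5⟩ := h4 q
    · rw [h5, map_pow, hEa1]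
      exact pow_mem (hP.1 hgq.v_mem) _
    · rw [h5, map_mul, map_pow, hEa1, hEx]
      exact mul_mem (hP.1 hx) (pow_mem (hP.1 hgq.v_mem) _)
  obtain ⟨p, hp⟩ : ∃ p, A f (zz K) p ≠ p := by
    by_contra hcon
    push Not at hcon
    apply h.zz_ne hK
    apply A_ext f
    intro b
    rw [hcon, A_one]
  have hp' : A f (E (a 2)) p ≠ p := by rw [hEz]; exact hp
  have hφ := ph_inj f hp'
  have hmov : ∀ b, A f (zz K) b ≠ b ↔ b ∈ Set.range (ph f E p) := by
    intro b
    constructor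
    · exact trans f h hK hEK hEz hp
    · rintro ⟨q, rfl⟩ h4
      rw [← hEz, A_ph] at h4
      have h5 := hφ h4
      have h6 : ∀ q : Q, a 2 * q ≠ q := by decide
      exact h6 q h5
  obtain ⟨g, hg1, hg2⟩ := exists_lift f hp' S0 sign_S0
  have hgi1 : ∀ q, A f g⁻¹ (ph f E p q) = ph f E p (S0⁻¹ q) := by
    intro q
    apply A_inj f (g := g)
    rw [A_inv', hg1]
    congr 1
    exact (S0.apply_symm_apply q).symm
  have hgi2 : ∀ b ∉ Set.range (ph f E p), A f g⁻¹ b = b := by
    intro b hb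
    apply A_inj f (g := g)
    rw [A_inv', hg2 b hb]
  obtain ⟨L, hLdef⟩ : ∃ L, L = cj g K := ⟨_, rfl⟩
  have hL : L ∈ Om := by rw [hLdef]; exact h.conj K hK g
  have hzL : zz L = g * zz K * g⁻¹ := by rw [hLdef, h.zz_cj hK]
  have hzL1 : ∀ q, A f (zz L) (ph f E p q) = ph f E p (S0 (a 2 * S0⁻¹ q)) := by
    intro q
    rw [hzL, A_mul, A_mul, hgi1, ← hEz, A_ph, hg1]
  have hzL2 : ∀ b ∉ Set.range (ph f E p), A f (zz L) b = b := by
    intro b hb
    have h4 : A f (zz K) b = b := by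
      by_contra h5
      exact hb ((hmov b).1 h5)
    rw [hzL, A_mul, A_mul, hgi2 b hb, h4, hg2 b hb]
  -- `y` commutes with `zz L`
  have hyz : y * zz L = zz L * y := by
    rw [← hEa1]
    apply A_ext f
    intro b
    rw [A_mul, A_mul]
    by_cases hb : b ∈ Set.range (ph f E p)
    · obtain ⟨q, rfl⟩ := hb
      rw [hzL1, A_ph, A_ph, hzL1, S0_comm]
    · rw [hzL2 b hb, hzL2 _ (notMem_range f hb _)]
  have hyN : y ∈ normalizer (L : Set X) := by
    refine h.h3 K hK L hL y (hP.1 hgq.v_mem) (isPGroup_zpowers hP.2.1 hgq.v_mem) ?_ hyz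
    rw [hgq.orderOf_v]
  -- `V'`
  obtain ⟨E', hE'⟩ : ∃ E' : Q →* X, E' = (MulAut.conj g).toMonoidHom.comp E := ⟨_, rfl⟩
  have hE'q : ∀ q, E' q = g * E q * g⁻¹ := by intro q; rw [hE']; rfl
  have hE'L : ∀ q, E' q ∈ L := by
    intro q
    rw [hE'q, hLdef]
    exact conj_mem_cj (hEK q)
  have hE'z : E' (a 2) = zz L := by rw [hE'q, hEz, hzL]
  obtain ⟨p', hp'def⟩ : ∃ p', p' = A f g p := ⟨_, rfl⟩
  have hph : ∀ q, ph f E' p' q = ph f E p (S0 q) := by
    intro q
    rw [← hg1]
    unfold ph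
    rw [hE'q, hp'def, ← A_mul, inv_mul_cancel_right, A_mul]
  have hpL : A f (zz L) p' ≠ p' := by
    rw [hzL, hp'def, ← A_mul, inv_mul_cancel_right, A_mul]
    intro h4
    exact hp (A_inj f h4)
  have hpL' : A f (E' (a 2)) p' ≠ p' := by rw [hE'z]; exact hpL
  have hφ' := ph_inj f hpL'
  have hmovL : ∀ b, A f (zz L) b ≠ b ↔ b ∈ Set.range (ph f E' p') := by
    intro b
    constructor
    · exact trans f h hL hE'L hE'z hpL
    · rintro ⟨q, rfl⟩ h4
      rw [← hE'z, A_ph] at h4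
      have h5 := hφ' h4
      have h6 : ∀ q : Q, a 2 * q ≠ q := by decide
      exact h6 q h5
  have hph0 : ph f E' p' 1 = p' := by
    unfold ph
    rw [map_one, A_one]
  -- elements commuting with `zz L` preserve the support
  have hpres : ∀ l, l * zz L = zz L * l → ∀ q, ∃ q', A f l (ph f E' p' q) = ph f E' p' q' := by
    intro l hl q
    have h4 : A f (zz L) (A f l (ph f E' p' q)) ≠ A f l (ph f E' p' q) := by
      rw [← A_mul, ← hl, A_mul]
      intro h5
      exact (hmovL _).2 ⟨q, rfl⟩ (A_inj f h5)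
    obtain ⟨q', hq'⟩ := (hmovL _).1 h4
    exact ⟨q', hq'.symm⟩
  have hconjL : ∀ q, y * E' q * y⁻¹ ∈ L := fun q => (mem_normalizer_iff.1 hyN _).1 (hE'L q)
  have hcz : ∀ l ∈ L, l * zz L = zz L * l := fun l hl =>
    mem_centralizer_singleton_iff.1 (h.le_centralizer hL hl)
  have hex : ∀ q, ∃ q', ∀ s, A f (y * E' q * y⁻¹) (ph f E' p' s) = ph f E' p' (q' * s) := by
    intro q
    obtain ⟨q', hq'⟩ := hpres _ (hcz _ (hconjL q)) 1
    refine ⟨q', fun s => ?_⟩
    have h4 : A f ((E' q')⁻¹ * (y * E' q * y⁻¹)) (ph f E' p' 1) = ph f E' p' 1 := by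
      rw [A_mul, hq', hph0]
      unfold ph
      rw [A_inv]
    have h5 := triv f h hL (mul_mem (inv_mem (hE'L q')) (hconjL q)) ((hmovL _).2 ⟨1, rfl⟩) h4
      ((hmovL _).2 ⟨s, rfl⟩)
    rw [A_mul] at h5
    have h6 := congrArg (A f (E' q')) h5
    rw [A_inv', A_ph] at h6
    exact h6
  choose β hβ using hex
  have hβmul : ∀ q q2, β (q * q2) = β q * β q2 := by
    intro q q2
    apply hφ'
    have h4 := hβ (q * q2) 1
    have h5 : y * E' (q * q2) * y⁻¹ = (y * E' q * y⁻¹) * (y * E' q2 * y⁻¹) := by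
      rw [map_mul]; group
    rw [h5, A_mul, hβ, hβ, mul_one, mul_one] at h4
    exact h4.symm
  have hβinj : ∀ q, β q = 1 → q = 1 := by
    intro q hq
    have hyi : y⁻¹ * zz L = zz L * y⁻¹ := by
      rw [inv_mul_eq_iff_eq_mul, ← mul_assoc, hyz, mul_inv_cancel_right]
    obtain ⟨s, hs⟩ := hpres _ hyi 1
    have h4 := hβ q 1
    rw [hq, one_mul, A_mul, A_mul, hs, A_ph] at h4
    have h5 := congrArg (A f y⁻¹) h4
    rw [A_inv, hs] at h5
    have h6 := hφ' h5
    exact mul_eq_right.1 h6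
  let βh : Q →* Q := MonoidHom.mk' β hβmul
  have hbij : Function.Bijective βh := by
    refine Finite.injective_iff_bijective.1 ?_
    rw [injective_iff_map_eq_one]
    exact hβinj
  let βe : MulAut Q := MulEquiv.ofBijective βh hbij
  obtain ⟨r, hr⟩ := hpres y hyz 1
  have hy1 : ∀ q, A f y (ph f E' p' q) = ph f E' p' (β q * r) := by
    intro q
    have h4 : A f y (ph f E' p' q) = A f (y * E' q * y⁻¹) (A f y (ph f E' p' 1)) := by
      rw [← A_mul, inv_mul_cancel_right, A_mul]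
      congr 1
      rw [A_ph, mul_one]
    rw [h4, hr, hβ]
  have hzK : ∀ q, A f (zz K) (ph f E' p' q) = ph f E' p' (β (β q * r) * r) := by
    intro q
    rw [← hyy, A_mul, hy1, hy1]
  have hhol := hol βe r (fun q h4 => by
      have h5 : A f (zz K) (ph f E' p' q) = ph f E' p' q := by
        rw [hzK]
        exact congrArg (ph f E' p') h4
      rw [hph] at h5
      exact (hmov _).2 ⟨_, rfl⟩ h5)
    (fun q => by
      apply hφ'
      have h5 : A f (zz K * zz K) (ph f E' p' q) = ph f E' p' (β (β (β (β q * r) * r) * r) * r) := by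
        rw [A_mul, hzK, hzK]
      rw [hzz, A_one] at h5
      exact h5.symm)
  have h4 : A f (zz K) (ph f E p 1) = A f (zz L) (ph f E p 1) := by
    have h5 : ph f E p 1 = ph f E' p' (S0⁻¹ 1) := by
      rw [hph]
      have h6 : S0 (S0⁻¹ 1) = 1 := S0.apply_symm_apply 1
      rw [h6]
    rw [h5, hzK, ← hE'z, A_ph]
    exact congrArg (ph f E' p') (hhol (S0⁻¹ 1))
  rw [hzL1, ← hEz, A_ph, mul_one] at h4
  exact S0_ne (hφ h4).symm

end kill


/-! ### The action of `G` -/

theorem centralizer_fstar' {G : Type*} [Group G] [Finite G] (hs : IsSimpleGroup ↥(generalizedFittingSubgroup G))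
    (hna : ¬ IsMulCommutative ↥(generalizedFittingSubgroup G)) :
    centralizer (generalizedFittingSubgroup G : Set G) = ⊥ := by
  rw [eq_bot_iff]
  intro x hx
  have h1 := Lib.GenFitting.centralizer_genFitting_le (G := G) hx
  have h2 : (⟨x, h1⟩ : ↥(generalizedFittingSubgroup G)) ∈ center ↥(generalizedFittingSubgroup G) :=
    mem_center_iff.2 fun y => Subtype.ext (mem_centralizer_iff.1 hx y y.2)
  rcases hs.eq_bot_or_eq_top_of_normal (center ↥(generalizedFittingSubgroup G)) inferInstance with h | h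
  · rw [h, mem_bot] at h2
    rw [mem_bot]
    exact congrArg Subtype.val h2
  · exact absurd ⟨⟨fun x y => (mem_center_iff.1 (h.symm ▸ mem_top x) y).symm ▸ rfl⟩⟩ hna

/-- **alternating groups** -/
theorem alt_false' {G : Type*} [Group G] [Finite G] {Om : Set (Subgroup G)} (h : Hyp Om)
    {K : Subgroup G} (hK : K ∈ Om)
    (hs : IsSimpleGroup ↥(generalizedFittingSubgroup G)) (hna : ¬ IsMulCommutative ↥(generalizedFittingSubgroup G))
    {n : ℕ} (hn : 7 ≤ n) (e : ↥(generalizedFittingSubgroup G) ≃* ↥(alternatingGroup (Fin n))) : False := by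
  have hN : (generalizedFittingSubgroup G).Normal := Lib.GenFitting.genFitting_normal (G := G)
  have hC := centralizer_fstar' hs hna
  obtain ⟨m, rfl⟩ : ∃ m, n = m + 2 := ⟨n - 2, by omega⟩
  obtain ⟨ψ, hψ⟩ := StandardComponent.AltAut.exists_autHom (m + 2) hn
  -- conjugation
  let c : G →* MulAut ↥(generalizedFittingSubgroup G) := MulAut.conjNormal
  let F : G →* Equiv.Perm (Fin (m + 2)) := ψ.comp ((MulAut.congr e).toMonoidHom.comp c)
  have hF : ∀ (g : G) (x : ↥(generalizedFittingSubgroup G)),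
      (e (c g x) : Equiv.Perm (Fin (m + 2))) = F g * e x * (F g)⁻¹ := by
    intro g x
    have h1 := hψ (MulAut.congr e (c g)) (e x)
    have h2 : (MulAut.congr e (c g)) (e x) = e (c g x) := by
      change e (c g (e.symm (e x))) = e (c g x)
      rw [e.symm_apply_apply]
    rw [h2] at h1
    exact h1
  have hinj : Function.Injective F := by
    rw [injective_iff_map_eq_one]
    intro g hg
    have h1 : g ∈ centralizer (generalizedFittingSubgroup G : Set G) := by
      rw [mem_centralizer_iff]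
      intro x hx
      have h2 := hF g ⟨x, hx⟩
      rw [hg, one_mul, inv_one, mul_one] at h2
      have h3 := e.injective (Subtype.ext h2)
      have h4 : g * x * g⁻¹ = x := congrArg Subtype.val h3
      rw [mul_inv_eq_iff_eq_mul] at h4
      exact h4.symm
    rw [hC] at h1
    exact mem_bot.1 h1
  have halt : ∀ σ : Equiv.Perm (Fin (m + 2)), Equiv.Perm.sign σ = 1 → ∃ g, F g = σ := by
    intro σ hσ
    obtain ⟨y, hy⟩ : ∃ y, y = e.symm ⟨σ, Equiv.Perm.mem_alternatingGroup.2 hσ⟩ := ⟨_, rfl⟩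
    have hy' : e y = ⟨σ, Equiv.Perm.mem_alternatingGroup.2 hσ⟩ := by rw [hy, e.apply_symm_apply]
    refine ⟨(y : G), ?_⟩
    apply StandardComponent.AltAut.conj_unique (m := m) (by omega)
    intro x
    have h1 := hF (y : G) (e.symm x)
    rw [e.apply_symm_apply] at h1
    rw [← h1]
    have h2 : c (y : G) (e.symm x) = y * e.symm x * y⁻¹ := Subtype.ext rfl
    rw [h2, map_mul, map_mul, map_inv, e.apply_symm_apply, hy']
    rfl
  exact kill ⟨F, hinj, halt⟩ h hK

/-- members of order 8 -/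
theorem alt_false {G : Type*} [Group G] [Finite G] {Om : Set (Subgroup G)} (h : Hyp Om)
    (_h8 : ∀ K ∈ Om, Nat.card K = 8) {K : Subgroup G} (hK : K ∈ Om)
    (hs : IsSimpleGroup ↥(generalizedFittingSubgroup G)) (hna : ¬ IsMulCommutative ↥(generalizedFittingSubgroup G))
    {n : ℕ} (hn : 7 ≤ n) (e : ↥(generalizedFittingSubgroup G) ≃* ↥(alternatingGroup (Fin n))) : False :=
  alt_false' h hK hs hna hn e

end Cfsg.Agent.Cit.Nil.LO.AltG
end

-- part: Cit/Nil/ROne/Swap
section
set_option linter.all false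
open scoped Cfsg.Agent.FastGrp

/-!
# (6b), `r = 1`, core-free: C-swaps, elementary part (helper194)

(3.1) of `blueprints/R18-6b-r1-helper545.md`: for a C-swap `(u, v)`, `w = wt u v`, `u' = v u v⁻¹ = u w`, `v' = u v u⁻¹ = v w`:
`w` centralises `K u` and `K v`, `(v, v')` is a C-pair, `w ∈ T_S#`.
`dg v k = k * (v k v⁻¹)` (`k ∈ K u`): `d_k`.
-/

set_option autoImplicit false
set_option linter.style.haveILetI false
set_option linter.unusedSectionVars false

namespace Cfsg.Agent.Cit.Nil.ROne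

open Subgroup Cfsg Cit

variable {G : Type*} [Group G]

/-- the diagonal element `k * (v k v⁻¹)` -/
def dg (v k : G) : G := k * (v * k * v⁻¹)

namespace W

variable {Z : Set G} {K : G → Subgroup G} {z u v g x y k l : G} (h : W Z K)

include h

section csw

variable (hu : u ∈ Z) (hv : v ∈ Z) (hs : CSw K u v)

include hu hv hs

theorem csw_comm : u * (v * u * v⁻¹) = (v * u * v⁻¹) * u := CP.comm h hu (h.conjZ u hu v) hs

theorem csw_conj_self : v * (v * u * v⁻¹) * v⁻¹ = u := by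
  have h1 := h.sq v hv
  calc v * (v * u * v⁻¹) * v⁻¹ = (v * v) * u * (v * v)⁻¹ := by group
    _ = u := by rw [h1]; group

theorem wt_sq : wt u v * wt u v = 1 := by
  have h1 := h.csw_comm hu hv hs
  have h2 := h.sq u hu
  have h3 := h.sq _ (h.conjZ u hu v)
  unfold wt
  calc u * (v * u * v⁻¹) * (u * (v * u * v⁻¹)) = u * ((v * u * v⁻¹) * u) * (v * u * v⁻¹) := by group
    _ = u * (u * (v * u * v⁻¹)) * (v * u * v⁻¹) := by rw [h1]
    _ = (u * u) * ((v * u * v⁻¹) * (v * u * v⁻¹)) := by group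
    _ = 1 := by rw [h2, h3, one_mul]

theorem wt_ne : wt u v ≠ 1 := h.cp_mul_ne (h.conjZ u hu v) hs

theorem wt_comm_u : wt u v * u = u * wt u v := by
  have h1 := h.csw_comm hu hv hs
  unfold wt
  rw [mul_assoc, ← h1]

/-- `v u v⁻¹ = u w` -/
theorem conj_u : v * u * v⁻¹ = u * wt u v := by
  unfold wt
  rw [← mul_assoc, h.sq u hu, one_mul]

/-- `w` commutes with `v` -/
theorem wt_comm_v : wt u v * v = v * wt u v := by
  have h1 := h.csw_comm hu hv hs
  have h2 := h.csw_conj_self hu hv hs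
  have h3 : v * wt u v * v⁻¹ = wt u v := by
    unfold wt
    calc v * (u * (v * u * v⁻¹)) * v⁻¹ = (v * u * v⁻¹) * (v * (v * u * v⁻¹) * v⁻¹) := by group
      _ = u * (v * u * v⁻¹) := by rw [h2, h1]
  rw [mul_inv_eq_iff_eq_mul] at h3
  exact h3.symm

/-- `u v u⁻¹ = v w` -/
theorem conj_v : u * v * u⁻¹ = v * wt u v := by
  have h1 := h.conj_u hu hv hs
  have h2 := h.inv hu
  have h3 := h.inv hv
  have h4 := h.csw_comm hu hv hs
  have h5 := h.wt_sq hu hv hs
  -- `w = u v u v`, `w⁻¹ = v u v u = w`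
  have h6 : wt u v = u * v * u * v := by unfold wt; rw [h3]; group
  have h7 : (wt u v)⁻¹ = wt u v := inv_eq_of_mul_eq_one_right h5
  calc u * v * u⁻¹ = v * (v * u * v * u) := by
        rw [h2]
        have := h.sq v hv
        calc u * v * u = (v * v) * (u * v * u) := by rw [this, one_mul]
          _ = v * (v * u * v * u) := by group
    _ = v * (wt u v)⁻¹ := by
        rw [h6]
        congr 1
        rw [mul_inv_rev, mul_inv_rev, mul_inv_rev, h2, h3]; group
    _ = v * wt u v := by rw [h7]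

/-- the diagonal elements are centralised by `v` -/
theorem dg_comm_v (hk : k ∈ K u) : dg v k * v = v * dg v k := by
  have h1 := hs.2 k hk (v * k * v⁻¹) (h.conj_mem_K hu v hk)
  have h2 := h.sq v hv
  have h3 : v * dg v k * v⁻¹ = dg v k := by
    unfold dg
    calc v * (k * (v * k * v⁻¹)) * v⁻¹ = (v * k * v⁻¹) * ((v * v) * k * (v * v)⁻¹) := by group
      _ = (v * k * v⁻¹) * k := by rw [h2]; group
      _ = k * (v * k * v⁻¹) := h1.symm
  rw [mul_inv_eq_iff_eq_mul] at h3
  exact h3.symm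

theorem dg_mul (hk : k ∈ K u) (hl : l ∈ K u) : dg v (k * l) = dg v k * dg v l := by
  have h1 := hs.2 l hl (v * k * v⁻¹) (h.conj_mem_K hu v hk)
  unfold dg
  calc k * l * (v * (k * l) * v⁻¹) = k * (l * (v * k * v⁻¹)) * (v * l * v⁻¹) := by group
    _ = k * ((v * k * v⁻¹) * l) * (v * l * v⁻¹) := by rw [h1]
    _ = _ := by group

theorem dg_sq (hk : k ∈ K u) (hkk : k * k = u) : dg v k * dg v k = wt u v := by
  rw [← h.dg_mul hu hv hs hk hk, hkk]
  rfl

/-- **(3.1)** : `w` centralises `K v` -/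
theorem wt_cen_v : Cen K (wt u v) v := by
  obtain ⟨i, hi, j, hj, hii, hjj, hji, -⟩ := h.exists_ij hu
  refine h.quat_act hv (h.dg_comm_v hu hv hs hi) (h.dg_comm_v hu hv hs hj) (h.dg_sq hu hv hs hi hii)
    (h.dg_sq hu hv hs hj hjj) ?_
  rw [← h.dg_mul hu hv hs hj hi, hji, h.dg_mul hu hv hs (h.mem u hu) (mul_mem hi hj), h.dg_mul hu hv hs hi hj]
  rfl

/-- **(3.1)** : `(v, u)` is a C-swap -/
theorem csw_symm : CSw K v u := by
  unfold CSw
  have h1 := h.conj_v hu hv hs
  have h2 : u * v * u⁻¹ ∈ Z := h.conjZ v hv u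
  refine h.csymm hv h2 ?_ ?_
  · intro h3
    rw [h1] at h3
    exact h.wt_ne hu hv hs (mul_eq_left.1 h3.symm)
  · rw [h1]
    exact Cen.mul (fun k hk => (h.cent hv hk).symm) (h.wt_cen_v hu hv hs)

theorem wt_symm : wt v u = wt u v := by
  have h1 := h.conj_v hu hv hs
  unfold wt
  rw [h1, ← mul_assoc, h.sq v hv, one_mul]
  rfl

/-- **(3.1)** : `w` centralises `K u` -/
theorem wt_cen_u : Cen K (wt u v) u := by
  have h1 := h.wt_cen_v hv hu (h.csw_symm hu hv hs)
  rwa [h.wt_symm hu hv hs] at h1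

/-- `w` centralises `K u'` -/
theorem wt_cen_u' : Cen K (wt u v) (v * u * v⁻¹) := by
  have h1 := h.cen_conj hu v (h.wt_cen_u hu hv hs)
  rwa [← h.wt_comm_v hu hv hs, mul_inv_cancel_right] at h1

/-- `v` does not commute with `u` -/
theorem csw_not_comm : u * v ≠ v * u := by
  intro h1
  apply hs.1
  rw [← h1, mul_inv_cancel_right]

theorem csw_ne : u ≠ v := fun h1 => h.csw_not_comm hu hv hs (by rw [h1])

/-- `w ∈ T_S` for a Sylow subgroup `S` -/
theorem wt_mem_TT [Finite G] : ∃ S : Sylow 2 G, u ∈ CS Z K S ∧ v * u * v⁻¹ ∈ CS Z K S ∧ wt u v ∈ TT Z K S := by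
  obtain ⟨S, h1, h2⟩ := h.exists_sylow_of_cp hu (h.conjZ u hu v) hs
  exact ⟨S, h1, h2, mul_mem (subset_closure h1) (subset_closure h2)⟩

theorem mem_ZC_u : u ∈ ZC Z K (wt u v) := ⟨hu, h.wt_cen_u hu hv hs⟩

theorem mem_ZC_v : v ∈ ZC Z K (wt u v) := ⟨hv, h.wt_cen_v hu hv hs⟩

/-! ### Formulas (3.4) -/

/-- `d_k` commutes with `u` -/
theorem dg_comm_u (hk : k ∈ K u) : dg v k * u = u * dg v k := by
  have h1 := h.cent hu hk
  have h2 := hs.2 u (h.mem u hu) (v * k * v⁻¹) (h.conj_mem_K hu v hk)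
  unfold dg
  rw [mul_assoc, ← h2, ← mul_assoc, h1, mul_assoc]

/-- `k v k⁻¹ = v d_k u` for `k` of order 4 -/
theorem conj_k_v (hk : k ∈ K u) (hkk : k * k = u) : k * v * k⁻¹ = v * dg v k * u := by
  have h1 := hs.2 k hk (v * k * v⁻¹) (h.conj_mem_K hu v hk)
  have h2 : k * k * (k * k) = 1 := by rw [hkk, h.sq u hu]
  have h3 := h.sq v hv
  have h4 : k⁻¹ = k * u := by
    rw [← hkk, inv_eq_iff_mul_eq_one]
    calc k * (k * (k * k)) = k * k * (k * k) := by group
      _ = 1 := h2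
  unfold dg
  calc k * v * k⁻¹ = v * ((v * v)⁻¹ * v * k * v⁻¹ * (v * v)) * k⁻¹ := by group
    _ = v * ((v * k * v⁻¹) * k⁻¹) := by rw [h3]; group
    _ = v * ((v * k * v⁻¹) * k) * u := by rw [h4]; group
    _ = v * (k * (v * k * v⁻¹)) * u := by rw [h1]

end csw

end W

end Cfsg.Agent.Cit.Nil.ROne
end

-- part: Cit/Nil/ROne/MTwoBase
section
prune_inst 0x4001008001122000000000010a0003e42da000000002b0401f5600f0206863d4180420720f8a00f010102aa24003e8048131800590030000020008200411c01a0142a32c68048b00021001040e807180c00000000000000000000000000041000000000000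
set_option linter.all false
open scoped Cfsg.Agent.FastGrp

/-!
# (6b), r = 1, m = 2, nil world: base (helper454, bb #12195 (a)-(d))

`Z` : the involutions of the members, `K z` the member (quaternion of order 8, normal in `C(z)`).
`Ed Z K z u` : `(z, u)` is a `C`-pair (edge).  `A Z K z` is generated by the neighbours of `z`.

* `W.mem_A` : `A z = {1} ∪ a₀(z)`;
* `W.W_sub` : for `b ∈ A z`, `b ≠ 1`, `A b ≤ {c, b u c : c ∈ A u}`;
* `W.norm_sup` : `C(z)` normalises `A z ⊔ A u`;
* `W.exists_not_comm` : if `A u ≠ ⟨z⟩` then every `v ∈ K z` of order 4 moves an element of `A u`;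
* `W.full` : if `A z ≠ ⟨u⟩` then all pairs `(b, c)`, `b ∈ A z`, `c ∈ A u` nontrivial, are edges.
-/

set_option autoImplicit false
set_option linter.style.haveILetI false
set_option linter.unusedSectionVars false

namespace Cfsg.Agent.Cit.Nil.MTwo

open Subgroup Cfsg Cit OneBasic

variable {G : Type*} [Group G]

/-- an edge (`C`-pair) -/
def Ed (Z : Set G) (K : G → Subgroup G) (z u : G) : Prop :=
  z ∈ Z ∧ u ∈ Z ∧ z ≠ u ∧ ∀ k ∈ K z, ∀ l ∈ K u, k * l = l * k

/-- the subgroup generated by the neighbours of `z` -/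
def A (Z : Set G) (K : G → Subgroup G) (z : G) : Subgroup G := closure {u | Ed Z K z u}

/-- the world -/
structure W (Z : Set G) (K : G → Subgroup G) : Prop where
  conj : ∀ z ∈ Z, ∀ g : G, g * z * g⁻¹ ∈ Z
  conjK : ∀ z ∈ Z, ∀ g : G, K (g * z * g⁻¹) = cj g (K z)
  one : ∀ z ∈ Z, ∀ u ∈ Z, ∃ g : G, g * z * g⁻¹ = u
  sq : ∀ z ∈ Z, z * z = 1
  ne : ∀ z ∈ Z, z ≠ 1
  mem : ∀ z ∈ Z, z ∈ K z
  card : ∀ z ∈ Z, Nat.card (K z) = 8
  four : ∀ z ∈ Z, ∀ k ∈ K z, k ≠ 1 → k ≠ z → k * k = z
  E : ∀ z ∈ Z, ∀ u ∈ Z, z ≠ u → (∀ k ∈ K z, k * u = u * k) → ∀ k ∈ K z, ∀ l ∈ K u, k * l = l * k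
  three : ∀ z ∈ Z, ∀ u ∈ Z, ∀ v ∈ Z, ∀ T : Subgroup G, IsPGroup 2 T → K z ≤ T → K u ≤ T → K v ≤ T →
    z = u ∨ z = v ∨ u = v
  prod : ∀ z u, Ed Z K z u → z * u ∉ Z
  syl : ∀ z u, Ed Z K z u → ∃ S : Sylow 2 G, K z ≤ S ∧ K u ≤ S ∧
    ∀ s ∈ S, (s * z * s⁻¹ = z ∧ s * u * s⁻¹ = u) ∨ (s * z * s⁻¹ = u ∧ s * u * s⁻¹ = z)
  ex : ∀ z ∈ Z, ∃ u, Ed Z K z u
  two : ∀ z ∈ Z, IsPGroup 2 (A Z K z)
  c3 : ∀ z ∈ Z, ∀ v ∈ K z, v * v = z → ∃ g : G, g * z = z * g ∧ g * v * g⁻¹ ≠ v ∧ g * v * g⁻¹ ≠ v⁻¹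

variable {Z : Set G} {K : G → Subgroup G} {z u v b c x y g : G}

theorem Ed.symm (h : Ed Z K z u) : Ed Z K u z :=
  ⟨h.2.1, h.1, h.2.2.1.symm, fun k hk l hl => (h.2.2.2 l hl k hk).symm⟩

theorem Ed.left (h : Ed Z K z u) : z ∈ Z := h.1

theorem Ed.right (h : Ed Z K z u) : u ∈ Z := h.2.1

theorem Ed.ne (h : Ed Z K z u) : z ≠ u := h.2.2.1

namespace W

variable (w : W Z K)

include w

theorem inv (hz : z ∈ Z) : z⁻¹ = z := inv_eq_of_mul_eq_one_right (w.sq z hz)

theorem commz (hz : z ∈ Z) {k : G} (hk : k ∈ K z) : k * z = z * k := by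
  by_cases h1 : k = 1
  · rw [h1, one_mul, mul_one]
  by_cases h2 : k = z
  · rw [h2]
  rw [← w.four z hz k hk h1 h2, mul_assoc]

theorem comm (h : Ed Z K z u) : z * u = u * z := h.2.2.2 z (w.mem z h.1) u (w.mem u h.2.1)

theorem cent (h : Ed Z K z u) : ∀ k ∈ K z, k * u = u * k := fun k hk => h.2.2.2 k hk u (w.mem u h.2.1)

theorem ed_of (hz : z ∈ Z) (hu : u ∈ Z) (hne : z ≠ u) (hc : ∀ k ∈ K z, k * u = u * k) : Ed Z K z u :=
  ⟨hz, hu, hne, w.E z hz u hu hne hc⟩

theorem ed_conj (h : Ed Z K z u) (g : G) : Ed Z K (g * z * g⁻¹) (g * u * g⁻¹) := by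
  refine ⟨w.conj z h.1 g, w.conj u h.2.1 g, fun h1 => h.2.2.1 ?_, ?_⟩
  · simpa using h1
  · intro k hk l hl
    rw [w.conjK z h.1, mem_cj] at hk
    rw [w.conjK u h.2.1, mem_cj] at hl
    have h1 := h.2.2.2 _ hk _ hl
    have h2 : g * ((g⁻¹ * k * g) * (g⁻¹ * l * g)) * g⁻¹ = g * ((g⁻¹ * l * g) * (g⁻¹ * k * g)) * g⁻¹ := by rw [h1]
    have h3 : g * ((g⁻¹ * k * g) * (g⁻¹ * l * g)) * g⁻¹ = k * l := by group
    have h4 : g * ((g⁻¹ * l * g) * (g⁻¹ * k * g)) * g⁻¹ = l * k := by group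
    rwa [h3, h4] at h2

theorem norm (hz : z ∈ Z) (hg : g * z = z * g) {k : G} (hk : k ∈ K z) : g * k * g⁻¹ ∈ K z := by
  have h1 := w.conjK z hz g
  rw [hg, mul_inv_cancel_right] at h1
  rw [h1]
  exact conj_mem_cj hk

theorem inv_mem_K (hz : z ∈ Z) {k : G} (hkk : k * k = z) : k⁻¹ = k * z := by
  rw [← hkk]
  have h1 : z * z = 1 := w.sq z hz
  rw [← hkk] at h1
  have h2 : k * (k * (k * k)) = 1 := by rw [← mul_assoc, h1]
  exact inv_eq_of_mul_eq_one_right h2

/-- an involution acting nontrivially on `K z` inverts an element of order 4 -/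
theorem exists_inverted (hz : z ∈ Z) (hy : y * y = 1) (hyz : y * z = z * y)
    (hn : ¬ ∀ k ∈ K z, k * y = y * k) : ∃ k ∈ K z, k * k = z ∧ y * k * y⁻¹ = k⁻¹ := by
  push Not at hn
  obtain ⟨k, hk, hne⟩ := hn
  have hyi : y⁻¹ = y := inv_eq_of_mul_eq_one_right hy
  have h1 : y * k * y⁻¹ ∈ K z := w.norm hz hyz hk
  set k' := y * k * y⁻¹ with hk'
  have hk1 : k ≠ 1 := by
    rintro rfl
    apply hne
    rw [one_mul, mul_one]
  have hkz : k ≠ z := by
    rintro rfl
    exact hne hyz.symm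
  have hkk := w.four z hz k hk hk1 hkz
  have hkne : k' ≠ k := by
    intro h2
    apply hne
    rw [hk', mul_inv_eq_iff_eq_mul] at h2
    exact h2.symm
  have h3 : y * k' * y⁻¹ = k := by
    rw [hk', hyi]
    calc y * (y * k * y) * y = (y * y) * k * (y * y) := by group
      _ = k := by rw [hy, one_mul, mul_one]
  by_cases h4 : k⁻¹ * k' = z
  · refine ⟨k, hk, hkk, ?_⟩
    change k' = k⁻¹
    rw [w.inv_mem_K hz hkk, ← h4, mul_inv_cancel_left]
  · have h5 : k⁻¹ * k' ∈ K z := mul_mem (inv_mem hk) h1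
    have h6 : k⁻¹ * k' ≠ 1 := by
      intro h7
      exact hkne (inv_mul_eq_one.1 h7).symm
    refine ⟨k⁻¹ * k', h5, w.four z hz _ h5 h6 h4, ?_⟩
    calc y * (k⁻¹ * k') * y⁻¹ = (y * k * y⁻¹)⁻¹ * (y * k' * y⁻¹) := by group
      _ = k'⁻¹ * k := by rw [h3]
      _ = (k⁻¹ * k')⁻¹ := by group

/-- ... hence is moved to `y z` by an element of `K z` -/
theorem exists_move (hz : z ∈ Z) (hy : y * y = 1) (hyz : y * z = z * y)
    (hn : ¬ ∀ k ∈ K z, k * y = y * k) : ∃ k ∈ K z, k * k = z ∧ k * y * k⁻¹ = y * z := by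
  obtain ⟨k, hk, hkk, h1⟩ := w.exists_inverted hz hy hyz hn
  have hyi : y⁻¹ = y := inv_eq_of_mul_eq_one_right hy
  refine ⟨k, hk, hkk, ?_⟩
  have h2 : y * k = k⁻¹ * y := by
    rw [← h1, inv_mul_cancel_right]
  have h3 : k * y = y * k⁻¹ := by
    rw [hyi] at h1
    have h4 : y * (y * k * y) = y * k⁻¹ := by rw [h1]
    rw [← h4]
    calc k * y = (y * y) * k * y := by rw [hy, one_mul]
      _ = _ := by group
  rw [h3, mul_assoc, ← mul_inv_rev, hkk, w.inv hz]

/-- commuting, not an edge: the product is in `Z` -/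
theorem mul_mem_Z (hz : z ∈ Z) (hy : y ∈ Z) (hne : z ≠ y) (hc : z * y = y * z) (hn : ¬ Ed Z K z y) :
    z * y ∈ Z := by
  obtain ⟨k, -, -, h1⟩ := w.exists_move hz (w.sq y hy) hc.symm (fun h => hn (w.ed_of hz hy hne h))
  rw [hc, ← h1]
  exact w.conj y hy k

theorem ed_iff (hz : z ∈ Z) (hy : y ∈ Z) (hne : z ≠ y) (hc : z * y = y * z) :
    Ed Z K z y ↔ z * y ∉ Z :=
  ⟨fun h => w.prod z y h, fun h => by
    by_contra hn
    exact h (w.mul_mem_Z hz hy hne hc hn)⟩

variable [Finite G]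

theorem two_K (hz : z ∈ Z) : IsPGroup 2 (K z) := by
  haveI : Fact (Nat.Prime 2) := ⟨Nat.prime_two⟩
  rw [IsPGroup.iff_card]
  exact ⟨3, by rw [w.card z hz]; norm_num⟩

theorem noTri (h1 : Ed Z K z u) (h2 : Ed Z K z v) (h3 : Ed Z K u v) : False := by
  have h4 : IsPGroup 2 (K z ⊔ K u : Subgroup G) := by
    refine isPGroup_sup_of_normalizes (w.two_K h1.left) (w.two_K h1.right) ?_
    refine le_trans ?_ (centralizer_le_normalizer _)
    intro k hk
    rw [mem_centralizer_iff]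
    intro l hl
    exact (h1.2.2.2 k hk l hl).symm
  have h5 : IsPGroup 2 ((K z ⊔ K u) ⊔ K v : Subgroup G) := by
    refine isPGroup_sup_of_normalizes h4 (w.two_K h2.right) ?_
    refine le_trans ?_ (centralizer_le_normalizer _)
    rw [sup_le_iff]
    constructor
    · intro k hk
      rw [mem_centralizer_iff]
      intro l hl
      exact (h2.2.2.2 k hk l hl).symm
    · intro k hk
      rw [mem_centralizer_iff]
      intro l hl
      exact (h3.2.2.2 k hk l hl).symm
  rcases w.three z h1.left u h1.right v h2.right _ h5 (le_sup_left.trans le_sup_left)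
    (le_sup_right.trans le_sup_left) le_sup_right with h | h | h
  · exact h1.ne h
  · exact h2.ne h
  · exact h3.ne h

/-! ### The subgroup `A z` -/

omit [Finite G] in
theorem A_cent (hx : x ∈ A Z K z) : ∀ k ∈ K z, k * x = x * k := by
  have h1 : A Z K z ≤ centralizer (K z : Set G) := by
    rw [A, closure_le]
    intro y hy
    rw [SetLike.mem_coe, mem_centralizer_iff]
    exact w.cent hy
  intro k hk
  exact mem_centralizer_iff.1 (h1 hx) k hk

omit [Finite G] in
theorem A_conj (g : G) : A Z K (g * z * g⁻¹) = cj g (A Z K z) := by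
  rw [A, A, cj_def, MonoidHom.map_closure]
  congr 1
  ext x
  constructor
  · intro hx
    refine ⟨g⁻¹ * x * g, ?_, ?_⟩
    · have h1 := w.ed_conj hx g⁻¹
      have h2 : g⁻¹ * (g * z * g⁻¹) * g⁻¹⁻¹ = z := by group
      rw [h2, inv_inv] at h1
      exact h1
    · simp [mul_assoc]
  · rintro ⟨y, hy, rfl⟩
    have h1 := w.ed_conj hy g
    simpa using h1

omit [Finite G] in
theorem A_norm (hg : g * z = z * g) (hx : x ∈ A Z K z) : g * x * g⁻¹ ∈ A Z K z := by
  have h1 := w.A_conj (z := z) g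
  rw [hg, mul_inv_cancel_right] at h1
  rw [h1]
  exact conj_mem_cj hx

omit [Finite G] w in
theorem mem_A_of (h : Ed Z K z u) : u ∈ A Z K z := subset_closure h

theorem A_comm (h : Ed Z K z u) (hx : x ∈ A Z K z) : x * u = u * x := by
  have hz := h.left
  -- the 2-group `K z ⊔ (K u ⊔ A z)`
  have h1 : IsPGroup 2 (K u ⊔ A Z K z : Subgroup G) := by
    refine isPGroup_sup_of_normalizes (w.two_K h.right) (w.two z hz) ?_
    intro k hk
    have hkz : k * z = z * k := (w.cent h.symm) k hk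
    rw [mem_normalizer_iff]
    intro y
    constructor
    · exact fun hy => w.A_norm hkz hy
    · intro hy
      have h2 : k⁻¹ * z = z * k⁻¹ := by rw [inv_mul_eq_iff_eq_mul, ← mul_assoc, hkz, mul_inv_cancel_right]
      have h3 := w.A_norm h2 hy
      have h4 : k⁻¹ * (k * y * k⁻¹) * k⁻¹⁻¹ = y := by group
      rwa [h4] at h3
  have h2 : IsPGroup 2 (K z ⊔ (K u ⊔ A Z K z) : Subgroup G) := by
    refine isPGroup_sup_of_normalizes (w.two_K hz) h1 ?_
    refine le_trans ?_ (centralizer_le_normalizer _)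
    intro k hk
    have h3 : (K u ⊔ A Z K z : Subgroup G) ≤ centralizer {k} := by
      rw [sup_le_iff]
      constructor
      · intro l hl
        rw [mem_centralizer_singleton_iff]
        exact (h.2.2.2 k hk l hl).symm
      · intro l hl
        rw [mem_centralizer_singleton_iff]
        exact (w.A_cent hl k hk).symm
    rw [mem_centralizer_iff]
    intro l hl
    exact mem_centralizer_singleton_iff.1 (h3 hl)
  have hu' : x * u * x⁻¹ ∈ Z := w.conj u h.right x
  have hxT : x ∈ K z ⊔ (K u ⊔ A Z K z) := (le_sup_right.trans le_sup_right : A Z K z ≤ _) hx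
  have h3 : K (x * u * x⁻¹) ≤ K z ⊔ (K u ⊔ A Z K z) := by
    rw [w.conjK u h.right]
    intro k hk
    rw [mem_cj] at hk
    have h4 := (le_sup_left.trans le_sup_right : K u ≤ K z ⊔ (K u ⊔ A Z K z)) hk
    have h5 := mul_mem (mul_mem hxT h4) (inv_mem hxT)
    have h6 : x * (x⁻¹ * k * x) * x⁻¹ = k := by group
    rwa [h6] at h5
  rcases w.three z hz u h.right _ hu' _ h2 le_sup_left (le_sup_left.trans le_sup_right) h3 with h4 | h4 | h4
  · exact absurd h4 h.ne
  · exfalso
    apply h.ne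
    have h5 : u = x⁻¹ * z * x := by rw [h4]; group
    have h6 := w.A_cent hx z (w.mem z hz)
    rw [h5, mul_assoc, h6, inv_mul_cancel_left]
  · rw [eq_mul_inv_iff_mul_eq] at h4
    exact h4.symm

theorem A_abel (hx : x ∈ A Z K z) (hy : y ∈ A Z K z) : x * y = y * x := by
  have h1 : A Z K z ≤ centralizer {x} := by
    rw [A, closure_le]
    intro v hv
    rw [SetLike.mem_coe, mem_centralizer_singleton_iff]
    exact (w.A_comm hv hx).symm
  exact (mem_centralizer_singleton_iff.1 (h1 hy)).symm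

theorem ed_mul (h1 : Ed Z K z u) (h2 : Ed Z K z v) (hne : u ≠ v) : Ed Z K z (u * v) := by
  have hc : u * v = v * u := w.A_abel (mem_A_of h1) (mem_A_of h2)
  have hn : ¬ Ed Z K u v := fun h3 => w.noTri h1 h2 h3
  have h3 := w.mul_mem_Z h1.right h2.right hne hc hn
  refine w.ed_of h1.left h3 ?_ ?_
  · intro h4
    apply w.prod z u h1
    have h5 : z * u = v := by
      rw [w.comm h1, h4, ← mul_assoc, w.sq u h1.right, one_mul]
    rw [h5]
    exact h2.right
  · intro k hk
    rw [← mul_assoc, w.cent h1 k hk, mul_assoc, w.cent h2 k hk, mul_assoc]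

theorem mem_A_iff : x ∈ A Z K z ↔ x = 1 ∨ Ed Z K z x := by
  constructor
  · intro hx
    induction hx using closure_induction with
    | mem y hy => exact Or.inr hy
    | one => exact Or.inl rfl
    | mul x y _ _ hx hy =>
      rcases hx with rfl | hx
      · rwa [one_mul]
      rcases hy with rfl | hy
      · rw [mul_one]; exact Or.inr hx
      by_cases hxy : x = y
      · left
        rw [← hxy, w.sq x hx.right]
      · exact Or.inr (w.ed_mul hx hy hxy)
    | inv x _ hx =>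
      rcases hx with rfl | hx
      · left; exact inv_one
      · right
        rwa [w.inv hx.right]
  · rintro (rfl | h)
    · exact one_mem _
    · exact mem_A_of h

theorem ed_of_mem (hx : x ∈ A Z K z) (h1 : x ≠ 1) : Ed Z K z x :=
  (w.mem_A_iff.1 hx).resolve_left h1

theorem A_sq (hx : x ∈ A Z K z) : x * x = 1 := by
  rcases w.mem_A_iff.1 hx with rfl | h
  · rw [one_mul]
  · exact w.sq x h.right

theorem A_inv (hx : x ∈ A Z K z) : x⁻¹ = x := inv_eq_of_mul_eq_one_right (w.A_sq hx)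

theorem card_A (hz : z ∈ Z) (hu : u ∈ Z) : Nat.card (A Z K z) = Nat.card (A Z K u) := by
  obtain ⟨g, rfl⟩ := w.one z hz u hu
  rw [w.A_conj, card_cj]

/-- `A z ∩ A u = 1` for an edge `(z, u)` -/
theorem inf_A (h : Ed Z K z u) (h1 : x ∈ A Z K z) (h2 : x ∈ A Z K u) : x = 1 := by
  by_contra hx
  exact w.noTri h (w.ed_of_mem h1 hx) (w.ed_of_mem h2 hx)

/-- `[A z, A u] = 1` for an edge `(z, u)` -/
theorem comm_A (h : Ed Z K z u) (hb : b ∈ A Z K z) (hc : c ∈ A Z K u) : b * c = c * b := by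
  have hbu : b * u = u * b := w.A_comm h hb
  have hcz : c * z = z * c := w.A_comm h.symm hc
  have h1 : b * c * b⁻¹ * c⁻¹ ∈ A Z K z := by
    have h2 := w.A_norm hcz (inv_mem hb)
    have h3 : b * c * b⁻¹ * c⁻¹ = b * (c * b⁻¹ * c⁻¹) := by group
    rw [h3]
    exact mul_mem hb h2
  have h2 : b * c * b⁻¹ * c⁻¹ ∈ A Z K u := mul_mem (w.A_norm hbu hc) (inv_mem hc)
  have h3 := w.inf_A h h1 h2
  rwa [mul_inv_eq_one, mul_inv_eq_iff_eq_mul] at h3

/-- `K u` moves `b ∈ A z - ⟨u⟩` to `b u` -/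
theorem exists_move_A (h : Ed Z K z u) (hb : b ∈ A Z K z) (hb1 : b ≠ 1) (hbu : b ≠ u) :
    ∃ k ∈ K u, k * k = u ∧ k * b * k⁻¹ = b * u := by
  refine w.exists_move h.right (w.A_sq hb) (w.A_comm h hb) ?_
  intro hcon
  have h1 := w.ed_of_mem hb hb1
  exact w.noTri h h1 (w.ed_of h.right h1.right hbu.symm hcon)

/-- `[A z, K u] ≤ ⟨u⟩` -/
theorem K_move (h : Ed Z K z u) (hb : b ∈ A Z K z) {k : G} (hk : k ∈ K u) :
    k * b * k⁻¹ = b ∨ k * b * k⁻¹ = b * u := by
  have hkz : k * z = z * k := w.cent h.symm k hk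
  have h1 : k * b * k⁻¹ ∈ A Z K z := w.A_norm hkz hb
  have h2 : b⁻¹ * (k * b * k⁻¹) ∈ A Z K z := mul_mem (inv_mem hb) h1
  have hbu : b⁻¹ * u = u * b⁻¹ := by
    rw [w.A_inv hb]; exact w.A_comm h hb
  have h3 : b⁻¹ * (k * b * k⁻¹) ∈ K u := by
    have h4 := w.norm h.right hbu hk
    have h5 : b⁻¹ * (k * b * k⁻¹) = (b⁻¹ * k * b⁻¹⁻¹) * k⁻¹ := by group
    rw [h5]
    exact mul_mem h4 (inv_mem hk)
  by_cases h4 : b⁻¹ * (k * b * k⁻¹) = 1
  · left
    exact (inv_mul_eq_one.1 h4).symm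
  · right
    by_cases h5 : b⁻¹ * (k * b * k⁻¹) = u
    · rw [← h5, mul_inv_cancel_left]
    · exfalso
      have h6 := w.four u h.right _ h3 h4 h5
      rw [w.A_sq h2] at h6
      exact w.ne u h.right h6.symm

/-- for `b ∈ A z`, `c ∈ A u`, not an edge: `(b, b u c)` is an edge -/
theorem ed_buc (h : Ed Z K z u) (hb : b ∈ A Z K z) (hb1 : b ≠ 1) (hbu : b ≠ u) (hc : c ∈ A Z K u)
    (hc1 : c ≠ 1) (hn : ¬ Ed Z K b c) : Ed Z K b (b * u * c) := by
  have hbZ : b ∈ Z := (w.ed_of_mem hb hb1).right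
  have huc := w.ed_of_mem hc hc1
  have hcZ : c ∈ Z := huc.right
  have hbc := w.comm_A h hb hc
  have hne : b ≠ c := by
    rintro rfl
    exact hb1 (w.inf_A h hb hc)
  have h1 := w.mul_mem_Z hbZ hcZ hne hbc hn
  obtain ⟨k, hk, -, hk2⟩ := w.exists_move_A h hb hb1 hbu
  have h2 : b * u * c ∈ Z := by
    have h3 := w.conj _ h1 k
    have h4 : k * (b * c) * k⁻¹ = (k * b * k⁻¹) * (k * c * k⁻¹) := by group
    rw [h4, hk2, w.A_cent hc k hk, mul_inv_cancel_right] at h3
    exact h3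
  have hbu' := w.A_comm h hb
  have huc' := w.comm huc
  have h3 : b * (b * u * c) = u * c := by
    calc b * (b * u * c) = (b * b) * u * c := by group
      _ = u * c := by rw [w.sq b hbZ, one_mul]
  have h4 : b * u * c * b = u * c := by
    calc b * u * c * b = b * u * (c * b) := by group
      _ = b * (u * b) * c := by rw [← hbc]; group
      _ = (b * b) * u * c := by rw [← hbu']; group
      _ = u * c := by rw [w.sq b hbZ, one_mul]
  rw [w.ed_iff hbZ h2 ?_ (by rw [h3, h4]), h3]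
  · exact w.prod u c huc
  · intro h5
    apply huc.ne
    have h6 : u * c = 1 := by
      have h7 : b * (u * c) = b * 1 := by rw [mul_one, ← mul_assoc]; exact h5.symm
      exact mul_left_cancel h7
    rw [← w.inv hcZ]
    exact eq_inv_of_mul_eq_one_left h6

/-- **(d)** for `b ∈ A z`, `b ≠ 1`: `A b ⊆ {c, b u c : c ∈ A u}` -/
theorem A_sub (h : Ed Z K z u) (hb : b ∈ A Z K z) (hb1 : b ≠ 1) (hx : x ∈ A Z K b) :
    x ∈ A Z K u ∨ ∃ c ∈ A Z K u, x = b * u * c := by
  classical
  by_cases hbu : b = u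
  · left; rwa [← hbu]
  have hbZ : b ∈ Z := (w.ed_of_mem hb hb1).right
  -- the map `c ↦ c` or `b u c`
  have hf : ∀ c ∈ A Z K u, c ∉ A Z K b → b * u * c ∈ A Z K b := by
    intro c hc hcb
    have hc1 : c ≠ 1 := fun h1 => hcb (h1 ▸ one_mem _)
    exact mem_A_of (w.ed_buc h hb hb1 hbu hc hc1 (fun h2 => hcb (mem_A_of h2)))
  let f : A Z K u → A Z K b := fun c =>
    if h1 : (c : G) ∈ A Z K b then ⟨c, h1⟩ else ⟨b * u * c, hf c c.2 h1⟩
  have hf1 : ∀ c : A Z K u, (f c : G) = c ∨ (f c : G) = b * u * c := by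
    intro c
    by_cases h1 : (c : G) ∈ A Z K b
    · left; simp only [f, dif_pos h1]
    · right; simp only [f, dif_neg h1]
  have hinj : Function.Injective f := by
    have key : ∀ c d : A Z K u, (c : G) = b * u * d → False := by
      intro c d hcd
      have h1 : b * u = c * (d : G)⁻¹ := by rw [hcd]; group
      have h2 : b * u ∈ A Z K u := by rw [h1]; exact mul_mem c.2 (inv_mem d.2)
      have h3 := w.inf_A h (mul_mem hb (mem_A_of h)) h2
      apply hbu
      rw [← w.inv h.right]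
      exact eq_inv_of_mul_eq_one_left h3
    intro c d hcd
    have h1 : (f c : G) = f d := by rw [hcd]
    rcases hf1 c with h2 | h2 <;> rcases hf1 d with h3 | h3
    · rw [h2, h3] at h1
      exact Subtype.ext h1
    · rw [h2, h3] at h1
      exact (key c d h1).elim
    · rw [h2, h3] at h1
      exact (key d c h1.symm).elim
    · rw [h2, h3] at h1
      exact Subtype.ext (mul_left_cancel h1)
  have hsurj : Function.Surjective f := by
    haveI : Fintype (A Z K u) := Fintype.ofFinite _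
    haveI : Fintype (A Z K b) := Fintype.ofFinite _
    refine (hinj.bijective_of_nat_card_le ?_).2
    exact (w.card_A hbZ h.right).le
  obtain ⟨c, hc⟩ := hsurj ⟨x, hx⟩
  have h1 : (f c : G) = x := by rw [hc]
  rcases hf1 c with h2 | h2
  · left; rw [← h1, h2]; exact c.2
  · right; exact ⟨c, c.2, by rw [← h1, h2]⟩

theorem A_le_sup (h : Ed Z K z u) (hb : b ∈ A Z K z) (hb1 : b ≠ 1) : A Z K b ≤ A Z K z ⊔ A Z K u := by
  intro x hx
  rcases w.A_sub h hb hb1 hx with h1 | ⟨c, hc, rfl⟩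
  · exact mem_sup_right h1
  · exact mul_mem (mem_sup_left (mul_mem hb (mem_A_of h))) (mem_sup_right hc)

/-- `C(z)` normalises `A z ⊔ A u` -/
theorem norm_sup (h : Ed Z K z u) (hg : g * z = z * g) (hx : x ∈ A Z K z ⊔ A Z K u) :
    g * x * g⁻¹ ∈ A Z K z ⊔ A Z K u := by
  have h1 : A Z K z ⊔ A Z K u ≤ cj g⁻¹ (A Z K z ⊔ A Z K u) := by
    rw [sup_le_iff]
    constructor
    · intro y hy
      rw [mem_cj, inv_inv]
      exact mem_sup_left (w.A_norm hg hy)
    · intro y hy
      rw [mem_cj, inv_inv]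
      have h2 : g * u * g⁻¹ ∈ A Z K z := w.A_norm hg (mem_A_of h)
      have h3 : g * u * g⁻¹ ≠ 1 := by
        intro h4
        exact w.ne u h.right (conj_eq_one_iff.1 h4)
      refine w.A_le_sup h h2 h3 ?_
      rw [w.A_conj]
      exact conj_mem_cj hy
  have h2 := h1 hx
  rwa [mem_cj, inv_inv] at h2

theorem T_comm (h : Ed Z K z u) (hx : x ∈ A Z K z ⊔ A Z K u) (hy : y ∈ A Z K z ⊔ A Z K u) :
    x * y = y * x := by
  have key : ∀ {p : G}, (∀ b ∈ A Z K z, p * b = b * p) → (∀ c ∈ A Z K u, p * c = c * p) →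
      ∀ q ∈ A Z K z ⊔ A Z K u, p * q = q * p := by
    intro p h1 h2 q hq
    have h3 : A Z K z ⊔ A Z K u ≤ centralizer {p} := by
      rw [sup_le_iff]
      exact ⟨fun b hb => mem_centralizer_singleton_iff.2 (h1 b hb).symm,
        fun c hc => mem_centralizer_singleton_iff.2 (h2 c hc).symm⟩
    exact (mem_centralizer_singleton_iff.1 (h3 hq)).symm
  refine key ?_ ?_ y hy
  · intro b hb
    exact (key (fun b' hb' => w.A_abel hb hb') (fun c hc => w.comm_A h hb hc) x hx).symm
  · intro c hc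
    exact (key (fun b hb => (w.comm_A h hb hc).symm) (fun c' hc' => w.A_abel hc hc') x hx).symm

/-! ### The valency is not 1 implies: valency at least 7 and everything is joined -/

/-- two elements `v`, `v'` of order 4 of `K z`, `v' ≠ v, v⁻¹`, generate `K z` -/
theorem K_le (hz : z ∈ Z) {v v' : G} (hv : v ∈ K z) (hv' : v' ∈ K z) (h1 : v * v = z) (h2 : v' * v' = z)
    (h3 : v' ≠ v) (h4 : v' ≠ v⁻¹) {H : Subgroup G} (h5 : v ∈ H) (h6 : v' ∈ H) : K z ≤ H := by
  classical
  have hz1 : z ≠ 1 := w.ne z hz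
  have hzz := w.sq z hz
  have hv1 : v ≠ 1 := by
    rintro rfl
    exact hz1 (by rw [← h1, one_mul])
  have hv1' : v' ≠ 1 := by
    rintro rfl
    exact hz1 (by rw [← h2, one_mul])
  have hvz : v ≠ z := by
    intro hh
    rw [hh, hzz] at h1
    exact hz1 h1.symm
  have hvz' : v' ≠ z := by
    intro hh
    rw [hh, hzz] at h2
    exact hz1 h2.symm
  have hvi : v⁻¹ ≠ v := by
    intro hh
    apply hz1
    rw [← h1]
    exact mul_eq_one_iff_eq_inv.2 hh.symm
  have hvi1 : v⁻¹ ≠ 1 := inv_ne_one.2 hv1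
  have hviz : v⁻¹ ≠ z := by
    intro hh
    apply hvz
    rw [← w.inv hz, ← hh, inv_inv]
  have h7 : ({1, z, v, v⁻¹, v'} : Finset G) ⊆ (Set.toFinite ((K z ⊓ H : Subgroup G) : Set G)).toFinset := by
    intro x hx
    rw [Set.Finite.mem_toFinset, SetLike.mem_coe]
    simp only [Finset.mem_insert, Finset.mem_singleton] at hx
    rcases hx with rfl | rfl | rfl | rfl | rfl
    · exact one_mem _
    · exact ⟨w.mem _ hz, h1 ▸ mul_mem h5 h5⟩
    · exact mem_inf.2 ⟨hv, h5⟩
    · exact mem_inf.2 ⟨inv_mem hv, inv_mem h5⟩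
    · exact mem_inf.2 ⟨hv', h6⟩
  have h8 : ({1, z, v, v⁻¹, v'} : Finset G).card = 5 := by
    rw [Finset.card_insert_of_notMem, Finset.card_insert_of_notMem, Finset.card_insert_of_notMem,
      Finset.card_insert_of_notMem, Finset.card_singleton]
    · simp only [Finset.mem_singleton]; exact h4.symm
    · simp only [Finset.mem_insert, Finset.mem_singleton, not_or]; exact ⟨hvi.symm, h3.symm⟩
    · simp only [Finset.mem_insert, Finset.mem_singleton, not_or]; exact ⟨hvz.symm, hviz.symm, hvz'.symm⟩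
    · simp only [Finset.mem_insert, Finset.mem_singleton, not_or]
      exact ⟨hz1.symm, hv1.symm, hvi1.symm, hv1'.symm⟩
  have h9 := Finset.card_le_card h7
  rw [h8, ← Nat.card_eq_card_finite_toFinset] at h9
  have h10 : Nat.card (K z ⊓ H : Subgroup G) ∣ 8 := by
    rw [← w.card z hz]
    exact card_dvd_of_le inf_le_left
  have h11 : Nat.card (K z ⊓ H : Subgroup G) = 8 := by
    have h12 : 5 ≤ Nat.card (K z ⊓ H : Subgroup G) := h9
    have h13 := Nat.le_of_dvd (by norm_num) h10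
    interval_cases Nat.card (K z ⊓ H : Subgroup G) <;> omega
  have h12 : K z ⊓ H = K z := eq_of_le_of_card_ge inf_le_left (by rw [h11, w.card z hz])
  rw [← h12]
  exact inf_le_right

/-- **(e)** if `A u ≠ ⟨z⟩` then no element of order 4 of `K z` centralises `A u` -/
theorem exists_not_comm (h : Ed Z K z u) (hc : c ∈ A Z K u) (hc1 : c ≠ 1) (hcz : c ≠ z) {v : G}
    (hv : v ∈ K z) (hvv : v * v = z) : ∃ d ∈ A Z K u, v * d ≠ d * v := by
  by_contra hcon
  push Not at hcon
  have hz := h.left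
  obtain ⟨g, hgz, hg1, hg2⟩ := w.c3 z hz v hv hvv
  obtain ⟨k, hk, -, hk2⟩ := w.exists_move_A h.symm hc hc1 hcz
  -- `g v g⁻¹` commutes with `c`
  have hvA : ∀ x ∈ A Z K z ⊔ A Z K u, v * x = x * v := by
    intro x hx
    have h3 : A Z K z ⊔ A Z K u ≤ centralizer {v} := by
      rw [sup_le_iff]
      exact ⟨fun b hb => mem_centralizer_singleton_iff.2 (w.A_cent hb v hv).symm,
        fun d hd => mem_centralizer_singleton_iff.2 (hcon d hd).symm⟩
    exact (mem_centralizer_singleton_iff.1 (h3 hx)).symm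
  have hv' : g * v * g⁻¹ ∈ K z := w.norm hz hgz hv
  have hvv' : g * v * g⁻¹ * (g * v * g⁻¹) = z := by
    calc g * v * g⁻¹ * (g * v * g⁻¹) = g * (v * v) * g⁻¹ := by group
      _ = z := by rw [hvv, hgz, mul_inv_cancel_right]
  have hgi : g⁻¹ * z = z * g⁻¹ := by rw [inv_mul_eq_iff_eq_mul, ← mul_assoc, hgz, mul_inv_cancel_right]
  have hcomm : c * (g * v * g⁻¹) = g * v * g⁻¹ * c := by
    have h3 : g⁻¹ * c * g ∈ A Z K z ⊔ A Z K u := by
      have := w.norm_sup h hgi (mem_sup_right hc)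
      rwa [inv_inv] at this
    have h4 := hvA _ h3
    calc c * (g * v * g⁻¹) = g * ((g⁻¹ * c * g) * v) * g⁻¹ := by group
      _ = g * (v * (g⁻¹ * c * g)) * g⁻¹ := by rw [h4]
      _ = _ := by group
  have h5 : K z ≤ centralizer {c} := by
    refine w.K_le hz hv hv' hvv hvv' hg1 hg2 ?_ ?_
    · rw [mem_centralizer_singleton_iff]; exact hcon c hc
    · rw [mem_centralizer_singleton_iff]; exact hcomm.symm
  have h6 := mem_centralizer_singleton_iff.1 (h5 hk)
  rw [h6, mul_inv_cancel_right] at hk2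
  exact w.ne z hz (left_eq_mul.1 hk2)

/-- if `A u ≠ ⟨z⟩`: for `c ∈ A u` there is `d ∈ A u` outside `⟨z, c⟩` -/
theorem exists_indep (h : Ed Z K z u) (hc : c ∈ A Z K u) (hc1 : c ≠ 1) (hcz : c ≠ z) :
    ∃ d ∈ A Z K u, d ≠ 1 ∧ d ≠ z ∧ d ≠ c ∧ d ≠ c * z := by
  have hz := h.left
  -- an element `v ∈ K z` of order 4 commuting with `c`
  obtain ⟨v, hv, hvv, hvc⟩ : ∃ v ∈ K z, v * v = z ∧ v * c = c * v := by
    obtain ⟨k, hk, hkk, hk2⟩ := w.exists_move_A h.symm hc hc1 hcz
    -- an element `l` of `K z` outside `⟨k⟩`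
    obtain ⟨g, hgz, hg1, hg2⟩ := w.c3 z hz k hk hkk
    set l := g * k * g⁻¹ with hl
    have hlK : l ∈ K z := w.norm hz hgz hk
    have hll : l * l = z := by
      rw [hl]
      calc g * k * g⁻¹ * (g * k * g⁻¹) = g * (k * k) * g⁻¹ := by group
        _ = z := by rw [hkk, hgz, mul_inv_cancel_right]
    have hc1' : ∀ {p : G}, p * c * p⁻¹ = c → p * c = c * p := fun hp => mul_inv_eq_iff_eq_mul.1 hp
    rcases w.K_move h.symm hc hlK with h1 | h1
    · exact ⟨l, hlK, hll, hc1' h1⟩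
    · have hkl : k * l ∈ K z := mul_mem hk hlK
      refine ⟨k * l, hkl, w.four z hz _ hkl ?_ ?_, hc1' ?_⟩
      · intro h2
        exact hg2 (eq_inv_of_mul_eq_one_right h2)
      · intro h2
        apply hg1
        rw [← hkk] at h2
        exact mul_left_cancel h2
      · have hkz : k * z = z * k := w.commz hz hk
        calc k * l * c * (k * l)⁻¹ = k * (l * c * l⁻¹) * k⁻¹ := by group
          _ = k * (c * z) * k⁻¹ := by rw [h1]
          _ = (k * c * k⁻¹) * (k * z * k⁻¹) := by group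
          _ = c * z * z := by rw [hk2, hkz, mul_inv_cancel_right]
          _ = c := by rw [mul_assoc, w.sq z hz, mul_one]
  obtain ⟨d, hd, hvd⟩ := w.exists_not_comm h hc hc1 hcz hv hvv
  refine ⟨d, hd, ?_, ?_, ?_, ?_⟩
  · rintro rfl
    exact hvd (by rw [mul_one, one_mul])
  · rintro rfl
    exact hvd (w.commz hz hv)
  · rintro rfl
    exact hvd hvc
  · rintro rfl
    apply hvd
    rw [← mul_assoc, hvc, mul_assoc, w.commz hz hv, mul_assoc]

/-- **(d), the end**: if `A z ≠ ⟨u⟩`, then `(b, c)` is an edge for all `1 ≠ b ∈ A z`, `1 ≠ c ∈ A u` -/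
theorem full_aux (h : Ed Z K z u) (hb : b ∈ A Z K z) (hb1 : b ≠ 1) (hbu : b ≠ u) (hc : c ∈ A Z K u)
    (hc1 : c ≠ 1) (hcz : c ≠ z) : Ed Z K b c := by
  have hz := h.left
  have hu := h.right
  -- two nonedges `(b, c)`, `(b', c)`: then `(b b', c)` is an edge
  have sym : ∀ b b', b ∈ A Z K z → b ≠ 1 → b ≠ u → b' ∈ A Z K z → b' ≠ 1 → b' ≠ u → b ≠ b' →
      ¬ Ed Z K b c → ¬ Ed Z K b' c → Ed Z K (b * b') c := by
    intro b b' hb hb1 hbu hb' hb1' hbu' hne h1 h2
    have h3 := w.ed_buc h.symm hc hc1 hcz hb hb1 (fun h4 => h1 h4.symm)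
    have h4 := w.ed_buc h.symm hc hc1 hcz hb' hb1' (fun h4 => h2 h4.symm)
    have h5 : (c * z * b) * (c * z * b') = b * b' := by
      have hcZ : c ∈ Z := (w.ed_of_mem hc hc1).right
      have h6 : b * c = c * b := w.comm_A h hb hc
      have h7 : z * b = b * z := w.comm (w.ed_of_mem hb hb1)
      have h8 : c * z = z * c := w.A_comm h.symm hc
      calc (c * z * b) * (c * z * b') = c * z * (b * c) * z * b' := by group
        _ = c * (z * c) * (b * z) * b' := by rw [h6]; group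
        _ = c * (c * z) * (z * b) * b' := by rw [h8, h7]
        _ = (c * c) * (z * z) * b * b' := by group
        _ = b * b' := by rw [w.sq c hcZ, w.sq z hz, one_mul, one_mul]
    have h6 : Ed Z K c (b * b') := by
      rw [← h5]
      refine w.ed_mul h3 h4 ?_
      intro h7
      exact hne (mul_left_cancel h7)
    exact h6.symm
  -- two nonedges `(b, c)`, `(b', c)` with `b' ∉ ⟨b, u⟩`: contradiction
  have two : ∀ b b', b ∈ A Z K z → b ≠ 1 → b ≠ u → b' ∈ A Z K z → b' ≠ 1 → b' ≠ u → b' ≠ b → b' ≠ b * u →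
      ¬ Ed Z K b c → ¬ Ed Z K b' c → False := by
    intro b b' hb hb1 hbu hb' hb1' hbu' hne hne2 h1 h2
    have h3 := sym b b' hb hb1 hbu hb' hb1' hbu' hne.symm h1 h2
    have hbZ : b ∈ Z := (w.ed_of_mem hb hb1).right
    have hbZ' : b' ∈ Z := (w.ed_of_mem hb' hb1').right
    have hcZ : c ∈ Z := (w.ed_of_mem hc hc1).right
    have hb'c := w.comm_A h hb' hc
    have hbc := w.comm_A h hb hc
    have hbb' := w.A_abel hb hb'
    -- `b' c ∈ Z`
    have h4 : b' * c ∈ Z := w.mul_mem_Z hbZ' hcZ (by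
      rintro rfl
      exact hb1' (w.inf_A h hb' hc)) hb'c h2
    -- `(b, b' c)` is an edge
    have h5 : b * (b' * c) ∉ Z := by
      rw [← mul_assoc]
      exact w.prod _ _ h3
    have h6 : Ed Z K b (b' * c) := by
      rw [w.ed_iff hbZ h4 ?_ ?_]
      · exact h5
      · intro h7
        have h8 : c ∈ A Z K z := by
          have h9 : c = b'⁻¹ * b := by rw [h7]; group
          rw [h9]
          exact mul_mem (inv_mem hb') hb
        exact hc1 (w.inf_A h h8 hc)
      · calc b * (b' * c) = (b * b') * c := by group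
          _ = b' * (b * c) := by rw [hbb']; group
          _ = b' * c * b := by rw [hbc]; group
    rcases w.A_sub h hb hb1 (mem_A_of h6) with h7 | ⟨d, hd, h7⟩
    · have h8 : b' ∈ A Z K u := by
        have h9 : b' = (b' * c) * c⁻¹ := by group
        rw [h9]
        exact mul_mem h7 (inv_mem hc)
      exact hb1' (w.inf_A h hb' h8)
    · have h8 : (b * u)⁻¹ * b' = d * c⁻¹ := by
        have h9 : b' = b * u * d * c⁻¹ := by rw [← h7]; group
        rw [h9]; group
      have h9 : (b * u)⁻¹ * b' ∈ A Z K z := mul_mem (inv_mem (mul_mem hb (mem_A_of h))) hb'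
      have h10 : (b * u)⁻¹ * b' ∈ A Z K u := by
        rw [h8]
        exact mul_mem hd (inv_mem hc)
      have h11 := w.inf_A h h9 h10
      exact hne2 (inv_mul_eq_one.1 h11).symm
  by_contra hcon
  obtain ⟨b', hb', hb1', hbu', hbb', hbb2'⟩ := w.exists_indep h.symm hb hb1 hbu
  by_cases h1 : Ed Z K b' c
  · -- then `(b b', c)` is not an edge
    have h2 : ¬ Ed Z K (b * b') c := by
      intro h3
      have h4 : Ed Z K c ((b * b') * b') := by
        refine w.ed_mul h3.symm h1.symm ?_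
        intro h5
        exact hb1 (mul_eq_right.1 h5)
      rw [mul_assoc, w.A_sq hb', mul_one] at h4
      exact hcon h4.symm
    refine two b (b * b') hb hb1 hbu (mul_mem hb hb') ?_ ?_ ?_ ?_ hcon h2
    · intro h3
      apply hbb'
      rw [← w.A_inv hb]
      exact eq_inv_of_mul_eq_one_right h3
    · intro h3
      apply hbb2'
      rw [← h3, ← mul_assoc, w.A_sq hb, one_mul]
    · intro h3
      exact hb1' (mul_eq_left.1 h3)
    · intro h3
      exact hbu' (mul_left_cancel h3)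
  · exact two b b' hb hb1 hbu hb' hb1' hbu' hbb' hbb2' hcon h1

/-- **(d), the end**: if `A z ≠ ⟨u⟩`, then `(b, c)` is an edge for all `1 ≠ b ∈ A z`, `1 ≠ c ∈ A u` -/
theorem full (h : Ed Z K z u) (hb : b ∈ A Z K z) (hb1 : b ≠ 1) (hc : c ∈ A Z K u) (hc1 : c ≠ 1) :
    Ed Z K b c := by
  by_cases hbu : b = u
  · rw [hbu]
    exact w.ed_of_mem hc hc1
  by_cases hcz : c = z
  · rw [hcz]
    exact (w.ed_of_mem hb hb1).symm
  exact w.full_aux h hb hb1 hbu hc hc1 hcz

end W

end Cfsg.Agent.Cit.Nil.MTwo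

private theorem dce_4304719df7a3 : _root_.True := by
  try have : _root_.True := by simp only [_root_.Cfsg.Agent.Cit.Nil.MTwo.A.eq_1]
  exact _root_.True.intro
end

-- part: Cit/Nil/CV/RootMod
section
prune_inst 0x430104d007522000000180010a2001e62fa0000020068040034200d0205cf3d40a0460120fab00d1100869a445834006813180110420000000a00b000011e01a0140a02060064a200290010400007180c00000000000000000000000000041000000000000
set_option linter.all false
open scoped Cfsg.Agent.FastGrp

/-!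
# Root systems modulo 4 with an involution

Helper 542, for S1309, section 3 of `CIT-6b-CV-rank3-helper599.md`.  Everything here is free of
groups: `A` is an abelian group, `R` a set of elements of order 4 ("roots", the generators of the
groups `V_K <= A`), `f v : A → ZMod 4` the homomorphism `al_K`, and `s` an involution of `A`
permuting `R` and respecting `f`.
-/

namespace Cfsg.Agent.Cit.Nil.CV.RootMod

variable {A : Type*} [AddCommGroup A]

/-- `(A, R, f)` is a simply laced root system modulo 4. -/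
structure RM (R : Set A) (f : A → A →+ ZMod 4) : Prop where
  neg : ∀ {v}, v ∈ R → -v ∈ R
  fneg : ∀ {v}, v ∈ R → ∀ a, f (-v) a = - f v a
  self : ∀ {v}, v ∈ R → f v v = 2
  small : ∀ {v w}, v ∈ R → w ∈ R → w ≠ v → w ≠ -v → f v w = 0 ∨ f v w = 1 ∨ f v w = -1
  symm : ∀ {v w}, v ∈ R → w ∈ R → f v w = f w v
  add : ∀ {v w}, v ∈ R → w ∈ R → f v w = -1 → v + w ∈ R
  fadd : ∀ {v w}, v ∈ R → w ∈ R → f v w = -1 → ∀ a, f (v + w) a = f v a + f w a
  four : ∀ {v}, v ∈ R → (v + v) + (v + v) = 0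
  two : ∀ {v}, v ∈ R → v + v ≠ 0

/-- `s` is an automorphism of order at most 2 of `(A, R, f)`. -/
structure Iv (R : Set A) (f : A → A →+ ZMod 4) (s : A →+ A) : Prop where
  invol : ∀ a, s (s a) = a
  maps : ∀ {v}, v ∈ R → s v ∈ R
  iso : ∀ {v}, v ∈ R → ∀ a, f (s v) (s a) = f v a

/-- `s` is an automorphism as the involutions of `Z` outside `A` induce it: no root is fixed, no
two linked roots are inverted, and `s` does not act on a root linked to an inverted root as the
reflection. -/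
structure Ez (R : Set A) (f : A → A →+ ZMod 4) (s : A →+ A) : Prop extends Iv R f s where
  nofix : ∀ {v}, v ∈ R → s v ≠ v
  noinv : ∀ {v w}, v ∈ R → w ∈ R → s v = -v → f v w = 1 → s w ≠ -w
  norefl : ∀ {v w}, v ∈ R → w ∈ R → s v = -v → f v w = 1 → s w ≠ w - v

/-- Two roots in the same component. -/
def Conn (R : Set A) (f : A → A →+ ZMod 4) : A → A → Prop :=
  Relation.ReflTransGen (fun v w => v ∈ R ∧ w ∈ R ∧ f v w ≠ 0)

section Basic

variable {R : Set A} {f : A → A →+ ZMod 4} {s : A →+ A}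

theorem two_iff (hR : RM R f) {v w : A} (hv : v ∈ R) (hw : w ∈ R) :
    f v w = 2 ↔ w = v ∨ w = -v := by
  constructor
  · intro h
    by_contra hne
    push Not at hne
    rcases hR.small hv hw hne.1 hne.2 with h1 | h1 | h1 <;> rw [h] at h1 <;> exact absurd h1 (by decide)
  · rintro (h | h)
    · rw [h, hR.self hv]
    · rw [h, map_neg, hR.self hv]; decide

theorem cases (hR : RM R f) {v w : A} (hv : v ∈ R) (hw : w ∈ R) :
    w = v ∨ w = -v ∨ f v w = 0 ∨ f v w = 1 ∨ f v w = -1 := by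
  by_cases h1 : w = v
  · exact Or.inl h1
  by_cases h2 : w = -v
  · exact Or.inr (Or.inl h2)
  exact Or.inr (Or.inr (hR.small hv hw h1 h2))

theorem sub_mem (hR : RM R f) {v w : A} (hv : v ∈ R) (hw : w ∈ R) (h : f v w = 1) : w - v ∈ R := by
  have h1 : f w (-v) = -1 := by rw [map_neg, hR.symm hw hv, h]
  have h2 := hR.add hw (hR.neg hv) h1
  rwa [← sub_eq_add_neg] at h2

theorem fsub (hR : RM R f) {v w : A} (hv : v ∈ R) (hw : w ∈ R) (h : f v w = 1) (a : A) :
    f (w - v) a = f w a - f v a := by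
  have h1 : f w (-v) = -1 := by rw [map_neg, hR.symm hw hv, h]
  have h2 := hR.fadd hw (hR.neg hv) h1 a
  rw [sub_eq_add_neg, h2, hR.fneg hv, sub_eq_add_neg]

theorem Conn.refl (v : A) : Conn R f v v := Relation.ReflTransGen.refl

theorem Conn.trans {u v w : A} (h1 : Conn R f u v) (h2 : Conn R f v w) : Conn R f u w :=
  Relation.ReflTransGen.trans h1 h2

theorem Conn.step {v w : A} (hv : v ∈ R) (hw : w ∈ R) (h : f v w ≠ 0) : Conn R f v w :=
  Relation.ReflTransGen.single ⟨hv, hw, h⟩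

theorem Conn.symm (hR : RM R f) {v w : A} (h : Conn R f v w) : Conn R f w v := by
  induction h with
  | refl => exact Conn.refl v
  | tail _ h2 ih =>
    refine Conn.trans (Conn.step h2.2.1 h2.1 ?_) ih
    rw [hR.symm h2.2.1 h2.1]
    exact h2.2.2

theorem Conn.mem {v w : A} (hv : v ∈ R) (h : Conn R f v w) : w ∈ R := by
  induction h with
  | refl => exact hv
  | tail _ h2 _ => exact h2.2.1

theorem Conn.neg (hR : RM R f) {v : A} (hv : v ∈ R) : Conn R f v (-v) := by
  refine Conn.step hv (hR.neg hv) ?_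
  rw [map_neg, hR.self hv]
  decide

theorem Conn.map (hs : Iv R f s) {v w : A} (h : Conn R f v w) : Conn R f (s v) (s w) := by
  induction h with
  | refl => exact Conn.refl (s v)
  | tail _ h2 ih =>
    refine Conn.trans ih (Conn.step (hs.maps h2.1) (hs.maps h2.2.1) ?_)
    rw [hs.iso h2.1]
    exact h2.2.2

theorem ortho_of_not_conn {v w : A} (hv : v ∈ R) (hw : w ∈ R) (h : ¬ Conn R f v w) :
    f v w = 0 := by
  by_contra hne
  exact h (Conn.step hv hw hne)

/-- moving `s` to the other side -/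
theorem swap (hR : RM R f) (hs : Iv R f s) {v w : A} (hv : v ∈ R) (hw : w ∈ R) :
    f v (s w) = f w (s v) := by
  have h1 := hs.iso (hs.maps hv) w
  rw [hs.invol] at h1
  rw [h1, hR.symm (hs.maps hv) hw]

end Basic

section Line

variable {R : Set A} {f : A → A →+ ZMod 4} {s : A →+ A}

theorem lk_ortho (hR : RM R f) (hs : Iv R f s) {v : A}
    (hno : ∀ g, Conn R f v g → f g (s g) = 0) {g d : A} (hg : g ∈ R) (hd : d ∈ R)
    (hgd : f g d = -1) (hc : Conn R f v g) : f g (s d) = 0 := by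
  have hmem : g + d ∈ R := hR.add hg hd hgd
  have hcd : Conn R f v d := hc.trans (Conn.step hg hd (by rw [hgd]; decide))
  have hcs : Conn R f v (g + d) := by
    refine hc.trans (Conn.step hg hmem ?_)
    rw [map_add, hR.self hg, hgd]
    decide
  have h1 := hno _ hcs
  rw [hR.fadd hg hd hgd, map_add, map_add, map_add, hno g hc, hno d hcd, swap hR hs hd hg] at h1
  have h2 : f g (s d) = 0 ∨ f g (s d) = 2 := by
    generalize f g (s d) = x at h1
    revert x
    decide
  rcases h2 with h2 | h2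
  · exact h2
  · exfalso
    have h3 := hno d hcd
    have h4 : f d g = -1 := by rw [hR.symm hd hg, hgd]
    rcases (two_iff hR hg (hs.maps hd)).1 h2 with h5 | h5
    · rw [h5, h4] at h3
      exact absurd h3 (by decide)
    · rw [h5, map_neg, h4] at h3
      exact absurd h3 (by decide)

/-- (A) An involution fixing a component fixes a line of it. -/
theorem exists_line (hR : RM R f) (hs : Iv R f s) {v : A} (hv : v ∈ R) (hc : Conn R f v (s v)) :
    ∃ g, Conn R f v g ∧ (s g = g ∨ s g = -g) := by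
  by_contra hcon
  push Not at hcon
  have hno : ∀ g, Conn R f v g → f g (s g) = 0 := by
    intro g hg
    have hgR : g ∈ R := hg.mem hv
    have hsg : s g ∈ R := hs.maps hgR
    rcases cases hR hgR hsg with h | h | h | h | h
    · exact absurd h (hcon g hg).1
    · exact absurd h (hcon g hg).2
    · exact h
    · exfalso
      have hw : s g - g ∈ R := sub_mem hR hgR hsg h
      refine (hcon (s g - g) (hg.trans (Conn.step hgR hw ?_))).2 ?_
      · rw [map_sub, hR.self hgR, h]; decide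
      · rw [map_sub, hs.invol]; abel
    · exfalso
      have hw : g + s g ∈ R := hR.add hgR hsg h
      refine (hcon (g + s g) (hg.trans (Conn.step hgR hw ?_))).1 ?_
      · rw [map_add, hR.self hgR, h]; decide
      · rw [map_add, hs.invol]; abel
  have key : ∀ g, Conn R f v g → f g (s v) = 0 ∧ ∀ d, d ∈ R → f g d ≠ 0 → f d (s v) = 0 := by
    intro g hg
    induction hg with
    | refl =>
      refine ⟨hno v (Conn.refl v), ?_⟩
      intro d hd hvd
      rcases cases hR hv hd with h | h | h | h | h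
      · rw [h]; exact hno v (Conn.refl v)
      · rw [h, hR.fneg hv, hno v (Conn.refl v), neg_zero]
      · exact absurd h hvd
      · have h1 : f v (-d) = -1 := by rw [map_neg, h]
        have h2 := lk_ortho hR hs hno hv (hR.neg hd) h1 (Conn.refl v)
        rw [map_neg, map_neg, neg_eq_zero] at h2
        rw [swap hR hs hd hv, h2]
      · rw [swap hR hs hd hv, lk_ortho hR hs hno hv hd h (Conn.refl v)]
    | @tail g d hvg hgd ih =>
      obtain ⟨hg, hd, hne⟩ := hgd
      refine ⟨ih.2 d hd hne, ?_⟩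
      intro e he hde
      by_cases hge : f g e = 0
      · rcases cases hR hd he with h | h | h | h | h
        · rw [h]; exact ih.2 d hd hne
        · rw [h, hR.fneg hd, ih.2 d hd hne, neg_zero]
        · exact absurd h hde
        · have h1 : f g (e - d) ≠ 0 := by rw [map_sub, hge, zero_sub]; exact neg_ne_zero.2 hne
          have h2 := ih.2 (e - d) (sub_mem hR hd he h) h1
          rw [fsub hR hd he h, ih.2 d hd hne, sub_zero] at h2
          exact h2
        · have h1 : f g (d + e) ≠ 0 := by rw [map_add, hge, add_zero]; exact hne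
          have h2 := ih.2 (d + e) (hR.add hd he h) h1
          rw [hR.fadd hd he h, ih.2 d hd hne, zero_add] at h2
          exact h2
      · exact ih.2 e he hge
  have h1 := (key (s v) hc).1
  rw [hR.self (hs.maps hv)] at h1
  exact absurd h1 (by decide)

end Line

section Fixed

variable {R : Set A} {f : A → A →+ ZMod 4} {s : A →+ A}

/-- Under `Ez` a root is inverted or orthogonal to its image. -/
theorem inv_or_ortho (hR : RM R f) (hs : Ez R f s) {v : A} (hv : v ∈ R) :
    s v = -v ∨ f v (s v) = 0 := by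
  have hsv : s v ∈ R := hs.maps hv
  rcases cases hR hv hsv with h | h | h | h | h
  · exact absurd h (hs.nofix hv)
  · exact Or.inl h
  · exact Or.inr h
  · exfalso
    have hw : v - s v ∈ R := by
      have := hR.neg (sub_mem hR hv hsv h)
      rwa [neg_sub] at this
    have h1 : s (v - s v) = -(v - s v) := by rw [map_sub, hs.invol]; abel
    have h2 : f (v - s v) v = 1 := by
      rw [hR.symm hw hv, map_sub, hR.self hv, h]; decide
    refine hs.norefl hw hv h1 h2 ?_
    abel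
  · exfalso
    have hw : v + s v ∈ R := hR.add hv hsv h
    refine hs.nofix hw ?_
    rw [map_add, hs.invol]; abel

/-- `g` inverted, `d` linked to `g`: `h = d + g - s d` is an inverted root orthogonal to `g`. -/
theorem hroot (hR : RM R f) (hs : Ez R f s) {g d : A} (hg : g ∈ R) (hd : d ∈ R)
    (hsg : s g = -g) (hgd : f g d = -1) :
    f d (s d) = 0 ∧ f g (s d) = 1 ∧ d + g - s d ∈ R ∧ s (d + g - s d) = -(d + g - s d) ∧
      f g (d + g - s d) = 0 ∧ f d (d + g - s d) = 1 := by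
  have hsd : s d ∈ R := hs.maps hd
  have h1 : f d (s d) = 0 := by
    rcases inv_or_ortho hR hs hd with h | h
    · exfalso
      refine hs.noinv hg (hR.neg hd) hsg (by rw [map_neg, hgd]; decide) ?_
      rw [map_neg, h]
    · exact h
  have hdg : f d g = -1 := by rw [hR.symm hd hg, hgd]
  have h2 : f g (s d) = 1 := by
    rw [swap hR hs.toIv hg hd, hsg, map_neg, hdg]; decide
  have hmem : d + g ∈ R := hR.add hd hg hdg
  have h3 : f (s d) (d + g) = 1 := by
    rw [hR.symm hsd hmem, hR.fadd hd hg hdg, h1, h2]; decide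
  refine ⟨h1, h2, sub_mem hR hsd hmem h3, ?_, ?_, ?_⟩
  · rw [map_sub, map_add, hs.invol, hsg]; abel
  · rw [map_sub, map_add, hgd, hR.self hg, h2]; decide
  · rw [map_sub, map_add, hR.self hd, hdg, h1]; decide

/-- roots over the same involution: products are congruent modulo 2 -/
theorem par {v v' : A} (h2 : v' + v' = v + v) (w : A) :
    f w v' + f w v' = f w v + f w v := by
  rw [← map_add, ← map_add, h2]

theorem pair_ortho (hR : RM R f) {g g' : A} (hg : g ∈ R) (hg' : g' ∈ R) (h2 : g' + g' = g + g)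
    (hne : g' ≠ g) (hne' : g' ≠ -g) : f g g' = 0 := by
  have h1 := par (f := f) h2 g
  rw [hR.self hg] at h1
  rcases hR.small hg hg' hne hne' with h | h | h
  · exact h
  · rw [h] at h1; exact absurd h1 (by decide)
  · rw [h] at h1; exact absurd h1 (by decide)

theorem pair_odd (hR : RM R f) {g g' d : A} (hg : g ∈ R) (hg' : g' ∈ R) (hd : d ∈ R)
    (h2 : g' + g' = g + g) (hgd : f g d = 1 ∨ f g d = -1) : f g' d = 1 ∨ f g' d = -1 := by
  have h1 := par (f := f) h2 d
  rw [hR.symm hd hg, hR.symm hd hg'] at h1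
  revert h1 hgd
  generalize f g d = x
  generalize f g' d = y
  revert x y
  decide

theorem pair_even (hR : RM R f) {g g' e : A} (hg : g ∈ R) (hg' : g' ∈ R) (he : e ∈ R)
    (h2 : g' + g' = g + g) (hge : f g e = 0) (hne : e ≠ g') (hne' : e ≠ -g') : f g' e = 0 := by
  have h1 := par (f := f) h2 e
  rw [hR.symm he hg, hR.symm he hg', hge] at h1
  rcases hR.small hg' he hne hne' with h | h | h
  · exact h
  · rw [h] at h1; exact absurd h1 (by decide)
  · rw [h] at h1; exact absurd h1 (by decide)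

theorem neg_two {v : A} (h : (v + v) + (v + v) = 0) : -v + -v = v + v := by
  rw [← neg_add]
  exact neg_eq_of_add_eq_zero_left h

/-- The second root over the involution of an inverted root is inverted. -/
theorem pair_inv (hR : RM R f) (hs : Ez R f s) {g g' d : A} (hg : g ∈ R) (hg' : g' ∈ R)
    (hd : d ∈ R) (hsg : s g = -g) (h2 : g' + g' = g + g) (hne : g' ≠ g) (hne' : g' ≠ -g)
    (hgd : f g d = -1) : s g' = -g' := by
  by_contra hcon
  have hs' : s g' ∈ R := hs.maps hg'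
  have h22 : s g' + s g' = g + g := by
    rw [← map_add, h2, map_add, hsg, neg_two (hR.four hg)]
  have hne2 : s g' ≠ g := by
    intro h
    apply hne'
    rw [← hs.invol g', h, hsg]
  have hne2' : s g' ≠ -g := by
    intro h
    apply hne
    rw [← hs.invol g', h, map_neg, hsg, neg_neg]
  have hgg' : f g g' = 0 := pair_ortho hR hg hg' h2 hne hne'
  have hgs : f g (s g') = 0 := pair_ortho hR hg hs' h22 hne2 hne2'
  have hg's : f g' (s g') = 0 := by
    rcases inv_or_ortho hR hs hg' with h | h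
    · exact absurd h hcon
    · exact h
  -- the contradiction when the two products are different
  have key : ∀ d : A, d ∈ R → f g d = -1 → f g' d = -f (s g') d → False := by
    intro d hd hgd hd'
    obtain ⟨-, -, hh, hsh, -, -⟩ := hroot hR hs hg hd hsg hgd
    have hodd := pair_odd hR hg hg' hd h2 (Or.inr hgd)
    have h3 : f g' (d + g - s d) = 2 := by
      rw [map_sub, map_add, swap hR hs.toIv hg' hd, hR.symm hd hs', hR.symm hg' hg, hgg']
      revert hodd hd'
      generalize f g' d = x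
      generalize f (s g') d = y
      revert x y
      decide
    rcases (two_iff hR hg' hh).1 h3 with h | h
    · rw [h] at hsh
      exact hcon hsh
    · rw [h, map_neg, neg_inj] at hsh
      exact hcon hsh
  have ho := pair_odd hR hg hs' hd h22 (Or.inr hgd)
  have ho' := pair_odd hR hg hg' hd h2 (Or.inr hgd)
  by_cases hd' : f g' d = -f (s g') d
  · exact key d hd hgd hd'
  have heq : f g' d = f (s g') d := by
    revert ho ho' hd'
    generalize f g' d = x
    generalize f (s g') d = y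
    revert x y
    decide
  rcases ho with ho | ho
  · refine key (d - s g') (sub_mem hR hs' hd ho) ?_ ?_
    · rw [map_sub, hgd, hgs, sub_zero]
    · rw [map_sub, map_sub, heq, ho, hg's, hR.self hs']; decide
  · refine key (s g' + d) (hR.add hs' hd ho) ?_ ?_
    · rw [map_add, hgd, hgs, zero_add]
    · rw [map_add, map_add, heq, ho, hg's, hR.self hs']; decide

/-- The action on the roots linked to `g`. -/
theorem pair_eq (hR : RM R f) (hs : Ez R f s) {g g' d : A} (hg : g ∈ R) (hg' : g' ∈ R)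
    (hd : d ∈ R) (hsg : s g = -g) (h2 : g' + g' = g + g) (hne : g' ≠ g) (hne' : g' ≠ -g)
    (hgd : f g d = -1) (hgd' : f g' d = 1) : s d = d + g - g' := by
  have hsg' := pair_inv hR hs hg hg' hd hsg h2 hne hne' hgd
  obtain ⟨-, -, hh, hsh, -, h1⟩ := hroot hR hs hg hd hsg hgd
  have h3 : f g' (d + g - s d) = 2 := by
    rw [map_sub, map_add, swap hR hs.toIv hg' hd, hsg', map_neg, hR.symm hd hg', hgd',
      hR.symm hg' hg, pair_ortho hR hg hg' h2 hne hne']
    decide
  rcases (two_iff hR hg' hh).1 h3 with h | h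
  · rw [← h]; abel
  · exfalso
    rw [h, map_neg, hR.symm hd hg', hgd'] at h1
    exact absurd h1 (by decide)

end Fixed

section Frame

variable {R : Set A} {f : A → A →+ ZMod 4} {s : A →+ A}

/-- An inverted root `g`, a second root `g'` over the same involution, a root `d` linked to both. -/
structure PF (R : Set A) (f : A → A →+ ZMod 4) (s : A →+ A) (g g' d : A) : Prop where
  hg : g ∈ R
  hg' : g' ∈ R
  hd : d ∈ R
  sg : s g = -g
  two : g' + g' = g + g
  ne : g' ≠ g
  ne' : g' ≠ -g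
  gd : f g d = -1
  gd' : f g' d = 1

/-- Choice of signs. -/
theorem exists_pf (hR : RM R f) {g g' d : A} (hg : g ∈ R) (hg' : g' ∈ R)
    (hd : d ∈ R) (hsg : s g = -g) (h2 : g' + g' = g + g) (hne : g' ≠ g) (hne' : g' ≠ -g)
    (hgd : f g d = -1) : PF R f s g g' d ∨ PF R f s g (-g') d := by
  rcases pair_odd hR hg hg' hd h2 (Or.inr hgd) with h | h
  · exact Or.inl ⟨hg, hg', hd, hsg, h2, hne, hne', hgd, h⟩
  · refine Or.inr ⟨hg, hR.neg hg', hd, hsg, ?_, ?_, ?_, hgd, ?_⟩
    · rw [neg_two (hR.four hg'), h2]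
    · intro h3; exact hne' (by rw [← h3, neg_neg])
    · intro h3; exact hne (neg_injective h3)
    · rw [hR.fneg hg', h]; decide

variable {g g' d : A}

theorem PF.sd (h : PF R f s g g' d) (hR : RM R f) (hs : Ez R f s) : s d = d + g - g' :=
  pair_eq hR hs h.hg h.hg' h.hd h.sg h.two h.ne h.ne' h.gd h.gd'

theorem PF.sg' (h : PF R f s g g' d) (hR : RM R f) (hs : Ez R f s) : s g' = -g' :=
  pair_inv hR hs h.hg h.hg' h.hd h.sg h.two h.ne h.ne' h.gd

theorem PF.ortho (h : PF R f s g g' d) (hR : RM R f) : f g g' = 0 :=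
  pair_ortho hR h.hg h.hg' h.two h.ne h.ne'

/-- no third root over the involution (`r = 2`) -/
theorem PF.third (h : PF R f s g g' d) (hR : RM R f) (hs : Ez R f s) {x : A} (hx : x ∈ R)
    (h2 : x + x = g + g) : x = g ∨ x = -g ∨ x = g' ∨ x = -g' := by
  by_cases h3 : x = g
  · exact Or.inl h3
  by_cases h4 : x = -g
  · exact Or.inr (Or.inl h4)
  have h0 := h.sd hR hs
  rcases exists_pf hR h.hg hx h.hd h.sg h2 h3 h4 h.gd with h5 | h5
  · have h6 := h5.sd hR hs
    rw [h0, sub_right_inj] at h6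
    exact Or.inr (Or.inr (Or.inl h6.symm))
  · have h6 := h5.sd hR hs
    rw [h0, sub_right_inj] at h6
    exact Or.inr (Or.inr (Or.inr (by rw [h6, neg_neg])))

/-- replace `d` -/
theorem PF.of_d (h : PF R f s g g' d) {e : A} (he : e ∈ R) (h1 : f g e = -1) (h2 : f g' e = 1) :
    PF R f s g g' e :=
  ⟨h.hg, h.hg', he, h.sg, h.two, h.ne, h.ne', h1, h2⟩

/-- no root orthogonal to `g` is linked to `d` -/
theorem PF.no_ortho (h : PF R f s g g' d) (hR : RM R f) (hs : Ez R f s) {e : A} (he : e ∈ R)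
    (h1 : f g e = 0) (h2 : e ≠ g') (h2' : e ≠ -g') : f d e = 0 := by
  have h3 : f g' e = 0 := pair_even hR h.hg h.hg' he h.two h1 h2 h2'
  have key : ∀ e : A, e ∈ R → f g e = 0 → f g' e = 0 → f d e ≠ -1 := by
    intro e he h1 h3 h4
    have h5 : d + e ∈ R := hR.add h.hd he h4
    have h6 : PF R f s g g' (d + e) :=
      h.of_d h5 (by rw [map_add, h1, h.gd, add_zero]) (by rw [map_add, h3, h.gd', add_zero])
    have h7 := h6.sd hR hs
    rw [map_add, h.sd hR hs] at h7
    refine hs.nofix he ?_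
    have h8 : s e = (d + g - g' + s e) - (d + g - g') := by abel
    rw [h8, h7]; abel
  rcases cases hR h.hd he with h4 | h4 | h4 | h4 | h4
  · rw [h4, h.gd] at h1; exact absurd h1 (by decide)
  · rw [h4, map_neg, h.gd] at h1; exact absurd h1 (by decide)
  · exact h4
  · exact absurd (by rw [map_neg, h4]) (key (-e) (hR.neg he) (by rw [map_neg, h1, neg_zero])
      (by rw [map_neg, h3, neg_zero]))
  · exact absurd h4 (key e he h1 h3)

/-- two roots with the products of `d`: `d` and `- s d` -/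
theorem PF.same (h : PF R f s g g' d) (hR : RM R f) (hs : Ez R f s) {e : A} (he : e ∈ R)
    (h1 : f g e = -1) (h2 : f g' e = 1) : e = d ∨ e = -s d := by
  have hsd := h.sd hR hs
  rcases cases hR h.hd he with h3 | h3 | h3 | h3 | h3
  · exact Or.inl h3
  · exfalso
    rw [h3, map_neg, h.gd] at h1; exact absurd h1 (by decide)
  · right
    have hg1 : f e g = -1 := by rw [hR.symm he h.hg, h1]
    have hg2 : f e g' = 1 := by rw [hR.symm he h.hg', h2]
    have hg3 : f e d = 0 := by rw [hR.symm he h.hd, h3]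
    have h4 : f e (s d) = 2 := by
      rw [hsd, map_sub, map_add, hg1, hg2, hg3]; decide
    rcases (two_iff hR he (hs.maps h.hd)).1 h4 with h5 | h5
    · exfalso
      have h6 : f g (s d) = 1 := by
        rw [hsd, map_sub, map_add, h.gd, hR.self h.hg, h.ortho hR]; decide
      rw [h5, h1] at h6
      exact absurd h6 (by decide)
    · rw [h5, neg_neg]
  · exfalso
    have h4 := sub_mem hR h.hd he h3
    have h5 : f d (e - d) = 0 := h.no_ortho hR hs h4 (by rw [map_sub, h1, h.gd, sub_self]) (by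
        intro h6
        have : f g' (e - d) = 2 := by rw [h6, hR.self h.hg']
        rw [map_sub, h2, h.gd'] at this
        exact absurd this (by decide)) (by
        intro h6
        have : f g' (e - d) = -2 := by rw [h6, map_neg, hR.self h.hg']
        rw [map_sub, h2, h.gd'] at this
        exact absurd this (by decide))
    rw [map_sub, h3, hR.self h.hd] at h5
    exact absurd h5 (by decide)
  · exfalso
    have h4 := hR.add h.hd he h3
    have h5 : f g (d + e) = 2 := by rw [map_add, h.gd, h1]; decide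
    have h6 : f g' (d + e) = 2 := by rw [map_add, h.gd', h2]; decide
    have h7 := h.ne
    have h8 := h.ne'
    rcases (two_iff hR h.hg h4).1 h5 with h9 | h9 <;>
      rcases (two_iff hR h.hg' h4).1 h6 with h10 | h10
    · exact h7 (h10.symm.trans h9)
    · exact h8 (by rw [← h9, h10, neg_neg])
    · exact h8 (h10.symm.trans h9)
    · exact h7 (neg_injective (h10.symm.trans h9))

/-- The roots linked to `g`. -/
theorem PF.linked (h : PF R f s g g' d) (hR : RM R f) (hs : Ez R f s) {e : A} (he : e ∈ R)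
    (h1 : f g e = -1) : e = d ∨ e = -s d ∨ e = d - g' ∨ e = -(d + g) := by
  have hsd := h.sd hR hs
  rcases pair_odd hR h.hg h.hg' he h.two (Or.inr h1) with h2 | h2
  · rcases h.same hR hs he h1 h2 with h3 | h3
    · exact Or.inl h3
    · exact Or.inr (Or.inl h3)
  · have h4 := hR.add h.hg' he h2
    have h5 : f g (g' + e) = -1 := by rw [map_add, h.ortho hR, h1, zero_add]
    have h6 : f g' (g' + e) = 1 := by rw [map_add, hR.self h.hg', h2]; decide
    rcases h.same hR hs h4 h5 h6 with h3 | h3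
    · right; right; left
      rw [← h3]; abel
    · right; right; right
      rw [hsd] at h3
      have : e = (g' + e) - g' := by abel
      rw [this, h3]; abel

/-- The component of `g` consists of 12 roots. -/
theorem PF.comp (h : PF R f s g g' d) (hR : RM R f) (hs : Ez R f s) {x : A}
    (hx : Conn R f g x) :
    x = g ∨ x = -g ∨ x = g' ∨ x = -g' ∨
      (∃ e, (e = d ∨ e = -s d ∨ e = d - g' ∨ e = -(d + g)) ∧ (x = e ∨ x = -e)) := by
  have key : ∀ e, e ∈ R → (f g e = 1 ∨ f g e = -1) →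
      (∃ e', (e' = d ∨ e' = -s d ∨ e' = d - g' ∨ e' = -(d + g)) ∧ (e = e' ∨ e = -e')) := by
    intro e he h1
    rcases h1 with h1 | h1
    · refine ⟨-e, h.linked hR hs (hR.neg he) (by rw [map_neg, h1]), Or.inr (neg_neg e).symm⟩
    · exact ⟨e, h.linked hR hs he h1, Or.inl rfl⟩
  have key2 : x = g ∨ x = -g ∨ x = g' ∨ x = -g' ∨ f g x = 1 ∨ f g x = -1 := by
    induction hx with
    | refl => exact Or.inl rfl
    | @tail x y hx hxy ih =>
      obtain ⟨hxR, hyR, hne⟩ := hxy
      by_cases hy1 : y = g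
      · exact Or.inl hy1
      by_cases hy2 : y = -g
      · exact Or.inr (Or.inl hy2)
      by_cases hy3 : y = g'
      · exact Or.inr (Or.inr (Or.inl hy3))
      by_cases hy4 : y = -g'
      · exact Or.inr (Or.inr (Or.inr (Or.inl hy4)))
      right; right; right; right
      rcases hR.small h.hg hyR hy1 hy2 with h1 | h1
      · exfalso
        have h1' := pair_even hR h.hg h.hg' hyR h.two h1 hy3 hy4
        have key3 : ∀ x, x ∈ R → f g x = -1 → f x y = 0 := by
          intro x hx hgx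
          rcases exists_pf hR h.hg h.hg' hx h.sg h.two h.ne h.ne' hgx with h2 | h2
          · exact h2.no_ortho hR hs hyR h1 hy3 hy4
          · exact h2.no_ortho hR hs hyR h1 hy4 (by rwa [neg_neg])
        rcases ih with ih | ih | ih | ih | ih | ih
        · rw [ih] at hne; exact hne h1
        · rw [ih, hR.fneg h.hg, h1, neg_zero] at hne; exact hne rfl
        · rw [ih] at hne; exact hne h1'
        · rw [ih, hR.fneg h.hg', h1', neg_zero] at hne; exact hne rfl
        · have h2 := key3 (-x) (hR.neg hxR) (by rw [map_neg, ih])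
          rw [hR.fneg hxR, neg_eq_zero] at h2
          exact hne h2
        · exact hne (key3 x hxR ih)
      · exact h1
  have hxR := hx.mem h.hg
  rcases key2 with h1 | h1 | h1 | h1 | h1
  · exact Or.inl h1
  · exact Or.inr (Or.inl h1)
  · exact Or.inr (Or.inr (Or.inl h1))
  · exact Or.inr (Or.inr (Or.inr (Or.inl h1)))
  · exact Or.inr (Or.inr (Or.inr (Or.inr (key x hxR h1))))

end Frame

section Count

variable {R : Set A} {f : A → A →+ ZMod 4} {s : A →+ A}

/-- `C_U(s)`: the elements of order at most 2 fixed by `s`. -/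
def CU (s : A →+ A) : AddSubgroup A where
  carrier := {u | u + u = 0 ∧ s u = u}
  zero_mem' := by simp only [_root_.Set.mem_ofPred_eq, _root_.add_zero, _root_.map_zero, _root_.and_self]
  add_mem' := by
    rintro a b ⟨ha, ha'⟩ ⟨hb, hb'⟩
    refine ⟨?_, by rw [map_add, ha', hb']⟩
    have : a + b + (a + b) = (a + a) + (b + b) := by abel
    rw [this, ha, hb, add_zero]
  neg_mem' := by
    rintro a ⟨ha, ha'⟩
    refine ⟨?_, by rw [map_neg, ha']⟩
    rw [← neg_add, ha, neg_zero]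

theorem mem_CU {s : A →+ A} {u : A} : u ∈ CU s ↔ u + u = 0 ∧ s u = u := Iff.rfl

theorem add_s_mem_CU (hs : Iv R f s) {u : A} (hu : u + u = 0) : u + s u ∈ CU s := by
  refine mem_CU.2 ⟨?_, by rw [map_add, hs.invol]; abel⟩
  have : u + s u + (u + s u) = (u + u) + s (u + u) := by rw [map_add]; abel
  rw [this, hu, map_zero, add_zero]

theorem card_ge {ι : Type*} [Fintype ι] [DecidableEq ι] [Finite A] (E : AddSubgroup A)
    (u : ι → A) (φ : ι → A →+ ZMod 4) (h : ∀ i j, φ i (u j) = if i = j then 2 else 0)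
    (hu : ∀ i, u i ∈ E) : 2 ^ Fintype.card ι ≤ Nat.card E := by
  classical
  let F : Finset ι → E := fun S => ⟨∑ i ∈ S, u i, AddSubgroup.sum_mem E (fun i _ => hu i)⟩
  have hval : ∀ (S : Finset ι) (i : ι), φ i (F S : A) = if i ∈ S then 2 else 0 := by
    intro S i
    simp only [F]
    rw [map_sum, Finset.sum_congr rfl (fun j _ => h i j)]
    simp
  have hinj : Function.Injective F := by
    intro S T hST
    ext i
    have h1 := hval S i
    rw [hST, hval T i] at h1
    by_cases hS : i ∈ S <;> by_cases hT : i ∈ T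
    · exact ⟨fun _ => hT, fun _ => hS⟩
    · rw [if_pos hS, if_neg hT] at h1; exact absurd h1 (by decide)
    · rw [if_neg hS, if_pos hT] at h1; exact absurd h1 (by decide)
    · exact ⟨fun h => absurd h hS, fun h => absurd h hT⟩
  have h1 := Nat.card_le_card_of_injective F hinj
  rwa [Nat.card_eq_fintype_card, Fintype.card_finset] at h1

theorem eq_of_card_two [Finite A] (E : AddSubgroup A) (hE : Nat.card E ≤ 2) {a b : A}
    (ha : a ∈ E) (hb : b ∈ E) (ha0 : a ≠ 0) (hb0 : b ≠ 0) : a = b := by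
  by_contra hab
  have h1 : ({0, a, b} : Set A) ⊆ (E : Set A) := by
    rintro x (rfl | rfl | rfl)
    · exact E.zero_mem
    · exact ha
    · exact hb
  have h2 := Set.ncard_le_ncard h1 (Set.toFinite _)
  have h3 : ({0, a, b} : Set A).ncard = 3 := by
    rw [Set.ncard_eq_three]
    exact ⟨0, a, b, ha0.symm, hb0.symm, hab, rfl⟩
  rw [h3] at h2
  have h4 : (E : Set A).ncard = Nat.card E := rfl
  omega

theorem four_of_card [Finite A] (E : AddSubgroup A) (hE : Nat.card E ≤ 4) {a b : A}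
    (ha : a ∈ E) (hb : b ∈ E) (φ ψ : A →+ ZMod 4) (h1 : φ a = 2) (h2 : φ b = 0) (h3 : ψ a = 0)
    (h4 : ψ b = 2) : ∀ u ∈ E, u = 0 ∨ u = a ∨ u = b ∨ u = a + b := by
  classical
  have hsub : ((({0, a, b, a + b} : Finset A)) : Set A) ⊆ (E : Set A) := by
    intro x hx
    simp only [Finset.coe_insert, Finset.coe_singleton, Set.mem_insert_iff,
      Set.mem_singleton_iff] at hx
    rcases hx with rfl | rfl | rfl | rfl
    · exact E.zero_mem
    · exact ha
    · exact hb
    · exact E.add_mem ha hb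
  have d1 : (0 : A) ≠ a := by rintro rfl; rw [map_zero] at h1; exact absurd h1 (by decide)
  have d2 : (0 : A) ≠ b := by rintro rfl; rw [map_zero] at h4; exact absurd h4 (by decide)
  have d3 : (0 : A) ≠ a + b := by
    intro h
    have h5 : φ (a + b) = 0 := by rw [← h, map_zero]
    rw [map_add, h1, h2] at h5; exact absurd h5 (by decide)
  have d4 : a ≠ b := by rintro rfl; rw [h1] at h2; exact absurd h2 (by decide)
  have d5 : a ≠ a + b := by
    intro h
    exact d2.symm (by simpa using h)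
  have d6 : b ≠ a + b := by
    intro h
    exact d1.symm (by simpa using h)
  have hcard : ({0, a, b, a + b} : Finset A).card = 4 := by
    rw [Finset.card_insert_of_notMem (by simp [d1, d2, d3]),
      Finset.card_insert_of_notMem (by simp only [Finset.mem_insert, Finset.mem_singleton, not_or]; exact ⟨d4, d5⟩),
      Finset.card_insert_of_notMem (by simpa only [Finset.mem_singleton] using d6),
      Finset.card_singleton]
  have h5 : ((({0, a, b, a + b} : Finset A)) : Set A) = (E : Set A) := by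
    refine Set.eq_of_subset_of_ncard_le hsub ?_ (Set.toFinite _)
    rw [Set.ncard_coe_finset, hcard]
    exact hE
  intro u hu
  have h6 : u ∈ ((({0, a, b, a + b} : Finset A)) : Set A) := by rw [h5]; exact hu
  simpa only [_root_.Finset.coe_insert, _root_.Finset.coe_singleton, _root_.Set.mem_insert_iff, _root_.Set.mem_singleton_iff] using h6

/-- the roots over `z` -/
def fib (R : Set A) (z : A) : Set A := {v | v ∈ R ∧ v + v = z}

/-- Roots over the same involution with the same product `1` with `d`. -/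
structure Ov (R : Set A) (f : A → A →+ ZMod 4) (z d : A) (v : A) : Prop where
  mem : v ∈ R
  two : v + v = z
  prod : f v d = 1

theorem Ov.ortho (hR : RM R f) {z d v w : A} (hv : Ov R f z d v)
    (hw : Ov R f z d w) (hne : w ≠ v) : f v w = 0 := by
  refine pair_ortho hR hv.mem hw.mem (by rw [hv.two, hw.two]) hne ?_
  intro h
  have h1 := hw.prod
  rw [h, hR.fneg hv.mem, hv.prod] at h1
  exact absurd h1 (by decide)

/-- subtracting members successively -/
theorem Ov.sub (hR : RM R f) {z d v x : A} (hv : Ov R f z d v) (hx : x ∈ R) (h : f v x = 1) :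
    x - v ∈ R := sub_mem hR hv.mem hx h

/-- three members give a fourth -/
theorem Ov.fourth (hR : RM R f) {z d a b c : A} (hd : d ∈ R) (ha : Ov R f z d a)
    (hb : Ov R f z d b) (hc : Ov R f z d c) (hab : b ≠ a) (hac : c ≠ a) (hbc : c ≠ b) :
    Ov R f z d (d + d - a - b - c) ∧ d + d - a - b - c ≠ a ∧ d + d - a - b - c ≠ b ∧
      d + d - a - b - c ≠ c := by
  have hab0 := ha.ortho hR hb hab
  have hac0 := ha.ortho hR hc hac
  have hbc0 := hb.ortho hR hc hbc
  have hba0 : f b a = 0 := by rw [hR.symm hb.mem ha.mem, hab0]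
  have hca0 : f c a = 0 := by rw [hR.symm hc.mem ha.mem, hac0]
  have hcb0 : f c b = 0 := by rw [hR.symm hc.mem hb.mem, hbc0]
  have hda : f d a = 1 := by rw [hR.symm hd ha.mem, ha.prod]
  have hdb : f d b = 1 := by rw [hR.symm hd hb.mem, hb.prod]
  have hdc : f d c = 1 := by rw [hR.symm hd hc.mem, hc.prod]
  have h1 : d - a ∈ R := ha.sub hR hd ha.prod
  have h2 : d - a - b ∈ R := hb.sub hR h1 (by rw [map_sub, hb.prod, hba0]; decide)
  have h3 : d - a - b - c ∈ R :=
    hc.sub hR h2 (by rw [map_sub, map_sub, hc.prod, hca0, hcb0]; decide)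
  have h4 : d + (d - a - b - c) ∈ R := by
    refine hR.add hd h3 ?_
    rw [map_sub, map_sub, map_sub, hR.self hd, hda, hdb, hdc]; decide
  have h5 : d + (d - a - b - c) = d + d - a - b - c := by abel
  rw [h5] at h4
  have fa : f a (d + d - a - b - c) = 0 := by
    rw [map_sub, map_sub, map_sub, map_add, ha.prod, hR.self ha.mem, hab0, hac0]; decide
  have fb : f b (d + d - a - b - c) = 0 := by
    rw [map_sub, map_sub, map_sub, map_add, hb.prod, hR.self hb.mem, hba0, hbc0]; decide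
  have fc : f c (d + d - a - b - c) = 0 := by
    rw [map_sub, map_sub, map_sub, map_add, hc.prod, hR.self hc.mem, hca0, hcb0]; decide
  refine ⟨⟨h4, ?_, ?_⟩, ?_, ?_, ?_⟩
  · have h6 : d + d - a - b - c + (d + d - a - b - c) =
        ((d + d) + (d + d)) - (a + a) - (b + b) - (c + c) := by abel
    rw [h6, hR.four hd, ha.two, hb.two, hc.two]
    have h7 : z + z = 0 := by rw [← ha.two, hR.four ha.mem]
    have h8 : (0 : A) - z - z - z = -(z + z) - (z + z) + z := by abel
    rw [h8, h7]; abel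
  · rw [hR.symm h4 hd, map_sub, map_sub, map_sub, map_add, hR.self hd, hda, hdb, hdc]; decide
  · intro h; rw [h, hR.self ha.mem] at fa; exact absurd fa (by decide)
  · intro h; rw [h, hR.self hb.mem] at fb; exact absurd fb (by decide)
  · intro h; rw [h, hR.self hc.mem] at fc; exact absurd fc (by decide)

/-- five members do not exist -/
theorem Ov.not_five (hR : RM R f) {z d a b c e x : A} (hd : d ∈ R) (ha : Ov R f z d a)
    (hb : Ov R f z d b) (hc : Ov R f z d c) (he : Ov R f z d e) (hx : Ov R f z d x)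
    (hab : b ≠ a) (hac : c ≠ a) (hbc : c ≠ b) (hae : e ≠ a) (hbe : e ≠ b) (hce : e ≠ c)
    (hax : x ≠ a) (hbx : x ≠ b) (hcx : x ≠ c) (hex : x ≠ e) : False := by
  have o : ∀ {v w : A}, Ov R f z d v → Ov R f z d w → w ≠ v → f v w = 0 ∧ f w v = 0 := by
    intro v w hv hw h
    have h1 := hv.ortho hR hw h
    exact ⟨h1, by rw [hR.symm hw.mem hv.mem, h1]⟩
  have hdv : ∀ {v : A}, Ov R f z d v → f d v = 1 := by
    intro v hv
    rw [hR.symm hd hv.mem, hv.prod]
  have h1 : d - a ∈ R := ha.sub hR hd ha.prod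
  have h2 : d - a - b ∈ R := hb.sub hR h1 (by rw [map_sub, hb.prod, (o ha hb hab).2]; decide)
  have h3 : d - a - b - c ∈ R :=
    hc.sub hR h2 (by rw [map_sub, map_sub, hc.prod, (o ha hc hac).2, (o hb hc hbc).2]; decide)
  have h4 : d - a - b - c - e ∈ R :=
    he.sub hR h3 (by rw [map_sub, map_sub, map_sub, he.prod, (o ha he hae).2, (o hb he hbe).2,
      (o hc he hce).2]; decide)
  have h5 : d - a - b - c - e - x ∈ R :=
    hx.sub hR h4 (by rw [map_sub, map_sub, map_sub, map_sub, hx.prod, (o ha hx hax).2,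
      (o hb hx hbx).2, (o hc hx hcx).2, (o he hx hex).2]; decide)
  have h6 : f d (d - a - b - c - e - x) = 1 := by
    rw [map_sub, map_sub, map_sub, map_sub, map_sub, hR.self hd, hdv ha, hdv hb, hdv hc, hdv he,
      hdv hx]; decide
  have h7 := sub_mem hR hd h5 h6
  have h8 : f a (d - a - b - c - e - x - d) = 2 := by
    rw [map_sub, map_sub, map_sub, map_sub, map_sub, map_sub, ha.prod, hR.self ha.mem,
      (o ha hb hab).1, (o ha hc hac).1, (o ha he hae).1, (o ha hx hax).1]; decide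
  have h9 : f b (d - a - b - c - e - x - d) = 2 := by
    rw [map_sub, map_sub, map_sub, map_sub, map_sub, map_sub, hb.prod, hR.self hb.mem,
      (o ha hb hab).2, (o hb hc hbc).1, (o hb he hbe).1, (o hb hx hbx).1]; decide
  have h10 := (o ha hb hab).1
  rcases (two_iff hR ha.mem h7).1 h8 with h11 | h11 <;>
    rcases (two_iff hR hb.mem h7).1 h9 with h12 | h12
  · exact hab (h12.symm.trans h11)
  · rw [h11] at h12
    rw [h12, hR.fneg hb.mem, hR.self hb.mem] at h10
    exact absurd h10 (by decide)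
  · rw [h11] at h12
    rw [← h12, map_neg, hR.self ha.mem] at h10
    exact absurd h10 (by decide)
  · exact hab (neg_injective (h12.symm.trans h11))

omit [AddCommGroup A] in
theorem ncard_le_length {E : Set A} (l : List A) (h : ∀ x ∈ E, x ∈ l) : E.ncard ≤ l.length := by
  classical
  have h1 : E ⊆ (l.toFinset : Set A) := by
    intro x hx
    simpa using h x hx
  have h2 := Set.ncard_le_ncard h1 (Finset.finite_toSet _)
  rw [Set.ncard_coe_finset] at h2
  exact h2.trans (List.toFinset_card_le l)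

/-- The number of roots over an involution: 2, 4 or 8. -/
theorem tri (hR : RM R f) {z g d : A} (hd : d ∈ R) (hg : Ov R f z d g) :
    ((fib R z).ncard ≤ 2 ∧ ∀ v, Ov R f z d v → v = g) ∨
    ((fib R z).ncard ≤ 4 ∧ ∃ g', Ov R f z d g' ∧ g' ≠ g) ∨
    ((fib R z).ncard ≤ 8 ∧ ∃ a b c, Ov R f z d a ∧ Ov R f z d b ∧ Ov R f z d c ∧ a ≠ g ∧ b ≠ g ∧
      c ≠ g ∧ b ≠ a ∧ c ≠ a ∧ c ≠ b) := by
  have hfib : ∀ v ∈ fib R z, Ov R f z d v ∨ Ov R f z d (-v) := by
    rintro v ⟨hv, hv2⟩
    have h2 : v + v = g + g := by rw [hv2, hg.two]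
    rcases pair_odd hR hg.mem hv hd h2 (Or.inl hg.prod) with h | h
    · exact Or.inl ⟨hv, hv2, h⟩
    · refine Or.inr ⟨hR.neg hv, by rw [neg_two (hR.four hv), hv2], ?_⟩
      rw [hR.fneg hv, h]; decide
  by_cases h1 : ∀ v, Ov R f z d v → v = g
  · left
    refine ⟨ncard_le_length [g, -g] ?_, h1⟩
    intro v hv
    rcases hfib v hv with h | h
    · simp [h1 v h]
    · have := h1 _ h
      simp [← this]
  right
  push Not at h1
  obtain ⟨a, ha, hag⟩ := h1
  by_cases h2 : ∀ v, Ov R f z d v → v = g ∨ v = a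
  · left
    refine ⟨ncard_le_length [g, -g, a, -a] ?_, a, ha, hag⟩
    intro v hv
    rcases hfib v hv with h | h
    · rcases h2 v h with h3 | h3 <;> simp [h3]
    · rcases h2 _ h with h3 | h3 <;> simp [← h3]
  right
  push Not at h2
  obtain ⟨b, hb, hbg, hba⟩ := h2
  obtain ⟨hc, hcg, hca, hcb⟩ := Ov.fourth hR hd hg ha hb hag hbg hba
  refine ⟨?_, a, b, _, ha, hb, hc, hag, hbg, hcg, hba, hca, hcb⟩
  generalize d + d - g - a - b = c at hc hcg hca hcb
  have h3 : ∀ v, Ov R f z d v → v = g ∨ v = a ∨ v = b ∨ v = c := by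
    intro v hv
    by_contra hcon
    push Not at hcon
    exact Ov.not_five hR hd hg ha hb hc hv hag hbg hba hcg hca hcb hcon.1 hcon.2.1 hcon.2.2.1
      hcon.2.2.2
  refine ncard_le_length [g, -g, a, -a, b, -b, c, -c] ?_
  intro v hv
  rcases hfib v hv with h | h
  · rcases h3 v h with h4 | h4 | h4 | h4 <;> simp [h4]
  · rcases h3 _ h with h4 | h4 | h4 | h4 <;> simp [← h4]

/-- products with images in a component moved by `s` vanish -/
theorem img_ortho (hs : Iv R f s) {g v w : A} (hg : g ∈ R) (hmv : ¬ Conn R f g (s g))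
    (hR : RM R f) (hv : Conn R f g v) (hw : Conn R f g w) : f v (s w) = 0 := by
  refine ortho_of_not_conn (hv.mem hg) (hs.maps (hw.mem hg)) ?_
  intro h
  exact hmv (hv.trans (h.trans ((hw.map hs).symm hR)))

theorem moved_two [Finite A] (hR : RM R f) (hs : Iv R f s) {g d : A} (hg : g ∈ R) (hd : d ∈ R)
    (hgd : f g d = 1) (hmv : ¬ Conn R f g (s g)) : 4 ≤ Nat.card (CU s) := by
  have hcd : Conn R f g d := Conn.step hg hd (by rw [hgd]; decide)
  have hdg : f d g = 1 := by rw [hR.symm hd hg, hgd]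
  have h := card_ge (CU s) (fun i : Fin 2 => if i = 0 then (g + g) + s (g + g) else
      (d + d) + s (d + d)) (fun i : Fin 2 => if i = 0 then f d else f g) (by
    have o := fun {v w : A} => img_ortho (v := v) (w := w) hs hg hmv hR
    intro i j
    (revert i j; simp only [map_add, o hcd (Conn.refl g), o hcd hcd, o (Conn.refl g) hcd, o (Conn.refl g) (Conn.refl g), hdg, hgd, hR.self hg, hR.self hd, _root_.Fin.forall_fin_succ, Fin.isValue, ↓reduceIte, _root_.Fin.succ_ne_zero, _root_.Fin.succ_zero_eq_one, _root_.IsEmpty.forall_iff, _root_.and_true, _root_.add_zero, _root_.zero_ne_one]) <;> (repeat' with_reducible apply And.intro) <;> decide) (by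
    intro i
    fin_cases i
    · exact add_s_mem_CU hs (hR.four hg)
    · exact add_s_mem_CU hs (hR.four hd))
  simpa only [_root_.ge_iff_le, _root_.Fintype.card_fin, _root_.Nat.reducePow] using h

theorem sub_two {z a b : A} (ha : a + a = z) (hb : b + b = z) :
    (a - b) + (a - b) = 0 := by
  have : (a - b) + (a - b) = (a + a) - (b + b) := by abel
  rw [this, ha, hb, sub_self]

theorem moved_four [Finite A] (hR : RM R f) (hs : Iv R f s) {z g a b c d : A} (hd : d ∈ R)
    (hg : Ov R f z d g) (ha : Ov R f z d a) (hb : Ov R f z d b) (hc : Ov R f z d c)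
    (hga : a ≠ g) (hgb : b ≠ g) (hgc : c ≠ g) (hab : b ≠ a) (hac : c ≠ a) (hbc : c ≠ b)
    (hmv : ¬ Conn R f g (s g)) : 16 ≤ Nat.card (CU s) := by
  have o : ∀ {v w : A}, Ov R f z d v → Ov R f z d w → w ≠ v → f v w = 0 ∧ f w v = 0 := by
    intro v w hv hw h
    have h1 := hv.ortho hR hw h
    exact ⟨h1, by rw [hR.symm hw.mem hv.mem, h1]⟩
  have hdv : ∀ {v : A}, Ov R f z d v → f d v = 1 := by
    intro v hv
    rw [hR.symm hd hv.mem, hv.prod]
  have cd : Conn R f g d := Conn.step hg.mem hd (by rw [hg.prod]; decide)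
  have cv : ∀ {v : A}, Ov R f z d v → Conn R f g v := by
    intro v hv
    exact cd.trans (Conn.step hd hv.mem (by rw [hdv hv]; decide))
  have m := fun {v w : A} => img_ortho (v := v) (w := w) hs hg.mem hmv hR
  let u : Fin 4 → A := ![g + g, a - g, b - g, c - g]
  let φ : Fin 4 → (A →+ ZMod 4) := ![f d, f a, f b, f c]
  have hu2 : ∀ i, u i + u i = 0 := by
    intro i
    fin_cases i
    · exact hR.four hg.mem
    · exact sub_two ha.two hg.two
    · exact sub_two hb.two hg.two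
    · exact sub_two hc.two hg.two
  have h := card_ge (CU s) (fun i => u i + s (u i)) φ (by
    intro i j
    (revert i j; simp only [u, φ, map_add, map_sub, m cd (Conn.refl g), m cd (cv ha), m cd (cv hb), m cd (cv hc), m (cv ha) (Conn.refl g), m (cv ha) (cv ha), m (cv ha) (cv hb), m (cv ha) (cv hc), m (cv hb) (Conn.refl g), m (cv hb) (cv ha), m (cv hb) (cv hb), m (cv hb) (cv hc), m (cv hc) (Conn.refl g), m (cv hc) (cv ha), m (cv hc) (cv hb), m (cv hc) (cv hc), hdv hg, hdv ha, hdv hb, hdv hc, hR.self ha.mem, hR.self hb.mem, hR.self hc.mem, (o hg ha hga).2, (o hg hb hgb).2, (o hg hc hgc).2, (o ha hb hab).1, (o ha hb hab).2, (o ha hc hac).1, (o ha hc hac).2, (o hb hc hbc).1, (o hb hc hbc).2, _root_.Fin.forall_fin_succ, Fin.isValue, _root_.Matrix.cons_val_zero, _root_.Matrix.cons_val_succ, _root_.Fin.succ_zero_eq_one, _root_.Fin.succ_one_eq_two, _root_.Matrix.cons_val_fin_one, Fin.reduceSucc, _root_.IsEmpty.forall_iff, _root_.add_zero, ↓reduceIte, _root_.sub_self,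 _root_.zero_ne_one, Fin.reduceEq, _root_.Fin.succ_ne_zero, _root_.sub_zero, _root_.right_eq_ite_iff, _root_.left_eq_ite_iff, _root_.not_true_eq_false, _root_.and_true, _root_.true_and]) <;> (repeat' with_reducible apply And.intro)
    all_goals decide) (by
    intro i
    exact add_s_mem_CU hs (hu2 i))
  simpa only [_root_.ge_iff_le, _root_.Fintype.card_fin, _root_.Nat.reducePow] using h

end Count

section Main

variable {R : Set A} {f : A → A →+ ZMod 4} {s : A →+ A}

/-- (T1): one component of type `A_3`, `A = Z_4 x Z_4` on the span, `s` fixes it. -/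
structure T1 (R : Set A) (f : A → A →+ ZMod 4) (s : A →+ A) (g d : A) : Prop where
  hg : g ∈ R
  hd : d ∈ R
  gd : f g d = -1
  sg : s g = -g
  sd : s d = g + g - d
  g2 : d + d - g ∈ R
  d2 : g + g - d ∈ R
  add : g + d ∈ R
  sub : d - g ∈ R
  all : ∀ v ∈ R, ∃ e, (e = g ∨ e = d ∨ e = g + d ∨ e = d - g ∨ e = g + g - d ∨ e = d + d - g) ∧
    (v = e ∨ v = -e)

/-- (T2): two components, interchanged by `s`, involutions `2 g, 2 d, 2 g + 2 d` in the first. -/
structure T2 (R : Set A) (f : A → A →+ ZMod 4) (s : A →+ A) (g d : A) : Prop where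
  hg : g ∈ R
  hd : d ∈ R
  gd : f g d = -1
  moved : ¬ Conn R f g (s g)
  g2 : d + d - g ∈ R
  all : ∀ v ∈ R, Conn R f g v ∨ Conn R f (s g) v
  two : ∀ v, Conn R f g v → v + v = g + g ∨ v + v = d + d ∨ v + v = (g + g) + (d + d)
  cu : ∀ u ∈ CU s, u = 0 ∨ u = (g + g) + s (g + g) ∨ u = (d + d) + s (d + d) ∨
    u = (g + g) + s (g + g) + ((d + d) + s (d + d))

theorem not_four_of_inv (hR : RM R f) (hs : Ez R f s) {g d a b : A} (hg : g ∈ R) (hd : d ∈ R)
    (hsg : s g = -g) (hgd : f g d = -1) (ha : Ov R f (g + g) (-d) a) (hb : Ov R f (g + g) (-d) b)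
    (hga : a ≠ g) (hgb : b ≠ g) (hab : b ≠ a) : False := by
  have hpg : f (-g) (-d) = -1 := by rw [map_neg, hR.fneg hg, hgd]; decide
  have hne' : a ≠ -g := by
    intro h
    have := ha.prod
    rw [h, hpg] at this
    exact absurd this (by decide)
  have hnb' : b ≠ -g := by
    intro h
    have := hb.prod
    rw [h, hpg] at this
    exact absurd this (by decide)
  have hba : b ≠ -a := by
    intro h
    have := hb.prod
    rw [h, hR.fneg ha.mem, ha.prod] at this
    exact absurd this (by decide)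
  rcases exists_pf hR hg ha.mem hd hsg ha.two hga hne' hgd with h | h
  · rcases h.third hR hs hb.mem hb.two with h1 | h1 | h1 | h1
    · exact hgb h1
    · exact hnb' h1
    · exact hab h1
    · exact hba h1
  · rcases h.third hR hs hb.mem hb.two with h1 | h1 | h1 | h1
    · exact hgb h1
    · exact hnb' h1
    · exact hba h1
    · exact hab (by rw [h1, neg_neg])

/-- no root outside the span of the four elements -/
theorem out_of_four (hR : RM R f) (hs : Ez R f s) (hlk : ∀ v ∈ R, ∃ w ∈ R, f v w = -1)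
    {v : A} (hv : v ∈ R) (P : A → Prop)
    (h1 : ∀ w, Conn R f v w → ∀ u ∈ CU s, P u → f w u = 0) : ∃ u ∈ CU s, ¬ P u := by
  by_contra hcon
  push Not at hcon
  by_cases hc : Conn R f v (s v)
  · obtain ⟨g, hvg, hg⟩ := exists_line hR hs.toIv hv hc
    have hgR := hvg.mem hv
    have hsg : s g = -g := by
      rcases hg with hg | hg
      · exact absurd hg (hs.nofix hgR)
      · exact hg
    obtain ⟨w, hw, hgw⟩ := hlk g hgR
    have hcw : Conn R f v w := hvg.trans (Conn.step hgR hw (by rw [hgw]; decide))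
    have hu : g + g ∈ CU s := by
      refine mem_CU.2 ⟨hR.four hgR, ?_⟩
      rw [map_add, hsg, neg_two (hR.four hgR)]
    have h2 := h1 w hcw _ hu (hcon _ hu)
    rw [map_add, hR.symm hw hgR, hgw] at h2
    exact absurd h2 (by decide)
  · obtain ⟨w, hw, hvw⟩ := hlk v hv
    have hcw : Conn R f v w := Conn.step hv hw (by rw [hvw]; decide)
    have hu : (v + v) + s (v + v) ∈ CU s := add_s_mem_CU hs.toIv (hR.four hv)
    have h2 := h1 w hcw _ hu (hcon _ hu)
    have h3 := img_ortho hs.toIv hv hc hR hcw (Conn.refl v)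
    rw [map_add, map_add, map_add, map_add, hR.symm hw hv, hvw, h3] at h2
    exact absurd h2 (by decide)

theorem case_one [Finite A] (hR : RM R f) (hs : Ez R f s) (hlk : ∀ v ∈ R, ∃ w ∈ R, f v w = -1)
    {g g' d : A} (h : PF R f s g g' d) (hC : Nat.card (CU s) ≤ 4) : T1 R f s g d := by
  have hsd := h.sd hR hs
  have hsg' := h.sg' hR hs
  have hdg : f d g = -1 := by rw [hR.symm h.hd h.hg, h.gd]
  have hdg' : f d g' = 1 := by rw [hR.symm h.hd h.hg', h.gd']
  have hug : g + g ∈ CU s :=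
    mem_CU.2 ⟨hR.four h.hg, by rw [map_add, h.sg, neg_two (hR.four h.hg)]⟩
  have hud : d + d ∈ CU s := by
    refine mem_CU.2 ⟨hR.four h.hd, ?_⟩
    rw [map_add, hsd]
    have : d + g - g' + (d + g - g') = d + d + (g + g) - (g' + g') := by abel
    rw [this, h.two]; abel
  have hu : g + g' ∈ CU s := by
    have h1 : g + g' + (g + g') = 0 := by
      have : g + g' + (g + g') = (g + g) + (g' + g') := by abel
      rw [this, h.two, hR.four h.hg]
    refine mem_CU.2 ⟨h1, ?_⟩
    rw [map_add, h.sg, hsg', ← neg_add]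
    exact neg_eq_of_add_eq_zero_left h1
  have h4 := four_of_card (CU s) hC hug hud (f d) (f g) (by rw [map_add, hdg]; decide)
    (by rw [map_add, hR.self h.hd]; decide) (by rw [map_add, hR.self h.hg]; decide)
    (by rw [map_add, h.gd]; decide)
  have hfg : f g (g + g') = 2 := by rw [map_add, hR.self h.hg, h.ortho hR]; decide
  have hfd : f d (g + g') = 0 := by rw [map_add, hdg, hdg']; decide
  have hrel : g + g' = d + d := by
    rcases h4 _ hu with h5 | h5 | h5 | h5
    · exfalso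
      rw [h5, map_zero] at hfg; exact absurd hfg (by decide)
    · exfalso
      rw [h5, map_add, hdg] at hfd; exact absurd hfd (by decide)
    · exact h5
    · exfalso
      rw [h5, map_add, map_add, map_add, hdg, hR.self h.hd] at hfd; exact absurd hfd (by decide)
  have hg' : g' = d + d - g := by rw [← hrel]; abel
  have hsd' : s d = g + g - d := by rw [hsd, hg']; abel
  have hadd : g + d ∈ R := hR.add h.hg h.hd h.gd
  refine ⟨h.hg, h.hd, h.gd, h.sg, hsd', hg' ▸ h.hg', hsd' ▸ hs.maps h.hd, hadd, ?_, ?_⟩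
  · have h5 := sub_mem hR h.hg' h.hd h.gd'
    have h6 := hR.neg h5
    have h7 : -(d - g') = d - g := by rw [hg']; abel
    rwa [h7] at h6
  · intro v hv
    have hcv : Conn R f g v := by
      by_contra hcon
      obtain ⟨u, hu, hnot⟩ := out_of_four hR hs hlk hv
        (fun u => u = 0 ∨ u = g + g ∨ u = d + d ∨ u = g + g + (d + d)) (by
          intro w hw u hu hP
          have hwR := hw.mem hv
          have hcd : Conn R f g d := Conn.step h.hg h.hd (by rw [h.gd]; decide)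
          have h5 : f w g = 0 := ortho_of_not_conn hwR h.hg (fun h6 =>
            hcon ((hw.trans h6).symm hR))
          have h6 : f w d = 0 := ortho_of_not_conn hwR h.hd (fun h6 =>
            hcon (hcd.trans ((hw.trans h6).symm hR)))
          rcases hP with hP | hP | hP | hP <;> rw [hP] <;> simp only [h5, h6, _root_.map_zero, _root_.map_add, _root_.add_zero])
      exact hnot (h4 u hu)
    rcases h.comp hR hs hcv with h5 | h5 | h5 | h5 | ⟨e, he, h5⟩
    · exact ⟨g, Or.inl rfl, Or.inl h5⟩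
    · exact ⟨g, Or.inl rfl, Or.inr h5⟩
    · exact ⟨d + d - g, by simp, Or.inl (by rw [h5, hg'])⟩
    · exact ⟨d + d - g, by simp, Or.inr (by rw [h5, hg'])⟩
    · rcases he with he | he | he | he
      · exact ⟨d, by simp, by rw [← he]; exact h5⟩
      · refine ⟨g + g - d, by simp, ?_⟩
        rw [he, hsd'] at h5
        rcases h5 with h5 | h5
        · exact Or.inr h5
        · exact Or.inl (by rw [h5]; abel)
      · refine ⟨d - g, by simp, ?_⟩
        rw [he, hg'] at h5
        rcases h5 with h5 | h5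
        · exact Or.inr (by rw [h5]; abel)
        · exact Or.inl (by rw [h5]; abel)
      · refine ⟨g + d, by simp only [_root_.add_eq_left, _root_.add_eq_right, _root_.true_or, _root_.or_true], ?_⟩
        rw [he] at h5
        rcases h5 with h5 | h5
        · exact Or.inr (by rw [h5]; abel)
        · exact Or.inl (by rw [h5]; abel)

theorem case_two [Finite A] (hR : RM R f) (hs : Ez R f s) (hlk : ∀ v ∈ R, ∃ w ∈ R, f v w = -1)
    {g g' d : A} (hg : g ∈ R) (hg' : g' ∈ R) (hd : d ∈ R) (h2 : g' + g' = g + g)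
    (hne : g' ≠ g) (hne' : g' ≠ -g) (hgd : f g d = -1) (hgd' : f g' d = 1)
    (hmv : ¬ Conn R f g (s g)) (hC : Nat.card (CU s) ≤ 4) : T2 R f s g d := by
  have hdg : f d g = -1 := by rw [hR.symm hd hg, hgd]
  have hdg' : f d g' = 1 := by rw [hR.symm hd hg', hgd']
  have hcd : Conn R f g d := Conn.step hg hd (by rw [hgd]; decide)
  have hcg' : Conn R f g g' := hcd.trans (Conn.step hd hg' (by rw [hdg']; decide))
  have o := fun {v w : A} => img_ortho (v := v) (w := w) hs.toIv hg hmv hR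
  have h4 := four_of_card (CU s) hC (add_s_mem_CU hs.toIv (hR.four hg))
    (add_s_mem_CU hs.toIv (hR.four hd)) (f d) (f g)
    (by rw [map_add, map_add, map_add, map_add, hdg, o hcd (Conn.refl g)]; decide)
    (by rw [map_add, map_add, map_add, map_add, hR.self hd, o hcd hcd]; decide)
    (by rw [map_add, map_add, map_add, map_add, hR.self hg, o (Conn.refl g) (Conn.refl g)]; decide)
    (by rw [map_add, map_add, map_add, map_add, hgd, o (Conn.refl g) hcd]; decide)
  have fgg : f g ((g + g) + s (g + g)) = 0 := by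
    rw [map_add, map_add, map_add, map_add, hR.self hg, o (Conn.refl g) (Conn.refl g)]; decide
  have fdg : f d ((g + g) + s (g + g)) = 2 := by
    rw [map_add, map_add, map_add, map_add, hdg, o hcd (Conn.refl g)]; decide
  have fgd : f g ((d + d) + s (d + d)) = 2 := by
    rw [map_add, map_add, map_add, map_add, hgd, o (Conn.refl g) hcd]; decide
  have fdd : f d ((d + d) + s (d + d)) = 0 := by
    rw [map_add, map_add, map_add, map_add, hR.self hd, o hcd hcd]; decide
  -- an element of `CU` is determined by its products with `g`, `d`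
  have hz : ∀ x ∈ CU s, f g x = 0 → f d x = 0 → x = 0 := by
    intro x hx h5 h6
    rcases h4 x hx with h | h | h | h
    · exact h
    · rw [h, fdg] at h6; exact absurd h6 (by decide)
    · rw [h, fgd] at h5; exact absurd h5 (by decide)
    · rw [h, map_add (f g), fgg, fgd] at h5; exact absurd h5 (by decide)
  -- an element `u` of order 2 in the span of the component with `u + s u` known
  have hzz : ∀ u y : A, u + u = 0 → y + y = 0 → f g (s u) = 0 → f d (s u) = 0 →
      f g (s y) = 0 → f d (s y) = 0 → u + s u = y + s y → u = y := by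
    intro u y hu hy h5 h6 h7 h8 h9
    have hx2 : (u - y) + (u - y) = 0 := by
      have : (u - y) + (u - y) = (u + u) - (y + y) := by abel
      rw [this, hu, hy, sub_zero]
    have hxs : s (u - y) = u - y := by
      rw [map_sub]
      have h10 : s u - s y = y - u := by
        rw [sub_eq_sub_iff_add_eq_add, add_comm (s u), h9]
      rw [h10]
      have h11 : y - u = -(u - y) := by abel
      rw [h11]
      exact neg_eq_of_add_eq_zero_left hx2
    have h12 : u - y ∈ CU s := mem_CU.2 ⟨hx2, hxs⟩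
    have h13 : ∀ w, f w (s u) = 0 → f w (s y) = 0 → f w (u - y) = 0 := by
      intro w hw1 hw2
      rw [← hxs, map_sub, map_sub, hw1, hw2, sub_zero]
    exact sub_eq_zero.1 (hz _ h12 (h13 g h5 h7) (h13 d h6 h8))
  have og : ∀ v, Conn R f g v → f g (s v) = 0 := fun v hv => o (Conn.refl g) hv
  have od : ∀ v, Conn R f g v → f d (s v) = 0 := fun v hv => o hcd hv
  have hrel : g + g' = d + d := by
    have hu2 : g + g' + (g + g') = 0 := by
      have : g + g' + (g + g') = (g + g) + (g' + g') := by abel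
      rw [this, h2, hR.four hg]
    have e1 : f g (s (g + g')) = 0 := by rw [map_add, map_add, og _ (Conn.refl g), og _ hcg', add_zero]
    have e2 : f d (s (g + g')) = 0 := by rw [map_add, map_add, od _ (Conn.refl g), od _ hcg', add_zero]
    have e3 : f g (s (d + d)) = 0 := by rw [map_add, map_add, og _ hcd, add_zero]
    have e4 : f d (s (d + d)) = 0 := by rw [map_add, map_add, od _ hcd, add_zero]
    refine hzz _ _ hu2 (hR.four hd) e1 e2 e3 e4 ?_
    have e5 : f g (g + g' + s (g + g')) = 2 := by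
      rw [map_add, e1, map_add, hR.self hg, pair_ortho hR hg hg' h2 hne hne']; decide
    have e6 : f d (g + g' + s (g + g')) = 0 := by
      rw [map_add, e2, map_add, hdg, hdg']; decide
    rcases h4 _ (add_s_mem_CU hs.toIv hu2) with h | h | h | h
    · rw [h, map_zero] at e5; exact absurd e5 (by decide)
    · rw [h, fgg] at e5; exact absurd e5 (by decide)
    · exact h
    · rw [h, map_add (f d), fdg, fdd] at e6; exact absurd e6 (by decide)
  have hg'' : g' = d + d - g := by rw [← hrel]; abel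
  refine ⟨hg, hd, hgd, hmv, hg'' ▸ hg', ?_, ?_, h4⟩
  · intro v hv
    by_contra hcon
    push Not at hcon
    obtain ⟨u, hu, hnot⟩ := out_of_four hR hs hlk hv
      (fun u => u = 0 ∨ u = (g + g) + s (g + g) ∨ u = (d + d) + s (d + d) ∨
        u = (g + g) + s (g + g) + ((d + d) + s (d + d))) (by
        intro w hw u hu hP
        have hwR := hw.mem hv
        have k : ∀ x, x ∈ R → (Conn R f g x ∨ Conn R f (s g) x) → f w x = 0 := by
          intro x hx hcx
          refine ortho_of_not_conn hwR hx (fun h6 => ?_)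
          rcases hcx with hcx | hcx
          · exact hcon.1 (hcx.trans ((hw.trans h6).symm hR))
          · exact hcon.2 (hcx.trans ((hw.trans h6).symm hR))
        have k1 := k g hg (Or.inl (Conn.refl g))
        have k2 := k d hd (Or.inl hcd)
        have k3 := k (s g) (hs.maps hg) (Or.inr (Conn.refl _))
        have k4 := k (s d) (hs.maps hd) (Or.inr (hcd.map hs.toIv))
        rcases hP with hP | hP | hP | hP <;> rw [hP] <;> simp only [k1, k2, k3, k4, _root_.map_zero, _root_.map_add, _root_.add_zero])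
    exact hnot (h4 u hu)
  · intro v hv
    have hvR := hv.mem hg
    have hlin : ∀ x y, Conn R f g x → f x (s (y + y)) = f x (s y) + f x (s y) := by
      intro x y _
      rw [map_add, map_add]
    have e1 : ∀ y, Conn R f g y → f g (s (y + y)) = 0 := by
      intro y hy
      rw [map_add, map_add, og y hy, add_zero]
    have e2 : ∀ y, Conn R f g y → f d (s (y + y)) = 0 := by
      intro y hy
      rw [map_add, map_add, od y hy, add_zero]
    have hvv := hR.four hvR
    rcases h4 _ (add_s_mem_CU hs.toIv hvv) with h | h | h | h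
    · exfalso
      refine hR.two hvR (hzz (v + v) 0 hvv (add_zero 0) (e1 v hv) (e2 v hv) ?_ ?_ ?_)
      · rw [map_zero, map_zero]
      · rw [map_zero, map_zero]
      · rw [h, map_zero, add_zero]
    · left
      exact hzz _ _ hvv (hR.four hg) (e1 v hv) (e2 v hv) (e1 g (Conn.refl g)) (e2 g (Conn.refl g)) h
    · right; left
      exact hzz _ _ hvv (hR.four hd) (e1 v hv) (e2 v hv) (e1 d hcd) (e2 d hcd) h
    · right; right
      refine hzz _ _ hvv ?_ (e1 v hv) (e2 v hv) ?_ ?_ ?_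
      · have : g + g + (d + d) + (g + g + (d + d)) = ((g + g) + (g + g)) + ((d + d) + (d + d)) := by
          abel
        rw [this, hR.four hg, hR.four hd, add_zero]
      · rw [map_add s, map_add (f g), e1 g (Conn.refl g), e1 d hcd, add_zero]
      · rw [map_add s, map_add (f d), e2 g (Conn.refl g), e2 d hcd, add_zero]
      · rw [h, map_add s (g + g)]; abel

/-- Section 3 of the text without groups: (3b), (3c), (3d). -/
theorem main [Finite A] (hR : RM R f) (hs : Ez R f s) (hne : R.Nonempty)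
    (hlk : ∀ v ∈ R, ∃ w ∈ R, f v w = -1)
    (hC : ∀ g ∈ R, Nat.card (CU s) ≤ (fib R (g + g)).ncard) :
    (∃ g d, T1 R f s g d) ∨ (∃ g d, T2 R f s g d) := by
  have hov : ∀ g d : A, g ∈ R → f g d = -1 → Ov R f (g + g) (-d) g :=
    fun g d hg h => ⟨hg, rfl, by rw [map_neg, h]; decide⟩
  have hsgn : ∀ g d a : A, g ∈ R → f g d = -1 → Ov R f (g + g) (-d) a → a ≠ g → a ≠ -g := by
    intro g d a hg hgd ha _ h
    have := ha.prod
    rw [h, map_neg, hR.fneg hg, hgd] at this
    exact absurd this (by decide)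
  by_cases hinv : ∃ g ∈ R, s g = -g
  · obtain ⟨g, hg, hsg⟩ := hinv
    obtain ⟨d, hd, hgd⟩ := hlk g hg
    rcases tri hR (hR.neg hd) (hov g d hg hgd) with ⟨h1, h2⟩ | ⟨h1, a, ha, hag⟩ |
      ⟨-, a, b, c, ha, hb, -, hag, hbg, -, hba, -⟩
    · exfalso
      obtain ⟨-, -, hh, hsh, hgh, -⟩ := hroot hR hs hg hd hsg hgd
      have hug : g + g ∈ CU s :=
        mem_CU.2 ⟨hR.four hg, by rw [map_add, hsg, neg_two (hR.four hg)]⟩
      have huh : (d + g - s d) + (d + g - s d) ∈ CU s :=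
        mem_CU.2 ⟨hR.four hh, by rw [map_add s (d + g - s d), hsh, neg_two (hR.four hh)]⟩
      have h3 := eq_of_card_two (CU s) ((hC g hg).trans h1) hug huh (hR.two hg) (hR.two hh)
      rcases pair_odd hR hg hh (hR.neg hd) h3.symm (Or.inl (hov g d hg hgd).prod) with h4 | h4
      · have h5 := h2 _ ⟨hh, h3.symm, h4⟩
        rw [h5, hR.self hg] at hgh
        exact absurd hgh (by decide)
      · have h5 := h2 (-(d + g - s d)) ⟨hR.neg hh, by rw [neg_two (hR.four hh), h3], by
          rw [hR.fneg hh, h4]; decide⟩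
        have h6 : d + g - s d = -g := neg_eq_iff_eq_neg.1 h5
        rw [h6, map_neg, hR.self hg] at hgh
        exact absurd hgh (by decide)
    · left
      have hC4 := (hC g hg).trans h1
      rcases exists_pf hR hg ha.mem hd hsg ha.two hag (hsgn g d a hg hgd ha hag) hgd with h | h
      · exact ⟨g, d, case_one hR hs hlk h hC4⟩
      · exact ⟨g, d, case_one hR hs hlk h hC4⟩
    · exact (not_four_of_inv hR hs hg hd hsg hgd ha hb hag hbg hba).elim
  · right
    push Not at hinv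
    obtain ⟨g, hg⟩ := hne
    have hmv : ¬ Conn R f g (s g) := by
      intro h
      obtain ⟨x, hx, h1 | h1⟩ := exists_line hR hs.toIv hg h
      · exact hs.nofix (hx.mem hg) h1
      · exact hinv x (hx.mem hg) h1
    obtain ⟨d, hd, hgd⟩ := hlk g hg
    rcases tri hR (hR.neg hd) (hov g d hg hgd) with ⟨h1, -⟩ | ⟨h1, a, ha, hag⟩ |
      ⟨h1, a, b, c, ha, hb, hc, hag, hbg, hcg, hba, hca, hcb⟩
    · exfalso
      have h2 := moved_two hR hs.toIv hg (hR.neg hd) (hov g d hg hgd).prod hmv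
      have h3 := hC g hg
      omega
    · have hC4 := (hC g hg).trans h1
      have hne' := hsgn g d a hg hgd ha hag
      have hadp : f a d = -1 := by
        have h5 := ha.prod
        rw [map_neg] at h5
        rw [← neg_neg (f a d), h5]
      exact ⟨g, d, case_two hR hs hlk hg (hR.neg ha.mem) hd
        (by rw [neg_two (hR.four ha.mem), ha.two])
        (fun h => hne' (by rw [← h, neg_neg])) (fun h => hag (neg_injective h)) hgd
        (by rw [hR.fneg ha.mem, hadp]; decide) hmv hC4⟩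
    · exfalso
      have h2 := moved_four hR hs.toIv (hR.neg hd) (hov g d hg hgd) ha hb hc hag hbg hcg hba hca
        hcb hmv
      have h3 := hC g hg
      omega

end Main

section Comps

variable {R : Set A} {f : A → A →+ ZMod 4} {s : A →+ A}

/-- the elements of order at most 2 -/
def UU (A : Type*) [AddCommGroup A] : AddSubgroup A where
  carrier := {u | u + u = 0}
  zero_mem' := by simp only [_root_.Set.mem_ofPred_eq, _root_.add_zero]
  add_mem' := by
    intro a b ha hb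
    have h1 : a + a = 0 := ha
    have h2 : b + b = 0 := hb
    have : a + b + (a + b) = (a + a) + (b + b) := by abel
    change a + b + (a + b) = 0
    rw [this, h1, h2, add_zero]
  neg_mem' := by
    intro a ha
    have h1 : a + a = 0 := ha
    change -a + -a = 0
    rw [← neg_add, h1, neg_zero]

theorem mem_UU {u : A} : u ∈ UU A ↔ u + u = 0 := Iff.rfl

/-- `|U| ≤ |C_U(s)|^2` for an involution `s`. -/
theorem card_UU_le [Finite A] (s : A →+ A) (hs : ∀ a, s (s a) = a) :
    Nat.card (UU A) ≤ Nat.card (CU s) ^ 2 := by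
  let τ : UU A →+ CU s :=
    { toFun := fun u => ⟨(u : A) + s u, by
        have hu := mem_UU.1 u.2
        refine mem_CU.2 ⟨?_, by rw [map_add, hs]; abel⟩
        have : (u : A) + s u + (u + s u) = (u + u) + s (u + u) := by rw [map_add]; abel
        rw [this, hu, map_zero, add_zero]⟩
      map_zero' := by ext; simp only [_root_.ZeroMemClass.coe_zero, _root_.map_zero, _root_.add_zero]
      map_add' := by
        intro a b
        ext
        simp only [AddSubgroup.coe_add, map_add]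
        abel }
  have h1 : Nat.card (UU A) = Nat.card (UU A ⧸ τ.ker) * Nat.card τ.ker :=
    AddSubgroup.card_eq_card_quotient_mul_card_addSubgroup τ.ker
  have h2 : Nat.card (UU A ⧸ τ.ker) ≤ Nat.card (CU s) := by
    rw [Nat.card_congr (QuotientAddGroup.quotientKerEquivRange τ).toEquiv]
    exact Nat.card_le_card_of_injective (fun x : τ.range => (x : CU s)) Subtype.val_injective
  have h3 : Nat.card τ.ker ≤ Nat.card (CU s) := by
    have hk : ∀ x : τ.ker, ((x : UU A) : A) ∈ CU s := by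
      intro x
      have hx : τ (x : UU A) = 0 := x.2
      have hx' : ((x : UU A) : A) + s ((x : UU A) : A) = 0 := congrArg Subtype.val hx
      have hu := mem_UU.1 (x : UU A).2
      refine mem_CU.2 ⟨hu, ?_⟩
      rw [← sub_eq_zero]
      have h4 : s ((x : UU A) : A) - ((x : UU A) : A) =
        ((x : UU A) : A) + s ((x : UU A) : A) - (((x : UU A) : A) + ((x : UU A) : A)) := by abel
      rw [h4, hx', hu, sub_zero]
    refine Nat.card_le_card_of_injective (fun x : τ.ker => (⟨((x : UU A) : A), hk x⟩ : CU s)) ?_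
    intro x y hxy
    have h5 : ((x : UU A) : A) = ((y : UU A) : A) := by
      have := congrArg (Subtype.val : CU s → A) hxy
      exact this
    exact Subtype.ext (Subtype.ext h5)
  rw [h1, pow_two]
  exact Nat.mul_le_mul h2 h3

end Comps

end Cfsg.Agent.Cit.Nil.CV.RootMod
end

-- part: Cit/Nil/CV3/Root
section
set_option linter.all false
open scoped Cfsg.Agent.FastGrp

/-!
# Root data mod 4 and involutive isometries (S1309, (CV), rank at least two)

`RD A` : an abelian group `A` with a symmetric bilinear form to `ZMod 4` and a set `R` of "roots" (generators of the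
members of `VV` in `A`).  `Iv D` : an isometry of order at most two.  Elementary text: helper995 on R18 (04:05Z),
replacing section 3 (a)-(e) of blueprints/CIT-6b-CV-rank3-helper599.md.
-/

set_option autoImplicit false

namespace Cfsg.Agent.Cit.Nil.CV3

/-- root data mod 4 -/
structure RD (A : Type*) [AddCommGroup A] where
  /-- the form -/
  B : A →+ A →+ ZMod 4
  /-- the roots -/
  R : Set A
  symm : ∀ a b, B a b = B b a
  neg : ∀ v ∈ R, -v ∈ R
  self : ∀ v ∈ R, B v v = 2
  eq_or : ∀ v ∈ R, ∀ w ∈ R, B v w = 2 → w = v ∨ w = -v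
  add : ∀ v ∈ R, ∀ w ∈ R, B v w = -1 → v + w ∈ R
  four : ∀ v ∈ R, v + v + (v + v) = 0

namespace RD

variable {A : Type*} [AddCommGroup A] (D : RD A)

/-- linked: the value of the form is odd -/
def Lk (v w : A) : Prop := D.B v w = 1 ∨ D.B v w = -1

/-- non-orthogonal roots -/
def Adj (v w : A) : Prop := v ∈ D.R ∧ w ∈ D.R ∧ D.B v w ≠ 0

/-- same component -/
def Conn (v w : A) : Prop := Relation.ReflTransGen D.Adj v w

variable {D}

theorem z4 (x : ZMod 4) : x = 0 ∨ x = 1 ∨ x = 2 ∨ x = -1 := by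
  revert x; decide

theorem Lk.symm {v w : A} (h : D.Lk v w) : D.Lk w v := by
  unfold Lk at h ⊢; rwa [D.symm w v]

theorem Lk.ne {v w : A} (h : D.Lk v w) : D.B v w ≠ 0 := by
  rcases h with h | h <;> rw [h] <;> decide

theorem Lk.two {v w : A} (h : D.Lk v w) : D.B v w + D.B v w = 2 := by
  rcases h with h | h <;> rw [h] <;> decide

theorem Lk.neg_left {v w : A} (h : D.Lk v w) : D.Lk (-v) w := by
  unfold Lk at h ⊢
  rw [map_neg, AddMonoidHom.neg_apply]
  rcases h with h | h <;> rw [h] <;> decide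

theorem Lk.neg_right {v w : A} (h : D.Lk v w) : D.Lk v (-w) := h.symm.neg_left.symm

theorem lk_of_two {v w : A} (h : D.B v w + D.B v w = 2) : D.Lk v w := by
  unfold Lk
  rcases z4 (D.B v w) with h1 | h1 | h1 | h1
  · rw [h1] at h; exact absurd h (by decide)
  · exact Or.inl h1
  · rw [h1] at h; exact absurd h (by decide)
  · exact Or.inr h1

theorem B_add_left (a b c : A) : D.B (a + b) c = D.B a c + D.B b c := by
  rw [map_add, AddMonoidHom.add_apply]

theorem B_neg_left (a c : A) : D.B (-a) c = -D.B a c := by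
  rw [map_neg, AddMonoidHom.neg_apply]

theorem B_sub_left (a b c : A) : D.B (a - b) c = D.B a c - D.B b c := by
  rw [map_sub, AddMonoidHom.sub_apply]

theorem sub_mem {v w : A} (hv : v ∈ D.R) (hw : w ∈ D.R) (h : D.B v w = 1) : v - w ∈ D.R := by
  rw [sub_eq_add_neg]
  refine D.add v hv _ (D.neg w hw) ?_
  rw [map_neg, h]

/-- two non-orthogonal roots are linked or equal up to sign -/
theorem cases_B {v w : A} (hv : v ∈ D.R) (hw : w ∈ D.R) :
    D.B v w = 0 ∨ D.Lk v w ∨ w = v ∨ w = -v := by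
  rcases z4 (D.B v w) with h1 | h1 | h1 | h1
  · exact Or.inl h1
  · exact Or.inr (Or.inl (Or.inl h1))
  · exact Or.inr (Or.inr (D.eq_or v hv w hw h1))
  · exact Or.inr (Or.inl (Or.inr h1))

/-- the sum or the difference of two linked roots -/
theorem exists_comb {v w : A} (hv : v ∈ D.R) (hw : w ∈ D.R) (h : D.Lk v w) :
    ∃ e : A, e ∈ D.R ∧ (e = v + w ∨ e = v - w) := by
  rcases h with h | h
  · exact ⟨v - w, sub_mem hv hw h, Or.inr rfl⟩
  · exact ⟨v + w, D.add v hv w hw h, Or.inl rfl⟩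

theorem conn_refl (v : A) : D.Conn v v := Relation.ReflTransGen.refl

theorem conn_of_adj {v w : A} (h : D.Adj v w) : D.Conn v w := Relation.ReflTransGen.single h

theorem Adj.symm {v w : A} (h : D.Adj v w) : D.Adj w v := ⟨h.2.1, h.1, by rw [D.symm]; exact h.2.2⟩

theorem Conn.trans {u v w : A} (h1 : D.Conn u v) (h2 : D.Conn v w) : D.Conn u w :=
  Relation.ReflTransGen.trans h1 h2

theorem Conn.symm {v w : A} (h : D.Conn v w) : D.Conn w v := by
  induction h with
  | refl => exact conn_refl _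
  | tail _ hb ih => exact (conn_of_adj hb.symm).trans ih

theorem Conn.mem {v w : A} (hv : v ∈ D.R) (h : D.Conn v w) : w ∈ D.R := by
  induction h with
  | refl => exact hv
  | tail _ hb _ => exact hb.2.1

theorem conn_of_lk {v w : A} (hv : v ∈ D.R) (hw : w ∈ D.R) (h : D.Lk v w) : D.Conn v w :=
  conn_of_adj ⟨hv, hw, h.ne⟩

theorem orth_of_not_conn {v w : A} (hv : v ∈ D.R) (hw : w ∈ D.R) (h : ¬ D.Conn v w) :
    D.B v w = 0 := by
  by_contra h0
  exact h (conn_of_adj ⟨hv, hw, h0⟩)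

/-- the combination lies in the component -/
theorem conn_comb {v w e : A} (hv : v ∈ D.R) (h : D.Lk v w) (he : e ∈ D.R)
    (hc : e = v + w ∨ e = v - w) : D.Conn v e := by
  refine conn_of_adj ⟨hv, he, ?_⟩
  rcases hc with rfl | rfl
  · rw [map_add, D.self v hv]
    rcases h with h | h <;> rw [h] <;> decide
  · rw [map_sub, D.self v hv]
    rcases h with h | h <;> rw [h] <;> decide

/-- the diameter of a component is at most two -/
theorem common {v w : A} (hv : v ∈ D.R) (h : D.Conn v w) :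
    D.B v w ≠ 0 ∨ ∃ q ∈ D.R, D.Lk q v ∧ D.Lk q w := by
  induction h with
  | refl => left; rw [D.self v hv]; decide
  | @tail b c hab hbc ih =>
    by_cases hvc : D.B v c = 0
    swap
    · exact Or.inl hvc
    right
    have hb : b ∈ D.R := hbc.1
    have hc : c ∈ D.R := hbc.2.1
    -- `b` and `c` are linked or equal up to sign
    rcases cases_B hb hc with h0 | hlk | h1 | h1
    · exact absurd h0 hbc.2.2
    · rcases ih with ih | ⟨q, hq, hqv, hqb⟩
      · rcases cases_B hv hb with h0 | hvb | h1 | h1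
        · exact absurd h0 ih
        · exact ⟨b, hb, hvb.symm, hlk⟩
        · subst h1; exact absurd hvc hlk.ne
        · subst h1
          exfalso
          have := hlk.neg_left
          rw [neg_neg] at this
          exact this.ne hvc
      · by_cases hqc : D.B q c = 0
        · by_cases hvb : D.B v b = 0
          · obtain ⟨e, he, hee⟩ := exists_comb hq hb hqb
            refine ⟨e, he, ?_, ?_⟩
            · have : D.B e v = D.B q v := by
                rcases hee with rfl | rfl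
                · rw [B_add_left, D.symm b v, hvb, add_zero]
                · rw [B_sub_left, D.symm b v, hvb, sub_zero]
              unfold Lk; rw [this]; exact hqv
            · rcases hee with rfl | rfl
              · unfold Lk; rw [B_add_left, hqc, zero_add]; exact hlk
              · have : D.B (q - b) c = D.B (-b) c := by rw [B_sub_left, B_neg_left, hqc, zero_sub]
                unfold Lk; rw [this]; exact hlk.neg_left
          · rcases cases_B hv hb with h0 | hvb' | h1 | h1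
            · exact absurd h0 hvb
            · exact ⟨b, hb, hvb'.symm, hlk⟩
            · subst h1; exact absurd hvc hlk.ne
            · subst h1
              exfalso
              have := hlk.neg_left
              rw [neg_neg] at this
              exact this.ne hvc
        · rcases cases_B hq hc with h0 | hqc' | h1 | h1
          · exact absurd h0 hqc
          · exact ⟨q, hq, hqv, hqc'⟩
          · subst h1; exact absurd hvc hqv.symm.ne
          · subst h1
            exact absurd hvc hqv.symm.neg_right.ne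
    · subst h1
      rcases ih with ih | ih
      · exact absurd hvc ih
      · exact ih
    · subst h1
      rw [map_neg, neg_eq_zero] at hvc
      rcases ih with ih | ⟨q, hq, hqv, hqb⟩
      · exact absurd hvc ih
      · exact ⟨q, hq, hqv, hqb.neg_right⟩

/-! ### Twins -/

theorem double_B {v w : A} (h : v + v = w + w) (u : A) :
    D.B v u + D.B v u = D.B w u + D.B w u := by
  rw [← B_add_left, ← B_add_left, h]

/-- twins have the same neighbours -/
theorem twin_lk {v w u : A} (h : v + v = w + w) (hl : D.Lk v u) : D.Lk w u := by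
  apply lk_of_two
  rw [← double_B h, hl.two]

/-- different twins are orthogonal -/
theorem twin_orth {v w : A} (hv : v ∈ D.R) (hw : w ∈ D.R) (h : v + v = w + w) (h1 : w ≠ v)
    (h2 : w ≠ -v) : D.B v w = 0 := by
  rcases cases_B hv hw with h0 | hl | h0 | h0
  · exact h0
  · exfalso
    have := twin_lk h.symm (hl.symm)
    rcases this with h3 | h3 <;> rw [D.self v hv] at h3 <;> exact absurd h3 (by decide)
  · exact absurd h0 h1
  · exact absurd h0 h2

/-- four twins over `d`: `d + g₁ + g₂ + g₃ + g₄ = -d` -/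
theorem four_twins {d g₁ g₂ g₃ g₄ : A} (hd : d ∈ D.R) (h1 : g₁ ∈ D.R) (h2 : g₂ ∈ D.R) (h3 : g₃ ∈ D.R)
    (h4 : g₄ ∈ D.R) (d1 : D.B d g₁ = -1) (d2 : D.B d g₂ = -1) (d3 : D.B d g₃ = -1)
    (d4 : D.B d g₄ = -1) (o12 : D.B g₁ g₂ = 0) (o13 : D.B g₁ g₃ = 0) (o14 : D.B g₁ g₄ = 0)
    (o23 : D.B g₂ g₃ = 0) (o24 : D.B g₂ g₄ = 0) (o34 : D.B g₃ g₄ = 0) :
    d + g₁ + g₂ + g₃ + g₄ = -d := by
  have m1 : d + g₁ ∈ D.R := D.add _ hd _ h1 d1
  have m2 : d + g₁ + g₂ ∈ D.R := D.add _ m1 _ h2 (by rw [B_add_left, d2, o12, add_zero])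
  have m3 : d + g₁ + g₂ + g₃ ∈ D.R :=
    D.add _ m2 _ h3 (by rw [B_add_left, B_add_left, d3, o13, o23, add_zero, add_zero])
  have m4 : d + g₁ + g₂ + g₃ + g₄ ∈ D.R :=
    D.add _ m3 _ h4 (by rw [B_add_left, B_add_left, B_add_left, d4, o14, o24, o34]; decide)
  have hB : D.B d (d + g₁ + g₂ + g₃ + g₄) = 2 := by
    rw [map_add, map_add, map_add, map_add, D.self d hd, d1, d2, d3, d4]; decide
  rcases D.eq_or d hd _ m4 hB with h | h
  · exfalso
    have h5 : D.B g₁ (g₁ + g₂ + g₃ + g₄) = 0 := by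
      have : g₁ + g₂ + g₃ + g₄ = 0 := by
        have h6 : d + (g₁ + g₂ + g₃ + g₄) = d := by
          rw [← add_assoc, ← add_assoc, ← add_assoc]; exact h
        simpa using h6
      rw [this, map_zero]
    rw [map_add, map_add, map_add, D.self _ h1, o12, o13, o14] at h5
    exact absurd h5 (by decide)
  · exact h

/-- among twins over a neighbour `d`: at most four -/
theorem twin_four {d g₁ g₂ g₃ : A} (hd : d ∈ D.R) (h1 : g₁ ∈ D.R) (h2 : g₂ ∈ D.R) (h3 : g₃ ∈ D.R)
    (d1 : D.B d g₁ = -1) (d2 : D.B d g₂ = -1) (d3 : D.B d g₃ = -1)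
    (t2 : g₂ + g₂ = g₁ + g₁) (t3 : g₃ + g₃ = g₁ + g₁) (n12 : g₁ ≠ g₂) (n13 : g₁ ≠ g₃)
    (n23 : g₂ ≠ g₃) {k : A} (hk : k ∈ D.R) (tk : k + k = g₁ + g₁) (dk : D.B d k = -1) :
    k = g₁ ∨ k = g₂ ∨ k = g₃ ∨ k = -d - d - g₁ - g₂ - g₃ := by
  -- twins with the same value at `d` are not opposite
  have key : ∀ {a b : A}, a ∈ D.R → b ∈ D.R → a + a = b + b → D.B d a = -1 → D.B d b = -1 → a ≠ b →
      D.B a b = 0 := by
    intro a b ha hb hab ea eb hne
    refine twin_orth ha hb hab (Ne.symm hne) ?_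
    rintro rfl
    rw [map_neg, ea] at eb
    exact absurd eb (by decide)
  by_cases k1 : k = g₁
  · exact Or.inl k1
  by_cases k2 : k = g₂
  · exact Or.inr (Or.inl k2)
  by_cases k3 : k = g₃
  · exact Or.inr (Or.inr (Or.inl k3))
  right; right; right
  have h := four_twins hd h1 h2 h3 hk d1 d2 d3 dk (key h1 h2 t2.symm d1 d2 n12)
    (key h1 h3 t3.symm d1 d3 n13) (key h1 hk tk.symm d1 dk (Ne.symm k1))
    (key h2 h3 (t2.trans t3.symm) d2 d3 n23) (key h2 hk (t2.trans tk.symm) d2 dk (Ne.symm k2))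
    (key h3 hk (t3.trans tk.symm) d3 dk (Ne.symm k3))
  have h5 : k = (d + g₁ + g₂ + g₃ + k) - d - g₁ - g₂ - g₃ := by abel
  rw [h5, h]

end RD

/-! ### Isometries of order at most two -/

/-- an isometric involution (or the identity) -/
structure Iv {A : Type*} [AddCommGroup A] (D : RD A) where
  /-- the map -/
  s : A →+ A
  sq : ∀ a, s (s a) = a
  mem : ∀ v ∈ D.R, s v ∈ D.R
  iso : ∀ a b, D.B (s a) (s b) = D.B a b

namespace Iv

open RD

variable {A : Type*} [AddCommGroup A] {D : RD A} (σ : Iv D)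

theorem swap (a b : A) : D.B (σ.s a) b = D.B a (σ.s b) := by
  rw [← σ.iso a (σ.s b), σ.sq]

theorem conn {v w : A} (h : D.Conn v w) : D.Conn (σ.s v) (σ.s w) := by
  induction h with
  | refl => exact conn_refl _
  | tail _ hb ih =>
    exact ih.trans (conn_of_adj ⟨σ.mem _ hb.1, σ.mem _ hb.2.1, by rw [σ.iso]; exact hb.2.2⟩)

/-- **(L2)** an isometric involution normalising a component fixes a root line in it -/
theorem exists_line {v : A} (hv : v ∈ D.R) (hc : D.Conn v (σ.s v)) :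
    ∃ w ∈ D.R, D.Conn v w ∧ (σ.s w = w ∨ σ.s w = -w) := by
  by_contra hno
  have hno' : ∀ w ∈ D.R, D.Conn v w → σ.s w ≠ w ∧ σ.s w ≠ -w := by
    intro w hw hvw
    constructor
    · intro h; exact hno ⟨w, hw, hvw, Or.inl h⟩
    · intro h; exact hno ⟨w, hw, hvw, Or.inr h⟩
  -- every root of the component is orthogonal to its image
  have h0 : ∀ w ∈ D.R, D.Conn v w → D.B w (σ.s w) = 0 := by
    intro w hw hvw
    rcases cases_B hw (σ.mem w hw) with h | h | h | h
    · exact h
    · exfalso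
      obtain ⟨e, he, hee⟩ := exists_comb hw (σ.mem w hw) h
      have hve : D.Conn v e := hvw.trans (conn_comb hw h he hee)
      rcases hee with rfl | rfl
      · apply (hno' _ he hve).1
        rw [map_add, σ.sq]; abel
      · apply (hno' _ he hve).2
        rw [map_sub, σ.sq]; abel
    · exact absurd h (hno' w hw hvw).1
    · exact absurd h (hno' w hw hvw).2
  -- linked roots
  have h1 : ∀ f ∈ D.R, ∀ p ∈ D.R, D.Conn v f → D.Lk f p → D.B f (σ.s p) = 0 := by
    intro f hf p hp hvf hl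
    have hvp : D.Conn v p := hvf.trans (conn_of_lk hf hp hl)
    obtain ⟨e, he, hee⟩ := exists_comb hf hp hl
    have hve : D.Conn v e := hvf.trans (conn_comb hf hl he hee)
    have h2 := h0 e he hve
    have h3 := h0 f hf hvf
    have h4 := h0 p hp hvp
    have h5 : D.B p (σ.s f) = D.B f (σ.s p) := by rw [← σ.swap, D.symm]
    have h6 : D.B f (σ.s p) + D.B f (σ.s p) = 0 := by
      rcases hee with rfl | rfl
      · rw [map_add, map_add, map_add, AddMonoidHom.add_apply, AddMonoidHom.add_apply, h3, h4, h5] at h2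
        simpa using h2
      · rw [map_sub, map_sub, map_sub, AddMonoidHom.sub_apply, AddMonoidHom.sub_apply, h3, h4, h5] at h2
        have h7 : -(D.B f (σ.s p) + D.B f (σ.s p)) = 0 := by linear_combination h2
        exact neg_eq_zero.mp h7
    rcases cases_B hf (σ.mem p hp) with h | h | h | h
    · exact h
    · exfalso
      rcases h with h | h <;> rw [h] at h6 <;> exact absurd h6 (by decide)
    · exfalso
      rw [h, D.symm] at h4
      exact hl.ne h4
    · exfalso
      rw [h, map_neg, neg_eq_zero, D.symm] at h4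
      exact hl.ne h4
  -- all roots
  have h2 : ∀ f ∈ D.R, ∀ p ∈ D.R, D.Conn v f → D.Conn f p → D.B f (σ.s p) = 0 := by
    intro f hf p hp hvf hfp
    rcases cases_B hf hp with h | h | h | h
    · rcases common hf hfp with h' | ⟨q, hq, hqf, hqp⟩
      · exact absurd h h'
      · have hvq : D.Conn v q := hvf.trans (conn_of_lk hf hq hqf.symm)
        obtain ⟨e, he, hee⟩ := exists_comb hq hf hqf
        have hve : D.Conn v e := hvq.trans (conn_comb hq hqf he hee)
        have hep : D.Lk e p := by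
          rcases hee with rfl | rfl
          · unfold Lk; rw [B_add_left, h, add_zero]; exact hqp
          · unfold Lk; rw [B_sub_left, h, sub_zero]; exact hqp
        have e1 := h1 e he p hp hve hep
        have e2 := h1 q hq p hp hvq hqp
        rcases hee with rfl | rfl
        · rw [B_add_left, e2, zero_add] at e1; exact e1
        · rw [B_sub_left, e2, zero_sub, neg_eq_zero] at e1; exact e1
    · exact h1 f hf p hp hvf h
    · rw [h]; exact h0 f hf hvf
    · rw [h, map_neg, map_neg, neg_eq_zero]; exact h0 f hf hvf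
  have h3 := h2 (σ.s v) (σ.mem v hv) v hv hc hc.symm
  rw [D.self _ (σ.mem v hv)] at h3
  exact absurd h3 (by decide)

/-! ### The involutions of section 3 -/

/-- the conditions (s1), (s2), (s3) on an involution in `Z ∩ M - A` -/
structure Good : Prop where
  one : ∀ v ∈ D.R, σ.s v ≠ v
  three : ∀ v ∈ D.R, ∀ w ∈ D.R, σ.s v = -v → σ.s w = -w → ¬ D.Lk v w
  two : ∀ v ∈ D.R, ¬ D.Lk v (σ.s v)

variable {σ}

theorem Good.orth (hσ : σ.Good) {v : A} (hv : v ∈ D.R) : σ.s v = -v ∨ D.B v (σ.s v) = 0 := by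
  rcases cases_B hv (σ.mem v hv) with h | h | h | h
  · exact Or.inr h
  · exact absurd h (hσ.two v hv)
  · exact absurd h (hσ.one v hv)
  · exact Or.inl h

/-- the data of (L3): `g` inverted, `d` linked to `g` -/
structure Dat (σ : Iv D) (g d : A) : Prop where
  good : σ.Good
  hg : g ∈ D.R
  hd : d ∈ D.R
  inv : σ.s g = -g
  dg : D.B d g = -1

namespace Dat

variable {g d : A}

theorem gd (h : Dat σ g d) : D.B g d = -1 := by rw [D.symm]; exact h.dg

theorem lk (h : Dat σ g d) : D.Lk d g := Or.inr h.dg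

/-- the second inverted root linked to `d` -/
def h (σ : Iv D) (g d : A) : A := d + g - σ.s d

end Dat

end Iv

end Cfsg.Agent.Cit.Nil.CV3
end

-- part: Cit/Nil/CV3/RootTwo
section
prune_inst 0x430104d007522000000180010a2001e62fa000002006b040035600f020fcf3d40a0430721fa900d1100969ec45834002813180010420000000a003000011e01a0100f1a06847cae00380010000007180c00000000000000000000000000041000000000000
set_option linter.all false
open scoped Cfsg.Agent.FastGrp

/-!
# Root data mod 4, invariant and moved components (S1309, (CV), section 3)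
-/

set_option autoImplicit false

namespace Cfsg.Agent.Cit.Nil.CV3.Iv

open RD

variable {A : Type*} [AddCommGroup A] {D : RD A} {σ : Iv D}

namespace Dat

variable {g d : A}

variable (h : Dat σ g d) (ht : Dat.h σ g d + Dat.h σ g d = g + g)

include h ht

end Dat

/-- at most four twins over a neighbour -/
theorem card_twins [Finite A] {g d : A} (hd : d ∈ D.R) :
    Nat.card {k : A // k ∈ D.R ∧ k + k = g + g ∧ D.B d k = -1} ≤ 4 := by
  have e1 : Nat.card {k : A // k ∈ D.R ∧ k + k = g + g ∧ D.B d k = -1} =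
      ({k : A | k ∈ D.R ∧ k + k = g + g ∧ D.B d k = -1} : Set A).ncard := rfl
  rw [e1]
  by_contra hno
  push Not at hno
  have h2 : 2 < ({k : A | k ∈ D.R ∧ k + k = g + g ∧ D.B d k = -1} : Set A).ncard := by omega
  rw [Set.two_lt_ncard_iff (Set.toFinite _)] at h2
  obtain ⟨a, b, c, ha, hb, hc, hab, hac, hbc⟩ := h2
  have hsub : ({k : A | k ∈ D.R ∧ k + k = g + g ∧ D.B d k = -1} : Set A) ⊆
      {a, b, c, -d - d - a - b - c} := by
    rintro k ⟨hk, tk, dk⟩
    exact twin_four hd ha.1 hb.1 hc.1 ha.2.2 hb.2.2 hc.2.2 (hb.2.1.trans ha.2.1.symm)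
      (hc.2.1.trans ha.2.1.symm) hab hac hbc hk (tk.trans ha.2.1.symm) dk
  have h3 := Set.ncard_le_ncard hsub (Set.toFinite _)
  have h4 : ({a, b, c, -d - d - a - b - c} : Set A).ncard ≤ 4 := by
    refine (Set.ncard_insert_le _ _).trans ?_
    have h5 := (Set.ncard_insert_le b ({c, -d - d - a - b - c} : Set A))
    have h6 := (Set.ncard_insert_le c ({-d - d - a - b - c} : Set A))
    rw [Set.ncard_singleton] at h6
    omega
  omega

/-- two moved component pairs give sixteen fixed elements of order two -/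
theorem sixteen [Finite A] {v w : A} (hv : v ∈ D.R) (hw : w ∈ D.R)
    (rk : ∀ v ∈ D.R, ∃ w ∈ D.R, D.Lk v w)
    (h1 : ¬ D.Conn v (σ.s v)) (h2 : ¬ D.Conn w (σ.s w)) (h3 : ¬ D.Conn v w)
    (h4 : ¬ D.Conn (σ.s v) w) : 16 ≤ Nat.card {u : A // u + u = 0 ∧ σ.s u = u} := by
  obtain ⟨v', hv', hvv'⟩ := rk v hv
  obtain ⟨w', hw', hww'⟩ := rk w hw
  have cv := conn_of_lk hv hv' hvv'
  have cw := conn_of_lk hw hw' hww'
  have fixm : ∀ x ∈ D.R, (x + x + (σ.s x + σ.s x)) + (x + x + (σ.s x + σ.s x)) = 0 ∧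
      σ.s (x + x + (σ.s x + σ.s x)) = x + x + (σ.s x + σ.s x) := by
    intro x hx
    have a1 := D.four x hx
    have a2 := D.four _ (σ.mem x hx)
    constructor
    · have : x + x + (σ.s x + σ.s x) + (x + x + (σ.s x + σ.s x)) =
          (x + x + (x + x)) + (σ.s x + σ.s x + (σ.s x + σ.s x)) := by abel
      rw [this, a1, a2, add_zero]
    · rw [map_add, map_add, map_add, σ.sq, add_comm]
  -- values
  have bv : ∀ x ∈ D.R, ∀ y ∈ D.R, ¬ D.Conn (σ.s x) y →
      D.B (x + x + (σ.s x + σ.s x)) y = D.B x y + D.B x y := by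
    intro x hx y hy hn
    rw [B_add_left, B_add_left, B_add_left, orth_of_not_conn (σ.mem x hx) hy hn, add_zero, add_zero]
  have zero_of : ∀ x ∈ D.R, ∀ y ∈ D.R, ¬ D.Conn x y → ¬ D.Conn (σ.s x) y →
      D.B (x + x + (σ.s x + σ.s x)) y = 0 := by
    intro x hx y hy hn hn'
    rw [bv x hx y hy hn', orth_of_not_conn hx hy hn, add_zero]
  have svv' : D.Conn (σ.s v) (σ.s v') := σ.conn cv
  have sww' : D.Conn (σ.s w) (σ.s w') := σ.conn cw
  -- non-connections
  have n1 : ¬ D.Conn (σ.s v) v' := fun h => h1 (cv.trans h.symm)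
  have n2 : ¬ D.Conn (σ.s v') v := fun h => h1 ((svv'.trans h).symm)
  have n3 : ¬ D.Conn (σ.s v) v := fun h => h1 h.symm
  have n4 : ¬ D.Conn (σ.s v') v' := fun h => n1 (svv'.trans h)
  have m1 : ¬ D.Conn (σ.s w) w' := fun h => h2 (cw.trans h.symm)
  have m2 : ¬ D.Conn (σ.s w') w := fun h => h2 ((sww'.trans h).symm)
  have m3 : ¬ D.Conn (σ.s w) w := fun h => h2 h.symm
  have m4 : ¬ D.Conn (σ.s w') w' := fun h => m1 (sww'.trans h)
  have k1 : ¬ D.Conn v w' := fun h => h3 (h.trans cw.symm)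
  have k2 : ¬ D.Conn v' w := fun h => h3 (cv.trans h)
  have k3 : ¬ D.Conn v' w' := fun h => h3 ((cv.trans h).trans cw.symm)
  have l1 : ¬ D.Conn (σ.s v) w' := fun h => h4 (h.trans cw.symm)
  have l2 : ¬ D.Conn (σ.s v') w := fun h => h4 (svv'.trans h)
  have l3 : ¬ D.Conn (σ.s v') w' := fun h => h4 ((svv'.trans h).trans cw.symm)
  have swap' : ∀ {x y : A}, ¬ D.Conn (σ.s x) y → ¬ D.Conn (σ.s y) x := by
    intro x y h h'
    apply h
    have := σ.conn h'
    rw [σ.sq] at this
    exact this.symm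
  set f₁ := v + v + (σ.s v + σ.s v) with hf1
  set f₂ := v' + v' + (σ.s v' + σ.s v') with hf2
  set f₃ := w + w + (σ.s w + σ.s w) with hf3
  set f₄ := w' + w' + (σ.s w' + σ.s w') with hf4
  have sym {x y : A} (h : ¬ D.Conn x y) : ¬ D.Conn y x := fun h' => h h'.symm
  have e11 : D.B f₁ v' = 2 := by rw [bv v hv v' hv' n1, hvv'.two]
  have e21 : D.B f₂ v' = 0 := by rw [bv v' hv' v' hv' n4, D.self v' hv']; decide
  have e31 : D.B f₃ v' = 0 := zero_of w hw v' hv' (sym k2) (swap' l2)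
  have e41 : D.B f₄ v' = 0 := zero_of w' hw' v' hv' (sym k3) (swap' l3)
  have e12 : D.B f₁ v = 0 := by rw [bv v hv v hv n3, D.self v hv]; decide
  have e22 : D.B f₂ v = 2 := by rw [bv v' hv' v hv n2, hvv'.symm.two]
  have e32 : D.B f₃ v = 0 := zero_of w hw v hv (sym h3) (swap' h4)
  have e42 : D.B f₄ v = 0 := zero_of w' hw' v hv (sym k1) (swap' l1)
  have e13 : D.B f₁ w' = 0 := zero_of v hv w' hw' k1 l1
  have e23 : D.B f₂ w' = 0 := zero_of v' hv' w' hw' k3 l3
  have e33 : D.B f₃ w' = 2 := by rw [bv w hw w' hw' m1, hww'.two]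
  have e43 : D.B f₄ w' = 0 := by rw [bv w' hw' w' hw' m4, D.self w' hw']; decide
  have e14 : D.B f₁ w = 0 := zero_of v hv w hw h3 h4
  have e24 : D.B f₂ w = 0 := zero_of v' hv' w hw k2 l2
  have e34 : D.B f₃ w = 0 := by rw [bv w hw w hw m3, D.self w hw]; decide
  have e44 : D.B f₄ w = 2 := by rw [bv w' hw' w hw m2, hww'.symm.two]
  have g1 := fixm v hv
  have g2 := fixm v' hv'
  have g3 := fixm w hw
  have g4 := fixm w' hw'
  let P : A → Prop := fun u => u + u = 0 ∧ σ.s u = u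
  have Padd : ∀ a b, P a → P b → P (a + b) := by
    intro a b ha hb
    refine ⟨?_, by rw [map_add, ha.2, hb.2]⟩
    have : a + b + (a + b) = (a + a) + (b + b) := by abel
    rw [this, ha.1, hb.1, add_zero]
  have Pif : ∀ (c : Bool) a, P a → P (if c then a else 0) := by
    intro c a ha
    cases c
    · exact ⟨add_zero _, map_zero _⟩
    · exact ha
  let Φ : Bool × Bool × Bool × Bool → {u : A // u + u = 0 ∧ σ.s u = u} := fun x =>
    ⟨(if x.1 then f₁ else 0) + (if x.2.1 then f₂ else 0) + (if x.2.2.1 then f₃ else 0) +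
      (if x.2.2.2 then f₄ else 0),
      Padd _ _ (Padd _ _ (Padd _ _ (Pif _ _ g1) (Pif _ _ g2)) (Pif _ _ g3)) (Pif _ _ g4)⟩
  have hΦ : Function.Injective Φ := by
    rintro ⟨a, b, c, d⟩ ⟨a', b', c', d'⟩ hab
    have h0 := congrArg Subtype.val hab
    simp only [Φ] at h0
    have t1 := congrArg (fun u => D.B u v') h0
    have t2 := congrArg (fun u => D.B u v) h0
    have t3 := congrArg (fun u => D.B u w') h0
    have t4 := congrArg (fun u => D.B u w) h0
    simp only [map_add, AddMonoidHom.add_apply, apply_ite D.B, map_zero,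
      apply_ite (fun F : A →+ ZMod 4 => F v'), apply_ite (fun F : A →+ ZMod 4 => F v),
      apply_ite (fun F : A →+ ZMod 4 => F w'), apply_ite (fun F : A →+ ZMod 4 => F w),
      AddMonoidHom.zero_apply, e11, e21, e31, e41, e12, e22, e32, e42, e13, e23, e33, e43,
      e14, e24, e34, e44, ite_self, add_zero, zero_add] at t1 t2 t3 t4
    have fin : ∀ x y : Bool, (if x = true then (2 : ZMod 4) else 0) = (if y = true then 2 else 0) →
        x = y := by decide
    rw [fin _ _ t1, fin _ _ t2, fin _ _ t3, fin _ _ t4]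
  have := Nat.card_le_card_of_injective Φ hΦ
  simpa only [_root_.ge_iff_le, _root_.Nat.card_eq_fintype_card, _root_.Fintype.card_prod, _root_.Fintype.card_bool, _root_.Nat.reduceMul] using this

end Cfsg.Agent.Cit.Nil.CV3.Iv
end

-- part: Cit/Nil/CV3/RootF
section
prune_inst 0x430104d007522000000180010a2001e62fa000002006b040034600f0207cf3d40a0470721fab00d1100969e445834006813180110420000000a003000011e01a0100e1a06846ca200280010000007180c00000000000000000000000000041000000000000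
set_option linter.all false
open scoped Cfsg.Agent.FastGrp

/-!
# Root data mod 4 without symmetry (S1309, (CV), section 3)

`RF A` : the functionals `f v : A →+ ZMod 4` (`v` a root); `f v w` and `f w v` have the same parity but may have
different signs (G2 bond, helper748 #14842).
-/

set_option autoImplicit false

namespace Cfsg.Agent.Cit.Nil.CV3

/-- root data mod 4, not necessarily symmetric -/
structure RF (A : Type*) [AddCommGroup A] where
  /-- the functionals -/
  f : A → A →+ ZMod 4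
  /-- the roots -/
  R : Set A
  neg : ∀ v ∈ R, -v ∈ R
  f_neg : ∀ v ∈ R, ∀ a, f (-v) a = -f v a
  self : ∀ v ∈ R, f v v = 2
  zero : ∀ v ∈ R, ∀ w ∈ R, f v w = 0 → f w v = 0
  eq_or : ∀ v ∈ R, ∀ w ∈ R, f v w = 2 → w = v ∨ w = -v
  sub : ∀ v ∈ R, ∀ w ∈ R, f v w = 1 → w - v ∈ R
  f_sub : ∀ v ∈ R, ∀ w ∈ R, f v w = 1 → ∀ a, f (w - v) a = f w a - f v a * f w v
  four : ∀ v ∈ R, v + v + (v + v) = 0

namespace RF

variable {A : Type*} [AddCommGroup A] (D : RF A)

/-- linked -/
def Lk (v w : A) : Prop := D.f v w = 1 ∨ D.f v w = -1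

/-- non-orthogonal roots -/
def Adj (v w : A) : Prop := v ∈ D.R ∧ w ∈ D.R ∧ D.f v w ≠ 0

/-- same component -/
def Conn (v w : A) : Prop := Relation.ReflTransGen D.Adj v w

variable {D}

theorem add {v w : A} (hv : v ∈ D.R) (hw : w ∈ D.R) (h : D.f v w = -1) : w + v ∈ D.R := by
  have h1 := D.sub (-v) (D.neg v hv) w hw (by rw [D.f_neg v hv, h, neg_neg])
  rwa [sub_neg_eq_add] at h1

theorem f_add {v w : A} (hv : v ∈ D.R) (hw : w ∈ D.R) (h : D.f v w = -1) (a : A) :
    D.f (w + v) a = D.f w a - D.f v a * D.f w v := by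
  have h1 := D.f_sub (-v) (D.neg v hv) w hw (by rw [D.f_neg v hv, h, neg_neg]) a
  rw [sub_neg_eq_add, D.f_neg v hv, map_neg] at h1
  rw [h1]; ring

theorem f_self_neg {v : A} (hv : v ∈ D.R) : D.f v (-v) = 2 := by
  rw [map_neg, D.self v hv]; decide

theorem Lk.ne {v w : A} (h : D.Lk v w) : D.f v w ≠ 0 := by
  rcases h with h | h <;> rw [h] <;> decide

theorem Lk.two {v w : A} (h : D.Lk v w) : D.f v w + D.f v w = 2 := by
  rcases h with h | h <;> rw [h] <;> decide

theorem lk_of_two {v w : A} (h : D.f v w + D.f v w = 2) : D.Lk v w := by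
  unfold Lk
  rcases RD.z4 (D.f v w) with h1 | h1 | h1 | h1
  · rw [h1] at h; exact absurd h (by decide)
  · exact Or.inl h1
  · rw [h1] at h; exact absurd h (by decide)
  · exact Or.inr h1

theorem cases_f {v w : A} (hv : v ∈ D.R) (hw : w ∈ D.R) :
    D.f v w = 0 ∨ D.Lk v w ∨ w = v ∨ w = -v := by
  rcases RD.z4 (D.f v w) with h1 | h1 | h1 | h1
  · exact Or.inl h1
  · exact Or.inr (Or.inl (Or.inl h1))
  · exact Or.inr (Or.inr (D.eq_or v hv w hw h1))
  · exact Or.inr (Or.inl (Or.inr h1))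

theorem ne_of_lk {v w : A} (hv : v ∈ D.R) (h : D.Lk v w) : w ≠ v ∧ w ≠ -v := by
  constructor
  · rintro rfl
    rcases h with h | h <;> rw [D.self _ hv] at h <;> exact absurd h (by decide)
  · rintro rfl
    unfold Lk at h
    rw [f_self_neg hv] at h
    rcases h with h | h <;> exact absurd h (by decide)

theorem Lk.symm {v w : A} (hv : v ∈ D.R) (hw : w ∈ D.R) (h : D.Lk v w) : D.Lk w v := by
  rcases cases_f hw hv with h1 | h1 | h1 | h1
  · exact absurd (D.zero w hw v hv h1) h.ne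
  · exact h1
  · exact absurd h1.symm (ne_of_lk hv h).1
  · exact absurd (by rw [h1, neg_neg]) (ne_of_lk hv h).2

theorem conn_refl (v : A) : D.Conn v v := Relation.ReflTransGen.refl

theorem conn_of_adj {v w : A} (h : D.Adj v w) : D.Conn v w := Relation.ReflTransGen.single h

theorem Adj.symm {v w : A} (h : D.Adj v w) : D.Adj w v :=
  ⟨h.2.1, h.1, fun h0 => h.2.2 (D.zero w h.2.1 v h.1 h0)⟩

theorem Conn.trans {u v w : A} (h1 : D.Conn u v) (h2 : D.Conn v w) : D.Conn u w :=
  Relation.ReflTransGen.trans h1 h2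

theorem Conn.symm {v w : A} (h : D.Conn v w) : D.Conn w v := by
  induction h with
  | refl => exact conn_refl _
  | tail _ hb ih => exact (conn_of_adj hb.symm).trans ih

theorem Conn.mem {v w : A} (hv : v ∈ D.R) (h : D.Conn v w) : w ∈ D.R := by
  induction h with
  | refl => exact hv
  | tail _ hb _ => exact hb.2.1

theorem conn_of_lk {v w : A} (hv : v ∈ D.R) (hw : w ∈ D.R) (h : D.Lk v w) : D.Conn v w :=
  conn_of_adj ⟨hv, hw, h.ne⟩

theorem orth_of_not_conn {v w : A} (hv : v ∈ D.R) (hw : w ∈ D.R) (h : ¬ D.Conn v w) :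
    D.f v w = 0 := by
  by_contra h0
  exact h (conn_of_adj ⟨hv, hw, h0⟩)

theorem double_f {v w : A} (h : v + v = w + w) (u : A) :
    D.f u v + D.f u v = D.f u w + D.f u w := by
  rw [← map_add, ← map_add, h]

/-- twins have the same neighbours -/
theorem twin_lk {v w u : A} (h : v + v = w + w) (hl : D.Lk u v) : D.Lk u w := by
  apply lk_of_two
  rw [← double_f h, hl.two]

theorem conn_of_twin {v w : A} (hv : v ∈ D.R) (hw : w ∈ D.R) (h : v + v = w + w)
    (rk : ∀ v ∈ D.R, ∃ w ∈ D.R, D.Lk v w) : D.Conn v w := by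
  obtain ⟨u, hu, hl⟩ := rk v hv
  have h1 := hl.symm hv hu
  exact (conn_of_lk hv hu hl).trans (conn_of_lk hu hw (twin_lk h h1))

/-! ### Isometries -/

/-- an isometric involution (or the identity) -/
structure IF (D : RF A) where
  /-- the map -/
  s : A →+ A
  sq : ∀ a, s (s a) = a
  mem : ∀ v ∈ D.R, s v ∈ D.R
  iso : ∀ v ∈ D.R, ∀ a, D.f (s v) (s a) = D.f v a

namespace IF

variable (σ : IF D)

theorem conn {v w : A} (h : D.Conn v w) : D.Conn (σ.s v) (σ.s w) := by
  induction h with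
  | refl => exact conn_refl _
  | tail _ hb ih =>
    exact ih.trans (conn_of_adj ⟨σ.mem _ hb.1, σ.mem _ hb.2.1, by rw [σ.iso _ hb.1]; exact hb.2.2⟩)

/-- the conditions (s1), (s2), (s3) on an involution in `Z ∩ M - A` -/
structure Good : Prop where
  one : ∀ v ∈ D.R, σ.s v ≠ v
  three : ∀ v ∈ D.R, ∀ w ∈ D.R, σ.s v = -v → σ.s w = -w → ¬ D.Lk v w
  two : ∀ v ∈ D.R, ¬ D.Lk v (σ.s v)

variable {σ}

theorem Good.orth (hσ : σ.Good) {v : A} (hv : v ∈ D.R) : σ.s v = -v ∨ D.f v (σ.s v) = 0 := by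
  rcases cases_f hv (σ.mem v hv) with h | h | h | h
  · exact Or.inr h
  · exact absurd h (hσ.two v hv)
  · exact absurd h (hσ.one v hv)
  · exact Or.inl h

end IF

/-! ### G2 bonds -/

/-- a G2 bond, with signs -/
structure GB (D : RF A) (v w : A) : Prop where
  hv : v ∈ D.R
  hw : w ∈ D.R
  vw : D.f v w = 1
  wv : D.f w v = -1

namespace GB

variable {v w : A}

theorem swap (h : GB D v w) : GB D w (-v) := by
  refine ⟨h.hw, D.neg v h.hv, by rw [map_neg, h.wv, neg_neg], ?_⟩
  rw [D.f_neg v h.hv, h.vw]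

theorem m1 (h : GB D v w) : w - v ∈ D.R := D.sub v h.hv w h.hw h.vw

theorem f1 (h : GB D v w) (a : A) : D.f (w - v) a = D.f w a + D.f v a := by
  rw [D.f_sub v h.hv w h.hw h.vw, h.wv]; ring

theorem m2 (h : GB D v w) : v + w ∈ D.R := add h.hw h.hv h.wv

theorem f2 (h : GB D v w) (a : A) : D.f (v + w) a = D.f v a - D.f w a := by
  rw [f_add h.hw h.hv h.wv, h.vw]; ring

/-- the twin `v + 2w` of `v` -/
theorem mt (h : GB D v w) : v + (w + w) ∈ D.R := by
  have h1 : D.f w (w - v) = -1 := by rw [map_sub, D.self w h.hw, h.wv]; decide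
  have h2 := D.neg _ (add h.hw h.m1 h1)
  have h3 : -(w - v + w) = v + (w + w) - (w + w + (w + w)) := by abel
  rwa [h3, D.four w h.hw, sub_zero] at h2

theorem ft (h : GB D v w) (a : A) : D.f (v + (w + w)) a = -D.f v a + 2 * D.f w a := by
  have h1 : D.f w (w - v) = -1 := by rw [map_sub, D.self w h.hw, h.wv]; decide
  have h2 := D.f_neg _ (add h.hw h.m1 h1) a
  have h3 : -(w - v + w) = v + (w + w) - (w + w + (w + w)) := by abel
  rw [h3, D.four w h.hw, sub_zero, f_add h.hw h.m1 h1, h.f1, h.f1, D.self w h.hw, h.vw] at h2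
  rw [h2]
  have : ∀ x y : ZMod 4, -(y + x - y * (2 + 1)) = -x + 2 * y := by decide
  exact this _ _

theorem tt (h : GB D v w) : (v + (w + w)) + (v + (w + w)) = v + v := by
  have : (v + (w + w)) + (v + (w + w)) = v + v + (w + w + (w + w)) := by abel
  rw [this, D.four w h.hw, add_zero]

/-- the six lines -/
def Six (v w n : A) : Prop :=
  (n = v ∨ n = -v) ∨ (n = v + (w + w) ∨ n = -(v + (w + w))) ∨ (n = w ∨ n = -w) ∨
    (n = w + (v + v) ∨ n = -(w + (v + v))) ∨ (n = v + w ∨ n = -(v + w)) ∨ (n = w - v ∨ n = -(w - v))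

theorem mt' (h : GB D v w) : w + (v + v) ∈ D.R := by
  have h1 := h.swap.mt
  have h2 : w + (-v + -v) = w + (v + v) - (v + v + (v + v)) := by abel
  rwa [h2, D.four v h.hv, sub_zero] at h1

theorem ft' (h : GB D v w) (a : A) : D.f (w + (v + v)) a = -D.f w a + 2 * D.f v a := by
  have h1 := h.swap.ft a
  have h2 : w + (-v + -v) = w + (v + v) - (v + v + (v + v)) := by abel
  rw [h2, D.four v h.hv, sub_zero, D.f_neg v h.hv] at h1
  rw [h1]
  have : ∀ x y : ZMod 4, -y + 2 * -x = -y + 2 * x := by decide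
  exact this _ _

theorem six_of (h : GB D v w) {n : A} (hn : n ∈ D.R) (h0 : ¬ (D.f v n = 0 ∧ D.f w n = 0)) :
    Six v w n := by
  by_contra hno
  unfold Six at hno
  push Not at hno
  obtain ⟨n1, n2, n3, n4, n5, n6⟩ := hno
  apply h0
  have key : ∀ x ∈ D.R, (n ≠ x ∧ n ≠ -x) → D.f x n ≠ 2 := by
    intro x hx hne h2
    rcases D.eq_or x hx n hn h2 with h3 | h3
    · exact hne.1 h3
    · exact hne.2 h3
  have k1 := key v h.hv n1
  have k2 := key _ h.mt n2
  have k3 := key w h.hw n3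
  have k4 := key _ h.mt' n4
  have k5 := key _ h.m2 n5
  have k6 := key _ h.m1 n6
  rw [h.ft] at k2
  rw [h.ft'] at k4
  rw [h.f2] at k5
  rw [h.f1] at k6
  generalize D.f v n = x at *
  generalize D.f w n = y at *
  revert x y; decide

theorem six_conn (h : GB D v w) {n : A} (hc : D.Conn v n) : Six v w n := by
  induction hc with
  | refl => left; left; rfl
  | @tail b c hab hbc ih =>
    apply h.six_of hbc.2.1
    rintro ⟨h1, h2⟩
    apply hbc.2.2
    rcases ih with (h3 | h3) | (h3 | h3) | (h3 | h3) | (h3 | h3) | (h3 | h3) | (h3 | h3) <;> rw [h3]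
    · exact h1
    · rw [D.f_neg _ h.hv, h1, neg_zero]
    · rw [h.ft, h1, h2]; ring
    · rw [D.f_neg _ h.mt, h.ft, h1, h2]; ring
    · exact h2
    · rw [D.f_neg _ h.hw, h2, neg_zero]
    · rw [h.ft', h1, h2]; ring
    · rw [D.f_neg _ h.mt', h.ft', h1, h2]; ring
    · rw [h.f2, h1, h2]; ring
    · rw [D.f_neg _ h.m2, h.f2, h1, h2]; ring
    · rw [h.f1, h1, h2]; ring
    · rw [D.f_neg _ h.m1, h.f1, h1, h2]; ring

/-- the only roots of the component orthogonal to `v` are `±(v + 2w)` -/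
theorem orth (h : GB D v w) {n : A} (hc : D.Conn v n) (h0 : D.f v n = 0) :
    n = v + (w + w) ∨ n = -(v + (w + w)) := by
  rcases h.six_conn hc with (h3 | h3) | (h3 | h3) | (h3 | h3) | (h3 | h3) | (h3 | h3) | (h3 | h3)
  · rw [h3, D.self v h.hv] at h0; exact absurd h0 (by decide)
  · rw [h3, f_self_neg h.hv] at h0; exact absurd h0 (by decide)
  · exact Or.inl h3
  · exact Or.inr h3
  · rw [h3, h.vw] at h0; exact absurd h0 (by decide)
  · rw [h3, map_neg, h.vw] at h0; exact absurd h0 (by decide)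
  · rw [h3, map_add, map_add, h.vw, D.self v h.hv] at h0; exact absurd h0 (by decide)
  · rw [h3, map_neg, map_add, map_add, h.vw, D.self v h.hv] at h0; exact absurd h0 (by decide)
  · rw [h3, map_add, h.vw, D.self v h.hv] at h0; exact absurd h0 (by decide)
  · rw [h3, map_neg, map_add, h.vw, D.self v h.hv] at h0; exact absurd h0 (by decide)
  · rw [h3, map_sub, h.vw, D.self v h.hv] at h0; exact absurd h0 (by decide)
  · rw [h3, map_neg, map_sub, h.vw, D.self v h.hv] at h0; exact absurd h0 (by decide)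

/-- **(g3)** a good involution normalising a G2 component maps `v` to plus or minus its twin -/
theorem good (h : GB D v w) {σ : IF D} (hσ : σ.Good) (hc : D.Conn v (σ.s v)) :
    σ.s v = v + (w + w) ∨ σ.s v = -(v + (w + w)) := by
  rcases hσ.orth h.hv with hi | h0
  swap
  · exact h.orth hc h0
  exfalso
  have hlk : D.Lk v w := Or.inl h.vw
  have hcw : D.Conn w (σ.s w) := by
    have h1 := conn_of_lk h.hv h.hw hlk
    exact (h1.symm.trans hc).trans (σ.conn h1)
  rcases hσ.orth h.hw with hi' | h0'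
  · exact hσ.three v h.hv w h.hw hi hi' hlk
  have h5 := h.swap.orth hcw h0'
  have h6 : w + (-v + -v) = w + (v + v) - (v + v + (v + v)) := by abel
  rw [h6, D.four v h.hv, sub_zero] at h5
  have i1 := σ.iso w h.hw v
  have i2 := σ.iso v h.hv w
  rw [h.wv, hi] at i1
  rw [h.vw, hi, D.f_neg v h.hv] at i2
  rcases h5 with h5 | h5
  · rw [h5, map_add, map_add, h.vw, D.self v h.hv] at i2
    exact absurd i2 (by decide)
  · rw [h5, D.f_neg _ h.mt', h.ft', map_neg, map_neg, h.wv, D.self v h.hv] at i1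
    exact absurd i1 (by decide)

/-- an isometric involution normalising a G2 component fixes one of its `z`'s -/
theorem fix_z (h : GB D v w) {σ : IF D} (hc : D.Conn v (σ.s v)) :
    ∃ n ∈ D.R, D.Conn v n ∧ σ.s (n + n) = n + n := by
  have h4v := D.four v h.hv
  have h4w := D.four w h.hw
  have hlk : D.Lk v w := Or.inl h.vw
  have c1 := conn_of_lk h.hv h.hw hlk
  have c2 : D.Conn v (v + w) := by
    refine conn_of_adj ⟨h.hv, h.m2, ?_⟩
    rw [map_add, D.self v h.hv, h.vw]; decide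
  have nv : -(v + v) = v + v := by
    have : -(v + v) = v + v - (v + v + (v + v)) := by abel
    rw [this, h4v, sub_zero]
  have nw : -(w + w) = w + w := by
    have : -(w + w) = w + w - (w + w + (w + w)) := by abel
    rw [this, h4w, sub_zero]
  have nvw : v + w + (v + w) = v + v + (w + w) := by abel
  have dz : σ.s (v + v) = v + v ∨ σ.s (v + v) = w + w ∨ σ.s (v + v) = v + v + (w + w) := by
    rw [map_add]
    rcases h.six_conn hc with (h3 | h3) | (h3 | h3) | (h3 | h3) | (h3 | h3) | (h3 | h3) | (h3 | h3) <;> rw [h3]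
    · exact Or.inl rfl
    · left; rw [← nv]; abel
    · left; exact h.tt
    · left
      have : -(v + (w + w)) + -(v + (w + w)) = -(v + (w + w) + (v + (w + w))) := by abel
      rw [this, h.tt, nv]
    · exact Or.inr (Or.inl rfl)
    · right; left; rw [← nw]; abel
    · right; left
      have : w + (v + v) + (w + (v + v)) = w + w + (v + v + (v + v)) := by abel
      rw [this, h4v, add_zero]
    · right; left
      have : -(w + (v + v)) + -(w + (v + v)) = -(w + w) - (v + v + (v + v)) := by abel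
      rw [this, h4v, sub_zero, nw]
    · right; right; exact nvw
    · right; right
      have : -(v + w) + -(v + w) = -(v + v) + -(w + w) := by abel
      rw [this, nv, nw]
    · right; right
      have : w - v + (w - v) = -(v + v) + (w + w) := by abel
      rw [this, nv]
    · right; right
      have : -(w - v) + -(w - v) = v + v + -(w + w) := by abel
      rw [this, nw]
  rcases dz with h1 | h1 | h1
  · exact ⟨v, h.hv, conn_refl v, h1⟩
  · refine ⟨v + w, h.m2, c2, ?_⟩
    have h2 : σ.s (w + w) = v + v := by rw [← h1, σ.sq]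
    rw [nvw, map_add, h1, h2, add_comm]
  · refine ⟨w, h.hw, c1, ?_⟩
    have h2 : σ.s (v + v + (w + w)) = v + v := by rw [← h1, σ.sq]
    rw [map_add, h1] at h2
    have h3 : σ.s (w + w) = (v + v + (w + w) + σ.s (w + w)) - (v + v) - (w + w) := by abel
    rw [h3, h2, sub_self, zero_sub, nw]

end GB

/-- the number of generators over a `z` in a G2 component -/
theorem GB.card_twins [Finite A] {v w : A} (h : GB D v w) (rk : ∀ v ∈ D.R, ∃ w ∈ D.R, D.Lk v w) :
    Nat.card {k : A // k ∈ D.R ∧ k + k = v + v} ≤ 8 := by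
  have e1 : Nat.card {k : A // k ∈ D.R ∧ k + k = v + v} =
      ({k : A | k ∈ D.R ∧ k + k = v + v} : Set A).ncard := rfl
  rw [e1]
  have hsub : ({k : A | k ∈ D.R ∧ k + k = v + v} : Set A) ⊆
      {v, -v, v + (w + w), -(v + (w + w))} := by
    rintro k ⟨hk, tk⟩
    have hc : D.Conn v k := conn_of_twin h.hv hk tk.symm rk
    rcases cases_f h.hv hk with h0 | h0 | h0 | h0
    · rcases h.orth hc h0 with h1 | h1
      · right; right; left; exact h1
      · right; right; right; exact h1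
    · exfalso
      have h1 := h0.two
      rw [← map_add, tk, map_add, D.self v h.hv] at h1
      exact absurd h1 (by decide)
    · left; exact h0
    · right; left; exact h0
  have h3 := Set.ncard_le_ncard hsub (Set.toFinite _)
  have h4 : ({v, -v, v + (w + w), -(v + (w + w))} : Set A).ncard ≤ 4 := by
    refine (Set.ncard_insert_le _ _).trans ?_
    have h5 := (Set.ncard_insert_le (-v) ({v + (w + w), -(v + (w + w))} : Set A))
    have h6 := (Set.ncard_insert_le (v + (w + w)) ({-(v + (w + w))} : Set A))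
    rw [Set.ncard_singleton] at h6
    omega
  omega

/-! ### The symmetric case: construction of the bilinear form -/

section Sym

variable (D)

/-- symmetry and generation -/
structure Sy : Prop where
  sym : ∀ v ∈ D.R, ∀ w ∈ D.R, D.f v w = D.f w v
  gen : AddSubgroup.closure D.R = ⊤

variable {D}

theorem Sy.ext (h : Sy D) {φ ψ : A →+ ZMod 4} (he : ∀ v ∈ D.R, φ v = ψ v) : φ = ψ := by
  apply AddMonoidHom.ext
  intro a
  have ha : a ∈ AddSubgroup.closure D.R := by rw [h.gen]; trivial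
  induction ha using AddSubgroup.closure_induction with
  | mem x hx => exact he x hx
  | zero => rw [map_zero, map_zero]
  | add x y _ _ hx hy => rw [map_add, map_add, hx, hy]
  | neg x _ hx => rw [map_neg, map_neg, hx]

theorem Sy.exists_form (h : Sy D) (b : A) : ∃ φ : A →+ ZMod 4, ∀ v ∈ D.R, φ v = D.f v b := by
  have hb : b ∈ AddSubgroup.closure D.R := by rw [h.gen]; trivial
  induction hb using AddSubgroup.closure_induction with
  | mem x hx => exact ⟨D.f x, fun v hv => h.sym x hx v hv⟩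
  | zero => exact ⟨0, fun v _ => by rw [map_zero]; rfl⟩
  | add x y _ _ hx hy =>
    obtain ⟨φ, hφ⟩ := hx
    obtain ⟨ψ, hψ⟩ := hy
    exact ⟨φ + ψ, fun v hv => by rw [AddMonoidHom.add_apply, hφ v hv, hψ v hv, map_add]⟩
  | neg x _ hx =>
    obtain ⟨φ, hφ⟩ := hx
    exact ⟨-φ, fun v hv => by rw [AddMonoidHom.neg_apply, hφ v hv, map_neg]⟩

/-- the bilinear form -/
noncomputable def Sy.B (h : Sy D) : A →+ A →+ ZMod 4 where
  toFun b := (h.exists_form b).choose
  map_zero' := h.ext fun v hv => by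
    rw [(h.exists_form 0).choose_spec v hv, map_zero, AddMonoidHom.zero_apply]
  map_add' a b := h.ext fun v hv => by
    rw [(h.exists_form (a + b)).choose_spec v hv, AddMonoidHom.add_apply,
      (h.exists_form a).choose_spec v hv, (h.exists_form b).choose_spec v hv, map_add]

theorem Sy.B_apply (h : Sy D) (b : A) {v : A} (hv : v ∈ D.R) : h.B b v = D.f v b :=
  (h.exists_form b).choose_spec v hv

theorem Sy.B_root (h : Sy D) {v : A} (hv : v ∈ D.R) (a : A) : h.B v a = D.f v a := by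
  have : h.B v = D.f v := h.ext fun w hw => by rw [h.B_apply v hw, h.sym w hw v hv]
  rw [this]

theorem Sy.B_symm (h : Sy D) (a b : A) : h.B a b = h.B b a := by
  have hb : b ∈ AddSubgroup.closure D.R := by rw [h.gen]; trivial
  induction hb using AddSubgroup.closure_induction with
  | mem x hx => rw [h.B_apply a hx, h.B_root hx]
  | zero => rw [map_zero, map_zero, AddMonoidHom.zero_apply]
  | add x y _ _ hx hy => rw [map_add, map_add, AddMonoidHom.add_apply, hx, hy]
  | neg x _ hx => rw [map_neg, map_neg, AddMonoidHom.neg_apply, hx]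

/-- the bilinear root datum -/
noncomputable def Sy.rd (h : Sy D) : RD A where
  B := h.B
  R := D.R
  symm := h.B_symm
  neg := D.neg
  self v hv := by rw [h.B_root hv, D.self v hv]
  eq_or v hv w hw h1 := D.eq_or v hv w hw (by rw [← h.B_root hv, h1])
  add v hv w hw h1 := by
    rw [add_comm]
    exact RF.add hv hw (by rw [← h.B_root hv, h1])
  four := D.four

theorem Sy.adj (h : Sy D) {v w : A} : h.rd.Adj v w ↔ D.Adj v w := by
  constructor
  · rintro ⟨h1, h2, h3⟩
    refine ⟨h1, h2, ?_⟩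
    rw [← h.B_root h1]; exact h3
  · rintro ⟨h1, h2, h3⟩
    refine ⟨h1, h2, ?_⟩
    change h.B v w ≠ 0
    rw [h.B_root h1]; exact h3

theorem Sy.conn (h : Sy D) {v w : A} : h.rd.Conn v w ↔ D.Conn v w := by
  constructor
  · intro h1
    induction h1 with
    | refl => exact conn_refl _
    | tail _ hb ih => exact ih.trans (conn_of_adj (h.adj.mp hb))
  · intro h1
    induction h1 with
    | refl => exact RD.conn_refl _
    | tail _ hb ih => exact ih.trans (RD.conn_of_adj (h.adj.mpr hb))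

theorem Sy.lk (h : Sy D) {v w : A} (hv : v ∈ D.R) : h.rd.Lk v w ↔ D.Lk v w := by
  change (h.B v w = 1 ∨ h.B v w = -1) ↔ _
  rw [h.B_root hv]; rfl

theorem Sy.rk (h : Sy D) (rk : ∀ v ∈ D.R, ∃ w ∈ D.R, D.Lk v w) :
    ∀ v ∈ h.rd.R, ∃ w ∈ h.rd.R, h.rd.Lk v w := by
  intro v hv
  obtain ⟨w, hw, h1⟩ := rk v hv
  exact ⟨w, hw, (h.lk hv).mpr h1⟩

/-- the isometry of the bilinear datum -/
noncomputable def Sy.iv (h : Sy D) (σ : IF D) : Iv h.rd where
  s := σ.s
  sq := σ.sq
  mem := σ.mem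
  iso a b := by
    have h1 : ∀ v ∈ D.R, ∀ b, h.B (σ.s v) (σ.s b) = h.B v b := by
      intro v hv b
      rw [h.B_root (σ.mem v hv), h.B_root hv, σ.iso v hv]
    have ha : a ∈ AddSubgroup.closure D.R := by rw [h.gen]; trivial
    change h.B (σ.s a) (σ.s b) = h.B a b
    induction ha using AddSubgroup.closure_induction with
    | mem x hx => exact h1 x hx b
    | zero => rw [map_zero, map_zero, AddMonoidHom.zero_apply, AddMonoidHom.zero_apply]
    | add x y _ _ hx hy =>
      rw [map_add, map_add, map_add, AddMonoidHom.add_apply, AddMonoidHom.add_apply, hx, hy]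
    | neg x _ hx =>
      rw [map_neg, map_neg, map_neg, AddMonoidHom.neg_apply, AddMonoidHom.neg_apply, hx]

theorem Sy.good (h : Sy D) {σ : IF D} (hσ : σ.Good) : (h.iv σ).Good where
  one := hσ.one
  three v hv w hw h1 h2 h3 := hσ.three v hv w hw h1 h2 ((h.lk hv).mp h3)
  two v hv h1 := hσ.two v hv ((h.lk hv).mp h1)

end Sym

/-! ### Both cases -/

/-- all bonds are A2 (and the roots generate), or every root has a G2 bond -/
def Alt (D : RF A) : Prop := Sy D ∨ ∀ v ∈ D.R, ∃ w, GB D v w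

/-- **(L2')** an isometric involution normalising a component fixes one of its `z`'s -/
theorem Alt.fix_z (h : Alt D) {σ : IF D} {v : A} (hv : v ∈ D.R) (hc : D.Conn v (σ.s v)) :
    ∃ n ∈ D.R, D.Conn v n ∧ σ.s (n + n) = n + n := by
  rcases h with h | h
  · obtain ⟨n, hn, hvn, h1⟩ := (h.iv σ).exists_line hv (h.conn.mpr hc)
    refine ⟨n, hn, h.conn.mp hvn, ?_⟩
    change σ.s n = n ∨ σ.s n = -n at h1
    rcases h1 with h1 | h1
    · rw [map_add, h1]
    · rw [map_add, h1]
      have : -n + -n = n + n - (n + n + (n + n)) := by abel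
      rw [this, D.four n hn, sub_zero]
  · obtain ⟨w, hw⟩ := h v hv
    exact hw.fix_z hc

/-- at most eight generators over a `z` -/
theorem Alt.card_le [Finite A] (h : Alt D) (rk : ∀ v ∈ D.R, ∃ w ∈ D.R, D.Lk v w) {v : A}
    (hv : v ∈ D.R) : Nat.card {k : A // k ∈ D.R ∧ k + k = v + v} ≤ 8 := by
  rcases h with h | h
  · obtain ⟨d, hd, hl⟩ := rk v hv
    have hl' := hl.symm hv hd
    have h1 := Iv.card_twins (D := h.rd) (g := v) (d := d) hd
    have f4 := D.four v hv
    let T := {k : A // k ∈ h.rd.R ∧ k + k = v + v ∧ h.rd.B d k = -1}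
    have hlk : ∀ k : A, k ∈ D.R → k + k = v + v → h.B d k = 1 ∨ h.B d k = -1 := by
      intro k hk tk
      rw [h.B_root hd]
      exact twin_lk tk.symm hl'
    have nn : ∀ k : A, k + k = v + v → -k + -k = v + v := by
      intro k tk
      have : -k + -k = -(k + k) := by abel
      rw [this, tk]
      have : -(v + v) = v + v - (v + v + (v + v)) := by abel
      rw [this, f4, sub_zero]
    let φ : T × Bool → {k : A // k ∈ D.R ∧ k + k = v + v} := fun x =>
      if x.2 then ⟨x.1.1, x.1.2.1, x.1.2.2.1⟩ else ⟨-x.1.1, D.neg _ x.1.2.1, nn _ x.1.2.2.1⟩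
    have hφ : Function.Surjective φ := by
      rintro ⟨k, hk, tk⟩
      rcases hlk k hk tk with h2 | h2
      · refine ⟨(⟨-k, D.neg k hk, nn k tk, ?_⟩, false), ?_⟩
        · change h.B d (-k) = -1
          rw [map_neg, h2]
        · simp [φ]
      · exact ⟨(⟨k, hk, tk, h2⟩, true), by simp [φ]⟩
    have h2 := Nat.card_le_card_of_surjective φ hφ
    rw [Nat.card_prod] at h2
    have h3 : Nat.card T ≤ 4 := h1
    have h4 : Nat.card Bool = 2 := by simp
    rw [h4] at h2
    omega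
  · obtain ⟨w, hw⟩ := h v hv
    exact hw.card_twins rk

/-- two moved component pairs give sixteen fixed elements of order two -/
theorem sixteen [Finite A] {σ : IF D} {v w : A} (hv : v ∈ D.R) (hw : w ∈ D.R)
    (rk : ∀ v ∈ D.R, ∃ w ∈ D.R, D.Lk v w)
    (h1 : ¬ D.Conn v (σ.s v)) (h2 : ¬ D.Conn w (σ.s w)) (h3 : ¬ D.Conn v w)
    (h4 : ¬ D.Conn (σ.s v) w) : 16 ≤ Nat.card {u : A // u + u = 0 ∧ σ.s u = u} := by
  obtain ⟨v', hv', hvv'⟩ := rk v hv
  obtain ⟨w', hw', hww'⟩ := rk w hw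
  have cv := conn_of_lk hv hv' hvv'
  have cw := conn_of_lk hw hw' hww'
  have fixm : ∀ x ∈ D.R, (x + x + (σ.s x + σ.s x)) + (x + x + (σ.s x + σ.s x)) = 0 ∧
      σ.s (x + x + (σ.s x + σ.s x)) = x + x + (σ.s x + σ.s x) := by
    intro x hx
    have a1 := D.four x hx
    have a2 := D.four _ (σ.mem x hx)
    constructor
    · have : x + x + (σ.s x + σ.s x) + (x + x + (σ.s x + σ.s x)) =
          (x + x + (x + x)) + (σ.s x + σ.s x + (σ.s x + σ.s x)) := by abel
      rw [this, a1, a2, add_zero]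
    · rw [map_add, map_add, map_add, σ.sq, add_comm]
  -- values of the functionals `f y`
  have sym {x y : A} (h : ¬ D.Conn x y) : ¬ D.Conn y x := fun h' => h h'.symm
  have bv : ∀ x ∈ D.R, ∀ y ∈ D.R, ¬ D.Conn (σ.s x) y →
      D.f y (x + x + (σ.s x + σ.s x)) = D.f y x + D.f y x := by
    intro x hx y hy hn
    rw [map_add, map_add, map_add, orth_of_not_conn hy (σ.mem x hx) (sym hn), add_zero, add_zero]
  have zero_of : ∀ x ∈ D.R, ∀ y ∈ D.R, ¬ D.Conn x y → ¬ D.Conn (σ.s x) y →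
      D.f y (x + x + (σ.s x + σ.s x)) = 0 := by
    intro x hx y hy hn hn'
    rw [bv x hx y hy hn', orth_of_not_conn hy hx (sym hn), add_zero]
  have svv' : D.Conn (σ.s v) (σ.s v') := σ.conn cv
  have sww' : D.Conn (σ.s w) (σ.s w') := σ.conn cw
  have n1 : ¬ D.Conn (σ.s v) v' := fun h => h1 (cv.trans h.symm)
  have n2 : ¬ D.Conn (σ.s v') v := fun h => h1 ((svv'.trans h).symm)
  have n3 : ¬ D.Conn (σ.s v) v := fun h => h1 h.symm
  have n4 : ¬ D.Conn (σ.s v') v' := fun h => n1 (svv'.trans h)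
  have m1 : ¬ D.Conn (σ.s w) w' := fun h => h2 (cw.trans h.symm)
  have m2 : ¬ D.Conn (σ.s w') w := fun h => h2 ((sww'.trans h).symm)
  have m3 : ¬ D.Conn (σ.s w) w := fun h => h2 h.symm
  have m4 : ¬ D.Conn (σ.s w') w' := fun h => m1 (sww'.trans h)
  have k1 : ¬ D.Conn v w' := fun h => h3 (h.trans cw.symm)
  have k2 : ¬ D.Conn v' w := fun h => h3 (cv.trans h)
  have k3 : ¬ D.Conn v' w' := fun h => h3 ((cv.trans h).trans cw.symm)
  have l1 : ¬ D.Conn (σ.s v) w' := fun h => h4 (h.trans cw.symm)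
  have l2 : ¬ D.Conn (σ.s v') w := fun h => h4 (svv'.trans h)
  have l3 : ¬ D.Conn (σ.s v') w' := fun h => h4 ((svv'.trans h).trans cw.symm)
  have swap' : ∀ {x y : A}, ¬ D.Conn (σ.s x) y → ¬ D.Conn (σ.s y) x := by
    intro x y h h'
    apply h
    have := σ.conn h'
    rw [σ.sq] at this
    exact this.symm
  set f₁ := v + v + (σ.s v + σ.s v) with hf1
  set f₂ := v' + v' + (σ.s v' + σ.s v') with hf2
  set f₃ := w + w + (σ.s w + σ.s w) with hf3
  set f₄ := w' + w' + (σ.s w' + σ.s w') with hf4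
  have e11 : D.f v' f₁ = 2 := by rw [bv v hv v' hv' n1, (hvv'.symm hv hv').two]
  have e21 : D.f v' f₂ = 0 := by rw [bv v' hv' v' hv' n4, D.self v' hv']; decide
  have e31 : D.f v' f₃ = 0 := zero_of w hw v' hv' (sym k2) (swap' l2)
  have e41 : D.f v' f₄ = 0 := zero_of w' hw' v' hv' (sym k3) (swap' l3)
  have e12 : D.f v f₁ = 0 := by rw [bv v hv v hv n3, D.self v hv]; decide
  have e22 : D.f v f₂ = 2 := by rw [bv v' hv' v hv n2, hvv'.two]
  have e32 : D.f v f₃ = 0 := zero_of w hw v hv (sym h3) (swap' h4)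
  have e42 : D.f v f₄ = 0 := zero_of w' hw' v hv (sym k1) (swap' l1)
  have e13 : D.f w' f₁ = 0 := zero_of v hv w' hw' k1 l1
  have e23 : D.f w' f₂ = 0 := zero_of v' hv' w' hw' k3 l3
  have e33 : D.f w' f₃ = 2 := by rw [bv w hw w' hw' m1, (hww'.symm hw hw').two]
  have e43 : D.f w' f₄ = 0 := by rw [bv w' hw' w' hw' m4, D.self w' hw']; decide
  have e14 : D.f w f₁ = 0 := zero_of v hv w hw h3 h4
  have e24 : D.f w f₂ = 0 := zero_of v' hv' w hw k2 l2
  have e34 : D.f w f₃ = 0 := by rw [bv w hw w hw m3, D.self w hw]; decide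
  have e44 : D.f w f₄ = 2 := by rw [bv w' hw' w hw m2, hww'.two]
  have g1 := fixm v hv
  have g2 := fixm v' hv'
  have g3 := fixm w hw
  have g4 := fixm w' hw'
  let P : A → Prop := fun u => u + u = 0 ∧ σ.s u = u
  have Padd : ∀ a b, P a → P b → P (a + b) := by
    intro a b ha hb
    refine ⟨?_, by rw [map_add, ha.2, hb.2]⟩
    have : a + b + (a + b) = (a + a) + (b + b) := by abel
    rw [this, ha.1, hb.1, add_zero]
  have Pif : ∀ (c : Bool) a, P a → P (if c then a else 0) := by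
    intro c a ha
    cases c
    · exact ⟨add_zero _, map_zero _⟩
    · exact ha
  let Φ : Bool × Bool × Bool × Bool → {u : A // u + u = 0 ∧ σ.s u = u} := fun x =>
    ⟨(if x.1 then f₁ else 0) + (if x.2.1 then f₂ else 0) + (if x.2.2.1 then f₃ else 0) +
      (if x.2.2.2 then f₄ else 0),
      Padd _ _ (Padd _ _ (Padd _ _ (Pif _ _ g1) (Pif _ _ g2)) (Pif _ _ g3)) (Pif _ _ g4)⟩
  have hΦ : Function.Injective Φ := by
    rintro ⟨a, b, c, d⟩ ⟨a', b', c', d'⟩ hab
    have h0 := congrArg Subtype.val hab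
    simp only [Φ] at h0
    have t1 := congrArg (D.f v') h0
    have t2 := congrArg (D.f v) h0
    have t3 := congrArg (D.f w') h0
    have t4 := congrArg (D.f w) h0
    simp only [map_add, apply_ite (D.f v'), apply_ite (D.f v), apply_ite (D.f w'),
      apply_ite (D.f w), map_zero, e11, e21, e31, e41, e12, e22, e32, e42, e13, e23, e33, e43,
      e14, e24, e34, e44, ite_self, add_zero, zero_add] at t1 t2 t3 t4
    have fin : ∀ x y : Bool, (if x = true then (2 : ZMod 4) else 0) = (if y = true then 2 else 0) →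
        x = y := by decide
    rw [fin _ _ t1, fin _ _ t2, fin _ _ t3, fin _ _ t4]
  have := Nat.card_le_card_of_injective Φ hΦ
  simpa only [_root_.ge_iff_le, _root_.Nat.card_eq_fintype_card, _root_.Fintype.card_prod, _root_.Fintype.card_bool, _root_.Nat.reduceMul] using this

end RF

end Cfsg.Agent.Cit.Nil.CV3
end

-- part: Cit/Nil/CV3/World
section
set_option linter.all false
open scoped Cfsg.Agent.FastGrp

/-!
# The world of section 3 of (CV), element-wise (S1309)

`PW A R f` : `A` an abelian subgroup of `G`, `R` the set of generators of the `V_K ≤ A`, `f v a = al_K(a)`.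
-/

set_option autoImplicit false
set_option linter.style.haveILetI false
set_option linter.unusedSectionVars false

namespace Cfsg.Agent.Cit.Nil.CV3

open Subgroup

variable {G : Type*} [Group G]

/-- root datum of `A`, element-wise, with the action of `N(A)` -/
structure PW (A : Subgroup G) (R : Set G) (f : G → G → ZMod 4) : Prop where
  comm : ∀ a ∈ A, ∀ b ∈ A, a * b = b * a
  le : ∀ v ∈ R, v ∈ A
  inv : ∀ v ∈ R, v⁻¹ ∈ R
  f_inv : ∀ v ∈ R, ∀ a ∈ A, f v⁻¹ a = -f v a
  f_mul : ∀ v ∈ R, ∀ a ∈ A, ∀ b ∈ A, f v (a * b) = f v a + f v b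
  self : ∀ v ∈ R, f v v = 2
  zero : ∀ v ∈ R, ∀ w ∈ R, f v w = 0 → f w v = 0
  eq_or : ∀ v ∈ R, ∀ w ∈ R, f v w = 2 → w = v ∨ w = v⁻¹
  sub : ∀ v ∈ R, ∀ w ∈ R, f v w = 1 → w * v⁻¹ ∈ R
  f_sub : ∀ v ∈ R, ∀ w ∈ R, f v w = 1 → ∀ a ∈ A, f (w * v⁻¹) a = f w a - f v a * f w v
  four : ∀ v ∈ R, v * v * (v * v) = 1
  conjR : ∀ g ∈ normalizer (A : Set G), ∀ v ∈ R, g * v * g⁻¹ ∈ R
  iso : ∀ g ∈ normalizer (A : Set G), ∀ v ∈ R, ∀ a ∈ A, f (g * v * g⁻¹) (g * a * g⁻¹) = f v a

namespace PW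

variable {A : Subgroup G} {R : Set G} {f : G → G → ZMod 4}

/-- the commutative group structure of `A` -/
@[reducible] def cg (h : PW A R f) : CommGroup A :=
  { (inferInstance : Group A) with mul_comm := fun a b => Subtype.ext (h.comm a a.2 b b.2) }

/-- same component -/
def Cn (R : Set G) (f : G → G → ZMod 4) (v w : G) : Prop :=
  Relation.ReflTransGen (fun v w => v ∈ R ∧ w ∈ R ∧ f v w ≠ 0) v w

/-- linked -/
def Lk (f : G → G → ZMod 4) (v w : G) : Prop := f v w = 1 ∨ f v w = -1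

open Classical in
/-- the functional of `v` -/
noncomputable def fn (h : PW A R f) (v : Additive A) :
    letI := h.cg
    Additive A →+ ZMod 4 :=
  letI := h.cg
  if hv : ((v.toMul : A) : G) ∈ R then
    { toFun := fun a => f (v.toMul : A) (a.toMul : A)
      map_zero' := by
        have h1 := h.f_mul _ hv 1 A.one_mem 1 A.one_mem
        rw [mul_one] at h1
        have h2 : f (v.toMul : A) 1 = 0 := by simpa using h1
        simpa using h2
      map_add' := fun a b => h.f_mul _ hv _ a.toMul.2 _ b.toMul.2 }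
  else 0

theorem fn_apply (h : PW A R f) {v : Additive A} (hv : ((v.toMul : A) : G) ∈ R) (a : Additive A) :
    letI := h.cg
    h.fn v a = f (v.toMul : A) (a.toMul : A) := by
  letI := h.cg
  unfold fn
  rw [dif_pos hv]
  rfl

/-- the root datum of `A` -/
noncomputable def rf (h : PW A R f) :
    letI := h.cg
    RF (Additive A) :=
  letI := h.cg
  { f := h.fn
    R := {v | ((v.toMul : A) : G) ∈ R}
    neg := fun v hv => h.inv _ hv
    f_neg := fun v hv a => by
      rw [h.fn_apply (v := -v) (h.inv _ hv), h.fn_apply hv]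
      exact h.f_inv _ hv _ a.toMul.2
    self := fun v hv => by rw [h.fn_apply hv]; exact h.self _ hv
    zero := fun v hv w hw h1 => by
      rw [h.fn_apply hv] at h1
      rw [h.fn_apply hw]; exact h.zero _ hv _ hw h1
    eq_or := fun v hv w hw h1 => by
      rw [h.fn_apply hv] at h1
      rcases h.eq_or _ hv _ hw h1 with h2 | h2
      · left; exact congrArg Additive.ofMul (Subtype.ext h2 : w.toMul = v.toMul)
      · right; exact congrArg Additive.ofMul (Subtype.ext h2 : w.toMul = v.toMul⁻¹)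
    sub := fun v hv w hw h1 => by
      rw [h.fn_apply hv] at h1
      have := h.sub _ hv _ hw h1
      rw [sub_eq_add_neg]
      exact this
    f_sub := fun v hv w hw h1 a => by
      rw [h.fn_apply hv] at h1
      have h2 := h.sub _ hv _ hw h1
      have h3 : (((w - v).toMul : A) : G) ∈ R := by rw [sub_eq_add_neg]; exact h2
      rw [h.fn_apply h3, h.fn_apply hv, h.fn_apply hw, h.fn_apply hw]
      have h4 := h.f_sub _ hv _ hw h1 _ a.toMul.2
      rw [← h4]
      have h5 : (((w - v).toMul : A) : G) = (w.toMul : A) * ((v.toMul : A) : G)⁻¹ := by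
        rw [sub_eq_add_neg]; rfl
      rw [h5]
    four := fun v hv => congrArg Additive.ofMul (Subtype.ext (h.four _ hv) :
      v.toMul * v.toMul * (v.toMul * v.toMul) = 1) }

/-- conjugation by an element of `N(A)` -/
def cjA (A : Subgroup G) {g : G} (hg : g ∈ normalizer (A : Set G)) : A →* A where
  toFun a := ⟨g * a * g⁻¹, (mem_normalizer_iff.mp hg a).mp a.2⟩
  map_one' := Subtype.ext (by simp)
  map_mul' a b := Subtype.ext (by simp [mul_assoc])

/-- the isometry of an involution in `N(A)` -/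
noncomputable def ifo (h : PW A R f) {g : G} (hg : g ∈ normalizer (A : Set G)) (h2 : g * g = 1) :
    letI := h.cg
    RF.IF h.rf :=
  letI := h.cg
  { s := MonoidHom.toAdditive (cjA A hg)
    sq := fun a => by
      refine congrArg Additive.ofMul (Subtype.ext ?_ : cjA A hg (cjA A hg a.toMul) = a.toMul)
      change g * (g * (a.toMul : A) * g⁻¹) * g⁻¹ = (a.toMul : A)
      have hi : g⁻¹ = g := inv_eq_of_mul_eq_one_left h2
      rw [hi]
      calc g * (g * ((a.toMul : A) : G) * g) * g = (g * g) * (a.toMul : A) * (g * g) := by group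
        _ = (a.toMul : A) := by rw [h2]; group
    mem := fun v hv => h.conjR g hg _ hv
    iso := fun v hv a => by
      have h3 : (((MonoidHom.toAdditive (cjA A hg) v).toMul : A) : G) ∈ R := h.conjR g hg _ hv
      change h.fn _ _ = h.fn _ _
      rw [h.fn_apply h3, h.fn_apply hv]
      exact h.iso g hg _ hv _ a.toMul.2 }

theorem cn_iff (h : PW A R f) {v w : Additive A} :
    letI := h.cg
    h.rf.Conn v w ↔ Cn R f (v.toMul : A) (w.toMul : A) := by
  letI := h.cg
  constructor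
  · intro h1
    induction h1 with
    | refl => exact Relation.ReflTransGen.refl
    | tail _ hb ih =>
      refine ih.tail ⟨hb.1, hb.2.1, ?_⟩
      have := hb.2.2
      change h.fn _ _ ≠ 0 at this
      rwa [h.fn_apply hb.1] at this
  · intro h1
    have key : ∀ x : G, Cn R f (v.toMul : A) x → ∀ hx : x ∈ A,
        h.rf.Conn v (Additive.ofMul (⟨x, hx⟩ : A)) := by
      intro x hx
      induction hx with
      | refl => intro hx; exact Relation.ReflTransGen.refl
      | @tail b c hab hb ih =>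
        intro hx
        refine (ih (h.le _ hb.1)).tail ⟨hb.1, hb.2.1, ?_⟩
        change h.fn _ _ ≠ 0
        rw [h.fn_apply (v := Additive.ofMul (⟨b, h.le _ hb.1⟩ : A)) hb.1]
        exact hb.2.2
    exact key _ h1 (w.toMul : A).2

theorem conn_iff (h : PW A R f) {v w : G} (hv : v ∈ A) (hw : w ∈ A) :
    letI := h.cg
    h.rf.Conn (Additive.ofMul (⟨v, hv⟩ : A)) (Additive.ofMul (⟨w, hw⟩ : A)) ↔ Cn R f v w :=
  h.cn_iff

theorem lk_iff (h : PW A R f) {v w : G} (hv : v ∈ R) (hw : w ∈ A) :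
    letI := h.cg
    h.rf.Lk (Additive.ofMul (⟨v, h.le v hv⟩ : A)) (Additive.ofMul (⟨w, hw⟩ : A)) ↔ Lk f v w := by
  letI := h.cg
  change (h.fn _ _ = 1 ∨ h.fn _ _ = -1) ↔ _
  rw [h.fn_apply (v := Additive.ofMul (⟨v, h.le v hv⟩ : A)) hv]
  rfl

theorem Cn.refl (v : G) : Cn R f v v := Relation.ReflTransGen.refl

theorem Cn.trans {u v w : G} (h1 : Cn R f u v) (h2 : Cn R f v w) : Cn R f u w :=
  Relation.ReflTransGen.trans h1 h2

theorem Cn.mem {v w : G} (hv : v ∈ R) (h1 : Cn R f v w) : w ∈ R := by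
  induction h1 with
  | refl => exact hv
  | tail _ hb _ => exact hb.2.1

theorem Cn.symm (h : PW A R f) {v w : G} (h1 : Cn R f v w) : Cn R f w v := by
  induction h1 with
  | refl => exact Cn.refl _
  | tail _ hb ih =>
    exact Cn.trans (Relation.ReflTransGen.single ⟨hb.2.1, hb.1, fun h0 => hb.2.2 (h.zero _ hb.2.1 _ hb.1 h0)⟩) ih

theorem Cn.conj (h : PW A R f) {g : G} (hg : g ∈ normalizer (A : Set G)) {v w : G}
    (h1 : Cn R f v w) : Cn R f (g * v * g⁻¹) (g * w * g⁻¹) := by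
  induction h1 with
  | refl => exact Cn.refl _
  | tail _ hb ih =>
    refine ih.trans (Relation.ReflTransGen.single ⟨h.conjR g hg _ hb.1, h.conjR g hg _ hb.2.1, ?_⟩)
    rw [h.iso g hg _ hb.1 _ (h.le _ hb.2.1)]
    exact hb.2.2

/-- every root has a neighbour -/
def Rk (R : Set G) (f : G → G → ZMod 4) : Prop := ∀ v ∈ R, ∃ w ∈ R, Lk f v w

theorem rk (h : PW A R f) (hrk : Rk R f) :
    letI := h.cg
    ∀ v ∈ h.rf.R, ∃ w ∈ h.rf.R, h.rf.Lk v w := by
  letI := h.cg
  intro v hv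
  obtain ⟨w, hw, h1⟩ := hrk _ hv
  refine ⟨Additive.ofMul (⟨w, h.le w hw⟩ : A), hw, ?_⟩
  exact (h.lk_iff hv (h.le w hw)).mpr h1

theorem cn_of_twin (h : PW A R f) (hrk : Rk R f) {v w : G} (hv : v ∈ R) (hw : w ∈ R)
    (h2 : v * v = w * w) : Cn R f v w := by
  letI := h.cg
  have h3 := RF.conn_of_twin (D := h.rf) (v := Additive.ofMul (⟨v, h.le v hv⟩ : A))
    (w := Additive.ofMul (⟨w, h.le w hw⟩ : A)) hv hw
    (congrArg Additive.ofMul (Subtype.ext h2 : (⟨v, h.le v hv⟩ : A) * ⟨v, h.le v hv⟩ =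
      ⟨w, h.le w hw⟩ * ⟨w, h.le w hw⟩)) (h.rk hrk)
  exact (h.conn_iff _ _).mp h3

/-- all bonds are A2 and the roots generate, or every root has a G2 bond -/
def Al (A : Subgroup G) (R : Set G) (f : G → G → ZMod 4) : Prop :=
  ((∀ v ∈ R, ∀ w ∈ R, f v w = f w v) ∧ closure R = A) ∨
    ∀ v ∈ R, ∃ w ∈ R, f v w = 1 ∧ f w v = -1

theorem sy (h : PW A R f) (hs : ∀ v ∈ R, ∀ w ∈ R, f v w = f w v) (hc : closure R = A) :
    letI := h.cg
    RF.Sy h.rf := by
  letI := h.cg
  refine ⟨?_, ?_⟩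
  · intro v hv w hw
    change h.fn _ _ = h.fn _ _
    rw [h.fn_apply hv, h.fn_apply hw]
    exact hs _ hv _ hw
  · rw [eq_top_iff]
    intro a _
    have key : ∀ x : G, x ∈ closure R → ∀ hx : x ∈ A,
        (Additive.ofMul (⟨x, hx⟩ : A)) ∈ AddSubgroup.closure h.rf.R := by
      intro x hx
      induction hx using Subgroup.closure_induction with
      | mem x hx => intro _; exact AddSubgroup.subset_closure hx
      | one => intro _; exact AddSubgroup.zero_mem _
      | mul x y hx' hy' hx hy =>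
        intro _
        have hxA : x ∈ A := hc ▸ hx'
        have hyA : y ∈ A := hc ▸ hy'
        exact AddSubgroup.add_mem _ (hx hxA) (hy hyA)
      | inv x hx' hx =>
        intro _
        have hxA : x ∈ A := hc ▸ hx'
        exact AddSubgroup.neg_mem _ (hx hxA)
    have h1 : ((a.toMul : A) : G) ∈ closure R := hc ▸ a.toMul.2
    exact key _ h1 a.toMul.2

theorem gb (h : PW A R f) {v w : G} (hv : v ∈ R) (hw : w ∈ R) (h1 : f v w = 1) (h2 : f w v = -1) :
    letI := h.cg
    RF.GB h.rf (Additive.ofMul (⟨v, h.le v hv⟩ : A)) (Additive.ofMul (⟨w, h.le w hw⟩ : A)) := by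
  letI := h.cg
  refine ⟨hv, hw, ?_, ?_⟩
  · change h.fn _ _ = _
    rw [h.fn_apply (v := Additive.ofMul (⟨v, h.le v hv⟩ : A)) hv]
    exact h1
  · change h.fn _ _ = _
    rw [h.fn_apply (v := Additive.ofMul (⟨w, h.le w hw⟩ : A)) hw]
    exact h2

theorem alt (h : PW A R f) (hal : Al A R f) :
    letI := h.cg
    RF.Alt h.rf := by
  letI := h.cg
  rcases hal with ⟨h1, h2⟩ | h1
  · exact Or.inl (h.sy h1 h2)
  · right
    intro v hv
    obtain ⟨w, hw, h2, h3⟩ := h1 _ hv
    exact ⟨_, h.gb hv hw h2 h3⟩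

/-- **(L2')** -/
theorem fix_z (h : PW A R f) (hal : Al A R f) {g : G} (hg : g ∈ normalizer (A : Set G))
    (h2 : g * g = 1) {v : G} (hv : v ∈ R) (hc : Cn R f v (g * v * g⁻¹)) :
    ∃ n ∈ R, Cn R f v n ∧ g * (n * n) * g⁻¹ = n * n := by
  letI := h.cg
  obtain ⟨n, hn, hvn, h3⟩ := (h.alt hal).fix_z (σ := h.ifo hg h2)
    (v := Additive.ofMul (⟨v, h.le v hv⟩ : A)) hv (h.cn_iff.mpr hc)
  refine ⟨(n.toMul : A), hn, h.cn_iff.mp hvn, ?_⟩
  exact congrArg Subtype.val (congrArg Additive.toMul h3)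

/-- at most eight generators over one `z` -/
theorem card_le [Finite G] (h : PW A R f) (hal : Al A R f) (hrk : Rk R f) {v : G} (hv : v ∈ R) :
    Nat.card {k : G // k ∈ R ∧ k * k = v * v} ≤ 8 := by
  letI := h.cg
  have h1 := (h.alt hal).card_le (h.rk hrk) (v := Additive.ofMul (⟨v, h.le v hv⟩ : A)) hv
  refine le_trans ?_ h1
  let φ : {k : G // k ∈ R ∧ k * k = v * v} → {k : Additive A // k ∈ h.rf.R ∧
      k + k = Additive.ofMul (⟨v, h.le v hv⟩ : A) + Additive.ofMul (⟨v, h.le v hv⟩ : A)} :=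
    fun k => ⟨Additive.ofMul (⟨k.1, h.le _ k.2.1⟩ : A), k.2.1,
      congrArg Additive.ofMul (Subtype.ext k.2.2 : (⟨k.1, h.le _ k.2.1⟩ : A) * ⟨k.1, h.le _ k.2.1⟩ =
      ⟨v, h.le v hv⟩ * ⟨v, h.le v hv⟩)⟩
  refine Nat.card_le_card_of_injective φ ?_
  intro a b hab
  have h6 : (φ a).1 = (φ b).1 := congrArg Subtype.val hab
  have h7 : ((Additive.toMul (φ a).1 : A) : G) = ((Additive.toMul (φ b).1 : A) : G) :=
    congrArg (fun x : Additive A => ((Additive.toMul x : A) : G)) h6
  exact Subtype.ext h7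

/-- two moved component pairs give sixteen fixed elements of order two -/
theorem sixteen [Finite G] (h : PW A R f) (hrk : Rk R f) {g : G} (hg : g ∈ normalizer (A : Set G))
    (h2 : g * g = 1) {v w : G} (hv : v ∈ R) (hw : w ∈ R) (h1 : ¬ Cn R f v (g * v * g⁻¹))
    (h2' : ¬ Cn R f w (g * w * g⁻¹)) (h3 : ¬ Cn R f v w) (h4 : ¬ Cn R f (g * v * g⁻¹) w) :
    16 ≤ Nat.card {u : G // u ∈ A ∧ u * u = 1 ∧ g * u * g⁻¹ = u} := by
  letI := h.cg
  have h5 := RF.sixteen (D := h.rf) (σ := h.ifo hg h2)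
    (v := Additive.ofMul (⟨v, h.le v hv⟩ : A)) (w := Additive.ofMul (⟨w, h.le w hw⟩ : A)) hv hw
    (h.rk hrk) (fun h' => h1 (h.cn_iff.mp h')) (fun h' => h2' (h.cn_iff.mp h'))
    (fun h' => h3 (h.cn_iff.mp h')) (fun h' => h4 (h.cn_iff.mp h'))
  refine le_trans h5 ?_
  let φ : {u : Additive A // u + u = 0 ∧ (h.ifo hg h2).s u = u} →
      {u : G // u ∈ A ∧ u * u = 1 ∧ g * u * g⁻¹ = u} :=
    fun u => ⟨((u.1.toMul : A) : G), u.1.toMul.2,
      congrArg Subtype.val (congrArg Additive.toMul u.2.1),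
      congrArg Subtype.val (congrArg Additive.toMul u.2.2)⟩
  refine Nat.card_le_card_of_injective φ ?_
  intro a b hab
  have h6 : (φ a).1 = (φ b).1 := congrArg Subtype.val hab
  change ((a.1.toMul : A) : G) = ((b.1.toMul : A) : G) at h6
  exact Subtype.ext (congrArg Additive.ofMul (Subtype.ext h6 : a.1.toMul = b.1.toMul))

/-- the conditions (s1), (s2), (s3) -/
structure Gd (R : Set G) (f : G → G → ZMod 4) (g : G) : Prop where
  one : ∀ v ∈ R, g * v * g⁻¹ ≠ v
  three : ∀ v ∈ R, ∀ w ∈ R, g * v * g⁻¹ = v⁻¹ → g * w * g⁻¹ = w⁻¹ → ¬ Lk f v w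
  two : ∀ v ∈ R, ¬ Lk f v (g * v * g⁻¹)

theorem good (h : PW A R f) {g : G} (hg : g ∈ normalizer (A : Set G)) (h2 : g * g = 1)
    (hd : Gd R f g) :
    letI := h.cg
    (h.ifo hg h2).Good := by
  letI := h.cg
  refine ⟨?_, ?_, ?_⟩
  · intro v hv h1
    exact hd.one _ hv (congrArg Subtype.val (congrArg Additive.toMul h1))
  · intro v hv w hw h1 h3 h4
    refine hd.three _ hv _ hw (congrArg Subtype.val (congrArg Additive.toMul h1))
      (congrArg Subtype.val (congrArg Additive.toMul h3)) ?_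
    exact (h.lk_iff hv (h.le _ hw)).mp h4
  · intro v hv h1
    exact hd.two _ hv ((h.lk_iff hv (h.le _ (h.conjR g hg _ hv))).mp h1)

/-- **(g3)** in the G2 case a good involution normalising the component maps `v` to its twin, up to sign -/
theorem gb_good (h : PW A R f) {v w : G} (hv : v ∈ R) (hw : w ∈ R) (h1 : f v w = 1)
    (h2 : f w v = -1) {g : G} (hg : g ∈ normalizer (A : Set G)) (hg2 : g * g = 1) (hd : Gd R f g)
    (hc : Cn R f v (g * v * g⁻¹)) :
    g * v * g⁻¹ = v * (w * w) ∨ g * v * g⁻¹ = (v * (w * w))⁻¹ := by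
  letI := h.cg
  rcases (h.gb hv hw h1 h2).good (h.good hg hg2 hd) (h.cn_iff.mpr hc) with h3 | h3
  · exact Or.inl (congrArg Subtype.val (congrArg Additive.toMul h3))
  · exact Or.inr (congrArg Subtype.val (congrArg Additive.toMul h3))

end PW

end Cfsg.Agent.Cit.Nil.CV3
end

-- part: Cit/Nil/CV/TProdBase
section
set_option linter.all false
open scoped Cfsg.Agent.FastGrp

/-!
# Internal products of commuting subgroups, and tools modulo odd cores

Tools for the abstract T-type product theorem (`TProd`).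
-/

set_option autoImplicit false
set_option linter.style.haveILetI false

namespace Cfsg.Agent.Cit.Nil.CV.TProd

open Subgroup Cfsg
open Cfsg.Agent.Cit

universe u v

/-! ### Coordinates -/

section coord

variable {G : Type u} [Group G] {ι : Type v} {P : ι → Subgroup G}

/-- the product of the other factors -/
def Oth (P : ι → Subgroup G) (i : ι) : Subgroup G := ⨆ j : {j // j ≠ i}, P j.1

/-- the factors commute -/
def Comm (P : ι → Subgroup G) : Prop := ∀ i j, i ≠ j → ∀ x ∈ P i, ∀ y ∈ P j, x * y = y * x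

/-- the factors are independent -/
def Indep (P : ι → Subgroup G) : Prop := ∀ i, ∀ x ∈ P i, x ∈ Oth P i → x = 1

end coord

/-! ### Elements of odd and of 2-power order -/

section odd

variable {G : Type u} [Group G]

/-- a 2-element in a subgroup of odd order is trivial -/
theorem eq_one_of_odd {N : Subgroup G} (hN : ¬ 2 ∣ Nat.card N) {x : G} (hx : x ∈ N) {k : ℕ} (hk : x ^ 2 ^ k = 1) :
    x = 1 := by
  have h1 : orderOf x ∣ 2 ^ k := orderOf_dvd_of_pow_eq_one hk
  have h2 : orderOf x ∣ Nat.card N := Subgroup.orderOf_dvd_natCard _ hx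
  obtain ⟨m, -, hm⟩ := (Nat.dvd_prime_pow Nat.prime_two).1 h1
  rcases Nat.eq_zero_or_pos m with h0 | h0
  · rw [h0, pow_zero, orderOf_eq_one_iff] at hm
    exact hm
  · exfalso
    apply hN
    refine dvd_trans ?_ h2
    rw [hm]
    exact dvd_pow_self 2 (by omega)

theorem pow_two_pow_eq_one {T : Subgroup G} (hT : IsPGroup 2 T) {x : G} (hx : x ∈ T) : ∃ k : ℕ, x ^ 2 ^ k = 1 := by
  obtain ⟨k, hk⟩ := hT ⟨x, hx⟩
  exact ⟨k, congrArg Subtype.val hk⟩

variable [Finite G]

end odd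

end Cfsg.Agent.Cit.Nil.CV.TProd
end

-- part: Cit/Nil/CV/TProd
section
set_option linter.all false
open scoped Cfsg.Agent.FastGrp

/-!
# The abstract T-type product theorem: the configuration and Lemma A

`TP Z Z0 P O L`: every Sylow 2-subgroup `S` of `G` contains pairwise commuting independent subgroups `P S z`, `z ∈ Z0 S`,
whose involutions form `Z ∩ S`; the `P S w`, `w ≠ z`, are Sylow 2-subgroups of different components `L z w` of `C(z)`
(modulo the core `OC z` of `C(z)`), and `P S z` centralises these components.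

LEMMA A: if `z ∈ Z0 S₁ ∩ Z0 S₂` and `u ∈ S₂` lies in the product `TT Z0 P S₁` then `u ∈ TT Z0 P S₂`.
-/

set_option autoImplicit false
set_option linter.style.haveILetI false

namespace Cfsg.Agent.Cit.Nil.CV.TProd

open Subgroup Cfsg
open Cfsg.Agent.Cit

universe u

section defs

variable {G : Type u} [Group G]

/-- the odd core of `C(z)` -/
def OC (z : G) : Subgroup G := OO (centralizer {z})

/-- the subgroup generated by `Z0 S` -/
def ES (Z0 : Subgroup G → Set G) (S : Subgroup G) : Subgroup G := closure (Z0 S)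

/-- the factors at `S` -/
def PP (Z0 : Subgroup G → Set G) (P : Subgroup G → G → Subgroup G) (S : Subgroup G) : Z0 S → Subgroup G :=
  fun i => P S i

/-- the product of the factors at `S` -/
def TT (Z0 : Subgroup G → Set G) (P : Subgroup G → G → Subgroup G) (S : Subgroup G) : Subgroup G :=
  ⨆ i, PP Z0 P S i

/-- an equivalence relation for the involutions in `C(e)` -/
structure Blk (Z0 : Subgroup G → Set G) (O : G → G → Prop) (e : G) (r : G → G → Prop) : Prop where
  symm : ∀ x y, r x y → r y x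
  trans : ∀ x y z, r x y → r y z → r x z
  conj : ∀ g : G, g * e = e * g → ∀ x y, r x y → r (g * x * g⁻¹) (g * y * g⁻¹)
  orth : ∀ x y, r x y → ¬ O x y
  rep : ∀ S, Syl S ⊤ → e ∈ ES Z0 S → ∀ S', Syl S' ⊤ → e ∈ ES Z0 S' → ∀ z ∈ Z0 S', ∃ w ∈ Z0 S, r z w

/-- **The abstract configuration** -/
structure TP (Z : Set G) (Z0 : Subgroup G → Set G) (P : Subgroup G → G → Subgroup G) (O : G → G → Prop)
    (L : G → G → Subgroup G) : Prop where
  z_sq : ∀ z ∈ Z, z * z = 1
  z_ne : ∀ z ∈ Z, z ≠ 1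
  z_conj : ∀ z ∈ Z, ∀ g : G, g * z * g⁻¹ ∈ Z
  z0_sub : ∀ S, Syl S ⊤ → ∀ z ∈ Z0 S, z ∈ Z
  z0_conj : ∀ S, Syl S ⊤ → ∀ z ∈ Z0 S, ∀ g : G, g * z * g⁻¹ ∈ Z0 (cj g S)
  z0_nt : ∀ S, Syl S ⊤ → (Z0 S).Nontrivial
  p_conj : ∀ S, Syl S ⊤ → ∀ z ∈ Z0 S, ∀ x ∈ P S z, ∀ g : G, g * x * g⁻¹ ∈ P (cj g S) (g * z * g⁻¹)
  p_le : ∀ S, Syl S ⊤ → ∀ z ∈ Z0 S, P S z ≤ S
  p_mem : ∀ S, Syl S ⊤ → ∀ z ∈ Z0 S, z ∈ P S z
  p_cen : ∀ S, Syl S ⊤ → ∀ z ∈ Z0 S, ∀ x ∈ P S z, x * z = z * x
  p_cen' : ∀ S, Syl S ⊤ → ∀ z ∈ Z0 S, ∀ x ∈ P S z, x * x = 1 → (∀ y ∈ P S z, x * y = y * x) → x = 1 ∨ x = z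
  p_card : ∀ S, Syl S ⊤ → ∀ z ∈ Z0 S, 8 ≤ Nat.card (P S z)
  p_two : ∀ S, Syl S ⊤ → ∀ z ∈ Z0 S, ∃ x ∈ P S z, x * x = 1 ∧ x ≠ 1 ∧ x ≠ z
  p_comm : ∀ S, Syl S ⊤ → Comm (PP Z0 P S)
  p_indep : ∀ S, Syl S ⊤ → Indep (PP Z0 P S)
  p_Z : ∀ S, Syl S ⊤ → ∀ z ∈ Z0 S, ∀ x ∈ P S z, x * x = 1 → x ≠ 1 → x ∈ Z
  z_part : ∀ S, Syl S ⊤ → ∀ x ∈ Z, x ∈ S → ∃ z ∈ Z0 S, x ∈ P S z
  o_symm : ∀ x y, O x y → O y x
  o_conj : ∀ x y, O x y → ∀ g : G, O (g * x * g⁻¹) (g * y * g⁻¹)
  o_iff : ∀ S, Syl S ⊤ → ∀ z ∈ Z0 S, ∀ w ∈ Z0 S, ∀ x ∈ P S z, ∀ y ∈ P S w, x ∈ Z → y ∈ Z → (O x y ↔ z ≠ w)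
  ext : ∀ u : G, (∃ k : ℕ, u ^ 2 ^ k = 1) → ∀ J : Set G, (∀ x ∈ J, x ∈ Z ∧ u * x = x * u) → J.Pairwise O →
    ∃ S, Syl S ⊤ ∧ u ∈ S ∧ J ⊆ Z0 S
  stab : ∀ S, Syl S ⊤ → ∀ e ∈ ES Z0 S, e ≠ 1 → ∀ S', Syl S' ⊤ → (∀ x ∈ S, x * e = e * x → x ∈ S') → Z0 S ⊆ Z0 S'
  blk : ∀ e : G, e ≠ 1 → (∃ S, Syl S ⊤ ∧ e ∈ ES Z0 S) → ∃ r : G → G → Prop, Blk Z0 O e r
  l_le : ∀ z w, O z w → L z w ≤ centralizer {z}
  l_core : ∀ z w, O z w → OC z ≤ L z w
  l_mem : ∀ z w, O z w → w ∈ L z w
  l_conj : ∀ z w, O z w → ∀ x ∈ L z w, ∀ g : G, g * x * g⁻¹ ∈ L (g * z * g⁻¹) (g * w * g⁻¹)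
  l_cent : ∀ z w, O z w → ∀ x ∈ L z w, (∀ y ∈ L z w, x * y * x⁻¹ * y⁻¹ ∈ OC z) → x ∈ OC z
  l_comm : ∀ z w w', O z w → O z w' → O w w' → ∀ x ∈ L z w, ∀ y ∈ L z w', x * y * x⁻¹ * y⁻¹ ∈ OC z
  l_rep : ∀ S, Syl S ⊤ → ∀ z ∈ Z0 S, ∀ w, O z w → ∃ w' ∈ Z0 S, w' ≠ z ∧ L z w = L z w'
  l_fus : ∀ z w w', O z w → O z w' → L z w = L z w' → ∃ a ∈ L z w, a * w * a⁻¹ = w'
  l_syl : ∀ S, Syl S ⊤ → ∀ z ∈ Z0 S, ∀ w ∈ Z0 S, z ≠ w → P S w ≤ L z w ∧ ¬ 2 ∣ (P S w).relIndex (L z w)
  l_triv : ∀ S, Syl S ⊤ → ∀ z ∈ Z0 S, ∀ w, O z w → ∀ x ∈ P S z, ∀ y ∈ L z w, x * y * x⁻¹ * y⁻¹ ∈ OC z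

end defs

section oc

variable {G : Type u} [Group G]

theorem oc_odd [Finite G] (z : G) : ¬ 2 ∣ Nat.card (OC z) := odd_OO _

theorem conj_eq_self {z c : G} (hc : c * z = z * c) : c * z * c⁻¹ = z := by rw [hc, mul_inv_cancel_right]

theorem comm_of_conj {z c : G} (hc : c * z * c⁻¹ = z) : c * z = z * c := by
  calc c * z = c * z * c⁻¹ * c := by group
    _ = z * c := by rw [hc]

theorem inv_comm' {z c : G} (hc : c * z = z * c) : c⁻¹ * z = z * c⁻¹ := by
  have h : z * c⁻¹ = c⁻¹ * (c * z) * c⁻¹ := by group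
  rw [h, hc]; group

theorem cj_self {S : Subgroup G} {g : G} (hg : g ∈ S) : cj g S = S := mem_normalizer_iff_cj.1 (le_normalizer hg)

end oc

namespace TP

variable {G : Type u} [Group G] {Z : Set G} {Z0 : Subgroup G → Set G} {P : Subgroup G → G → Subgroup G}
  {O : G → G → Prop} {L : G → G → Subgroup G} (h : TP Z Z0 P O L) {S S₁ S₂ : Subgroup G}
include h

theorem comm (hS : Syl S ⊤) {z w x y : G} (hz : z ∈ Z0 S) (hw : w ∈ Z0 S) (hzw : z ≠ w) (hx : x ∈ P S z)
    (hy : y ∈ P S w) : x * y = y * x :=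
  h.p_comm S hS ⟨z, hz⟩ ⟨w, hw⟩ (fun e => hzw (congrArg Subtype.val e)) x hx y hy

theorem tt_cen (hS : Syl S ⊤) {z u : G} (hz : z ∈ Z0 S) (hu : u ∈ TT Z0 P S) : u * z = z * u := by
  have h1 : TT Z0 P S ≤ centralizer {z} := by
    refine iSup_le fun i x hx => ?_
    rw [mem_centralizer_singleton_iff]
    by_cases hi : (i : G) = z
    · have := h.p_cen S hS i i.2 x hx
      rwa [hi] at this
    · exact h.comm hS i.2 hz hi hx (h.p_mem S hS z hz)
  exact mem_centralizer_singleton_iff.1 (h1 hu)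

theorem z0_fix (hS : Syl S ⊤) {z : G} (hz : z ∈ Z0 S) {g : G} (hg : g ∈ S) : g * z * g⁻¹ ∈ Z0 S := by
  have := h.z0_conj S hS z hz g
  rwa [cj_self hg] at this

theorem o_of_ne (hS : Syl S ⊤) {z w : G} (hz : z ∈ Z0 S) (hw : w ∈ Z0 S) (hzw : z ≠ w) : O z w :=
  (h.o_iff S hS z hz w hw z (h.p_mem S hS z hz) w (h.p_mem S hS w hw) (h.z0_sub S hS z hz)
    (h.z0_sub S hS w hw)).2 hzw

theorem l_norm {z w g x : G} (ho : O z w) (hgz : g * z = z * g) (hgw : g * w = w * g) (hx : x ∈ L z w) :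
    g * x * g⁻¹ ∈ L z w := by
  have := h.l_conj z w ho x hx g
  rwa [conj_eq_self hgz, conj_eq_self hgw] at this

variable [Finite G]

theorem not_mem_oc {z w : G} (hz : z ∈ Z) (hw : z ∈ OC w) : False := by
  refine h.z_ne z hz (eq_one_of_odd (oc_odd w) hw (k := 1) ?_)
  rw [pow_one, pow_two]
  exact h.z_sq z hz

/-- `u ∈ TT S₁ ∩ S₂` fixes the members of `Z0 S₂` if `Z0 S₁` and `Z0 S₂` have a member in common -/
theorem fix (h1 : Syl S₁ ⊤) (h2 : Syl S₂ ⊤) {z u M : G} (hz1 : z ∈ Z0 S₁) (hz2 : z ∈ Z0 S₂) (hu : u ∈ TT Z0 P S₁)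
    (hu2 : u ∈ S₂) (hM : M ∈ Z0 S₂) (hMz : M ≠ z) : u * M = M * u := by
  have huz : u * z = z * u := h.tt_cen h1 hz1 hu
  have ho : O z M := h.o_of_ne h2 hz2 hM hMz.symm
  obtain ⟨w, hw, hwz, hL⟩ := h.l_rep S₁ h1 z hz1 M ho
  have huw : u * w = w * u := h.tt_cen h1 hw hu
  have how : O z w := h.o_of_ne h1 hz1 hw hwz.symm
  by_contra hne
  have hM' : u * M * u⁻¹ ∈ Z0 S₂ := h.z0_fix h2 hM hu2
  have hMM : M ≠ u * M * u⁻¹ := fun e => hne (comm_of_conj e.symm)
  have hM'z : u * M * u⁻¹ ≠ z := by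
    intro e
    apply hMz
    have : M = u⁻¹ * (u * M * u⁻¹) * u := by group
    rw [this, e, mul_assoc, ← huz]; group
  have ho' : O z (u * M * u⁻¹) := h.o_of_ne h2 hz2 hM' hM'z.symm
  have hle : L z M ≤ L z (u * M * u⁻¹) := by
    intro y hy
    have h3 : u⁻¹ * y * u⁻¹⁻¹ ∈ L z M := by
      rw [hL] at hy ⊢
      exact h.l_norm how (inv_comm' huz) (inv_comm' huw) hy
    have h4 := h.l_conj z M ho _ h3 u
    rw [conj_eq_self huz] at h4
    have e : u * (u⁻¹ * y * u⁻¹⁻¹) * u⁻¹ = y := by group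
    rwa [e] at h4
  refine h.not_mem_oc (h.z0_sub S₂ h2 M hM) (h.l_cent z M ho M (h.l_mem z M ho) fun y hy => ?_)
  exact h.l_comm z M _ ho ho' (h.o_of_ne h2 hM hM' hMM) M (h.l_mem z M ho) y (hle hy)

end TP

end Cfsg.Agent.Cit.Nil.CV.TProd
end

-- part: Cit/Nil/CV/TProdC
section
prune_inst 0x400104c005100000000000010a0003e62da000000006b0401d5600f02068e3d4180420721f8a00f110102a224003c0028131800594010000020000200411801a0102a32848048a00020001000a807180c00000000000000000000000000041000000000000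
set_option linter.all false
open scoped Cfsg.Agent.FastGrp

/-!
# The abstract T-type product theorem: strong closure

`TP.closed`: `TT S₁ ∩ S₂ ≤ TT S₂`, and `TP.closed_part`: `P S₁ w ∩ S₂` is in some `P S₂ w'`.

`exists_fixed`: `u ∈ TT S₁ ∩ S₂` centralises a member of `Z0 S₂`.
-/

set_option autoImplicit false
set_option linter.style.haveILetI false

namespace Cfsg.Agent.Cit.Nil.CV.TProd

open Subgroup Cfsg
open Cfsg.Agent.Cit

universe u

section gen

variable {G : Type u} [Group G]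

/-- some power of a nontrivial 2-element is an involution -/
theorem exists_pow_inv {x : G} {k : ℕ} (hk : x ^ 2 ^ k = 1) (hx1 : x ≠ 1) :
    ∃ m : ℕ, x ^ m * x ^ m = 1 ∧ x ^ m ≠ 1 := by
  induction k with
  | zero => exact absurd (by simpa using hk) hx1
  | succ k ih =>
    by_cases h : x ^ 2 ^ k = 1
    · exact ih h
    · refine ⟨2 ^ k, ?_, h⟩
      rw [← pow_add, ← two_mul, ← pow_succ']
      exact hk

variable [Finite G]

/-- a nontrivial normal subgroup of a 2-group meets the centre in an involution -/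
theorem exists_central {Γ K : Subgroup G} (hΓ : IsPGroup 2 Γ) (hK : K ≤ Γ) (hn : ∀ g ∈ Γ, ∀ x ∈ K, g * x * g⁻¹ ∈ K)
    (hne : K ≠ ⊥) : ∃ e ∈ K, e * e = 1 ∧ e ≠ 1 ∧ ∀ g ∈ Γ, g * e = e * g := by
  haveI : Fact (Nat.Prime 2) := ⟨Nat.prime_two⟩
  let act : MulAction Γ K :=
    { smul := fun g x => ⟨g * x * (g : G)⁻¹, hn g g.2 x x.2⟩
      one_smul := fun x => Subtype.ext (by change (1 : G) * x * (1 : G)⁻¹ = x; group)
      mul_smul := fun g g' x => Subtype.ext (by
        change (g * g' : G) * x * (g * g' : G)⁻¹ = g * (g' * x * (g' : G)⁻¹) * (g : G)⁻¹; group) }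
  letI := act
  have hK2 : IsPGroup 2 K := hΓ.to_le hK
  haveI : Nontrivial K := K.nontrivial_iff_ne_bot.2 hne
  obtain ⟨n, hn1, hn2⟩ := hK2.nontrivial_iff_card.1 inferInstance
  have h3 : (1 : K) ∈ MulAction.fixedPoints Γ K := fun g => Subtype.ext (by
    change (g : G) * (1 : G) * (g : G)⁻¹ = 1; group)
  obtain ⟨x, hx, hx1⟩ := hΓ.exists_fixed_point_of_prime_dvd_card_of_fixed_point K
    (by rw [hn2]; exact dvd_pow_self 2 (by omega)) h3
  have hxc : ∀ g ∈ Γ, g * (x : G) = x * g := by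
    intro g hg
    have h4 : (g : G) * x * g⁻¹ = x := congrArg Subtype.val (hx ⟨g, hg⟩)
    exact comm_of_conj h4
  have hx1' : (x : G) ≠ 1 := fun e => hx1 (Subtype.ext e.symm)
  obtain ⟨k, hk⟩ := pow_two_pow_eq_one hK2 x.2
  obtain ⟨y, hy, hy2⟩ := exists_pow_inv hk hx1'
  exact ⟨(x : G) ^ y, pow_mem x.2 _, hy, hy2, fun g hg => (Commute.pow_right (hxc g hg) y)⟩

end gen

namespace TP

variable {G : Type u} [Group G] {Z : Set G} {Z0 : Subgroup G → Set G} {P : Subgroup G → G → Subgroup G}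
  {O : G → G → Prop} {L : G → G → Subgroup G} (h : TP Z Z0 P O L) {S S₁ S₂ : Subgroup G}

include h

variable [Finite G]

end TP

end Cfsg.Agent.Cit.Nil.CV.TProd

private theorem dce_205684ccadf1 : _root_.True := by
  try have : _root_.True := by simp only [_root_.Cfsg.Agent.Cit.Nil.CV.TProd.ES.eq_1]
  exact _root_.True.intro
end

-- part: Cit/Nil/RTwoM/L1/ClaimQ
section
set_option linter.all false
open scoped Cfsg.Agent.FastGrp

/-!
# S1309, (6b), any `r`: CLAIM S, one quaternion group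

`QA K z` : `K z` is a quaternion group of order 8 with involution `z`. The lemmas of `ROne/{Defs,Base,ClaimA}.lean` on
`K z` (only the value `K z` is used).
-/

set_option autoImplicit false
set_option linter.style.haveILetI false
set_option linter.unusedSectionVars false

namespace Cfsg.Agent.Cit.Nil.RTwoM.L1

open Subgroup Cfsg Cfsg.Agent.Cit QuaternionGroup
open ROne (Cen)

variable {G : Type*} [Group G]

/-- `K z` is a quaternion group with involution `z` -/
structure QA (K : G → Subgroup G) (z : G) : Prop where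
  mem : z ∈ K z
  sq : z * z = 1
  ne : z ≠ 1
  q8 : Nonempty (K z ≃* QuaternionGroup 2)

namespace QA

variable {K : G → Subgroup G} {z u v g x y b k c : G} (h : QA K z)

include h

theorem inv : z⁻¹ = z := inv_eq_of_mul_eq_one_right h.sq

/-- the model isomorphism -/
noncomputable def e : K z ≃* ROne.QEight.Q := h.q8.some

theorem e_z : h.e ⟨z, h.mem⟩ = a 2 := by
  have h1 : ∀ x : ROne.QEight.Q, x * x = 1 → x ≠ 1 → x = a 2 := by decide
  apply h1
  · rw [← map_mul, ← map_one h.e]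
    exact congrArg h.e (Subtype.ext h.sq)
  · intro h2
    rw [← map_one h.e] at h2
    exact h.ne (congrArg Subtype.val (h.e.injective h2))

theorem e_inj (hx : x ∈ K z) (hy : y ∈ K z) (he : h.e ⟨x, hx⟩ = h.e ⟨y, hy⟩) : x = y :=
  congrArg Subtype.val (h.e.injective he)

theorem exists_e (p : ROne.QEight.Q) : ∃ x, ∃ hx : x ∈ K z, h.e ⟨x, hx⟩ = p :=
  ⟨(h.e.symm p : K z), (h.e.symm p).2, h.e.apply_symm_apply p⟩

theorem e_mul (hx : x ∈ K z) (hy : y ∈ K z) : h.e ⟨x * y, mul_mem hx hy⟩ = h.e ⟨x, hx⟩ * h.e ⟨y, hy⟩ := by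
  rw [← map_mul]; rfl

theorem e_inv (hx : x ∈ K z) : h.e ⟨x⁻¹, inv_mem hx⟩ = (h.e ⟨x, hx⟩)⁻¹ := by
  rw [← map_inv]; rfl

theorem e_sq (hx : x ∈ K z) (hxx : x * x = z) : h.e ⟨x, hx⟩ * h.e ⟨x, hx⟩ = a 2 := by
  rw [← h.e_mul hx hx, ← h.e_z]
  exact congrArg h.e (Subtype.ext hxx)

/-- the elements different from `1`, `z` have square `z` -/
theorem sq_eq (hx : x ∈ K z) (h1 : x ≠ 1) (h2 : x ≠ z) : x * x = z := by
  have h3 : ∀ x : ROne.QEight.Q, x ≠ 1 → x ≠ a 2 → x * x = a 2 := by decide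
  have h4 : h.e ⟨x, hx⟩ * h.e ⟨x, hx⟩ = a 2 := by
    apply h3
    · intro h3
      rw [← map_one h.e] at h3
      exact h1 (congrArg Subtype.val (h.e.injective h3))
    · intro h3
      rw [← h.e_z] at h3
      exact h2 (congrArg Subtype.val (h.e.injective h3))
  rw [← map_mul, ← h.e_z] at h4
  exact congrArg Subtype.val (h.e.injective h4)

/-- `K z ≤ C(z)` -/
theorem cent (hx : x ∈ K z) : x * z = z * x := by
  have h3 : ∀ x : ROne.QEight.Q, x * a 2 = a 2 * x := by decide
  have h4 := h3 (h.e ⟨x, hx⟩)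
  rw [← h.e_z, ← map_mul, ← map_mul] at h4
  exact congrArg Subtype.val (h.e.injective h4)

/-- elements `i`, `j` generating `K z` -/
theorem exists_ij : ∃ i ∈ K z, ∃ j ∈ K z, i * i = z ∧ j * j = z ∧ j * i = z * (i * j) := by
  have hez := h.e_z
  set f := h.e with hf
  have lift : ∀ p q : K z, f p = f q → (p : G) = q := fun p q hpq => congrArg Subtype.val (f.injective hpq)
  refine ⟨(f.symm (a 1) : K z), (f.symm (a 1)).2, (f.symm (xa 0) : K z), (f.symm (xa 0)).2, ?_, ?_, ?_⟩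
  · refine lift (f.symm (a 1) * f.symm (a 1)) ⟨z, h.mem⟩ ?_
    rw [map_mul, hez, f.apply_symm_apply]; decide
  · refine lift (f.symm (xa 0) * f.symm (xa 0)) ⟨z, h.mem⟩ ?_
    rw [map_mul, hez, f.apply_symm_apply]; decide
  · refine lift (f.symm (xa 0) * f.symm (a 1)) (⟨z, h.mem⟩ * (f.symm (a 1) * f.symm (xa 0))) ?_
    rw [map_mul, map_mul, map_mul, hez, f.apply_symm_apply, f.apply_symm_apply]; decide

/-- two elements of order 4 of `K z` on different axes -/
theorem inv_of_ne (hy : y ∈ K z) (hyy : y * y = z) (hb : b ∈ K z) (hbb : b * b = z) (h1 : b ≠ y)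
    (h2 : b ≠ y⁻¹) : y * b * y⁻¹ = b⁻¹ := by
  have h3 : ∀ p q : ROne.QEight.Q, p * p = a 2 → q * q = a 2 → q ≠ p → q ≠ p⁻¹ → p * q * p⁻¹ = q⁻¹ := by decide
  have h4 := h3 _ _ (h.e_sq hy hyy) (h.e_sq hb hbb) (fun h5 => h1 (h.e_inj _ _ h5))
    (fun h5 => h2 (by rw [← h.e_inv hy] at h5; exact h.e_inj _ _ h5))
  rw [← h.e_mul hy hb, ← h.e_inv hy, ← h.e_mul (mul_mem hy hb) (inv_mem hy), ← h.e_inv hb] at h4
  exact h.e_inj _ _ h4

/-- an element of order 4 is inverted by another one -/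
theorem exists_inv (hy : y ∈ K z) (hyy : y * y = z) :
    ∃ c ∈ K z, c * c = z ∧ c ≠ y ∧ c ≠ y⁻¹ ∧ y * c * y⁻¹ = c⁻¹ ∧ c * y * c⁻¹ = y⁻¹ := by
  obtain ⟨i, hi, j, hj, hii, hjj, hji⟩ := h.exists_ij
  have hne : i ≠ j := by
    rintro rfl
    rw [hii, h.sq] at hji
    exact h.ne hji
  have hne' : i ≠ j⁻¹ := by
    rintro rfl
    rw [mul_inv_cancel, inv_mul_cancel, mul_one] at hji
    exact h.ne hji.symm
  have key : ∀ c ∈ K z, c * c = z → c ≠ y → c ≠ y⁻¹ → c * y * c⁻¹ = y⁻¹ := fun c hc hcc h1 h2 =>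
    h.inv_of_ne hc hcc hy hyy (Ne.symm h1) (fun h3 => h2 (by rw [h3, inv_inv]))
  by_cases h1 : i ≠ y ∧ i ≠ y⁻¹
  · exact ⟨i, hi, hii, h1.1, h1.2, h.inv_of_ne hy hyy hi hii h1.1 h1.2, key i hi hii h1.1 h1.2⟩
  · have h2 : j ≠ y ∧ j ≠ y⁻¹ := by
      rw [not_and_or, not_not, not_not] at h1
      rcases h1 with h1 | h1
      · exact ⟨fun h3 => hne (h1.trans h3.symm), fun h3 => hne' (by rw [h3, inv_inv]; exact h1)⟩
      · exact ⟨fun h3 => hne' (by rw [h3]; exact h1), fun h3 => hne (h1.trans h3.symm)⟩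
    exact ⟨j, hj, hjj, h2.1, h2.2, h.inv_of_ne hy hyy hj hjj h2.1 h2.2, key j hj hjj h2.1 h2.2⟩

theorem inv_eq_mul (hkk : k * k = z) : k⁻¹ = k * z := by
  have h2 : k * k * (k * k) = 1 := by rw [hkk, h.sq]
  rw [← hkk, inv_eq_iff_mul_eq_one]
  calc k * (k * (k * k)) = k * k * (k * k) := by group
    _ = 1 := h2

/-- four elements of order 4 on three axes -/
theorem third (hk : k ∈ K z) (hkk : k * k = z) (hb : b ∈ K z) (hbb : b * b = z) (hx : x ∈ K z)
    (hxx : x * x = z) (h1 : b ≠ k) (h2 : b ≠ k⁻¹) (h3 : x ≠ b) (h4 : x ≠ b⁻¹) (h5 : x ≠ k) (h6 : x ≠ k⁻¹) :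
    x = k * b ∨ x = (k * b)⁻¹ := by
  have key : ∀ p q r : ROne.QEight.Q, p * p = a 2 → q * q = a 2 → r * r = a 2 → q ≠ p → q ≠ p⁻¹ → r ≠ q → r ≠ q⁻¹ →
      r ≠ p → r ≠ p⁻¹ → r = p * q ∨ r = (p * q)⁻¹ := by decide
  have ne : ∀ {a c : G} (ha : a ∈ K z) (hc : c ∈ K z), a ≠ c → h.e ⟨a, ha⟩ ≠ h.e ⟨c, hc⟩ :=
    fun ha hc h7 h8 => h7 (h.e_inj ha hc h8)
  have ne' : ∀ {a c : G} (ha : a ∈ K z) (hc : c ∈ K z), a ≠ c⁻¹ → h.e ⟨a, ha⟩ ≠ (h.e ⟨c, hc⟩)⁻¹ :=
    fun ha hc h7 h8 => h7 (h.e_inj ha (inv_mem hc) (by rw [h8, h.e_inv hc]))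
  rcases key _ _ _ (h.e_sq hk hkk) (h.e_sq hb hbb) (h.e_sq hx hxx) (ne hb hk h1) (ne' hb hk h2) (ne hx hb h3)
    (ne' hx hb h4) (ne hx hk h5) (ne' hx hk h6) with h7 | h7
  · left
    rw [← h.e_mul hk hb] at h7
    exact h.e_inj _ _ h7
  · right
    rw [← h.e_mul hk hb, ← h.e_inv (mul_mem hk hb)] at h7
    exact h.e_inj _ _ h7

/-- the product of two elements of order 4 on different axes has order 4 -/
theorem mul_sq (hk : k ∈ K z) (hkk : k * k = z) (hb : b ∈ K z) (hbb : b * b = z) (h1 : b ≠ k)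
    (h2 : b ≠ k⁻¹) : (k * b) * (k * b) = z := by
  have h3 := h.inv_of_ne hk hkk hb hbb h1 h2
  calc (k * b) * (k * b) = (k * b * k⁻¹) * (k * k) * b := by group
    _ = b⁻¹ * z * b := by rw [h3, hkk]
    _ = b⁻¹ * (z * b) := by group
    _ = z := by rw [← h.cent hb]; group

/-- the elements of order 4 of `K z` in terms of two of them -/
theorem four_list {a b : G} (ha : a ∈ K z) (haa : a * a = z) (hb : b ∈ K z) (hbb : b * b = z)
    (h1 : b ≠ a) (h2 : b ≠ a⁻¹) (hy : y ∈ K z) (hyy : y * y = z) :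
    y = a ∨ y = a⁻¹ ∨ y = b ∨ y = b⁻¹ ∨ y = a * b ∨ y = (a * b)⁻¹ := by
  by_cases h3 : y = b
  · tauto
  by_cases h4 : y = b⁻¹
  · tauto
  by_cases h5 : y = a
  · tauto
  by_cases h6 : y = a⁻¹
  · tauto
  rcases h.third ha haa hb hbb hy hyy h1 h2 h3 h4 h5 h6 with h7 | h7
  · tauto
  · tauto

/-- relations between two elements of order 4 on different axes -/
theorem four_rel {a b : G} (ha : a ∈ K z) (haa : a * a = z) (hb : b ∈ K z) (hbb : b * b = z)
    (h1 : b ≠ a) (h2 : b ≠ a⁻¹) : b * a = z * (a * b) ∧ (a * b) * (a * b) = z ∧ b * a * b = a := by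
  have h3 := h.inv_of_ne ha haa hb hbb h1 h2
  rw [h.inv_eq_mul hbb] at h3
  have hba : a * b = b * z * a := by rw [← h3]; group
  have hza := h.cent ha
  have hzb := h.cent hb
  have hzz := h.sq
  have h4 : b * a = z * (a * b) := by
    rw [hba, hzb]
    calc b * a = (z * z) * b * a := by rw [hzz, one_mul]
      _ = z * (z * b * a) := by group
  refine ⟨h4, h.mul_sq ha haa hb hbb h1 h2, ?_⟩
  rw [h4]
  calc z * (a * b) * b = z * a * (b * b) := by group
    _ = a * (z * z) := by rw [hbb, ← hza]; group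
    _ = a := by rw [hzz, mul_one]

/-! ### The conjugation action on `K z` -/

/-- conjugation by `g` normalising `K z` -/
def actK (g : G) (hg : ∀ x, g * x * g⁻¹ ∈ K z ↔ x ∈ K z) : MulAut (K z) where
  toFun x := ⟨g * x * g⁻¹, (hg x).2 x.2⟩
  invFun x := ⟨g⁻¹ * x * g, (hg _).1 (by
    have : g * (g⁻¹ * (x : G) * g) * g⁻¹ = x := by group
    rw [this]; exact x.2)⟩
  left_inv x := Subtype.ext (by change g⁻¹ * (g * x * g⁻¹) * g = x; group)
  right_inv x := Subtype.ext (by change g * (g⁻¹ * x * g) * g⁻¹ = x; group)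
  map_mul' x y := Subtype.ext (by change g * (x * y) * g⁻¹ = (g * x * g⁻¹) * (g * y * g⁻¹); group)

/-- conjugation by `g` on the model of `K z` -/
noncomputable def rho (g : G) (hg : ∀ x, g * x * g⁻¹ ∈ K z ↔ x ∈ K z) : MulAut ROne.QEight.Q :=
  (h.e.symm.trans (actK g hg)).trans h.e

theorem rho_e (hg : ∀ x, g * x * g⁻¹ ∈ K z ↔ x ∈ K z) (hx : x ∈ K z) :
    h.rho g hg (h.e ⟨x, hx⟩) = h.e ⟨g * x * g⁻¹, (hg x).2 hx⟩ := by
  change h.e (actK g hg (h.e.symm (h.e ⟨x, hx⟩))) = _
  rw [h.e.symm_apply_apply]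
  rfl

/-- **(1.1)** : `c` normalises `K z` and `c²` acts on it as `y` -/
theorem ti_act (hc : ∀ x, c * x * c⁻¹ ∈ K z ↔ x ∈ K z) (hy : y ∈ K z) (hyy : y * y = z)
    (hact : ∀ x ∈ K z, (c * c) * x * (c * c)⁻¹ = y * x * y⁻¹) :
    c * y * c⁻¹ = y ∧ ∀ b ∈ K z, b * b = z → b ≠ y → b ≠ y⁻¹ → c * b * c⁻¹ ≠ b ∧ c * b * c⁻¹ ≠ b⁻¹ := by
  have h2 : ∀ b ∈ K z, b * b = z → b ≠ y → b ≠ y⁻¹ → c * b * c⁻¹ ≠ b ∧ c * b * c⁻¹ ≠ b⁻¹ := by
    intro b hb hbb hby hby'
    have h3 : c * (c * b * c⁻¹) * c⁻¹ = b⁻¹ := by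
      rw [← h.inv_of_ne hy hyy hb hbb hby hby', ← hact b hb]; group
    have h4 : b⁻¹ ≠ b := by
      intro h5
      have h6 : b * b = 1 := by
        nth_rewrite 1 [← h5]
        exact inv_mul_cancel b
      rw [hbb] at h6
      exact h.ne h6
    constructor
    · intro h5
      rw [h5, h5] at h3
      exact h4 h3.symm
    · intro h5
      have h6 : c * b⁻¹ * c⁻¹ = b := by
        have : c * b⁻¹ * c⁻¹ = (c * b * c⁻¹)⁻¹ := by group
        rw [this, h5, inv_inv]
      rw [h5, h6] at h3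
      exact h4 h3.symm
  refine ⟨?_, h2⟩
  have h3 := ROne.QEight.sq_inn (h.rho c hc) (h.e ⟨y, hy⟩) (h.e_sq hy hyy) (by
    intro p
    obtain ⟨x, hx, rfl⟩ := h.exists_e p
    rw [h.rho_e hc hx, h.rho_e hc, ← h.e_mul hy hx, ← h.e_inv hy, ← h.e_mul (mul_mem hy hx) (inv_mem hy)]
    refine congrArg h.e (Subtype.ext ?_)
    change c * (c * x * c⁻¹) * c⁻¹ = y * x * y⁻¹
    rw [← hact x hx]; group)
  rw [h.rho_e hc hy] at h3
  exact h.e_inj _ _ h3

/-! ### Homomorphisms to `±1` -/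

omit h in
theorem units_inv' (a : ℤˣ) : a⁻¹ = a := by
  rcases Int.units_eq_one_or a with h1 | h1 <;> rw [h1] <;> simp

/-- `c ∈ X` normalises `K z`, fixes `k` and moves the other axes of `K z`: `f k = 1` -/
theorem f_one_of_move {X : Subgroup G} (hX : K z ≤ X) (f : X →* ℤˣ) (hk : k ∈ K z) (hkk : k * k = z)
    (hc : c ∈ X) (hcn : ∀ x ∈ K z, c * x * c⁻¹ ∈ K z) (hcu : c * z = z * c) (hck : c * k * c⁻¹ = k)
    (hm : ∀ b ∈ K z, b * b = z → b ≠ k → b ≠ k⁻¹ → c * b * c⁻¹ ≠ b ∧ c * b * c⁻¹ ≠ b⁻¹) : f ⟨k, hX hk⟩ = 1 := by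
  obtain ⟨b, hb, hbb, h1, h2, -, -⟩ := h.exists_inv hk hkk
  obtain ⟨h3, h4⟩ := hm b hb hbb h1 h2
  have hxK : c * b * c⁻¹ ∈ K z := hcn b hb
  have hxx : c * b * c⁻¹ * (c * b * c⁻¹) = z := by
    calc c * b * c⁻¹ * (c * b * c⁻¹) = c * (b * b) * c⁻¹ := by group
      _ = z := by rw [hbb, hcu, mul_inv_cancel_right]
  have h5 : c * b * c⁻¹ ≠ k := by
    intro h6
    apply h1
    have h7 : c * b * c⁻¹ = c * k * c⁻¹ := h6.trans hck.symm
    exact mul_left_cancel (mul_right_cancel h7)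
  have h6 : c * b * c⁻¹ ≠ k⁻¹ := by
    intro h6
    apply h2
    have h7 : c * b * c⁻¹ = c * k⁻¹ * c⁻¹ := by
      rw [h6]
      have : c * k⁻¹ * c⁻¹ = (c * k * c⁻¹)⁻¹ := by group
      rw [this, hck]
    exact mul_left_cancel (mul_right_cancel h7)
  have h7 : f ⟨c * b * c⁻¹, hX hxK⟩ = f ⟨b, hX hb⟩ := by
    have h8 : (⟨c * b * c⁻¹, hX hxK⟩ : X) = ⟨c, hc⟩ * ⟨b, hX hb⟩ * ⟨c, hc⟩⁻¹ := rfl
    rw [h8, map_mul, map_mul, map_inv, mul_comm (f ⟨c, hc⟩), mul_inv_cancel_right]
  have h8 : f ⟨k * b, hX (mul_mem hk hb)⟩ = f ⟨k, hX hk⟩ * f ⟨b, hX hb⟩ := by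
    rw [← map_mul]; rfl
  rcases h.third hk hkk hb hbb hxK hxx h1 h2 h3 h4 h5 h6 with h9 | h9
  · have h10 : (⟨c * b * c⁻¹, hX hxK⟩ : X) = ⟨k * b, hX (mul_mem hk hb)⟩ := Subtype.ext h9
    rw [h10, h8] at h7
    exact mul_eq_right.1 h7
  · have h10 : (⟨c * b * c⁻¹, hX hxK⟩ : X) = ⟨k * b, hX (mul_mem hk hb)⟩⁻¹ := Subtype.ext h9
    rw [h10, map_inv, units_inv', h8] at h7
    exact mul_eq_right.1 h7

/-- `f` is trivial on `K z` if it is trivial on the elements of order 4 -/
theorem f_one_of_all {X : Subgroup G} (hX : K z ≤ X) (f : X →* ℤˣ)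
    (hf : ∀ k (hk : k ∈ K z), k * k = z → f ⟨k, hX hk⟩ = 1) (hx : x ∈ K z) : f ⟨x, hX hx⟩ = 1 := by
  by_cases h1 : x = 1
  · have h2 : (⟨x, hX hx⟩ : X) = 1 := Subtype.ext h1
    rw [h2, map_one]
  by_cases h2 : x = z
  · obtain ⟨i, hi, -, -, hii, -⟩ := h.exists_ij
    have h3 : (⟨x, hX hx⟩ : X) = ⟨i, hX hi⟩ * ⟨i, hX hi⟩ := Subtype.ext (h2.trans hii.symm)
    rw [h3, map_mul, hf i hi hii, one_mul]
  · exact hf x hx (h.sq_eq hx h1 h2)

/-- `d ∈ X` normalises `K z` and moves the three axes of `K z`: homomorphisms `X → ±1` are trivial on `K z` -/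
theorem f_one_of_rot {d : G} {X : Subgroup G} (hX : K z ≤ X) (f : X →* ℤˣ) (hd : d ∈ X)
    (hdn : ∀ x ∈ K z, d * x * d⁻¹ ∈ K z) (hdu : d * z = z * d)
    (hm : ∀ y ∈ K z, y * y = z → d * y * d⁻¹ ≠ y ∧ d * y * d⁻¹ ≠ y⁻¹) (hx : x ∈ K z) : f ⟨x, hX hx⟩ = 1 := by
  refine h.f_one_of_all hX f (fun y hy hyy => ?_) hx
  have cj : ∀ {a : G} (_ : a ∈ K z), d * a * d⁻¹ ∈ K z := fun ha => hdn _ ha
  have sq : ∀ {a : G}, a * a = z → d * a * d⁻¹ * (d * a * d⁻¹) = z := by
    intro a haa
    calc d * a * d⁻¹ * (d * a * d⁻¹) = d * (a * a) * d⁻¹ := by group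
      _ = z := by rw [haa, hdu, mul_inv_cancel_right]
  have fc : ∀ {a : G} (ha : a ∈ K z), f ⟨d * a * d⁻¹, hX (cj ha)⟩ = f ⟨a, hX ha⟩ := by
    intro a ha
    have h8 : (⟨d * a * d⁻¹, hX (cj ha)⟩ : X) = ⟨d, hd⟩ * ⟨a, hX ha⟩ * ⟨d, hd⟩⁻¹ := rfl
    rw [h8, map_mul, map_mul, map_inv, mul_comm (f ⟨d, hd⟩), mul_inv_cancel_right]
  set x := d * y * d⁻¹ with hxdef
  have hxK : x ∈ K z := cj hy
  have hxx : x * x = z := sq hyy
  set x2 := d * x * d⁻¹ with hx2def
  have hx2K : x2 ∈ K z := cj hxK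
  have hx2x : x2 * x2 = z := sq hxx
  obtain ⟨h1, h2⟩ := hm y hy hyy
  obtain ⟨h3, h4⟩ := hm x hxK hxx
  have hyu : y * x = x * y * z := by
    have h5 := h.inv_of_ne hy hyy hxK hxx h1 h2
    rw [h.inv_eq_mul hxx, mul_inv_eq_iff_eq_mul] at h5
    rw [h5, mul_assoc, ← h.cent hy, ← mul_assoc]
  have hyxsq : (y * x) * (y * x) = z := h.mul_sq hy hyy hxK hxx h1 h2
  have key : x2 ≠ y ∧ x2 ≠ y⁻¹ := by
    obtain ⟨h6, h7⟩ := hm (y * x) (mul_mem hy hxK) hyxsq
    have h8 : d * (y * x) * d⁻¹ = x * x2 := by rw [hx2def, hxdef]; group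
    have h9 : (y * x)⁻¹ = y * x * z := h.inv_eq_mul hyxsq
    rw [h8] at h6 h7
    have h10 : x * y = y * x * z := by
      rw [hyu, mul_assoc (x * y), h.sq, mul_one]
    constructor
    · intro h11
      rw [h11] at h7
      exact h7 (by rw [h9]; exact h10)
    · intro h11
      apply h6
      rw [h11, h.inv_eq_mul hyy, ← mul_assoc, h10, mul_assoc (y * x), h.sq, mul_one]
  have e1 : f ⟨x, hX hxK⟩ = f ⟨y, hX hy⟩ := fc hy
  have e2 : f ⟨x2, hX hx2K⟩ = f ⟨y, hX hy⟩ := (fc hxK).trans e1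
  have e3 : f ⟨y * x, hX (mul_mem hy hxK)⟩ = f ⟨y, hX hy⟩ * f ⟨x, hX hxK⟩ := by rw [← map_mul]; rfl
  have e4 : f ⟨y, hX hy⟩ * f ⟨x, hX hxK⟩ = 1 := by
    rw [e1]
    rcases Int.units_eq_one_or (f ⟨y, hX hy⟩) with h5 | h5 <;> rw [h5] <;> simp
  rcases h.third hy hyy hxK hxx hx2K hx2x h1 h2 h3 h4 key.1 key.2 with h5 | h5
  · have h6 : (⟨x2, hX hx2K⟩ : X) = ⟨y * x, hX (mul_mem hy hxK)⟩ := Subtype.ext h5
    rw [h6, e3, e4] at e2
    exact e2.symm
  · have h6 : (⟨x2, hX hx2K⟩ : X) = ⟨y * x, hX (mul_mem hy hxK)⟩⁻¹ := Subtype.ext h5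
    rw [h6, map_inv, e3, e4, inv_one] at e2
    exact e2.symm

end QA

end Cfsg.Agent.Cit.Nil.RTwoM.L1
end

-- part: Cit/Nil/ROne/GraphB
section
set_option linter.all false
open scoped Cfsg.Agent.FastGrp

/-!
# `r = 1`, section 8 of helper545's text: the classes of components and the subgroup `M`

`Gr Z K P Cn` : `Cn x y` (`x`, `y` in the same connected component) with the properties proved in sections 2 and (8.1):

* `dich` : `P s` (`s` is a nontrivial product of elements of a clique), `x`, `y ∈ Z(s)`: they commute or form a C-swap;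
* `swap` : C-swaps are in the same component;
* `perp` : (8.1).

Then `Rel x y := Cn x y ∨ CP K x y` is an equivalence relation on `Z` (8.2). `MM h z` : the stabiliser of the class of `z`;
(8.3) `centralizer_le_MM`, `rel_of_comm`, `le_MM`, (8.4) `mem_MM`, `mem_of_MM`, (8.5) `centralizer_le_MM'`,
(8.6) `MM_ne_top` (more than one component), `const_false` (only one component and an invariant constant on the component).
-/

set_option autoImplicit false
set_option linter.style.haveILetI false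
set_option linter.unusedSectionVars false

namespace Cfsg.Agent.Cit.Nil.ROne

open Subgroup Cfsg Cfsg.Agent.Cit

variable {G : Type*} [Group G]

/-- see the head of the file -/
structure Gr (Z : Set G) (K : G → Subgroup G) (P : G → Prop) (Cn : G → G → Prop) : Prop where
  w : W Z K
  cls : OneCls Z
  cp : ∀ S : Subgroup G, IsPGroup 2 S → ∀ x ∈ Z, ∀ y ∈ Z, K x ≤ S → K y ≤ S → x ≠ y → CP K x y
  refl : ∀ x ∈ Z, Cn x x
  symm : ∀ x y, Cn x y → Cn y x
  trans : ∀ x y z, Cn x y → Cn y z → Cn x z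
  conj : ∀ x y g, Cn x y → Cn (g * x * g⁻¹) (g * y * g⁻¹)
  pz : ∀ z ∈ Z, P z
  dich : ∀ s, P s → ∀ x ∈ Z, ∀ y ∈ Z, Cen K s x → Cen K s y → x * y = y * x ∨ CP K x (y * x * y⁻¹)
  swap : ∀ x ∈ Z, ∀ y ∈ Z, CP K x (y * x * y⁻¹) → Cn x y
  perp : ∀ x ∈ Z, ∀ y ∈ Z, x * y = y * x → ¬ Cn x y → ∀ x' ∈ Z, ∀ y' ∈ Z, Cn x x' → Cn y y' → CP K x' y'

namespace Gr

theorem conj_inv_conj (g x : G) : g⁻¹ * (g * x * g⁻¹) * g⁻¹⁻¹ = x := by group

theorem conj_conj (g h x : G) : g * (h * x * h⁻¹) * g⁻¹ = (g * h) * x * (g * h)⁻¹ := by group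

variable {Z : Set G} {K : G → Subgroup G} {P : G → Prop} {Cn : G → G → Prop}

/-- the relation of (8.2) -/
def Rel (_h : Gr Z K P Cn) (x y : G) : Prop := Cn x y ∨ CP K x y

section

variable (h : Gr Z K P Cn) {x y z g : G}

theorem rel_refl (hx : x ∈ Z) : h.Rel x x := Or.inl (h.refl x hx)

theorem rel_symm (hxy : h.Rel x y) : h.Rel y x := by
  rcases hxy with h1 | h1
  · exact Or.inl (h.symm x y h1)
  · exact Or.inr h1.symm

theorem rel_conj (hx : x ∈ Z) (hy : y ∈ Z) (hxy : h.Rel x y) (g : G) : h.Rel (g * x * g⁻¹) (g * y * g⁻¹) := by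
  rcases hxy with h1 | h1
  · exact Or.inl (h.conj x y g h1)
  · exact Or.inr (h.w.cp_conj hx hy h1 g)

/-- commuting elements are related -/
theorem rel_of_comm (hx : x ∈ Z) (hy : y ∈ Z) (hxy : x * y = y * x) : h.Rel x y := by
  by_cases h1 : Cn x y
  · exact Or.inl h1
  · exact Or.inr (h.perp x hx y hy hxy h1 x hx y hy (h.refl x hx) (h.refl y hy))

/-- an alternative: two elements in `Z(s)` are related -/
theorem rel_of_P {s : G} (hs : P s) (hx : x ∈ Z) (hy : y ∈ Z) (h1 : Cen K s x) (h2 : Cen K s y) : h.Rel x y := by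
  rcases h.dich s hs x hx y hy h1 h2 with h3 | h3
  · exact h.rel_of_comm hx hy h3
  · exact Or.inl (h.swap x hx y hy h3)

theorem cp_of_rel (hx : x ∈ Z) (hy : y ∈ Z) (hxy : h.Rel x y) (h1 : ¬ Cn x y) {x' y' : G} (hx' : x' ∈ Z)
    (hy' : y' ∈ Z) (hxx : Cn x x') (hyy : Cn y y') : CP K x' y' := by
  rcases hxy with h2 | h2
  · exact absurd h2 h1
  · exact h.perp x hx y hy (h.w.comm_of_cp hx hy h2) h1 x' hx' y' hy' hxx hyy

/-- **(8.2)** -/
theorem rel_trans (hx : x ∈ Z) (hy : y ∈ Z) (hz : z ∈ Z) (hxy : h.Rel x y) (hyz : h.Rel y z) : h.Rel x z := by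
  by_cases h1 : Cn x y
  · by_cases h2 : Cn y z
    · exact Or.inl (h.trans x y z h1 h2)
    · exact Or.inr (h.cp_of_rel hy hz hyz h2 hx hz (h.symm _ _ h1) (h.refl z hz))
  · by_cases h2 : Cn y z
    · exact Or.inr (h.cp_of_rel hx hy hxy h1 hx hz (h.refl x hx) h2)
    · have c1 : CP K y x := (h.cp_of_rel hx hy hxy h1 hx hy (h.refl x hx) (h.refl y hy)).symm
      have c2 : CP K y z := h.cp_of_rel hy hz hyz h2 hy hz (h.refl y hy) (h.refl z hz)
      exact h.rel_of_P (h.pz y hy) hx hz (h.w.cen_of_cp hy c1.symm) (h.w.cen_of_cp hy c2.symm)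

/-- the stabiliser of the class of `z` -/
def MM (z : G) (hz : z ∈ Z) : Subgroup G where
  carrier := {g | h.Rel z (g * z * g⁻¹)}
  one_mem' := by
    change h.Rel z (1 * z * 1⁻¹)
    rw [one_mul, inv_one, mul_one]
    exact h.rel_refl hz
  mul_mem' := by
    intro a b ha hb
    have h1 := h.rel_conj hz (h.w.conjZ z hz b) hb a
    rw [conj_conj] at h1
    exact h.rel_trans hz (h.w.conjZ z hz a) (h.w.conjZ z hz (a * b)) ha h1
  inv_mem' := by
    intro a ha
    have h1 := h.rel_conj hz (h.w.conjZ z hz a) ha a⁻¹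
    rw [conj_inv_conj] at h1
    exact h.rel_symm h1

theorem mem_MM_iff (hz : z ∈ Z) : g ∈ h.MM z hz ↔ h.Rel z (g * z * g⁻¹) := Iff.rfl

/-- related elements have the same stabiliser -/
theorem MM_eq (hx : x ∈ Z) (hy : y ∈ Z) (hxy : h.Rel x y) : h.MM x hx = h.MM y hy := by
  have key : ∀ {x y : G} (hx : x ∈ Z) (hy : y ∈ Z), h.Rel x y → h.MM x hx ≤ h.MM y hy := by
    intro x y hx hy hxy g hg
    have h1 := h.rel_conj hx hy hxy g
    exact h.rel_trans hy hx (h.w.conjZ y hy g) (h.rel_symm hxy)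
      (h.rel_trans hx (h.w.conjZ x hx g) (h.w.conjZ y hy g) hg h1)
  exact le_antisymm (key hx hy hxy) (key hy hx (h.rel_symm hxy))

theorem mem_MM_of_rel (hz : z ∈ Z) (hx : x ∈ Z) (hzx : h.Rel z x) (hg : h.Rel x (g * x * g⁻¹)) :
    g ∈ h.MM z hz := by
  rw [h.MM_eq hz hx hzx]
  exact hg

/-- **(8.3)** -/
theorem centralizer_le_MM (hz : z ∈ Z) (hx : x ∈ Z) (hzx : h.Rel z x) : centralizer {x} ≤ h.MM z hz := by
  intro g hg
  refine h.mem_MM_of_rel hz hx hzx ?_
  rw [mem_centralizer_singleton_iff.1 hg, mul_inv_cancel_right]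
  exact h.rel_refl hx

/-- two elements whose members lie in a common 2-group are related -/
theorem rel_of_le {S : Subgroup G} (hS : IsPGroup 2 S) (hx : x ∈ Z) (hy : y ∈ Z) (h1 : K x ≤ S) (h2 : K y ≤ S) :
    h.Rel x y := by
  by_cases h3 : x = y
  · rw [← h3]
    exact h.rel_refl hx
  · exact Or.inr (h.cp S hS x hx y hy h1 h2 h3)

/-- **(8.3)** -/
theorem le_MM {S : Subgroup G} (hS : IsPGroup 2 S) (hz : z ∈ Z) (h1 : K z ≤ S) : S ≤ h.MM z hz := by
  intro s hs
  refine h.rel_of_le hS hz (h.w.conjZ z hz s) h1 ?_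
  rw [h.w.conjK z hz]
  intro x hx
  have h2 := mul_mem (mul_mem hs (h1 (mem_cj.1 hx))) (inv_mem hs)
  simpa [mul_assoc] using h2

/-- **(8.5)** -/
theorem centralizer_le_MM' {s : G} (hs : P s) (hz : z ∈ Z) (h1 : Cen K s z) : centralizer {s} ≤ h.MM z hz := by
  intro g hg
  refine h.rel_of_P hs hz (h.w.conjZ z hz g) h1 ?_
  intro k hk
  rw [h.w.conjK z hz] at hk
  have h2 := h1 _ (mem_cj.1 hk)
  have h3 := mem_centralizer_singleton_iff.1 hg
  have h4 : g⁻¹ * s * g = s := by rw [mul_assoc, ← h3, inv_mul_cancel_left]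
  calc s * k = (g * (g⁻¹ * s * g) * g⁻¹) * k := by group
    _ = g * (s * (g⁻¹ * k * g)) * g⁻¹ := by rw [h4]; group
    _ = g * ((g⁻¹ * k * g) * (g⁻¹ * s * g)) * g⁻¹ := by rw [h2, h4]
    _ = k * s := by group

end

section

variable [Finite G] (h : Gr Z K P Cn) {x y z g : G}

/-- an element of `Z` in the class of `z` is in `M` -/
theorem mem_MM (hz : z ∈ Z) (hx : x ∈ Z) (hzx : h.Rel z x) : x ∈ h.MM z hz :=
  h.centralizer_le_MM hz hx hzx (mem_centralizer_singleton_iff.2 rfl)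

/-- **(8.4)** -/
theorem rel_of_mem_MM (hz : z ∈ Z) (hx : x ∈ Z) (hxM : x ∈ h.MM z hz) : h.Rel z x := by
  haveI : Fact (Nat.Prime 2) := ⟨Nat.prime_two⟩
  obtain ⟨S, hS⟩ := (h.w.two hz).exists_le_sylow
  have hSM : (S : Subgroup G) ≤ h.MM z hz := h.le_MM S.isPGroup' hz hS
  -- a conjugate of `x` lies in `S`
  let S' : Sylow 2 (h.MM z hz) := S.subtype hSM
  have h1 : IsPGroup 2 (zpowers (⟨x, hxM⟩ : h.MM z hz)) := by
    refine IsPGroup.of_card (n := 1) ?_
    rw [Nat.card_zpowers, pow_one, ← orderOf_injective (h.MM z hz).subtype (Subtype.coe_injective)]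
    exact h.w.ord hx
  obtain ⟨m, hm⟩ := exists_le_cj S' h1
  have h2 : (m : G)⁻¹ * x * m ∈ (S : Subgroup G) := by
    have h3 := mem_cj.1 (hm (mem_zpowers _))
    exact h3
  set m' : G := (m : G)⁻¹ with hm'
  have hm'M : m' ∈ h.MM z hz := inv_mem m.2
  have hx' : m' * x * m'⁻¹ ∈ Z := h.w.conjZ x hx m'
  have h3 : m' * x * m'⁻¹ ∈ (S : Subgroup G) := by
    rw [hm', inv_inv]
    exact h2
  have key : h.Rel z (m' * x * m'⁻¹) := by
    set x' := m' * x * m'⁻¹
    have h4 : K (x' * z * x'⁻¹) ≤ S := by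
      rw [h.w.conjK z hz]
      intro k hk
      have h5 := mul_mem (mul_mem h3 (hS (mem_cj.1 hk))) (inv_mem h3)
      simpa [mul_assoc] using h5
    by_cases h5 : z = x' * z * x'⁻¹
    · refine h.rel_of_comm hz hx' ?_
      exact eq_mul_inv_iff_mul_eq.1 h5
    · exact Or.inl (h.swap z hz x' hx' (h.cp S S.isPGroup' z hz _ (h.w.conjZ z hz x') hS h4 h5))
  have h6 := h.rel_conj hz hx' key m'⁻¹
  rw [conj_inv_conj] at h6
  exact h.rel_trans hz (h.w.conjZ z hz m'⁻¹) hx ((h.mem_MM_iff hz).1 (inv_mem hm'M)) h6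

/-- an element of `Z` in `M ∩ M^g` : then `g ∈ M` -/
theorem mem_of_mem (hz : z ∈ Z) (hx : x ∈ Z) (h1 : x ∈ h.MM z hz) (h2 : g⁻¹ * x * g ∈ h.MM z hz) :
    g ∈ h.MM z hz := by
  have h3 := h.rel_of_mem_MM hz hx h1
  have hx' : g⁻¹ * x * g⁻¹⁻¹ ∈ Z := h.w.conjZ x hx g⁻¹
  rw [inv_inv] at hx'
  have h4 := h.rel_of_mem_MM hz hx' h2
  have h5 := h.rel_conj hz hx' h4 g
  have h6 : g * (g⁻¹ * x * g) * g⁻¹ = x := by group
  rw [h6] at h5
  exact h.rel_trans hz hx (h.w.conjZ z hz g) h3 (h.rel_symm h5)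

end

end Gr

/-! ### The simple normal subgroup -/

/-- `G0` is a nonabelian simple normal subgroup with trivial centraliser -/
structure FSimp (G0 : Subgroup G) : Prop where
  nor : G0.Normal
  sim : IsSimpleGroup G0
  na : ¬ ∀ x ∈ G0, ∀ y ∈ G0, x * y = y * x
  cen : centralizer (G0 : Set G) = ⊥

namespace FSimp

variable {G0 : Subgroup G} (f : FSimp G0)

include f

/-- a nontrivial subgroup normalised by `G0` contains `G0` -/
theorem le {N : Subgroup G} (hN : ∀ g ∈ G0, ∀ n ∈ N, g * n * g⁻¹ ∈ N) (h1 : N ≠ ⊥) : G0 ≤ N := by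
  haveI := f.nor
  haveI := f.sim
  have h2 : (N.subgroupOf G0).Normal := by
    refine ⟨fun n hn g => ?_⟩
    exact hN g g.2 n hn
  rcases h2.eq_bot_or_eq_top with h3 | h3
  · exfalso
    apply h1
    rw [eq_bot_iff, ← f.cen]
    intro n hn
    rw [mem_centralizer_iff]
    intro g hg
    have h4 : g * n * g⁻¹ * n⁻¹ ∈ N := mul_mem (hN g hg n hn) (inv_mem hn)
    have h5 : g * n * g⁻¹ * n⁻¹ ∈ G0 := by
      have h6 : g * n * g⁻¹ * n⁻¹ = g * (n * g⁻¹ * n⁻¹) := by group
      rw [h6]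
      exact mul_mem hg (f.nor.conj_mem _ (inv_mem hg) n)
    have h6 : (⟨_, h5⟩ : G0) ∈ N.subgroupOf G0 := h4
    rw [h3, mem_bot] at h6
    have h7 : g * n * g⁻¹ * n⁻¹ = 1 := congrArg Subtype.val h6
    have h8 : g * n = n * g := by
      calc g * n = (g * n * g⁻¹ * n⁻¹) * (n * g) := by group
        _ = n * g := by rw [h7, one_mul]
    exact h8
  · exact subgroupOf_eq_top.1 h3

/-- there is no nontrivial commutative subgroup normalised by `G0` -/
theorem eq_bot {N : Subgroup G} (hN : ∀ g ∈ G0, ∀ n ∈ N, g * n * g⁻¹ ∈ N)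
    (h1 : ∀ x ∈ N, ∀ y ∈ N, x * y = y * x) : N = ⊥ := by
  by_contra h2
  exact f.na fun x hx y hy => h1 x (f.le hN h2 hx) y (f.le hN h2 hy)

end FSimp

namespace Gr

variable {Z : Set G} {K : G → Subgroup G} {P : G → Prop} {Cn : G → G → Prop}

variable (h : Gr Z K P Cn) {x y z g : G} {G0 : Subgroup G}

/-- the subgroup generated by the members of a component -/
def XX (_h : Gr Z K P Cn) (x : G) : Subgroup G := Subgroup.closure {k | ∃ y ∈ Z, Cn x y ∧ k ∈ K y}

/-- the members in different components of a class commute -/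
theorem XX_comm (hx : x ∈ Z) (hy : y ∈ Z) (hxy : h.Rel x y) (h1 : ¬ Cn x y) {a b : G} (ha : a ∈ h.XX x)
    (hb : b ∈ h.XX y) : a * b = b * a := by
  have h2 : h.XX x ≤ centralizer (h.XX y : Set G) := by
    rw [XX, closure_le]
    rintro k ⟨x', hx', hxx', hk⟩
    rw [SetLike.mem_coe, mem_centralizer_iff]
    intro b hb
    have h3 : h.XX y ≤ centralizer {k} := by
      rw [XX, closure_le]
      rintro l ⟨y', hy', hyy', hl⟩
      rw [SetLike.mem_coe, mem_centralizer_singleton_iff]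
      exact ((h.cp_of_rel hx hy hxy h1 hx' hy' hxx' hyy').2 k hk l hl).symm
    exact mem_centralizer_singleton_iff.1 (h3 hb)
  exact (mem_centralizer_iff.1 (h2 ha) b hb).symm

end Gr

end Cfsg.Agent.Cit.Nil.ROne

private theorem dce_922bc3df5724 : _root_.True := by
  try have : _root_.True := by simp only [_root_.Cfsg.Agent.Cit.Nil.ROne.Gr.XX.eq_1]
  exact _root_.True.intro
end

-- part: Cit/Nil/ROne/Count
section
prune_inst 0x410100500552200000000001000003a42ca000000002b0401d5600f020f8f3d4100020720f8900e010102aaa4403c8028131800594010000020008200411c01a0042932c6807cac0011001040e807180c00000000000000000000000000041000000000000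
set_option linter.all false
open scoped Cfsg.Agent.FastGrp

/-!
# `r = 1`: the count of step (4) of `AN(s)` (helper472) and of step 9 (helper545)

`Mv Om S S' b` : all members of `Om` are 2-groups with different involutions; `b ∈ S` is an involution normalising no member
of `Om(S)`; the elements `k * b k b⁻¹`, `k ∈ K ∈ Om(S)`, are in `S'`; the nontrivial products of the elements
`z * b z b⁻¹`, `z = zz K`, normalise no member of `Om(S')`.

**`Mv.false`** : this is impossible. The group `E` generated by the elements `k * b k b⁻¹` is faithful on `Om(S')`, and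
`2 ^ m` divides `|E|`, `m = |Om(S)| = |Om(S')|`; but `2 ^ m` does not divide `m!`.
-/

set_option autoImplicit false
set_option linter.style.haveILetI false
set_option linter.unusedSectionVars false

namespace Cfsg.Agent.Cit.ROne

open Subgroup Cfsg Cfsg.Agent.Cit

variable {G : Type*} [Group G]

/-- the centre of a generalised quaternion group -/
theorem GQ_center {Q : Subgroup G} {c v z : G} {n : ℕ} (h : GQ Q c v z n) {x : G} (hx : x ∈ Q) (hc : x * c = c * x)
    (hv : x * v = v * x) : x = 1 ∨ x = z := by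
  by_cases h1 : x = 1
  · exact Or.inl h1
  right
  rcases h.cov x hx with ⟨i, rfl⟩ | ⟨i, rfl⟩
  · refine h.eq_z hx ?_ h1
    have h2 := h.conj_pow i
    rw [← hv] at h2
    exact (eq_inv_iff_mul_eq_one.1 (mul_right_cancel h2))
  · exfalso
    apply h.not_comm
    have h2 : v * c ^ i * c = v * c * c ^ i := by rw [mul_assoc, mul_assoc, ← pow_succ, ← pow_succ']
    rw [h2, ← mul_assoc] at hc
    exact mul_right_cancel hc

/-- a generalised quaternion group has at least 8 elements -/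
theorem GQ_card [Finite G] {Q : Subgroup G} {c v z : G} {n : ℕ} (h : GQ Q c v z n) : 8 ≤ Nat.card Q := by
  have h1 : zpowers c ≤ Q := zpowers_le.2 h.c_mem
  have h2 : Nat.card (zpowers c) = 2 ^ (n + 2) := by rw [Nat.card_zpowers, h.ord]
  obtain ⟨m, hm⟩ := card_dvd_of_le h1
  have h3 : m ≠ 0 := by
    rintro rfl
    rw [mul_zero] at hm
    exact Nat.card_pos.ne' hm
  have h4 : m ≠ 1 := by
    rintro rfl
    rw [mul_one] at hm
    have h5 : zpowers c = Q := Subgroup.eq_of_le_of_card_ge h1 hm.le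
    obtain ⟨i, hi⟩ : v ∈ zpowers c := by rw [h5]; exact h.v_mem
    apply h.not_comm
    have h6 : c ^ i = v := hi
    rw [← h6, ← zpow_add_one, ← zpow_one_add, add_comm]
  have h5 : 4 ≤ 2 ^ (n + 2) := by
    calc 4 = 2 ^ 2 := by norm_num
      _ ≤ 2 ^ (n + 2) := Nat.pow_le_pow_right (by norm_num) (by omega)
  rw [hm, h2]
  have h6 : 2 ≤ m := by omega
  calc 8 = 4 * 2 := by norm_num
    _ ≤ 2 ^ (n + 2) * m := Nat.mul_le_mul h5 h6

section

variable [Finite G] {Om : Set (Subgroup G)} {K L : Subgroup G}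

theorem le_of_OmS {S : Subgroup G} (h : IsPGroup 2 K) (hS : IsPGroup 2 S) (hK : K ∈ OmS Om S) : K ≤ S := by
  have h1 : K ⊓ S = K := Syl.eq_of_le (syl_inf hS hK) inf_le_left le_rfl h
  rw [← h1]
  exact inf_le_right

/-- the centre of a member which is a 2-group -/
theorem eq_of_center (h : Hyp Om) (hK : K ∈ Om) (h2 : IsPGroup 2 K) {x : G} (hx : x ∈ K)
    (hc : ∀ y ∈ K, x * y = y * x) : x = 1 ∨ x = zz K := by
  obtain ⟨c, v, n, hq⟩ := h.exists_gq hK ⟨le_rfl, h2, by rw [relIndex_self]; omega⟩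
  exact GQ_center hq hx (hc c hq.c_mem) (hc v hq.v_mem)

end

/-- see the head of the file -/
structure Mv [Finite G] (Om : Set (Subgroup G)) (S S' : Sylow 2 G) (b : G) : Prop where
  hyp : Hyp Om
  two : ∀ K ∈ Om, IsPGroup 2 K
  inj : ∀ K ∈ Om, ∀ L ∈ Om, zz K = zz L → K = L
  ne : (OmS Om (S : Subgroup G)).Nonempty
  mem : b ∈ (S : Subgroup G)
  sq : b * b = 1
  mv : ∀ K ∈ OmS Om (S : Subgroup G), cj b K ≠ K
  le : ∀ K ∈ OmS Om (S : Subgroup G), ∀ k ∈ K, k * (b * k * b⁻¹) ∈ (S' : Subgroup G)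
  fx : ∀ x ∈ Subgroup.closure {x | ∃ K ∈ OmS Om (S : Subgroup G), x = zz K * (b * zz K * b⁻¹)}, x ≠ 1 →
    ∀ L ∈ OmS Om (S' : Subgroup G), cj x L ≠ L

namespace Mv

variable [Finite G] {Om : Set (Subgroup G)} {S S' : Sylow 2 G} {b : G}

/-- `b` permutes `Om(S)` -/
theorem cj_mem (h : Mv Om S S' b) {K : Subgroup G} (hK : K ∈ OmS Om (S : Subgroup G)) :
    cj b K ∈ OmS Om (S : Subgroup G) := cj_mem_OmS' h.hyp.conj (le_normalizer h.mem) hK

theorem cj_cj (h : Mv Om S S' b) (K : Subgroup G) : cj b (cj b K) = K := by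
  rw [← cj_mul, h.sq, cj_one]

/-- different members of `Om(S)` commute -/
theorem comm (h : Mv Om S S' b) {K L : Subgroup G} (hK : K ∈ OmS Om (S : Subgroup G))
    (hL : L ∈ OmS Om (S : Subgroup G)) (hne : K ≠ L) {x y : G} (hx : x ∈ K) (hy : y ∈ L) : x * y = y * x :=
  h.hyp.comm S.isPGroup' hK hL hne ⟨hx, le_of_OmS (h.two K hK.1) S.isPGroup' hK hx⟩
    ⟨hy, le_of_OmS (h.two L hL.1) S.isPGroup' hL hy⟩

/-- the homomorphism `k ↦ k * b k b⁻¹` -/
def ph (h : Mv Om S S' b) (K : Subgroup G) (hK : K ∈ OmS Om (S : Subgroup G)) : ↥K →* G where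
  toFun k := k * (b * k * b⁻¹)
  map_one' := by simp
  map_mul' x y := by
    have h1 := h.comm (h.cj_mem hK) hK (h.mv K hK) (conj_mem_cj (g := b) x.2) y.2
    change (x : G) * y * (b * (x * y) * b⁻¹) = x * (b * x * b⁻¹) * (y * (b * y * b⁻¹))
    calc (x : G) * y * (b * (x * y) * b⁻¹) = x * (y * (b * x * b⁻¹)) * (b * y * b⁻¹) := by group
      _ = x * ((b * x * b⁻¹) * y) * (b * y * b⁻¹) := by rw [h1]
      _ = _ := by group

theorem ph_apply (h : Mv Om S S' b) {K : Subgroup G} (hK : K ∈ OmS Om (S : Subgroup G)) (k : K) :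
    h.ph K hK k = k * (b * k * b⁻¹) := rfl

theorem ph_comm (h : Mv Om S S' b) {K L : Subgroup G} (hK : K ∈ OmS Om (S : Subgroup G))
    (hL : L ∈ OmS Om (S : Subgroup G)) (h1 : K ≠ L) (h2 : cj b K ≠ L) (x : K) (y : L) :
    Commute (h.ph K hK x) (h.ph L hL y) := by
  have h3 : K ≠ cj b L := fun e => h2 (by rw [e, h.cj_cj])
  have h4 : cj b K ≠ cj b L := fun e => h1 (cj_inj.1 e)
  have c1 : Commute (x : G) y := h.comm hK hL h1 x.2 y.2
  have c2 : Commute (x : G) (b * y * b⁻¹) := h.comm hK (h.cj_mem hL) h3 x.2 (conj_mem_cj y.2)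
  have c3 : Commute (b * x * b⁻¹) (y : G) := h.comm (h.cj_mem hK) hL h2 (conj_mem_cj x.2) y.2
  have c4 : Commute (b * x * b⁻¹) (b * y * b⁻¹) :=
    h.comm (h.cj_mem hK) (h.cj_mem hL) h4 (conj_mem_cj x.2) (conj_mem_cj y.2)
  exact (c1.mul_right c2).mul_left (c3.mul_right c4)

theorem ph_injective (h : Mv Om S S' b) {K : Subgroup G} (hK : K ∈ OmS Om (S : Subgroup G)) :
    Function.Injective (h.ph K hK) := by
  rw [injective_iff_map_eq_one]
  intro k hk
  rw [h.ph_apply hK] at hk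
  have h1 : (k : G)⁻¹ ∈ cj b K := by
    rw [inv_eq_of_mul_eq_one_right hk]
    exact conj_mem_cj k.2
  have h3 : ∀ y ∈ K, (k : G)⁻¹ * y = y * (k : G)⁻¹ := fun y hy => h.comm (h.cj_mem hK) hK (h.mv K hK) h1 hy
  rcases eq_of_center h.hyp hK.1 (h.two K hK.1) (K.inv_mem k.2) h3 with h4 | h4
  · exact Subtype.ext (inv_eq_one.1 h4)
  · exfalso
    have h5 : (k : G) = zz K := by rw [← inv_inv (k : G), h4, h.hyp.zz_inv hK.1]
    rw [h5, mul_eq_one_iff_eq_inv', h.hyp.zz_inv hK.1, ← h.hyp.zz_cj hK.1] at hk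
    exact h.mv K hK (h.inj _ (h.hyp.conj K hK.1 b) K hK.1 hk)

/-! ### The representatives -/

variable (Om S) in
/-- the members of `Om(S)` -/
abbrev Al : Type _ := ↥(OmS Om (S : Subgroup G))

/-- the action of `b` -/
def sg (h : Mv Om S S' b) (K : Al Om S) : Al Om S := ⟨cj b K.1, h.cj_mem K.2⟩

theorem sg_sg (h : Mv Om S S' b) (K : Al Om S) : h.sg (h.sg K) = K := Subtype.ext (h.cj_cj K.1)

theorem sg_ne (h : Mv Om S S' b) (K : Al Om S) : h.sg K ≠ K := fun e => h.mv K.1 K.2 (congrArg Subtype.val e)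

/-- representatives of the orbits of `b` -/
def Rp (h : Mv Om S S' b) : Type _ := {K : Al Om S // Finite.equivFin _ K < Finite.equivFin _ (h.sg K)}

instance (h : Mv Om S S' b) : Finite h.Rp :=
  inferInstanceAs (Finite {K : Al Om S // Finite.equivFin _ K < Finite.equivFin _ (h.sg K)})

theorem card_le (h : Mv Om S S' b) : Nat.card (Al Om S) ≤ 2 * Nat.card h.Rp := by
  have h1 : Function.Surjective (fun x : h.Rp × Bool => if x.2 then x.1.1 else h.sg x.1.1) := by
    intro K
    rcases lt_trichotomy (Finite.equivFin _ K) (Finite.equivFin _ (h.sg K)) with h2 | h2 | h2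
    · exact ⟨(⟨K, h2⟩, true), rfl⟩
    · exact absurd ((Finite.equivFin _).injective h2).symm (h.sg_ne K)
    · refine ⟨(⟨h.sg K, by rw [h.sg_sg]; exact h2⟩, false), ?_⟩
      change h.sg (h.sg K) = K
      exact h.sg_sg K
  have h2 := Nat.card_le_card_of_surjective _ h1
  rw [Nat.card_prod, Nat.card_eq_fintype_card (α := Bool), Fintype.card_bool] at h2
  omega

theorem Rp.ne (h : Mv Om S S' b) {i j : h.Rp} (hij : i ≠ j) : i.1.1 ≠ j.1.1 := fun e =>
  hij (Subtype.ext (Subtype.ext e))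

theorem Rp.ne' (h : Mv Om S S' b) (i j : h.Rp) : cj b i.1.1 ≠ j.1.1 := by
  intro e
  have h1 : h.sg i.1 = j.1 := Subtype.ext e
  have h2 := i.2
  have h3 := j.2
  rw [← h1, h.sg_sg] at h3
  exact lt_asymm h2 h3

theorem pairwise (h : Mv Om S S' b) : Pairwise fun i j : h.Rp => ∀ (x : i.1.1) (y : j.1.1),
    Commute (h.ph i.1.1 i.1.2 x) (h.ph j.1.1 j.1.2 y) := fun i j hij x y =>
  h.ph_comm i.1.2 j.1.2 (Rp.ne h hij) (Rp.ne' h i j) x y

noncomputable instance (h : Mv Om S S' b) : Fintype h.Rp := Fintype.ofFinite _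

/-- the homomorphism `(k_i) ↦ ∏ k_i * b k_i b⁻¹` -/
noncomputable def Ph (h : Mv Om S S' b) : ((i : h.Rp) → i.1.1) →* G :=
  MonoidHom.noncommPiCoprod (fun i => h.ph i.1.1 i.1.2) h.pairwise

theorem Ph_mem (h : Mv Om S S' b) (H : Subgroup G) (f : (i : h.Rp) → i.1.1)
    (hf : ∀ i, h.ph i.1.1 i.1.2 (f i) ∈ H) : h.Ph f ∈ H := by
  rw [Ph, MonoidHom.noncommPiCoprod_apply]
  exact Subgroup.noncommProd_mem H _ fun i _ => hf i

open Classical in
theorem Ph_eq (h : Mv Om S S' b) (f : (i : h.Rp) → i.1.1) (j : h.Rp) :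
    h.Ph f = h.ph j.1.1 j.1.2 (f j) * h.Ph (Function.update f j 1) := by
  have h1 : f = Pi.mulSingle j (f j) * Function.update f j 1 := by
    ext i
    by_cases hij : i = j
    · subst hij
      simp
    · simp [hij]
  conv_lhs => rw [h1, map_mul]
  congr 1
  exact MonoidHom.noncommPiCoprod_mulSingle (ϕ := fun i : h.Rp => h.ph i.1.1 i.1.2) (hcomm := h.pairwise) j (f j)

/-- an element of `Π K_i` whose image commutes with the image of `K_j` -/
theorem eq_of_comm (h : Mv Om S S' b) {f : (i : h.Rp) → i.1.1} (j : h.Rp)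
    (hf : ∀ l : j.1.1, Commute (h.Ph f) (h.ph j.1.1 j.1.2 l)) : (f j : G) = 1 ∨ (f j : G) = zz j.1.1 := by
  classical
  have h1 : ∀ l : j.1.1, Commute (h.Ph (Function.update f j 1)) (h.ph j.1.1 j.1.2 l) := by
    intro l
    have h2 : h.Ph (Function.update f j 1) ∈ centralizer {h.ph j.1.1 j.1.2 l} := by
      refine h.Ph_mem _ _ fun i => ?_
      rw [mem_centralizer_singleton_iff]
      by_cases hij : i = j
      · subst hij
        simp
      · rw [Function.update_of_ne hij]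
        exact ((h.ph_comm i.1.2 j.1.2 (Rp.ne h hij) (Rp.ne' h i j) _ _).symm).symm
    rw [mem_centralizer_singleton_iff] at h2
    exact h2
  have h3 : ∀ l : j.1.1, Commute (h.ph j.1.1 j.1.2 (f j)) (h.ph j.1.1 j.1.2 l) := by
    intro l
    have h4 : h.ph j.1.1 j.1.2 (f j) = h.Ph f * (h.Ph (Function.update f j 1))⁻¹ := by
      rw [h.Ph_eq f j, mul_inv_cancel_right]
    rw [h4]
    exact (hf l).mul_left (h1 l).inv_left
  refine eq_of_center h.hyp j.1.2.1 (h.two _ j.1.2.1) (f j).2 fun y hy => ?_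
  have h5 := h3 ⟨y, hy⟩
  have h6 : f j * ⟨y, hy⟩ = ⟨y, hy⟩ * f j := by
    apply h.ph_injective j.1.2
    rw [map_mul, map_mul]
    exact h5
  exact congrArg Subtype.val h6

/-- the order of the kernel -/
theorem card_ker_le (h : Mv Om S S' b) : Nat.card h.Ph.ker ≤ 2 ^ Nat.card h.Rp := by
  classical
  have h1 : Function.Injective (fun (f : h.Ph.ker) (i : h.Rp) => decide (f.1 i = 1)) := by
    intro f g hfg
    refine Subtype.ext (funext fun i => ?_)
    have hf := h.eq_of_comm (f := f.1) i fun l => by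
      rw [(MonoidHom.mem_ker).1 f.2]
      exact Commute.one_left _
    have hg := h.eq_of_comm (f := g.1) i fun l => by
      rw [(MonoidHom.mem_ker).1 g.2]
      exact Commute.one_left _
    have h2 := congrFun hfg i
    simp only [decide_eq_decide] at h2
    rcases hf with hf | hf
    · have h3 : f.1 i = 1 := Subtype.ext hf
      rw [h3, h2.1 h3]
    · rcases hg with hg | hg
      · have h3 : g.1 i = 1 := Subtype.ext hg
        rw [h3, h2.2 h3]
      · exact Subtype.ext (hf.trans hg.symm)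
  refine (Nat.card_le_card_of_injective _ h1).trans ?_
  rw [Nat.card_fun, Nat.card_eq_fintype_card (α := Bool), Fintype.card_bool]

theorem eight_le (h : Mv Om S S' b) (i : h.Rp) : 8 ≤ Nat.card i.1.1 := by
  obtain ⟨c, v, n, hq⟩ := h.hyp.exists_gq i.1.2.1 ⟨le_rfl, h.two _ i.1.2.1, by rw [relIndex_self]; omega⟩
  exact GQ_card hq

theorem isPGroup_range (h : Mv Om S S' b) : IsPGroup 2 h.Ph.range :=
  S'.isPGroup'.to_le (by
    rintro _ ⟨f, rfl⟩
    exact h.Ph_mem _ _ fun i => h.le _ i.1.2 _ (f i).2)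

/-- `2 ^ m` divides the order of the image -/
theorem two_pow_dvd (h : Mv Om S S' b) : 2 ^ Nat.card (Al Om S) ∣ Nat.card h.Ph.range := by
  classical
  have h1 : Nat.card ((i : h.Rp) → i.1.1) = Nat.card h.Ph.ker * Nat.card h.Ph.range := by
    rw [← Subgroup.card_mul_index h.Ph.ker, Subgroup.index_ker]
  have h2 : 8 ^ Nat.card h.Rp ≤ Nat.card ((i : h.Rp) → i.1.1) := by
    rw [Nat.card_pi, Nat.card_eq_fintype_card]
    exact Finset.pow_card_le_prod _ _ _ fun i _ => h.eight_le i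
  have h3 := h.card_ker_le
  obtain ⟨e, he⟩ := IsPGroup.iff_card.1 h.isPGroup_range
  rw [he]
  refine pow_dvd_pow 2 ?_
  by_contra hlt
  rw [not_le] at hlt
  have h4 := h.card_le
  have h5 : 2 ^ e < 4 ^ Nat.card h.Rp := by
    have h6 : (4 : ℕ) ^ Nat.card h.Rp = 2 ^ (2 * Nat.card h.Rp) := by rw [pow_mul]; norm_num
    rw [h6]
    exact Nat.pow_lt_pow_right (by norm_num) (by omega)
  rw [h1, he] at h2
  have h7 : (8 : ℕ) ^ Nat.card h.Rp = 2 ^ Nat.card h.Rp * 4 ^ Nat.card h.Rp := by rw [← mul_pow]; norm_num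
  rw [h7] at h2
  have h8 : 0 < 2 ^ Nat.card h.Rp := by positivity
  have h9 : Nat.card h.Ph.ker * 2 ^ e < 2 ^ Nat.card h.Rp * 4 ^ Nat.card h.Rp := by
    calc Nat.card h.Ph.ker * 2 ^ e ≤ 2 ^ Nat.card h.Rp * 2 ^ e := Nat.mul_le_mul_right _ h3
      _ < 2 ^ Nat.card h.Rp * 4 ^ Nat.card h.Rp := Nat.mul_lt_mul_of_pos_left h5 h8
  exact absurd h2 (not_le.2 h9)

/-- the action of `S'` on `Om(S')` -/
noncomputable def act (h : Mv Om S S' b) : ↥(S' : Subgroup G) →* Equiv.Perm (Al Om S') where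
  toFun s :=
    { toFun := fun K => ⟨cj (s : G) K.1, cj_mem_OmS' h.hyp.conj (le_normalizer s.2) K.2⟩
      invFun := fun K => ⟨cj (s : G)⁻¹ K.1, cj_mem_OmS' h.hyp.conj (le_normalizer (inv_mem s.2)) K.2⟩
      left_inv := fun K => Subtype.ext (by
        change cj (s : G)⁻¹ (cj (s : G) K.1) = K.1
        rw [← cj_mul, inv_mul_cancel, cj_one])
      right_inv := fun K => Subtype.ext (by
        change cj (s : G) (cj (s : G)⁻¹ K.1) = K.1
        rw [← cj_mul, mul_inv_cancel, cj_one]) }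
  map_one' := Equiv.ext fun K => Subtype.ext (cj_one K.1)
  map_mul' s t := Equiv.ext fun K => Subtype.ext (cj_mul (s : G) (t : G) K.1)

theorem range_le (h : Mv Om S S' b) : h.Ph.range ≤ (S' : Subgroup G) := by
  rintro _ ⟨f, rfl⟩
  exact h.Ph_mem _ _ fun i => h.le _ i.1.2 _ (f i).2

/-- `|Om(S)| = |Om(S')|` -/
theorem card_eq (h : Mv Om S S' b) : Nat.card (Al Om S') = Nat.card (Al Om S) := by
  obtain ⟨g, hg⟩ := MulAction.exists_smul_eq G S S'
  have h1 : (S' : Subgroup G) = cj g (S : Subgroup G) := by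
    rw [← hg]
    rfl
  have h2 : OmS Om (S' : Subgroup G) = cj g '' OmS Om (S : Subgroup G) := by
    rw [h1, OmS_cj h.hyp.conj]
  change Nat.card ↥(OmS Om (S' : Subgroup G)) = Nat.card ↥(OmS Om (S : Subgroup G))
  rw [h2]
  exact Nat.card_image_of_injective (fun K L e => cj_inj.1 e) _

/-- **the count** -/
protected theorem false (h : Mv Om S S' b) : False := by
  classical
  haveI : Nonempty (Al Om S) := h.ne.to_subtype
  have hm : Nat.card (Al Om S) ≠ 0 := Nat.card_pos.ne'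
  haveI : Nonempty (Al Om S') := by
    have h1 : Nat.card (Al Om S') ≠ 0 := by rw [h.card_eq]; exact hm
    exact (Nat.card_pos_iff.1 (Nat.pos_of_ne_zero h1)).1
  obtain ⟨L⟩ := this
  -- the action of the image
  let ρ : h.Ph.range →* Equiv.Perm (Al Om S') := h.act.comp (inclusion h.range_le)
  have hinj : ρ.ker = ⊥ := by
    by_contra hne
    haveI := h.isPGroup_range.isNilpotent
    obtain ⟨x, hx, hx1⟩ := (Subgroup.bot_or_exists_ne_one _).resolve_left
      (Lib.NormalAbelian.normal_inf_center_ne_bot ρ.ker hne)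
    obtain ⟨f, hf⟩ := x.2
    have hcen : ∀ y : h.Ph.range, y * x = x * y := mem_center_iff.1 hx.2
    have h3 : ∀ j : h.Rp, (f j : G) = 1 ∨ (f j : G) = zz j.1.1 := by
      intro j
      refine h.eq_of_comm j fun l => ?_
      have h4 : h.ph j.1.1 j.1.2 l ∈ h.Ph.range :=
        ⟨Pi.mulSingle j l, MonoidHom.noncommPiCoprod_mulSingle (ϕ := fun i : h.Rp => h.ph i.1.1 i.1.2)
          (hcomm := h.pairwise) j l⟩
      rw [hf]
      exact (congrArg Subtype.val (hcen ⟨_, h4⟩)).symm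
    have h5 : (x : G) ∈ Subgroup.closure {x | ∃ K ∈ OmS Om (S : Subgroup G), x = zz K * (b * zz K * b⁻¹)} := by
      rw [← hf]
      refine h.Ph_mem _ _ fun i => ?_
      rw [h.ph_apply]
      rcases h3 i with h6 | h6
      · rw [h6]
        simp
      · rw [h6]
        exact subset_closure ⟨_, i.1.2, rfl⟩
    have h7 : (x : G) ≠ 1 := fun e => hx1 (Subtype.ext e)
    refine h.fx x h5 h7 L.1 L.2 ?_
    have h8 : ρ x = 1 := hx.1
    have h9 := congrArg (fun σ : Equiv.Perm (Al Om S') => (σ L).1) h8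
    exact h9
  have h1 : Nat.card h.Ph.range ∣ Nat.card (Equiv.Perm (Al Om S')) :=
    Subgroup.card_dvd_of_injective ρ ((MonoidHom.ker_eq_bot_iff ρ).1 hinj)
  rw [Nat.card_perm, h.card_eq] at h1
  have h2 := h.two_pow_dvd.trans h1
  have h3 := Nat.emultiplicity_two_factorial_lt hm
  exact absurd (le_emultiplicity_of_pow_dvd h2) (not_le.2 h3)

end Mv

end Cfsg.Agent.Cit.ROne

private theorem dce_eacddb708426 : _root_.True := by
  try have : _root_.True := by simp only [_root_.Cfsg.Agent.Cit.ROne.Mv.Ph.eq_1]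
  try have : _root_.True := by simp only [_root_.Cfsg.Agent.Cit.ROne.Mv.ph.congr_simp]
  try have : _root_.True := by simp only [_root_.Cfsg.Agent.Cit.ROne.Mv.Rp.congr_simp]
  exact _root_.True.intro
end

-- part: Cit/Nil/LO/SimplyRoots
section
set_option linter.all false
open scoped Cfsg.Agent.FastGrp

/-!
# S1309, (D3), node (n1), piece (C): simply laced roots with the same Cartan numbers with a maximal orthogonal set

Text: blueprints/CIT-6b-LieOdd-helper443.md, (3.1). `F` a maximal set of pairwise orthogonal roots of a simply laced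
root system, `x ≠ y` roots with `⟨x, r⟩ = ⟨y, r⟩` for all `r ∈ F`, `I = {r ∈ F : ⟨x, r⟩ ≠ 0}`.

* `MaxF.le_zero` : `⟨x, y⟩ ≤ 0`;
* `MaxF.three` : `|I| ≤ 2`;
* `MaxF.two` : `|I| = 2` : `⟨x, y⟩ = 0`, `x + y = c₁ r₁ + c₂ r₂`;
* `MaxF.one` : `|I| = 1` : `x + y = c₁ r₁`.
-/

set_option autoImplicit false
set_option linter.unusedSectionVars false

namespace Cfsg.Agent.Cit.Nil.LO

open CoxeterSystem Cfsg.Agent.ChevalleyStructure.CoxeterGeom Cfsg.Agent.Tits.Roots Cfsg.Agent.Tits.Core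
  Cfsg.Agent.Tits.RootComb Cfsg.Agent.Nodes.Comb Cfsg.Agent.Nodes.Reps Cfsg.Agent.Nodes.BNOf
  Cfsg.Agent.Nodes.RGDLib Cfsg.Agent.Nodes.SubComb Cfsg.Agent.Nodes.Sub Cfsg.Agent.Nodes.PosPair
  Cfsg.Agent.Nodes.ZFam Cfsg.Agent.Nodes.Coroot Cfsg.Agent.Nodes.PairOf Cfsg.Agent.Nodes.SimplyLaced
  Cfsg.Agent.Nodes.KindBase

variable {I W : Type*} [Fintype I] [DecidableEq I] [Group W] {M : CoxeterMatrix I}
  (cs : CoxeterSystem M W) {A : I → I → ℤ} (h : IsCartan M A)

/-- a maximal set of pairwise orthogonal roots -/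
structure MaxF (F : Set (I → ℤ)) : Prop where
  root : ∀ r ∈ F, IsRoot cs h r
  orth : ∀ r ∈ F, ∀ s ∈ F, r ≠ s → cpr cs h r s = 0
  max : ∀ y, IsRoot cs h y → ∃ r ∈ F, cpr cs h y r ≠ 0

variable {cs h} [Fintype W] (h4 : ∀ i j, M i j ≠ 4) (h6 : ∀ i j, M i j ≠ 6) {F : Set (I → ℤ)}
  (hF : MaxF cs h F) {x y : I → ℤ} (hx : IsRoot cs h x) (hy : IsRoot cs h y) (hne : x ≠ y)
  (hs : ∀ r ∈ F, cpr cs h x r = cpr cs h y r)
include h4 h6 hF hx hy hne hs

theorem MaxF.le_zero : cpr cs h x y ≤ 0 := by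
  by_contra hcon
  have h0 : x ≠ -y := by
    rintro rfl
    rw [cpr_neg cs h y hy, cpr_self cs h hy] at hcon
    omega
  have h1 := abs_cpr_le_one cs h h4 h6 hx hy hne h0
  rw [abs_le] at h1
  have h2 : cpr cs h x y = 1 := by omega
  have h3 := isRoot_refl cs h hx hy
  rw [h2, one_smul] at h3
  obtain ⟨r, hr, hr0⟩ := hF.max _ h3
  apply hr0
  have h4 := cpr_add cs h x (-y) (hF.root r hr)
  rw [← sub_eq_add_neg, cpr_neg cs h y (hF.root r hr), hs r hr] at h4
  omega

/-- norms -/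
theorem MaxF.norm {r : I → ℤ} (hr : r ∈ F) (h0 : cpr cs h x r ≠ 0) :
    form cs h x x = form cs h r r ∧ form cs h y y = form cs h r r ∧
      2 * form cs h x r = cpr cs h x r * form cs h r r ∧ 2 * form cs h y r = cpr cs h x r * form cs h r r := by
  have hrr := hF.root r hr
  refine ⟨form_self_eq cs h h4 h6 hx hrr h0, form_self_eq cs h h4 h6 hy hrr (by rwa [← hs r hr]),
    two_form_cpr cs h x hrr, ?_⟩
  rw [hs r hr]
  exact two_form_cpr cs h y hrr

theorem MaxF.three {r1 r2 r3 : I → ℤ} (h1 : r1 ∈ F) (h2 : r2 ∈ F) (h3 : r3 ∈ F) (h12 : r1 ≠ r2) (h13 : r1 ≠ r3)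
    (h23 : r2 ≠ r3) (c1 : cpr cs h x r1 * cpr cs h x r1 = 1) (c2 : cpr cs h x r2 * cpr cs h x r2 = 1)
    (c3 : cpr cs h x r3 * cpr cs h x r3 = 1) : False := by
  have hle := hF.le_zero h4 h6 hx hy hne hs
  obtain ⟨p1, p2, p3, p4⟩ := hF.norm h4 h6 hx hy hne hs h1 (fun e => by rw [e] at c1; omega)
  obtain ⟨q1, q2, q3, q4⟩ := hF.norm h4 h6 hx hy hne hs h2 (fun e => by rw [e] at c2; omega)
  obtain ⟨s1, s2, s3, s4⟩ := hF.norm h4 h6 hx hy hne hs h3 (fun e => by rw [e] at c3; omega)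
  have o12 := (cpr_zero_iff cs h r1 (hF.root r2 h2)).1 (hF.orth r1 h1 r2 h2 h12)
  have o13 := (cpr_zero_iff cs h r1 (hF.root r3 h3)).1 (hF.orth r1 h1 r3 h3 h13)
  have o23 := (cpr_zero_iff cs h r2 (hF.root r3 h3)).1 (hF.orth r2 h2 r3 h3 h23)
  have hxy := two_form_cpr cs h x hy
  have hpos := form_nonneg cs h (x + y - cpr cs h x r1 • r1 - cpr cs h x r2 • r2 - cpr cs h x r3 • r3)
  have hN := form_pos cs h hx.ne_zero
  generalize cpr cs h x r1 = a1 at *
  generalize cpr cs h x r2 = a2 at *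
  generalize cpr cs h x r3 = a3 at *
  generalize cpr cs h x y = c at *
  simp only [sub_eq_add_neg, form_add_left, form_add_right, form_neg_left, form_neg_right, form_smul_left,
    form_smul_right] at hpos
  rw [form_comm cs h y x, form_comm cs h r1 x, form_comm cs h r2 x, form_comm cs h r3 x, form_comm cs h r1 y,
    form_comm cs h r2 y, form_comm cs h r3 y, form_comm cs h r2 r1, form_comm cs h r3 r1, form_comm cs h r3 r2,
    o12, o13, o23, ← p1, ← q1, ← s1, p2, ← p1] at hpos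
  rw [p2, ← p1] at hxy
  rw [← p1] at p3 p4
  rw [← q1] at q3 q4
  rw [← s1] at s3 s4
  generalize form cs h x x = N at *
  generalize form cs h x y = X at *
  generalize form cs h x r1 = X1 at *
  generalize form cs h x r2 = X2 at *
  generalize form cs h x r3 = X3 at *
  generalize form cs h y r1 = Y1 at *
  generalize form cs h y r2 = Y2 at *
  generalize form cs h y r3 = Y3 at *
  have key : (2 * c - 2) * N ≥ 0 := by
    have e1 : a1 * (2 * X1) = N := by rw [p3, ← mul_assoc, c1, one_mul]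
    have e1' : a1 * (2 * Y1) = N := by rw [p4, ← mul_assoc, c1, one_mul]
    have e2 : a2 * (2 * X2) = N := by rw [q3, ← mul_assoc, c2, one_mul]
    have e2' : a2 * (2 * Y2) = N := by rw [q4, ← mul_assoc, c2, one_mul]
    have e3 : a3 * (2 * X3) = N := by rw [s3, ← mul_assoc, c3, one_mul]
    have e3' : a3 * (2 * Y3) = N := by rw [s4, ← mul_assoc, c3, one_mul]
    have f1 : a1 * (a1 * N) = N := by rw [← mul_assoc, c1, one_mul]
    have f2 : a2 * (a2 * N) = N := by rw [← mul_assoc, c2, one_mul]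
    have f3 : a3 * (a3 * N) = N := by rw [← mul_assoc, c3, one_mul]
    linarith
  nlinarith

/-- `|I| = 2` -/
theorem MaxF.two {r1 r2 : I → ℤ} (h1 : r1 ∈ F) (h2 : r2 ∈ F) (h12 : r1 ≠ r2)
    (c1 : cpr cs h x r1 * cpr cs h x r1 = 1) (c2 : cpr cs h x r2 * cpr cs h x r2 = 1) :
    cpr cs h x y = 0 ∧ x + y = cpr cs h x r1 • r1 + cpr cs h x r2 • r2 := by
  have hle := hF.le_zero h4 h6 hx hy hne hs
  obtain ⟨p1, p2, p3, p4⟩ := hF.norm h4 h6 hx hy hne hs h1 (fun e => by rw [e] at c1; omega)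
  obtain ⟨q1, q2, q3, q4⟩ := hF.norm h4 h6 hx hy hne hs h2 (fun e => by rw [e] at c2; omega)
  have o12 := (cpr_zero_iff cs h r1 (hF.root r2 h2)).1 (hF.orth r1 h1 r2 h2 h12)
  have hxy := two_form_cpr cs h x hy
  have hpos := form_nonneg cs h (x + y - cpr cs h x r1 • r1 - cpr cs h x r2 • r2)
  have hzero : x + y - cpr cs h x r1 • r1 - cpr cs h x r2 • r2 ≠ 0 →
      0 < form cs h (x + y - cpr cs h x r1 • r1 - cpr cs h x r2 • r2)
        (x + y - cpr cs h x r1 • r1 - cpr cs h x r2 • r2) := fun e => form_pos cs h e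
  have hval : form cs h (x + y - cpr cs h x r1 • r1 - cpr cs h x r2 • r2)
      (x + y - cpr cs h x r1 • r1 - cpr cs h x r2 • r2) = cpr cs h x y * form cs h x x := by
    generalize cpr cs h x r1 = a1 at *
    generalize cpr cs h x r2 = a2 at *
    simp only [sub_eq_add_neg, form_add_left, form_add_right, form_neg_left, form_neg_right, form_smul_left,
      form_smul_right]
    rw [form_comm cs h y x, form_comm cs h r1 x, form_comm cs h r2 x, form_comm cs h r1 y,
      form_comm cs h r2 y, form_comm cs h r2 r1, o12, ← p1, ← q1, p2, ← p1]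
    rw [p2, ← p1] at hxy
    rw [← p1] at p3 p4
    rw [← q1] at q3 q4
    generalize form cs h x x = N at *
    generalize form cs h x y = X at *
    generalize form cs h x r1 = X1 at *
    generalize form cs h x r2 = X2 at *
    generalize form cs h y r1 = Y1 at *
    generalize form cs h y r2 = Y2 at *
    have e1 : a1 * (2 * X1) = N := by rw [p3, ← mul_assoc, c1, one_mul]
    have e1' : a1 * (2 * Y1) = N := by rw [p4, ← mul_assoc, c1, one_mul]
    have e2 : a2 * (2 * X2) = N := by rw [q3, ← mul_assoc, c2, one_mul]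
    have e2' : a2 * (2 * Y2) = N := by rw [q4, ← mul_assoc, c2, one_mul]
    have f1 : a1 * (a1 * N) = N := by rw [← mul_assoc, c1, one_mul]
    have f2 : a2 * (a2 * N) = N := by rw [← mul_assoc, c2, one_mul]
    linarith
  have hN := form_pos cs h hx.ne_zero
  rw [hval] at hpos hzero
  have h0 : cpr cs h x y = 0 := by
    by_contra hc
    have : cpr cs h x y ≤ -1 := by omega
    nlinarith
  refine ⟨h0, ?_⟩
  by_contra hc
  have h3 := hzero (fun e => hc (by
    have : x + y = (x + y - cpr cs h x r1 • r1 - cpr cs h x r2 • r2) + (cpr cs h x r1 • r1 + cpr cs h x r2 • r2) := by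
      abel
    rw [this, e, zero_add]))
  rw [h0, zero_mul] at h3
  exact lt_irrefl _ h3

/-- `|I| = 1` -/
theorem MaxF.one {r1 : I → ℤ} (h1 : r1 ∈ F) (c1 : cpr cs h x r1 * cpr cs h x r1 = 1)
    (c0 : ∀ r ∈ F, r ≠ r1 → cpr cs h x r = 0) : cpr cs h x y = -1 ∧ x + y = cpr cs h x r1 • r1 := by
  have hle := hF.le_zero h4 h6 hx hy hne hs
  obtain ⟨p1, p2, p3, p4⟩ := hF.norm h4 h6 hx hy hne hs h1 (fun e => by rw [e] at c1; omega)
  have hr1 := hF.root r1 h1
  have hxy := two_form_cpr cs h x hy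
  have hpos := form_nonneg cs h (x + y - cpr cs h x r1 • r1)
  have hzero : x + y - cpr cs h x r1 • r1 ≠ 0 →
      0 < form cs h (x + y - cpr cs h x r1 • r1) (x + y - cpr cs h x r1 • r1) := fun e => form_pos cs h e
  have hval : form cs h (x + y - cpr cs h x r1 • r1) (x + y - cpr cs h x r1 • r1) =
      (cpr cs h x y + 1) * form cs h x x := by
    generalize cpr cs h x r1 = a1 at *
    simp only [sub_eq_add_neg, form_add_left, form_add_right, form_neg_left, form_neg_right, form_smul_left,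
      form_smul_right]
    rw [form_comm cs h y x, form_comm cs h r1 x, form_comm cs h r1 y, ← p1, p2, ← p1]
    rw [p2, ← p1] at hxy
    rw [← p1] at p3 p4
    generalize form cs h x x = N at *
    generalize form cs h x y = X at *
    generalize form cs h x r1 = X1 at *
    generalize form cs h y r1 = Y1 at *
    have e1 : a1 * (2 * X1) = N := by rw [p3, ← mul_assoc, c1, one_mul]
    have e1' : a1 * (2 * Y1) = N := by rw [p4, ← mul_assoc, c1, one_mul]
    have f1 : a1 * (a1 * N) = N := by rw [← mul_assoc, c1, one_mul]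
    linarith
  have hN := form_pos cs h hx.ne_zero
  rw [hval] at hpos hzero
  have h0 : cpr cs h x y = -1 := by
    by_contra hc
    have h2 : cpr cs h x y = 0 := by
      by_contra hc'
      have : cpr cs h x y ≤ -2 := by omega
      nlinarith
    -- `a r₁ - x` is a root, not orthogonal to `y`, and `a r₁ - x - y` is a root orthogonal to `F`
    have hxr : IsRoot cs h (x - cpr cs h x r1 • r1) := isRoot_refl cs h hx hr1
    have h3 : cpr cs h (x - cpr cs h x r1 • r1) y = -1 := by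
      have e1 := cpr_sub cs h x (cpr cs h x r1 • r1) hy
      rw [e1, h2, cpr_smul cs h _ _ hy, cpr_symm cs h h4 h6 hr1 hy, ← hs r1 h1, c1]
      rfl
    have h4' := isRoot_refl cs h hxr hy
    rw [h3] at h4'
    obtain ⟨r, hr, hr0⟩ := hF.max _ h4'
    apply hr0
    have hrr := hF.root r hr
    rw [cpr_sub cs h _ _ hrr, cpr_sub cs h _ _ hrr, cpr_smul cs h _ _ hrr, cpr_smul cs h _ _ hrr, ← hs r hr]
    by_cases hrr1 : r = r1
    · subst hrr1
      rw [cpr_self cs h hrr]
      ring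
    · rw [c0 r hr hrr1, hF.orth r1 h1 r hr (Ne.symm hrr1)]
      ring
  refine ⟨h0, ?_⟩
  by_contra hc
  have h3 := hzero (fun e => hc (by
    have : x + y = (x + y - cpr cs h x r1 • r1) + cpr cs h x r1 • r1 := by abel
    rw [this, e, zero_add]))
  rw [h0] at h3
  norm_num at h3

end Cfsg.Agent.Cit.Nil.LO
end

-- part: Cit/Nil/AN/Base
section
set_option linter.all false
open scoped Cfsg.Agent.FastGrp

/-!
# S1309 (6b)(7), `r = 1`, nil world: the closure `AN(s)` (helper472, bb R18 #13772)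

Abstract form: `Z` is a class of involutions, `K z` (`z ∈ Z`) a quaternion group of order 8 with involution `z`,
equivariant.  `Cm (K z) (K u)`: `(z, u)` is a C-pair.
-/

set_option autoImplicit false
set_option linter.unusedSectionVars false

namespace Cfsg.Agent.Cit.Nil.AN

open Subgroup Cfsg.Agent.Cit Cfsg.Agent.StdEven.Syl Cfsg.Agent.OddOrderLocal.NilParts

variable {G : Type*} [Group G]

/-- elementwise commuting -/
def Cm (K L : Subgroup G) : Prop := ∀ k ∈ K, ∀ l ∈ L, k * l = l * k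

theorem Cm.symm {K L : Subgroup G} (h : Cm K L) : Cm L K := fun l hl k hk => (h k hk l hl).symm

theorem Cm.cj {K L : Subgroup G} (h : Cm K L) (g : G) : Cm (cj g K) (cj g L) := by
  intro k hk l hl
  rw [mem_cj] at hk hl
  have h1 := h _ hk _ hl
  calc k * l = g * ((g⁻¹ * k * g) * (g⁻¹ * l * g)) * g⁻¹ := by group
    _ = g * ((g⁻¹ * l * g) * (g⁻¹ * k * g)) * g⁻¹ := by rw [h1]
    _ = l * k := by group

/-- `s` centralises `K` -/
def Ce (s : G) (K : Subgroup G) : Prop := ∀ k ∈ K, s * k = k * s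

theorem Ce.one (K : Subgroup G) : Ce (1 : G) K := fun k _ => by rw [one_mul, mul_one]

theorem Ce.mul {s t : G} {K : Subgroup G} (hs : Ce s K) (ht : Ce t K) : Ce (s * t) K := fun k hk => by
  calc s * t * k = s * (t * k) := by group
    _ = s * (k * t) := by rw [ht k hk]
    _ = (s * k) * t := by group
    _ = k * (s * t) := by rw [hs k hk]; group

theorem Ce.inv {s : G} {K : Subgroup G} (hs : Ce s K) : Ce s⁻¹ K := fun k hk => by
  calc s⁻¹ * k = s⁻¹ * (k * s) * s⁻¹ := by group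
    _ = s⁻¹ * (s * k) * s⁻¹ := by rw [hs k hk]
    _ = k * s⁻¹ := by group

theorem Ce.cj {s : G} {K : Subgroup G} (h : Ce s K) (g : G) : Ce (g * s * g⁻¹) (cj g K) := by
  intro k hk
  rw [mem_cj] at hk
  have h1 := h _ hk
  calc g * s * g⁻¹ * k = g * (s * (g⁻¹ * k * g)) * g⁻¹ := by group
    _ = g * ((g⁻¹ * k * g) * s) * g⁻¹ := by rw [h1]
    _ = k * (g * s * g⁻¹) := by group

/-- The `r = 1` world, abstractly (several classes, no nilpotency). -/
structure BW (Z : Set G) (K : G → Subgroup G) : Prop where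
  sq : ∀ z ∈ Z, z * z = 1
  ne : ∀ z ∈ Z, z ≠ 1
  mem : ∀ z ∈ Z, z ∈ K z
  card : ∀ z ∈ Z, Nat.card (K z) = 8
  uniq : ∀ z ∈ Z, ∀ v ∈ K z, v * v = 1 → v = 1 ∨ v = z
  nonab : ∀ z ∈ Z, ∀ v ∈ K z, Ce v (K z) → v = 1 ∨ v = z
  conjZ : ∀ z ∈ Z, ∀ g : G, g * z * g⁻¹ ∈ Z
  conjK : ∀ z ∈ Z, ∀ g : G, K (g * z * g⁻¹) = cj g (K z)
  csymm : ∀ z ∈ Z, ∀ u ∈ Z, Ce u (K z) → z ≠ u → Cm (K z) (K u)
  com : ∀ z ∈ Z, ∀ u ∈ Z, z ≠ u → ∀ P : Subgroup G, IsPGroup 2 P → K z ≤ P → K u ≤ P → Cm (K z) (K u)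
  /-- T-triple lemma (weak form: without `AN(u v)`) -/
  triple : ∀ x ∈ Z, ∀ u ∈ Z, ∀ v ∈ Z, Cm (K u) (K v) → x * u = u * x → x * v = v * x → ¬ Cm (K x) (K u) →
    ¬ Cm (K x) (K v) → Ce (u * v) (K x) ∨ ∃ a ∈ K x, a * a = x ∧ u * a * u⁻¹ = a⁻¹ ∧ v * a * v⁻¹ = a⁻¹
  /-- an involution commuting with `a ∈ K x` of order 4 acts on `K x` as `1` or as `a` -/
  quat : ∀ x ∈ Z, ∀ a ∈ K x, a * a = x → ∀ t : G, t * t = 1 → t * a = a * t → Ce t (K x) ∨ Ce (t * a) (K x)
  /-- swap lemma -/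
  swap : ∀ x ∈ Z, ∀ u ∈ Z, ∀ v ∈ Z, Cm (K u) (K v) → x * u * x⁻¹ = v → Ce (u * v) (K x)

/-- The nil `r = 1` world. -/
structure AW (Z : Set G) (K : G → Subgroup G) : Prop extends BW Z K where
  cls : ∀ z ∈ Z, ∀ u ∈ Z, ∃ g : G, g * z * g⁻¹ = u
  nil : ∀ z ∈ Z, ∀ u ∈ Z, Cm (K z) (K u) → u ∈ oP 2 (centralizer {z})

/-- members over the 2-group `S` -/
def OmZ (Z : Set G) (K : G → Subgroup G) (S : Subgroup G) : Set G := {z | z ∈ Z ∧ K z ≤ S}

/-- the even part of `⟨OmZ⟩` -/
def T0 (Z : Set G) (K : G → Subgroup G) (S : Subgroup G) : Subgroup G :=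
  closure {g | ∃ z ∈ OmZ Z K S, ∃ u ∈ OmZ Z K S, g = z * u}

/-- `⟨OmZ⟩` -/
def TS (Z : Set G) (K : G → Subgroup G) (S : Subgroup G) : Subgroup G := closure (OmZ Z K S)

namespace BW

variable {Z : Set G} {K : G → Subgroup G} (w : BW Z K)

include w

theorem inv {z : G} (hz : z ∈ Z) : z⁻¹ = z := inv_eq_of_mul_eq_one_right (w.sq z hz)

theorem ce_self {z : G} (hz : z ∈ Z) : Ce z (K z) := by
  intro k hk
  have h1 : k * z * k⁻¹ ∈ K z := mul_mem (mul_mem hk (w.mem z hz)) (inv_mem hk)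
  have h2 : (k * z * k⁻¹) * (k * z * k⁻¹) = 1 := by
    calc (k * z * k⁻¹) * (k * z * k⁻¹) = k * (z * z) * k⁻¹ := by group
      _ = 1 := by rw [w.sq z hz]; group
  rcases w.uniq z hz _ h1 h2 with h3 | h3
  · exfalso
    apply w.ne z hz
    calc z = k⁻¹ * (k * z * k⁻¹) * k := by group
      _ = 1 := by rw [h3]; group
  · calc z * k = (k * z * k⁻¹) * k := by rw [h3]
      _ = k * z := by group

theorem K_le {z : G} (hz : z ∈ Z) : K z ≤ centralizer {z} := fun k hk =>
  mem_centralizer_singleton_iff.2 (w.ce_self hz k hk).symm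

theorem K_nor {z g : G} (hz : z ∈ Z) (hg : g * z = z * g) : cj g (K z) = K z := by
  have h1 := w.conjK z hz g
  have h2 : g * z * g⁻¹ = z := by rw [hg]; group
  rw [h2] at h1
  exact h1.symm

theorem two {z : G} (hz : z ∈ Z) : IsPGroup 2 (K z) := IsPGroup.of_card (n := 3) (by rw [w.card z hz]; rfl)

/-- a member is not commutative -/
theorem not_cm_self {z : G} (hz : z ∈ Z) : ¬ Cm (K z) (K z) := by
  intro h
  have h1 : ∀ v ∈ K z, v = 1 ∨ v = z := fun v hv => w.nonab z hz v hv (fun k hk => h v hv k hk)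
  have h2 : (K z : Set G) ⊆ {1, z} := fun v hv => by
    rcases h1 v hv with h | h
    · exact Or.inl h
    · exact Or.inr h
  have h3 : Nat.card (K z) ≤ 2 := by
    have h4 : Nat.card (K z) = (K z : Set G).ncard := rfl
    rw [h4]
    exact (Set.ncard_le_ncard h2 (Set.toFinite _)).trans (Set.ncard_insert_le _ _ |>.trans (by rw [Set.ncard_singleton]))
  rw [w.card z hz] at h3
  omega

theorem cm_conj {z u : G} (hz : z ∈ Z) (hu : u ∈ Z) (g : G) (h : Cm (K z) (K u)) :
    Cm (K (g * z * g⁻¹)) (K (g * u * g⁻¹)) := by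
  rw [w.conjK z hz, w.conjK u hu]
  exact h.cj g

theorem cm_conj_iff {z u : G} (hz : z ∈ Z) (hu : u ∈ Z) (g : G) :
    Cm (K (g * z * g⁻¹)) (K (g * u * g⁻¹)) ↔ Cm (K z) (K u) := by
  refine ⟨fun h => ?_, w.cm_conj hz hu g⟩
  have h1 := w.cm_conj (w.conjZ z hz g) (w.conjZ u hu g) g⁻¹ h
  have e : ∀ x : G, g⁻¹ * (g * x * g⁻¹) * g⁻¹⁻¹ = x := fun x => by group
  rwa [e, e] at h1

/-! ### The members of a Sylow subgroup -/

variable [Finite G] {S : Subgroup G} (hS : IsSyl S ⊤)

theorem om_conj {z : G} (hz : z ∈ OmZ Z K S) (g : G) : g * z * g⁻¹ ∈ OmZ Z K (cj g S) :=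
  ⟨w.conjZ z hz.1 g, by rw [w.conjK z hz.1]; exact cj_mono g hz.2⟩

theorem om_cm {z u : G} (hz : z ∈ OmZ Z K S) (hu : u ∈ OmZ Z K S) (hne : z ≠ u) (hS2 : IsPGroup 2 S) :
    Cm (K z) (K u) := w.com z hz.1 u hu.1 hne S hS2 hz.2 hu.2

include hS

/-- a 2-group containing the members of `S` contains no others -/
theorem om_eq {P : Subgroup G} (hP : IsPGroup 2 P) (h : ∀ z ∈ OmZ Z K S, K z ≤ P) {u : G} (hu : u ∈ Z)
    (huP : K u ≤ P) : u ∈ OmZ Z K S := by
  obtain ⟨n, -, hn⟩ := hS.exists_conj hP le_top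
  -- `P ≤ S' = cj n⁻¹ S`
  have hPS : P ≤ cj n⁻¹ S := fun p hp => by
    rw [mem_cj, inv_inv]
    exact hn p hp
  have h1 : OmZ Z K S ⊆ (fun x => n⁻¹ * x * n) '' OmZ Z K S := by
    intro z hz
    have h2 : K z ≤ cj n⁻¹ S := (h z hz).trans hPS
    refine ⟨n * z * n⁻¹, ⟨w.conjZ z hz.1 n, ?_⟩, by group⟩
    rw [w.conjK z hz.1]
    have := cj_mono n h2
    rwa [cj_cj_inv] at this
  have hfin : (OmZ Z K S).Finite := Set.toFinite _
  have h2 : OmZ Z K S = (fun x => n⁻¹ * x * n) '' OmZ Z K S :=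
    Set.eq_of_subset_of_ncard_le h1 (Set.ncard_image_le hfin) (hfin.image _)
  rw [h2]
  refine ⟨n * u * n⁻¹, ⟨w.conjZ u hu n, ?_⟩, by group⟩
  rw [w.conjK u hu]
  have := cj_mono n (huP.trans hPS)
  rwa [cj_cj_inv] at this

/-- elements of 2-groups containing the members of `S` permute them -/
theorem om_perm {P : Subgroup G} (hP : IsPGroup 2 P) (h : ∀ z ∈ OmZ Z K S, K z ≤ P) {p : G} (hp : p ∈ P) {z : G}
    (hz : z ∈ OmZ Z K S) : p * z * p⁻¹ ∈ OmZ Z K S := by
  apply w.om_eq hS hP h (w.conjZ z hz.1 p)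
  rw [w.conjK z hz.1]
  intro x hx
  rw [mem_cj] at hx
  have : x = p * (p⁻¹ * x * p) * p⁻¹ := by group
  rw [this]
  exact mul_mem (mul_mem hp (h z hz hx)) (inv_mem hp)

/-- the product of the members of `S` -/
theorem exists_D : ∃ D ≤ S, IsPGroup 2 D ∧ (∀ z ∈ OmZ Z K S, K z ≤ D) ∧
    ∀ x : G, (∀ z ∈ OmZ Z K S, Ce x (K z)) → Ce x D := by
  refine ⟨⨆ z : OmZ Z K S, K z, iSup_le fun z => z.2.2, hS.two.to_le (iSup_le fun z => z.2.2),
    fun z hz => le_iSup (fun z : OmZ Z K S => K z) ⟨z, hz⟩, ?_⟩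
  intro x hx d hd
  have h1 : (⨆ z : OmZ Z K S, K z) ≤ centralizer {x} := iSup_le fun z k hk =>
    mem_centralizer_singleton_iff.2 (hx z z.2 k hk).symm
  exact (mem_centralizer_singleton_iff.1 (h1 hd)).symm

/-- a member commuting with the members of `S` is one of them -/
theorem om_of_cm {u : G} (hu : u ∈ Z) (h : ∀ z ∈ OmZ Z K S, z ≠ u → Cm (K z) (K u)) : u ∈ OmZ Z K S := by
  by_contra hno
  obtain ⟨D, -, hD2, hKD, hD⟩ := w.exists_D hS
  have h1 : K u ≤ normalizer (D : Set G) := by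
    intro k hk
    apply mem_normalizer_of_conj_le
    intro d hd
    have h2 : Ce k D := hD k (fun z hz k' hk' => (h z hz (fun e => hno (e ▸ hz)) k' hk' k hk).symm)
    have : k * d * k⁻¹ = d := by rw [h2 d hd]; group
    rw [this]; exact hd
  have h2 : IsPGroup 2 (K u ⊔ D : Subgroup G) := OneBasic.isPGroup_sup_of_normalizes (w.two hu) hD2 h1
  exact hno (w.om_eq hS h2 (fun z hz => (hKD z hz).trans le_sup_right) hu le_sup_left)

theorem TS_ce {t : G} (ht : t ∈ TS Z K S) {z : G} (hz : z ∈ OmZ Z K S) : Ce t (K z) := by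
  have h1 : TS Z K S ≤ centralizer (K z : Set G) := by
    unfold TS
    rw [closure_le]
    intro u hu
    rw [SetLike.mem_coe, mem_centralizer_iff]
    intro k hk
    by_cases hne : z = u
    · subst hne
      exact (w.ce_self hz.1 k hk).symm
    · exact w.om_cm hz hu hne hS.two k hk u (w.mem u hu.1)
  intro k hk
  exact (mem_centralizer_iff.1 (h1 ht) k hk).symm

omit [Finite G] hS in
theorem T0_le : T0 Z K S ≤ TS Z K S := by
  unfold T0 TS
  rw [closure_le]
  rintro _ ⟨z, hz, u, hu, rfl⟩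
  exact mul_mem (Subgroup.subset_closure hz) (Subgroup.subset_closure hu)

theorem TS_comm {s t : G} (hs : s ∈ TS Z K S) (ht : t ∈ TS Z K S) : s * t = t * s := by
  have h1 : TS Z K S ≤ centralizer {t} := by
    conv_lhs => unfold TS
    rw [closure_le]
    intro u hu
    rw [SetLike.mem_coe, mem_centralizer_singleton_iff]
    exact (w.TS_ce hS ht hu u (w.mem u hu.1)).symm
  exact mem_centralizer_singleton_iff.1 (h1 hs)

omit hS in
theorem TS_le_S (hS2 : IsPGroup 2 S) : TS Z K S ≤ S := by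
  unfold TS
  rw [closure_le]
  intro u hu
  exact hu.2 (w.mem u hu.1)

theorem TS_sq {s : G} (hs : s ∈ TS Z K S) : s * s = 1 := by
  have hs' := hs
  unfold TS at hs'
  induction hs' using Subgroup.closure_induction with
  | mem x hx => exact w.sq x hx.1
  | one => rw [one_mul]
  | mul x y hx hy h1 h2 =>
    have h3 := w.TS_comm hS hx hy
    calc x * y * (x * y) = x * (y * x) * y := by group
      _ = x * (x * y) * y := by rw [h3]
      _ = (x * x) * (y * y) := by group
      _ = 1 := by rw [h1 hx, h2 hy, one_mul]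
  | inv x hx h1 =>
    calc x⁻¹ * x⁻¹ = (x * x)⁻¹ := by group
      _ = 1 := by rw [h1 hx, inv_one]

omit [Finite G] hS in
/-- elements permuting the members normalise `T₀` -/
theorem T0_nor {g : G} (hg : ∀ z ∈ OmZ Z K S, g * z * g⁻¹ ∈ OmZ Z K S) {t : G} (ht : t ∈ T0 Z K S) :
    g * t * g⁻¹ ∈ T0 Z K S := by
  have h1 : T0 Z K S ≤ (T0 Z K S).comap (MulAut.conj g).toMonoidHom := by
    conv_lhs => unfold T0
    rw [closure_le]
    rintro _ ⟨z, hz, u, hu, rfl⟩
    show g * (z * u) * g⁻¹ ∈ T0 Z K S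
    have : g * (z * u) * g⁻¹ = (g * z * g⁻¹) * (g * u * g⁻¹) := by group
    rw [this]
    exact Subgroup.subset_closure ⟨_, hg z hz, _, hg u hu, rfl⟩
  exact h1 ht

omit [Finite G] hS in
theorem mul_mem_T0 {z u : G} (hz : z ∈ OmZ Z K S) (hu : u ∈ OmZ Z K S) : z * u ∈ T0 Z K S :=
  Subgroup.subset_closure ⟨z, hz, u, hu, rfl⟩

theorem T0_comm {s t : G} (hs : s ∈ T0 Z K S) (ht : t ∈ T0 Z K S) : s * t = t * s :=
  w.TS_comm hS (w.T0_le hs) (w.T0_le ht)

theorem T0_ce {t : G} (ht : t ∈ T0 Z K S) {z : G} (hz : z ∈ OmZ Z K S) : Ce t (K z) := w.TS_ce hS (w.T0_le ht) hz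

/-- `S` normalises `T₀` -/
theorem S_nor {s : G} (hs : s ∈ S) {z : G} (hz : z ∈ OmZ Z K S) : s * z * s⁻¹ ∈ OmZ Z K S :=
  w.om_perm hS hS.two (fun z hz => hz.2) hs hz

end BW

end Cfsg.Agent.Cit.Nil.AN
end

-- part: Cit/Nil/AN/Cls
section
set_option linter.all false
open scoped Cfsg.Agent.FastGrp

/-!
# Step (0), (1) of `AN(s)`: the classes of `C(s)`
-/

set_option autoImplicit false
set_option linter.unusedSectionVars false

namespace Cfsg.Agent.Cit.Nil.AN

open Subgroup Cfsg.Agent.Cit Cfsg.Agent.StdEven.Syl Cfsg.Agent.OddOrderLocal.NilParts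

variable {G : Type*} [Group G]

/-- the members centralised by `s` -/
def Om (Z : Set G) (K : G → Subgroup G) (s : G) : Set G := {z | z ∈ Z ∧ Ce s (K z)}

/-- a step in the non-commuting graph of `Om s` -/
def St (Z : Set G) (K : G → Subgroup G) (s : G) (a b : G) : Prop := b ∈ Om Z K s ∧ ¬ Cm (K a) (K b)

/-- the class of `z` in `Om s` -/
def Cl (Z : Set G) (K : G → Subgroup G) (s z : G) : Set G := {u | Relation.ReflTransGen (St Z K s) z u}

/-- the group generated by a set of members -/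
def Gp (K : G → Subgroup G) (A : Set G) : Subgroup G := ⨆ u : A, K u

/-- `ONE` -/
def OneC (Z : Set G) (K : G → Subgroup G) (s z : G) : Prop :=
  ∀ u ∈ Cl Z K s z, ∀ v ∈ Cl Z K s z, Cm (K u) (K v) → ∀ x ∈ Cl Z K s z, Ce (u * v) (K x)

variable {Z : Set G} {K : G → Subgroup G}

theorem cl_refl (s z : G) : z ∈ Cl Z K s z := Relation.ReflTransGen.refl

theorem cl_sub {s z u : G} (hz : z ∈ Om Z K s) (hu : u ∈ Cl Z K s z) : u ∈ Om Z K s := by
  rcases Relation.ReflTransGen.cases_tail hu with h | ⟨c, -, h⟩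
  · rw [h]; exact hz
  · exact h.1

theorem cl_step {s z u v : G} (hu : u ∈ Cl Z K s z) (hv : v ∈ Om Z K s) (h : ¬ Cm (K u) (K v)) : v ∈ Cl Z K s z :=
  Relation.ReflTransGen.tail hu ⟨hv, h⟩

theorem cl_cm {s z u v : G} (hu : u ∈ Cl Z K s z) (hv : v ∈ Om Z K s) (h : v ∉ Cl Z K s z) : Cm (K u) (K v) := by
  by_contra hc
  exact h (cl_step hu hv hc)

theorem cl_symm {s z u : G} (hz : z ∈ Om Z K s) (hu : u ∈ Cl Z K s z) : z ∈ Cl Z K s u := by
  have hu' : Relation.ReflTransGen (St Z K s) z u := hu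
  show Relation.ReflTransGen (St Z K s) u z
  clear hu
  induction hu' with
  | refl => exact Relation.ReflTransGen.refl
  | tail h1 h2 ih =>
    exact Relation.ReflTransGen.trans (Relation.ReflTransGen.single ⟨cl_sub hz h1, fun h => h2.2 h.symm⟩) ih

theorem cl_trans {s z u v : G} (hu : u ∈ Cl Z K s z) (hv : v ∈ Cl Z K s u) : v ∈ Cl Z K s z :=
  Relation.ReflTransGen.trans hu hv

theorem cl_eq {s z u : G} (hz : z ∈ Om Z K s) (hu : u ∈ Cl Z K s z) : Cl Z K s u = Cl Z K s z := by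
  ext v
  exact ⟨fun h => cl_trans hu h, fun h => cl_trans (cl_symm hz hu) h⟩

theorem le_Gp {A : Set G} {u : G} (hu : u ∈ A) : K u ≤ Gp K A := le_iSup (fun u : A => K u) ⟨u, hu⟩

theorem Gp_le {A : Set G} {B : Subgroup G} (h : ∀ u ∈ A, K u ≤ B) : Gp K A ≤ B := iSup_le fun u => h u u.2

theorem Gp_ce {A : Set G} {x : G} (h : ∀ u ∈ A, Ce x (K u)) : Ce x (Gp K A) := by
  intro k hk
  have h1 : Gp K A ≤ centralizer {x} := Gp_le fun u hu k hk => mem_centralizer_singleton_iff.2 (h u hu k hk).symm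
  exact (mem_centralizer_singleton_iff.1 (h1 hk)).symm

namespace BW

variable (w : BW Z K)

include w

theorem om_conj' {s z c : G} (hc : c * s = s * c) (hz : z ∈ Om Z K s) : c * z * c⁻¹ ∈ Om Z K s := by
  refine ⟨w.conjZ z hz.1 c, ?_⟩
  rw [w.conjK z hz.1]
  have h1 := hz.2.cj c
  have : c * s * c⁻¹ = s := by rw [hc]; group
  rwa [this] at h1

theorem cl_conj {s z u c : G} (hc : c * s = s * c) (hz : z ∈ Om Z K s) (hu : u ∈ Cl Z K s z) :
    c * u * c⁻¹ ∈ Cl Z K s (c * z * c⁻¹) := by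
  have hu' : Relation.ReflTransGen (St Z K s) z u := hu
  clear hu
  induction hu' with
  | refl => exact cl_refl _ _
  | tail h1 h2 ih =>
    apply cl_step ih (w.om_conj' hc h2.1)
    intro h
    exact h2.2 ((w.cm_conj_iff (cl_sub hz h1).1 h2.1.1 c).1 h)

variable [Finite G]

theorem Gp_conj {A : Set G} (hA : A ⊆ Z) {c : G} (h : ∀ u ∈ A, c * u * c⁻¹ ∈ A) :
    c ∈ normalizer (Gp K A : Set G) := by
  apply mem_normalizer_of_conj_le
  intro x hx
  have h1 : Gp K A ≤ (Gp K A).comap (MulAut.conj c).toMonoidHom := Gp_le fun u hu k hk => by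
    show c * k * c⁻¹ ∈ Gp K A
    have h2 : c * k * c⁻¹ ∈ K (c * u * c⁻¹) := by
      rw [w.conjK u (hA hu)]
      exact conj_mem_cj hk
    exact le_Gp (h u hu) h2
  exact h1 hx

/-- `B = ⟨class⟩` is subnormal in `C(s)`: an element of `O₂(B)` lies in `O₂(C(s))` -/
theorem oP_up {s z : G} (hz : z ∈ Om Z K s) {x : G} (hx : x ∈ oP 2 (Gp K (Cl Z K s z))) :
    x ∈ oP 2 (centralizer {s}) := by
  set B := Gp K (Cl Z K s z) with hB
  set X := Gp K (Om Z K s) with hX
  have hOZ : Om Z K s ⊆ Z := fun u hu => hu.1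
  have hBX : B ≤ X := Gp_le fun u hu => le_Gp (cl_sub hz hu)
  have hXC : X ≤ centralizer {s} := Gp_le fun u hu k hk => mem_centralizer_singleton_iff.2 (hu.2 k hk).symm
  have h1 : X ≤ normalizer (B : Set G) := Gp_le fun u hu k hk => by
    by_cases hc : u ∈ Cl Z K s z
    · exact le_normalizer (le_Gp hc hk)
    · apply mem_normalizer_of_conj_le
      intro b hb
      have h2 : Ce k B := Gp_ce fun v hv l hl => ((cl_cm hv hu hc) l hl k hk).symm
      have : k * b * k⁻¹ = b := by rw [h2 b hb]; group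
      rw [this]; exact hb
  have h2 : centralizer {s} ≤ normalizer (X : Set G) := fun c hc =>
    w.Gp_conj hOZ (fun u hu => w.om_conj' (mem_centralizer_singleton_iff.1 hc) hu)
  have h3 : oP 2 B ≤ oP 2 X := le_oP ((oP_le 2 B).trans hBX) (isPGroup_oP 2 B) (h1.trans (normalizer_le_oP 2 B))
  have h4 : oP 2 X ≤ oP 2 (centralizer {s}) :=
    le_oP ((oP_le 2 X).trans hXC) (isPGroup_oP 2 X) (h2.trans (normalizer_le_oP 2 X))
  exact h4 (h3 hx)

omit w in
/-- an element of `B ∩ O₂(C)`, `B ≤ C`, lies in `O₂(B)` -/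
theorem oP_down {B C : Subgroup G} (h : B ≤ C) {x : G} (hx : x ∈ oP 2 C) (hxB : x ∈ B) : x ∈ oP 2 B := by
  have h1 : oP 2 C ⊓ B ≤ oP 2 B := by
    apply le_oP inf_le_right ((isPGroup_oP 2 C).to_le inf_le_left)
    exact le_normalizer_inf (h.trans (le_normalizer_oP 2 C)) le_normalizer
  exact h1 (mem_inf.2 ⟨hx, hxB⟩)

variable {S : Subgroup G} (hS : IsSyl S ⊤)

include hS

/-- (0): the members of `C(s)` are conjugate into `OmZ S` -/
theorem om_into {s : G} (hs : ∀ z ∈ OmZ Z K S, Ce s (K z)) {z : G} (hz : z ∈ Om Z K s) :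
    ∃ c, c * s = s * c ∧ c * z * c⁻¹ ∈ OmZ Z K S := by
  obtain ⟨D, -, hD2, hKD, hD⟩ := w.exists_D hS
  have hDs : D ≤ centralizer {s} := fun d hd => mem_centralizer_singleton_iff.2 (hD s hs d hd).symm
  obtain ⟨P, hP, hDP⟩ := exists_isSyl hD2 hDs
  have hKs : K z ≤ centralizer {s} := fun k hk => mem_centralizer_singleton_iff.2 (hz.2 k hk).symm
  obtain ⟨c, hc, hc2⟩ := hP.exists_conj (w.two hz.1) hKs
  refine ⟨c, mem_centralizer_singleton_iff.1 hc, ?_⟩
  apply w.om_eq hS hP.two (fun u hu => (hKD u hu).trans hDP) (w.conjZ z hz.1 c)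
  rw [w.conjK z hz.1]
  intro x hx
  rw [mem_cj] at hx
  have := hc2 _ hx
  have e : c * (c⁻¹ * x * c) * c⁻¹ = x := by group
  rwa [e] at this

theorem om_mem {s z : G} (hs : s ∈ TS Z K S) (hz : z ∈ OmZ Z K S) : z ∈ Om Z K s := ⟨hz.1, w.TS_ce hS hs hz⟩

end BW

namespace AW

variable (w : AW Z K) [Finite G] {S : Subgroup G} (hS : IsSyl S ⊤)

include w hS

/-- (1a) -/
theorem all_mem {s z : G} (hs : s ∈ TS Z K S) (hz : z ∈ OmZ Z K S) (hn : z ∉ oP 2 (centralizer {s})) {u : G}
    (hu : u ∈ OmZ Z K S) : u ∈ Cl Z K s z := by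
  by_contra hc
  apply hn
  have hzs := w.om_mem hS hs hz
  have hus := w.om_mem hS hs hu
  have h1 : Gp K (Cl Z K s z) ≤ centralizer {u} := Gp_le fun v hv k hk =>
    mem_centralizer_singleton_iff.2 (cl_cm hv hus hc k hk u (w.mem u hu.1))
  apply w.oP_up hzs
  have h2 : z ∈ oP 2 (centralizer {u}) := w.nil u hu.1 z hz.1 (cl_cm (cl_refl s z) hus hc).symm
  exact BW.oP_down h1 h2 (le_Gp (cl_refl s z) (w.mem z hz.1))

end AW

/-- the frame obtained in step (1) -/
structure Fr (Z : Set G) (K : G → Subgroup G) (S : Subgroup G) (KK : Set G) : Prop where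
  sub : OmZ Z K S ⊆ KK
  om : ∀ t ∈ T0 Z K S, t ≠ 1 → Om Z K t = KK
  one : ∀ u ∈ KK, ∀ v ∈ KK, Cm (K u) (K v) → ∀ x ∈ KK, Ce (u * v) (K x)

namespace AW

variable (w : AW Z K) [Finite G] {S : Subgroup G} (hS : IsSyl S ⊤)

include w hS

/-- Step (1). -/
theorem exists_fr (tp : ∀ s ∈ TS Z K S, s ≠ 1 → ∀ z ∈ OmZ Z K S, z ∈ oP 2 (centralizer {s}) ∨ OneC Z K s z)
    {s z0 : G} (hs : s ∈ TS Z K S) (hs1 : s ≠ 1) (hz0 : z0 ∈ Om Z K s) (hn0 : z0 ∉ oP 2 (centralizer {s}))
    {a b : G} (ha : a ∈ OmZ Z K S) (hb : b ∈ OmZ Z K S) (hab : a ≠ b) : ∃ KK, Fr Z K S KK := by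
  -- a member of `S` which is not nil
  obtain ⟨c, hc, hcz⟩ := w.om_into hS (fun z hz => w.TS_ce hS hs hz) hz0
  set z := c * z0 * c⁻¹ with hzdef
  have hn : z ∉ oP 2 (centralizer {s}) := by
    intro h
    apply hn0
    have h1 : c⁻¹ ∈ normalizer (oP 2 (centralizer {s}) : Set G) :=
      le_normalizer_oP 2 _ (inv_mem (mem_centralizer_singleton_iff.2 hc))
    have h2 := conj_mem_of_mem_normalizer h1 h
    have e : c⁻¹ * z * c⁻¹⁻¹ = z0 := by rw [hzdef]; group
    rwa [e] at h2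
  have hone := (tp s hs hs1 z hcz).resolve_left hn
  have hall : ∀ u ∈ OmZ Z K S, u ∈ Cl Z K s z := fun u hu => w.all_mem hS hs hcz hn hu
  have hzs := w.om_mem hS hs hcz
  -- `T₀` centralises the class
  have hT0 : ∀ t ∈ T0 Z K S, ∀ u ∈ Cl Z K s z, Ce t (K u) := by
    intro t ht u hu
    have h1 : T0 Z K S ≤ centralizer (K u : Set G) := by
      unfold T0
      rw [closure_le]
      rintro _ ⟨x, hx, y, hy, rfl⟩
      rw [SetLike.mem_coe, mem_centralizer_iff]
      intro k hk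
      by_cases hxy : x = y
      · subst hxy
        rw [w.sq x hx.1, one_mul, mul_one]
      · exact (hone x (hall x hx) y (hall y hy) (w.om_cm hx hy hxy hS.two) u hu k hk).symm
    intro k hk
    exact (mem_centralizer_iff.1 (h1 ht) k hk).symm
  -- no `t ∈ T₀#` is nil
  have hnt : ∀ t ∈ T0 Z K S, t ≠ 1 → z ∉ oP 2 (centralizer {t}) := by
    intro t ht _ h
    apply hn
    apply w.oP_up hzs
    have h1 : Gp K (Cl Z K s z) ≤ centralizer {t} := Gp_le fun v hv k hk =>
      mem_centralizer_singleton_iff.2 (hT0 t ht v hv k hk).symm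
    exact BW.oP_down h1 h (le_Gp (cl_refl s z) (w.mem z hcz.1))
  have hall' : ∀ t ∈ T0 Z K S, t ≠ 1 → ∀ u ∈ OmZ Z K S, u ∈ Cl Z K t z := fun t ht ht1 u hu =>
    w.all_mem hS (w.T0_le ht) hcz (hnt t ht ht1) hu
  have hone' : ∀ t ∈ T0 Z K S, t ≠ 1 → OneC Z K t z := fun t ht ht1 =>
    (tp t (w.T0_le ht) ht1 z hcz).resolve_left (hnt t ht ht1)
  have hT0' : ∀ t ∈ T0 Z K S, t ≠ 1 → ∀ t' ∈ T0 Z K S, ∀ u ∈ Cl Z K t z, Ce t' (K u) := by
    intro t ht ht1 t' ht' u hu
    have h1 : T0 Z K S ≤ centralizer (K u : Set G) := by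
      unfold T0
      rw [closure_le]
      rintro _ ⟨x, hx, y, hy, rfl⟩
      rw [SetLike.mem_coe, mem_centralizer_iff]
      intro k hk
      by_cases hxy : x = y
      · subst hxy
        rw [w.sq x hx.1, one_mul, mul_one]
      · exact (hone' t ht ht1 x (hall' t ht ht1 x hx) y (hall' t ht ht1 y hy) (w.om_cm hx hy hxy hS.two) u hu k hk).symm
    intro k hk
    exact (mem_centralizer_iff.1 (h1 ht') k hk).symm
  -- the class does not depend on `t`
  have hsub : ∀ t ∈ T0 Z K S, t ≠ 1 → ∀ t' ∈ T0 Z K S, Cl Z K t z ⊆ Cl Z K t' z := by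
    intro t ht ht1 t' ht' u hu
    have hu' : Relation.ReflTransGen (St Z K t) z u := hu
    clear hu
    induction hu' with
    | refl => exact cl_refl _ _
    | @tail b c h1 h2 ih =>
      refine cl_step ih ⟨h2.1.1, ?_⟩ h2.2
      exact hT0' t ht ht1 t' ht' c (Relation.ReflTransGen.tail h1 h2)
  -- every member of `C(t)` lies in the class
  have hom : ∀ t ∈ T0 Z K S, t ≠ 1 → Om Z K t = Cl Z K t z := by
    intro t ht ht1
    have hzt := w.om_mem hS (w.T0_le ht) hcz
    apply Set.Subset.antisymm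
    · intro u hu
      obtain ⟨c, hc, hcu⟩ := w.om_into hS (fun z hz => w.T0_ce hS ht hz) hu
      have hc' : c⁻¹ * t = t * c⁻¹ := by
        calc c⁻¹ * t = c⁻¹ * (t * c) * c⁻¹ := by group
          _ = c⁻¹ * (c * t) * c⁻¹ := by rw [hc]
          _ = t * c⁻¹ := by group
      have h1 := w.cl_conj hc' hzt (hall' t ht ht1 _ hcu)
      have e : c⁻¹ * (c * u * c⁻¹) * c⁻¹⁻¹ = u := by group
      rw [e] at h1
      -- `h1 : u ∈ Cl t (c⁻¹ z c)`
      by_cases hcl : c⁻¹ * z * c⁻¹⁻¹ ∈ Cl Z K t z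
      · exact cl_trans hcl h1
      · exfalso
        apply hcl
        apply hall' t ht ht1
        have hzc : c⁻¹ * z * c⁻¹⁻¹ ∈ Om Z K t := w.om_conj' hc' hzt
        apply w.om_of_cm hS hzc.1
        intro v hv _
        exact cl_cm (hall' t ht ht1 v hv) hzc hcl
    · exact fun u hu => cl_sub hzt hu
  -- an element of `T₀#`
  have habT : a * b ∈ T0 Z K S := w.mul_mem_T0 ha hb
  have hab1 : a * b ≠ 1 := by
    intro h
    apply hab
    rw [← w.inv hb.1]
    exact eq_inv_of_mul_eq_one_left h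
  refine ⟨Cl Z K (a * b) z, fun u hu => hall' _ habT hab1 u hu, fun t ht ht1 => ?_, ?_⟩
  · rw [hom t ht ht1]
    exact Set.Subset.antisymm (hsub t ht ht1 _ habT) (hsub _ habT hab1 t ht)
  · exact hone' _ habT hab1

end AW

end Cfsg.Agent.Cit.Nil.AN
end

-- part: Cit/Nil/AN/Two
section
set_option linter.all false
open scoped Cfsg.Agent.FastGrp

/-!
# Step (2) of `AN(s)`: `C(z) ≤ M₀ = N(T₀)`
-/

set_option autoImplicit false
set_option linter.unusedSectionVars false

namespace Cfsg.Agent.Cit.Nil.AN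

open Subgroup Cfsg.Agent.Cit Cfsg.Agent.StdEven.Syl Cfsg.Agent.OddOrderLocal.NilParts

variable {G : Type*} [Group G]

/-- the situation of the steps (2) - (4) -/
structure Fs (Z : Set G) (K : G → Subgroup G) (S : Subgroup G) (KK : Set G) : Prop where
  w : AW Z K
  hS : IsSyl S ⊤
  fr : Fr Z K S KK
  three : ∃ z₁ ∈ OmZ Z K S, ∃ z₂ ∈ OmZ Z K S, ∃ z₃ ∈ OmZ Z K S, z₁ ≠ z₂ ∧ z₁ ≠ z₃ ∧ z₂ ≠ z₃

/-- `M₀` -/
def M0 (Z : Set G) (K : G → Subgroup G) (S : Subgroup G) : Subgroup G := normalizer (T0 Z K S : Set G)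

variable {Z : Set G} {K : G → Subgroup G} {S : Subgroup G} {KK : Set G}

theorem BW.omZ_cj (w : BW Z K) {g z : G} : z ∈ OmZ Z K (cj g S) ↔ g⁻¹ * z * g ∈ OmZ Z K S := by
  constructor
  · rintro ⟨h1, h2⟩
    have h3 := w.conjZ z h1 g⁻¹
    have h4 := w.conjK z h1 g⁻¹
    rw [inv_inv] at h3 h4
    refine ⟨h3, ?_⟩
    rw [h4]
    have := cj_mono g⁻¹ h2
    rwa [cj_inv_cj] at this
  · rintro ⟨h1, h2⟩
    have h3 := w.conjZ _ h1 g
    have h4 := w.conjK _ h1 g
    have e : g * (g⁻¹ * z * g) * g⁻¹ = z := by group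
    rw [e] at h3 h4
    exact ⟨h3, by rw [h4]; exact cj_mono g h2⟩

theorem BW.T0_cj (w : BW Z K) (g : G) : T0 Z K (cj g S) = cj g (T0 Z K S) := by
  have key : ∀ (S : Subgroup G) (g : G), T0 Z K (cj g S) ≤ cj g (T0 Z K S) := by
    intro S g
    conv_lhs => unfold T0
    rw [closure_le]
    rintro _ ⟨z, hz, u, hu, rfl⟩
    rw [SetLike.mem_coe, mem_cj]
    have : g⁻¹ * (z * u) * g = (g⁻¹ * z * g) * (g⁻¹ * u * g) := by group
    rw [this]
    exact w.mul_mem_T0 (w.omZ_cj.1 hz) (w.omZ_cj.1 hu)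
  apply le_antisymm (key S g)
  have h1 := key (cj g S) g⁻¹
  rw [cj_inv_cj] at h1
  have h2 := cj_mono g h1
  rwa [cj_cj_inv] at h2

theorem isSyl_cj [Finite G] (hS : IsSyl S ⊤) (g : G) : IsSyl (cj g S) ⊤ :=
  hS.conj (g := g) (by
    apply mem_normalizer_of_conj_le
    intro x _
    exact mem_top _)

theorem isPGroup_zpowers_inv {x : G} (hx : x * x = 1) : IsPGroup 2 (zpowers x) := by
  intro ⟨y, hy⟩
  obtain ⟨n, rfl⟩ := mem_zpowers_iff.1 hy
  refine ⟨1, Subtype.ext ?_⟩
  show (x ^ n) ^ (2 ^ 1) = 1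
  rw [pow_one, pow_two, ← (Commute.refl x).mul_zpow, hx, one_zpow]

/-- `x ∈ O₂(C(x))` for an involution `x` -/
theorem self_mem_oP [Finite G] {x : G} (hx : x * x = 1) : x ∈ oP 2 (centralizer {x}) := by
  have h1 : zpowers x ≤ oP 2 (centralizer {x}) := by
    apply le_oP
    · rw [zpowers_le]
      exact mem_centralizer_singleton_iff.2 rfl
    · exact isPGroup_zpowers_inv hx
    · intro c hc
      apply mem_normalizer_of_conj_le
      intro y hy
      have h2 : c ∈ centralizer (zpowers x : Set G) := by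
        rw [mem_centralizer_iff]
        intro y hy
        obtain ⟨n, rfl⟩ := mem_zpowers_iff.1 hy
        have h3 : Commute x c := (mem_centralizer_singleton_iff.1 hc).symm
        exact (h3.zpow_left n).eq
      have h3 := mem_centralizer_iff.1 h2 y hy
      rw [← h3, mul_inv_cancel_right]
      exact hy
  exact h1 (mem_zpowers x)

namespace Fs

variable [Finite G] (F : Fs Z K S KK)

include F

theorem conj (g : G) : Fs Z K (cj g S) ((fun z => g * z * g⁻¹) '' KK) := by
  have e : ∀ x : G, g⁻¹ * (g * x * g⁻¹) * g = x := fun x => by group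
  have e' : ∀ x : G, g * (g⁻¹ * x * g) * g⁻¹ = x := fun x => by group
  have hsub : ∀ u ∈ KK, u ∈ Z := by
    obtain ⟨a, ha, b, hb, -, -, hab, -, -⟩ := F.three
    intro u hu
    have h1 : a * b ≠ 1 := fun h => hab (by rw [← F.w.inv hb.1]; exact eq_inv_of_mul_eq_one_left h)
    rw [← F.fr.om _ (F.w.mul_mem_T0 ha hb) h1] at hu
    exact hu.1
  refine ⟨F.w, isSyl_cj F.hS g, ⟨?_, ?_, ?_⟩, ?_⟩
  · intro z hz
    exact ⟨_, F.fr.sub (F.w.omZ_cj.1 hz), e' z⟩
  · intro t ht ht1
    rw [F.w.T0_cj, mem_cj] at ht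
    have ht1' : g⁻¹ * t * g ≠ 1 := by
      intro h
      apply ht1
      rw [← e' t, h]
      group
    have h1 := F.fr.om _ ht ht1'
    ext z
    constructor
    · intro hz
      refine ⟨g⁻¹ * z * g, ?_, e' z⟩
      rw [← h1]
      have h2 := F.w.conjZ z hz.1 g⁻¹
      have h3 := F.w.conjK z hz.1 g⁻¹
      rw [inv_inv] at h2 h3
      refine ⟨h2, ?_⟩
      rw [h3]
      have h4 := hz.2.cj g⁻¹
      rwa [inv_inv] at h4
    · rintro ⟨z, hz, rfl⟩
      rw [← h1] at hz
      refine ⟨F.w.conjZ z hz.1 g, ?_⟩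
      show Ce t (K (g * z * g⁻¹))
      rw [F.w.conjK z hz.1]
      have h4 := hz.2.cj g
      rwa [e'] at h4
  · rintro _ ⟨u, hu, rfl⟩ _ ⟨v, hv, rfl⟩ hc _ ⟨x, hx, rfl⟩
    have h1 := F.fr.one u hu v hv ((F.w.cm_conj_iff (hsub u hu) (hsub v hv) g).1 hc) x hx
    show Ce (g * u * g⁻¹ * (g * v * g⁻¹)) (K (g * x * g⁻¹))
    rw [F.w.conjK x (hsub x hx)]
    have h2 := h1.cj g
    have h3 : g * (u * v) * g⁻¹ = g * u * g⁻¹ * (g * v * g⁻¹) := by group
    rwa [h3] at h2
  · obtain ⟨a, ha, b, hb, c, hc, hab, hac, hbc⟩ := F.three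
    refine ⟨g * a * g⁻¹, F.w.om_conj ha g, g * b * g⁻¹, F.w.om_conj hb g, g * c * g⁻¹, F.w.om_conj hc g, ?_, ?_, ?_⟩
    · intro h; exact hab (by rw [← e a, h, e])
    · intro h; exact hac (by rw [← e a, h, e])
    · intro h; exact hbc (by rw [← e b, h, e])

/-- two other members -/
theorem exists_two {z : G} (_ : z ∈ OmZ Z K S) :
    ∃ u ∈ OmZ Z K S, ∃ v ∈ OmZ Z K S, z ≠ u ∧ z ≠ v ∧ u ≠ v := by
  obtain ⟨a, ha, b, hb, c, hc, hab, hac, hbc⟩ := F.three
  by_cases h1 : z = a
  · subst h1; exact ⟨b, hb, c, hc, hab, hac, hbc⟩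
  by_cases h2 : z = b
  · subst h2; exact ⟨a, ha, c, hc, h1, hbc, hac⟩
  · exact ⟨a, ha, b, hb, h1, h2, hab⟩

omit [Finite G] in
theorem mul_ne {u v : G} (hv : v ∈ OmZ Z K S) (h : u ≠ v) : u * v ≠ 1 := fun h1 =>
  h (by rw [← F.w.inv hv.1]; exact eq_inv_of_mul_eq_one_left h1)

theorem exists_t : ∃ t ∈ T0 Z K S, t ≠ 1 := by
  obtain ⟨a, ha, b, hb, -, -, hab, -, -⟩ := F.three
  exact ⟨a * b, F.w.mul_mem_T0 ha hb, F.mul_ne hb hab⟩

theorem kk_Z {u : G} (hu : u ∈ KK) : u ∈ Z := by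
  obtain ⟨t, ht, ht1⟩ := F.exists_t
  rw [← F.fr.om t ht ht1] at hu
  exact hu.1

theorem kk_ce {u : G} (hu : u ∈ KK) {t : G} (ht : t ∈ T0 Z K S) : Ce t (K u) := by
  by_cases h1 : t = 1
  · rw [h1]; exact Ce.one _
  · rw [← F.fr.om t ht h1] at hu
    exact hu.2

theorem mem_kk {u : G} (hu : u ∈ Z) {t : G} (ht : t ∈ T0 Z K S) (ht1 : t ≠ 1) (h : Ce t (K u)) : u ∈ KK := by
  rw [← F.fr.om t ht ht1]
  exact ⟨hu, h⟩

/-- `M₀` stabilises `KK` -/
theorem kk_conj {g z : G} (hg : g ∈ M0 Z K S) (hz : z ∈ KK) : g * z * g⁻¹ ∈ KK := by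
  obtain ⟨t, ht, ht1⟩ := F.exists_t
  have hzZ := F.kk_Z hz
  have h1 : g * t * g⁻¹ ∈ T0 Z K S := conj_mem_of_mem_normalizer hg ht
  have h2 : g * t * g⁻¹ ≠ 1 := by
    intro h
    apply ht1
    calc t = g⁻¹ * (g * t * g⁻¹) * g := by group
      _ = 1 := by rw [h]; group
  apply F.mem_kk (F.w.conjZ z hzZ g) h1 h2
  rw [F.w.conjK z hzZ]
  exact (F.kk_ce hz ht).cj g

theorem mem_M0_of_perm {g : G} (hg : ∀ z ∈ OmZ Z K S, g * z * g⁻¹ ∈ OmZ Z K S) : g ∈ M0 Z K S :=
  mem_normalizer_of_conj_le fun _ ht => F.w.T0_nor hg ht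

theorem S_le : S ≤ M0 Z K S := fun _ hs => F.mem_M0_of_perm fun _ hz => F.w.S_nor F.hS hs hz

/-- the stabiliser of `KK` is contained in `M₀` -/
theorem mem_M0_of_kk {g : G} (hg : ∀ z ∈ KK, g * z * g⁻¹ ∈ KK) : g ∈ M0 Z K S := by
  obtain ⟨D, -, hD2, hKD, -⟩ := F.w.exists_D F.hS
  set D' : Subgroup G := ⨆ u : OmZ Z K S, K u with hD'
  have hD'D : D' ≤ D := iSup_le fun u => hKD u u.2
  have hD'2 : IsPGroup 2 D' := hD2.to_le hD'D
  have hD'B : D' ≤ Gp K KK := iSup_le fun u => le_Gp (F.fr.sub u.2)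
  obtain ⟨P, hP, hDP⟩ := exists_isSyl hD'2 hD'B
  -- the conjugate of `D'`
  have h1 : cj g D' ≤ Gp K KK := by
    intro x hx
    rw [mem_cj] at hx
    have h2 : D' ≤ (Gp K KK).comap (MulAut.conj g).toMonoidHom := iSup_le fun u k hk => by
      show g * k * g⁻¹ ∈ Gp K KK
      have h3 : g * k * g⁻¹ ∈ K (g * u * g⁻¹) := by
        rw [F.w.conjK u u.2.1]
        exact conj_mem_cj hk
      exact le_Gp (hg u (F.fr.sub u.2)) h3
    have h3 : g * (g⁻¹ * x * g) * g⁻¹ ∈ Gp K KK := h2 hx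
    have e : g * (g⁻¹ * x * g) * g⁻¹ = x := by group
    rwa [e] at h3
  obtain ⟨b, hb, hb2⟩ := hP.exists_conj (isPGroup_cj hD'2) h1
  have hbM : b ∈ M0 Z K S := by
    apply mem_normalizer_of_conj_le
    intro t ht
    have h2 : Ce t (Gp K KK) := Gp_ce fun u hu => F.kk_ce hu ht
    have h3 := h2 b hb
    rw [← h3, mul_inv_cancel_right]
    exact ht
  have hbg : b * g ∈ M0 Z K S := by
    apply F.mem_M0_of_perm
    intro z hz
    apply F.w.om_eq F.hS hP.two (fun u hu => (le_iSup (fun u : OmZ Z K S => K u) ⟨u, hu⟩).trans hDP)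
      (F.w.conjZ z hz.1 _)
    rw [F.w.conjK z hz.1]
    intro x hx
    rw [mem_cj] at hx
    have h3 : (b * g)⁻¹ * x * (b * g) ∈ D' := (le_iSup (fun u : OmZ Z K S => K u) ⟨z, hz⟩) hx
    have h4 := hb2 _ (conj_mem_cj (g := g) h3)
    have e : b * (g * ((b * g)⁻¹ * x * (b * g)) * g⁻¹) * b⁻¹ = x := by group
    rwa [e] at h4
  have : g = b⁻¹ * (b * g) := by group
  rw [this]
  exact mul_mem (inv_mem hbM) hbg

/-- `T₀` is TI -/
theorem ti {g t : G} (ht : t ∈ T0 Z K S) (ht1 : t ≠ 1) (h : g * t * g⁻¹ ∈ T0 Z K S) : g ∈ M0 Z K S := by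
  apply F.mem_M0_of_kk
  intro z hz
  have hzZ := F.kk_Z hz
  have h2 : g * t * g⁻¹ ≠ 1 := by
    intro h
    apply ht1
    calc t = g⁻¹ * (g * t * g⁻¹) * g := by group
      _ = 1 := by rw [h]; group
  apply F.mem_kk (F.w.conjZ z hzZ g) h h2
  rw [F.w.conjK z hzZ]
  exact (F.kk_ce hz ht).cj g

theorem cent_le {g t : G} (ht : t ∈ T0 Z K S) (ht1 : t ≠ 1) (h : g * t = t * g) : g ∈ M0 Z K S := by
  apply F.ti ht ht1
  rw [h, mul_inv_cancel_right]
  exact ht

theorem exists_c {u : G} (hu : u ∈ KK) : ∃ c ∈ M0 Z K S, c * u * c⁻¹ ∈ OmZ Z K S := by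
  obtain ⟨t, ht, ht1⟩ := F.exists_t
  rw [← F.fr.om t ht ht1] at hu
  obtain ⟨c, hc, hcu⟩ := F.w.om_into F.hS (fun z hz => F.w.T0_ce F.hS ht hz) hu
  exact ⟨c, F.cent_le ht ht1 hc, hcu⟩

/-- the T-triple lemma in the frame -/
theorem triple {x u v : G} (hx : x ∈ Z) (hu : u ∈ OmZ Z K S) (hv : v ∈ OmZ Z K S) (huv : u ≠ v)
    (hxu : x * u = u * x) (hxv : x * v = v * x) (h1 : ¬ Cm (K x) (K u)) (h2 : ¬ Cm (K x) (K v)) : x ∈ KK := by
  by_contra hno
  have hce : ∀ t ∈ T0 Z K S, t ≠ 1 → ¬ Ce t (K x) := fun t ht ht1 h => hno (F.mem_kk hx ht ht1 h)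
  have huvT := F.w.mul_mem_T0 hu hv
  have huv1 := F.mul_ne hv huv
  rcases F.w.triple x hx u hu.1 v hv.1 (F.w.om_cm hu hv huv F.hS.two) hxu hxv h1 h2 with h3 | ⟨a, ha, haa, hua, hva⟩
  · exact hce _ huvT huv1 h3
  -- `a` centralises `u v`
  have h3 : u * v * a * (u * v)⁻¹ = a := by
    calc u * v * a * (u * v)⁻¹ = u * (v * a * v⁻¹) * u⁻¹ := by group
      _ = (u * a * u⁻¹)⁻¹ := by rw [hva]; group
      _ = a := by rw [hua, inv_inv]
  have h4 : a * (u * v) = (u * v) * a := by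
    conv_lhs => rw [← h3]
    group
  have haM : a ∈ M0 Z K S := F.cent_le huvT huv1 h4
  -- `a` centralises `T₀`
  have hxT : x ∉ T0 Z K S := fun h => hce x h (F.w.ne x hx) (F.w.ce_self hx)
  have hxKx := F.w.mem x hx
  have hCx : ∀ t ∈ T0 Z K S, t * x = x * t := by
    intro t ht
    -- `x = a²`
    have h5 : a * t * a⁻¹ ∈ T0 Z K S := conj_mem_of_mem_normalizer haM ht
    -- `u⁻¹ (a⁻¹ u a) = x`
    have h6 : a⁻¹ * u * a = u * x := by
      have h7 : u * a = a⁻¹ * u := by rw [← hua]; group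
      calc a⁻¹ * u * a = (a⁻¹ * u) * a := by group
        _ = u * a * a := by rw [← h7]
        _ = u * (a * a) := by group
        _ = u * x := by rw [haa]
    have h8 : a⁻¹ * u * a ∈ KK := by
      have := F.kk_conj (inv_mem haM) (F.fr.sub hu)
      rwa [inv_inv] at this
    have h9 : Ce t (K (a⁻¹ * u * a)) := F.kk_ce h8 ht
    have h10 := h9 _ (F.w.mem _ (F.kk_Z h8))
    have h11 : t * u = u * t := F.w.T0_ce F.hS ht hu u (F.w.mem u hu.1)
    rw [h6] at h10
    calc t * x = u⁻¹ * (t * u * x) := by rw [h11]; group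
      _ = u⁻¹ * (t * (u * x)) := by group
      _ = u⁻¹ * (u * x * t) := by rw [h10]
      _ = x * t := by group
  have hTa : ∀ t ∈ T0 Z K S, t * a = a * t := by
    intro t ht
    have h5 : a * t * a⁻¹ ∈ T0 Z K S := conj_mem_of_mem_normalizer haM ht
    have h6 : a * t * a⁻¹ * t⁻¹ ∈ T0 Z K S := mul_mem h5 (inv_mem ht)
    have h7 : a * t * a⁻¹ * t⁻¹ ∈ K x := by
      have h8 : t * a⁻¹ * t⁻¹ ∈ K x := by
        have h9 := F.w.K_nor hx (hCx t ht)
        rw [← h9]
        exact conj_mem_cj (inv_mem ha)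
      have : a * t * a⁻¹ * t⁻¹ = a * (t * a⁻¹ * t⁻¹) := by group
      rw [this]
      exact mul_mem ha h8
    rcases F.w.uniq x hx _ h7 (F.w.TS_sq F.hS (F.w.T0_le h6)) with h8 | h8
    · have h9 : a * t * a⁻¹ = t := by
        rw [mul_inv_eq_one] at h8; exact h8
      calc t * a = a * t * a⁻¹ * a := by rw [h9]
        _ = a * t := by group
    · rw [h8] at h6; exact absurd h6 hxT
  have hta : ∀ t ∈ T0 Z K S, t ≠ 1 → Ce (t * a) (K x) := fun t ht ht1 =>
    (F.w.quat x hx a ha haa t (F.w.TS_sq F.hS (F.w.T0_le ht)) (hTa t ht)).resolve_left (hce t ht ht1)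
  have hmul : ∀ t ∈ T0 Z K S, ∀ t' ∈ T0 Z K S, t ≠ 1 → t' ≠ 1 → t * t' ≠ 1 → False := by
    intro t ht t' ht' ht1 ht1' htt
    apply hce _ (mul_mem ht ht') htt
    have h5 := (hta t ht ht1).mul (hta t' ht' ht1')
    have h6 : t * a * (t' * a) = t * t' * x := by
      calc t * a * (t' * a) = t * (a * t') * a := by group
        _ = t * (t' * a) * a := by rw [hTa t' ht']
        _ = t * t' * (a * a) := by group
        _ = t * t' * x := by rw [haa]
    rw [h6] at h5
    have h7 := h5.mul (F.w.ce_self hx)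
    have h8 : t * t' * x * x = t * t' := by
      rw [mul_assoc, F.w.sq x hx, mul_one]
    rwa [h8] at h7
  -- three members
  have hthird : ∃ y ∈ OmZ Z K S, u ≠ y ∧ v ≠ y := by
    obtain ⟨p, hp, q, hq, hup, huq, hpq⟩ := F.exists_two hu
    by_cases h5 : v = p
    · exact ⟨q, hq, huq, by rw [h5]; exact hpq⟩
    · exact ⟨p, hp, hup, h5⟩
  obtain ⟨y, hy, huy, hvy⟩ := hthird
  refine hmul (u * v) huvT (v * y) (F.w.mul_mem_T0 hv hy) huv1 (F.mul_ne hy hvy) ?_
  have : u * v * (v * y) = u * y := by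
    calc u * v * (v * y) = u * (v * v) * y := by group
      _ = u * y := by rw [F.w.sq v hv.1, mul_one]
  rw [this]
  exact F.mul_ne hy huy

/-- `O₂(C(z)) ≤ M₀` for `z ∈ OmZ S` -/
theorem oP_le_M0 {z : G} (hz : z ∈ OmZ Z K S) : oP 2 (centralizer {z}) ≤ M0 Z K S := by
  obtain ⟨D, hDS, hD2, hKD, -⟩ := F.w.exists_D F.hS
  set D' : Subgroup G := ⨆ u : OmZ Z K S, K u with hD'
  have hD'D : D' ≤ D := iSup_le fun u => hKD u u.2
  have hD'2 : IsPGroup 2 D' := hD2.to_le hD'D
  have hD'C : D' ≤ centralizer {z} := iSup_le fun u k hk => by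
    rw [mem_centralizer_singleton_iff]
    by_cases h : (u : G) = z
    · have hk' : k ∈ K z := by rw [← h]; exact hk
      exact (F.w.ce_self hz.1 k hk').symm
    · exact F.w.om_cm u.2 hz h F.hS.two k hk z (F.w.mem z hz.1)
  have h1 : IsPGroup 2 (D' ⊔ oP 2 (centralizer {z}) : Subgroup G) :=
    OneBasic.isPGroup_sup_of_normalizes hD'2 (isPGroup_oP 2 _) (hD'C.trans (le_normalizer_oP 2 _))
  intro p hp
  apply F.mem_M0_of_perm
  intro u hu
  exact F.w.om_perm F.hS h1 (fun v hv => (le_iSup (fun u : OmZ Z K S => K u) ⟨v, hv⟩).trans le_sup_left)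
    ((le_sup_right : oP 2 (centralizer {z}) ≤ _) hp) hu

theorem om_mem_oP {z u : G} (hz : z ∈ OmZ Z K S) (hu : u ∈ OmZ Z K S) : u ∈ oP 2 (centralizer {z}) := by
  by_cases h : z = u
  · subst h; exact self_mem_oP (F.w.sq z hz.1)
  · exact F.w.nil z hz.1 u hu.1 (F.w.om_cm hz hu h F.hS.two)

theorem T0_le_oP {z : G} (hz : z ∈ OmZ Z K S) : T0 Z K S ≤ oP 2 (centralizer {z}) := by
  conv_lhs => unfold T0
  rw [closure_le]
  rintro _ ⟨u, hu, v, hv, rfl⟩
  exact mul_mem (F.om_mem_oP hz hu) (F.om_mem_oP hz hv)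

/-- Step (2): `C(z) ≤ M₀` for `z ∈ OmZ S` -/
theorem cent_om {z g : G} (hz : z ∈ OmZ Z K S) (hg : g * z = z * g) : g ∈ M0 Z K S := by
  by_contra hgM
  have F' := F.conj g
  set S' := cj g S with hS'
  set KK' := (fun z => g * z * g⁻¹) '' KK with hKK'
  have hzg : g * z * g⁻¹ = z := by rw [hg, mul_inv_cancel_right]
  have hz' : z ∈ OmZ Z K S' := by
    have := F.w.om_conj hz g
    rwa [hzg] at this
  -- `T₀ ∩ T₁ = 1`
  have hti : ∀ t ∈ T0 Z K S, t ∈ T0 Z K S' → t = 1 := by
    intro t ht ht'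
    by_contra ht1
    rw [hS', F.w.T0_cj, mem_cj] at ht'
    apply hgM
    have e : g * (g⁻¹ * t * g) * g⁻¹ = t := by group
    refine F.ti ht' ?_ (by rw [e]; exact ht)
    intro h
    apply ht1
    rw [← e, h]; group
  -- they commute
  have hcomm : ∀ t ∈ T0 Z K S, ∀ s ∈ T0 Z K S', t * s = s * t := by
    intro t ht s hs
    have h1 : s ∈ M0 Z K S := F.oP_le_M0 hz (F'.T0_le_oP hz' hs)
    have h2 : t ∈ M0 Z K S' := F'.oP_le_M0 hz' (F.T0_le_oP hz ht)
    have h3 : t * s * t⁻¹ * s⁻¹ ∈ T0 Z K S := by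
      have : t * s * t⁻¹ * s⁻¹ = t * (s * t⁻¹ * s⁻¹) := by group
      rw [this]
      exact mul_mem ht (conj_mem_of_mem_normalizer h1 (inv_mem ht))
    have h4 : t * s * t⁻¹ * s⁻¹ ∈ T0 Z K S' :=
      mul_mem (conj_mem_of_mem_normalizer h2 hs) (inv_mem hs)
    have h5 := hti _ h3 h4
    calc t * s = (t * s * t⁻¹ * s⁻¹) * (s * t) := by group
      _ = s * t := by rw [h5, one_mul]
  obtain ⟨x, hx, -, -, hzx, -, -⟩ := F.exists_two hz
  obtain ⟨a, ha, b, hb, hza, hzb, hab⟩ := F'.exists_two hz'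
  have hzxT := F.w.mul_mem_T0 hz hx
  have hzx1 := F.mul_ne hx hzx
  have hCzx := F.w.om_cm hz hx hzx F.hS.two
  -- (A)
  have hA : x ∉ KK' := by
    intro hxK
    have h1 := F'.fr.one x hxK z (F'.fr.sub hz') hCzx.symm
    have h2 : x ∈ OmZ Z K S' := by
      apply F.w.om_of_cm F'.hS hx.1
      intro y hy hyx
      by_cases hyz : y = z
      · rw [hyz]; exact hCzx
      · apply F.w.csymm y hy.1 x hx.1 _ hyx
        have h3 : Ce z (K y) := fun k hk => (F.w.om_cm hz' hy (Ne.symm hyz) F'.hS.two) z (F.w.mem z hz.1) k hk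
        have h4 := (h1 y (F'.fr.sub hy)).mul h3
        have h5 : x * z * z = x := by rw [mul_assoc, F.w.sq z hz.1, mul_one]
        rwa [h5] at h4
    exact hzx1 (hti _ hzxT (F.w.mul_mem_T0 hz' h2))
  -- (B)
  have hB : ∀ c ∈ OmZ Z K S', z ≠ c → ¬ Cm (K x) (K c) := by
    intro c hc hzc h
    apply hA
    apply F'.mem_kk hx.1 (F.w.mul_mem_T0 hz' hc) (F'.mul_ne hc hzc)
    exact Ce.mul (fun k hk => hCzx z (F.w.mem z hz.1) k hk) (fun k hk => (h k hk c (F.w.mem c hc.1)).symm)
  have hxc : ∀ c ∈ OmZ Z K S', x * c = c * x := by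
    intro c hc
    have h1 := hcomm _ hzxT _ (F.w.mul_mem_T0 hz' hc)
    have h2 : z * x = x * z := hCzx z (F.w.mem z hz.1) x (F.w.mem x hx.1)
    have h3 : z * c = c * z := by
      by_cases h : z = c
      · rw [h]
      · exact F.w.om_cm hz' hc h F'.hS.two z (F.w.mem z hz.1) c (F.w.mem c hc.1)
    calc x * c = (x * (z * z) * c) := by rw [F.w.sq z hz.1, mul_one]
      _ = (x * z) * (z * c) := by group
      _ = (z * x) * (z * c) := by rw [h2]
      _ = (z * c) * (z * x) := h1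
      _ = (c * z) * (z * x) := by rw [h3]
      _ = c * (z * z) * x := by group
      _ = c * x := by rw [F.w.sq z hz.1, mul_one]
  exact hA (F'.triple hx.1 ha hb hab (hxc a ha) (hxc b hb) (hB a ha hza) (hB b hb hzb))

/-- Step (2): `C(z) ≤ M₀` for `z ∈ KK` -/
theorem cent_kk {z g : G} (hz : z ∈ KK) (hg : g * z = z * g) : g ∈ M0 Z K S := by
  obtain ⟨c, hc, hcz⟩ := F.exists_c hz
  have h1 : c * g * c⁻¹ ∈ M0 Z K S := by
    apply F.cent_om hcz
    calc c * g * c⁻¹ * (c * z * c⁻¹) = c * (g * z) * c⁻¹ := by group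
      _ = c * (z * g) * c⁻¹ := by rw [hg]
      _ = c * z * c⁻¹ * (c * g * c⁻¹) := by group
  have : g = c⁻¹ * (c * g * c⁻¹) * c := by group
  rw [this]
  exact mul_mem (mul_mem (inv_mem hc) h1) hc

end Fs

end Cfsg.Agent.Cit.Nil.AN
end

-- part: Cit/Nil/AN/Four
section
set_option linter.all false
open scoped Cfsg.Agent.FastGrp

-- part: Cit/Nil/AN/Three
section
/-!
# Step (3) of `AN(s)`: `Z ∩ M₀ = KK`, and `M₀` controls the fusion of `KK`
-/

set_option autoImplicit false
set_option linter.unusedSectionVars false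

namespace Cfsg.Agent.Cit.Nil.AN

open Subgroup Cfsg.Agent.Cit Cfsg.Agent.StdEven.Syl Cfsg.Agent.OddOrderLocal.NilParts

variable {G : Type*} [Group G] {Z : Set G} {K : G → Subgroup G} {S : Subgroup G} {KK : Set G}

namespace Fs

variable [Finite G] (F : Fs Z K S KK)

include F

theorem isSyl_M0 : IsSyl S (M0 Z K S) := F.hS.mono F.S_le le_top

/-- an element of `Z ∩ S` lies in `KK` -/
theorem mem_kk_of_S {x : G} (hx : x ∈ Z) (hxS : x ∈ S) : x ∈ KK := by
  by_contra hno
  have hce : ∀ t ∈ T0 Z K S, t ≠ 1 → ¬ Ce t (K x) := fun t ht ht1 h => hno (F.mem_kk hx ht ht1 h)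
  -- `x` fixes all `z`
  have hfix : ∀ z ∈ OmZ Z K S, x * z = z * x := by
    intro z hz
    by_contra h
    have h1 : x * z * x⁻¹ ∈ OmZ Z K S := F.w.S_nor F.hS hxS hz
    have h2 : z ≠ x * z * x⁻¹ := by
      intro h3
      apply h
      calc x * z = x * z * x⁻¹ * x := by group
        _ = z * x := by rw [← h3]
    have h3 := F.w.swap x hx z hz.1 _ h1.1 (F.w.om_cm hz h1 h2 F.hS.two) rfl
    exact hce _ (F.w.mul_mem_T0 hz h1) (F.mul_ne h1 h2) h3
  -- `x` is not a C-partner of any `z`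
  have hC : ∀ z ∈ OmZ Z K S, ¬ Cm (K x) (K z) := by
    intro z hz hc
    have hxT : x ∉ T0 Z K S := fun h => hce x h (F.w.ne x hx) (F.w.ce_self hx)
    have hKM : K x ≤ M0 Z K S := fun k hk => F.cent_om hz (hc k hk z (F.w.mem z hz.1))
    have hxt : ∀ t ∈ T0 Z K S, t * x = x * t := by
      intro t ht
      have h1 : TS Z K S ≤ centralizer {x} := by
        unfold TS
        rw [closure_le]
        intro z hz
        exact mem_centralizer_singleton_iff.2 (hfix z hz).symm
      exact mem_centralizer_singleton_iff.1 (h1 (F.w.T0_le ht))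
    obtain ⟨t, ht, ht1⟩ := F.exists_t
    apply hce t ht ht1
    intro k hk
    have h5 : k * t * k⁻¹ ∈ T0 Z K S := conj_mem_of_mem_normalizer (hKM hk) ht
    have h6 : k * t * k⁻¹ * t⁻¹ ∈ T0 Z K S := mul_mem h5 (inv_mem ht)
    have h7 : k * t * k⁻¹ * t⁻¹ ∈ K x := by
      have h8 : t * k⁻¹ * t⁻¹ ∈ K x := by
        have h9 := F.w.K_nor hx (hxt t ht)
        rw [← h9]
        exact conj_mem_cj (inv_mem hk)
      have : k * t * k⁻¹ * t⁻¹ = k * (t * k⁻¹ * t⁻¹) := by group
      rw [this]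
      exact mul_mem hk h8
    rcases F.w.uniq x hx _ h7 (F.w.TS_sq F.hS (F.w.T0_le h6)) with h8 | h8
    · have h9 : k * t * k⁻¹ = t := by
        rw [mul_inv_eq_one] at h8; exact h8
      calc t * k = k * t * k⁻¹ * k := by rw [h9]
        _ = k * t := by group
    · rw [h8] at h6; exact absurd h6 hxT
  obtain ⟨a, ha, b, hb, -, -, hab, -, -⟩ := F.three
  exact hno (F.triple hx ha hb hab (hfix a ha) (hfix b hb) (hC a ha) (hC b hb))

/-- Step (3): `Z ∩ M₀ = KK` -/
theorem mem_kk_of_M0 {x : G} (hx : x ∈ Z) (hxM : x ∈ M0 Z K S) : x ∈ KK := by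
  have h1 : zpowers x ≤ M0 Z K S := by rwa [zpowers_le]
  obtain ⟨n, hn, hn2⟩ := F.isSyl_M0.exists_conj (isPGroup_zpowers_inv (F.w.sq x hx)) h1
  have h2 := F.mem_kk_of_S (F.w.conjZ x hx n) (hn2 x (mem_zpowers x))
  have h3 := F.kk_conj (inv_mem hn) h2
  have e : n⁻¹ * (n * x * n⁻¹) * n⁻¹⁻¹ = x := by group
  rwa [e] at h3

/-- Step (3'): an element conjugating an element of `KK` into `M₀` lies in `M₀` -/
theorem mem_M0 {z g : G} (hz : z ∈ KK) (h : g * z * g⁻¹ ∈ M0 Z K S) : g ∈ M0 Z K S := by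
  have h1 := F.mem_kk_of_M0 (F.w.conjZ z (F.kk_Z hz) g) h
  -- move both into `OmZ S`
  obtain ⟨c, hc, hcz⟩ := F.exists_c hz
  obtain ⟨d, hd, hdz⟩ := F.exists_c h1
  -- `g' = d g c⁻¹` maps `c z c⁻¹` to `d (g z g⁻¹) d⁻¹`
  set z1 := c * z * c⁻¹ with hz1
  set z2 := d * (g * z * g⁻¹) * d⁻¹ with hz2
  set g' := d * g * c⁻¹ with hg'
  have h2 : g' * z1 * g'⁻¹ = z2 := by rw [hg', hz1, hz2]; group
  suffices hs : g' ∈ M0 Z K S by
    have : g = d⁻¹ * g' * c := by rw [hg']; group
    rw [this]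
    exact mul_mem (mul_mem (inv_mem hd) hs) hc
  -- Sylow's theorem in `C(z2)`
  set D' : Subgroup G := ⨆ u : OmZ Z K S, K u with hD'
  obtain ⟨D, -, hD2, hKD, -⟩ := F.w.exists_D F.hS
  have hD'D : D' ≤ D := iSup_le fun u => hKD u u.2
  have hD'2 : IsPGroup 2 D' := hD2.to_le hD'D
  have hD'C : ∀ z ∈ OmZ Z K S, D' ≤ centralizer {z} := fun z hz => iSup_le fun u k hk => by
    rw [mem_centralizer_singleton_iff]
    by_cases h : (u : G) = z
    · have hk' : k ∈ K z := by rw [← h]; exact hk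
      exact (F.w.ce_self hz.1 k hk').symm
    · exact F.w.om_cm u.2 hz h F.hS.two k hk z (F.w.mem z hz.1)
  obtain ⟨P, hP, hDP⟩ := exists_isSyl hD'2 (hD'C z2 hdz)
  have h3 : cj g' D' ≤ centralizer {z2} := by
    have h4 := cj_mono g' (hD'C z1 hcz)
    rwa [cj_centralizer, h2] at h4
  obtain ⟨b, hb, hb2⟩ := hP.exists_conj (isPGroup_cj hD'2) h3
  have hbM : b ∈ M0 Z K S := F.cent_om hdz (mem_centralizer_singleton_iff.1 hb)
  have hbg : b * g' ∈ M0 Z K S := by
    apply F.mem_M0_of_perm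
    intro z hz
    apply F.w.om_eq F.hS hP.two (fun u hu => (le_iSup (fun u : OmZ Z K S => K u) ⟨u, hu⟩).trans hDP)
      (F.w.conjZ z hz.1 _)
    rw [F.w.conjK z hz.1]
    intro x hx
    rw [mem_cj] at hx
    have h3 : (b * g')⁻¹ * x * (b * g') ∈ D' := (le_iSup (fun u : OmZ Z K S => K u) ⟨z, hz⟩) hx
    have h4 := hb2 _ (conj_mem_cj (g := g') h3)
    have e : b * (g' * ((b * g')⁻¹ * x * (b * g')) * g'⁻¹) * b⁻¹ = x := by group
    rwa [e] at h4
  have : g' = b⁻¹ * (b * g') := by group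
  rw [this]
  exact mul_mem (inv_mem hbM) hbg

end Fs

end Cfsg.Agent.Cit.Nil.AN
end

-- part: Cit/Nil/AN/Four
section
/-!
# Step (4) of `AN(s)`: `T₀` is strongly closed in `S`; the theorem
-/

set_option autoImplicit false
set_option linter.unusedSectionVars false

namespace Cfsg.Agent.Cit.Nil.AN

open Subgroup Cfsg Cfsg.Agent.Cit Cfsg.Agent.StdEven.Syl Cfsg.Agent.OddOrderLocal.NilParts

variable {G : Type*} [Group G] {Z : Set G} {K : G → Subgroup G} {KK : Set G}

section

variable [Finite G]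

theorem mem_OmS_iff (h : ROne.W Z K) {S : Subgroup G} (hS : IsPGroup 2 S) {L : Subgroup G} :
    L ∈ OmS (K '' Z) S ↔ ∃ z ∈ OmZ Z K S, K z = L := by
  constructor
  · intro hL
    obtain ⟨z, hz, rfl⟩ := hL.1
    exact ⟨z, ⟨hz, Cit.ROne.le_of_OmS (h.two hz) hS hL⟩, rfl⟩
  · rintro ⟨z, hz, rfl⟩
    exact mem_OmS_of_le ⟨z, hz.1, rfl⟩ ⟨le_rfl, h.two hz.1, by rw [relIndex_self]; omega⟩ hz.2

/-- Step (4): `T₀` is strongly closed in `S` -/
theorem Fs.closed {S : Subgroup G} (F : Fs Z K S KK) (h : ROne.W Z K) : IsStronglyClosed (T0 Z K S) S := by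
  have hT0S : T0 Z K S ≤ S := F.w.T0_le.trans (F.w.TS_le_S F.hS.two)
  refine ⟨hT0S, fun t ht g hb => ?_⟩
  by_contra hno
  set b := g * t * g⁻¹ with hbdef
  have ht1 : t ≠ 1 := by
    rintro rfl
    apply hno
    rw [hbdef, mul_one, mul_inv_cancel]
    exact one_mem _
  have htt : t * t = 1 := F.w.TS_sq F.hS (F.w.T0_le ht)
  have hbb : b * b = 1 := by
    calc b * b = g * (t * t) * g⁻¹ := by rw [hbdef]; group
      _ = 1 := by rw [htt]; group
  have hgM : g ∉ M0 Z K S := fun hg => hno (conj_mem_of_mem_normalizer hg ht)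
  -- elements commuting with `b`
  have hC : ∀ x : G, x * b = b * x → g⁻¹ * x * g ∈ M0 Z K S := by
    intro x hx
    apply F.cent_le ht ht1
    calc g⁻¹ * x * g * t = g⁻¹ * (x * b) * g := by rw [hbdef]; group
      _ = g⁻¹ * (b * x) * g := by rw [hx]
      _ = t * (g⁻¹ * x * g) := by rw [hbdef]; group
  -- `b` moves all members
  have hmv : ∀ z ∈ OmZ Z K S, b * z * b⁻¹ ≠ z := by
    intro z hz he
    have h1 : z * b = b * z := by
      calc z * b = b * z * b⁻¹ * b := by rw [he]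
        _ = b * z := by group
    have h2 := hC z h1
    have h3 : g⁻¹ * z * g⁻¹⁻¹ ∈ M0 Z K S := by rwa [inv_inv]
    have h4 := F.mem_M0 (F.fr.sub hz) h3
    exact hgM (by rw [← inv_inv g]; exact inv_mem h4)
  have hbz : ∀ z ∈ OmZ Z K S, b * z * b⁻¹ ∈ OmZ Z K S := fun z hz => F.w.S_nor F.hS hb hz
  -- the Sylow subgroup `S'`
  set C : Subgroup G := S ⊓ centralizer {b} with hCdef
  have hC2 : IsPGroup 2 C := F.hS.two.to_le inf_le_left
  have hCg : cj g⁻¹ C ≤ M0 Z K S := by
    intro x hx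
    rw [mem_cj, inv_inv] at hx
    have h1 := hC _ (mem_centralizer_singleton_iff.1 (mem_inf.1 hx).2)
    have e : g⁻¹ * (g * x * g⁻¹) * g = x := by group
    rwa [e] at h1
  obtain ⟨n, hn, hn2⟩ := F.isSyl_M0.exists_conj (isPGroup_cj hC2) hCg
  set g' := g * n⁻¹ with hg'
  have hg'M : g' ∉ M0 Z K S := by
    intro h1
    apply hgM
    have : g = g' * n := by rw [hg']; group
    rw [this]
    exact mul_mem h1 hn
  have hCS' : C ≤ cj g' S := by
    intro x hx
    rw [mem_cj]
    have h1 := hn2 _ (conj_mem_cj (g := g⁻¹) hx)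
    have e : n * (g⁻¹ * x * g⁻¹⁻¹) * n⁻¹ = g'⁻¹ * x * g' := by rw [hg']; group
    rwa [e] at h1
  obtain ⟨P, hP⟩ := F.hS.exists_sylow
  obtain ⟨P', hP'⟩ := (isSyl_cj F.hS g').exists_sylow
  have hmem : ∀ z ∈ OmZ Z K S, ∀ k ∈ K z, k * (b * k * b⁻¹) ∈ C := by
    intro z hz k hk
    have h1 : k ∈ S := hz.2 hk
    have h2 : b * k * b⁻¹ ∈ K (b * z * b⁻¹) := by
      rw [F.w.conjK z hz.1]
      exact conj_mem_cj hk
    have h3 : k * (b * k * b⁻¹) = (b * k * b⁻¹) * k :=
      F.w.om_cm hz (hbz z hz) (Ne.symm (hmv z hz)) F.hS.two k hk _ h2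
    have hbi : b⁻¹ = b := inv_eq_of_mul_eq_one_right hbb
    refine mem_inf.2 ⟨mul_mem h1 (mul_mem (mul_mem hb h1) (inv_mem hb)), ?_⟩
    rw [mem_centralizer_singleton_iff]
    calc k * (b * k * b⁻¹) * b = k * b * k := by group
      _ = (b * b) * (k * b * k) := by rw [hbb, one_mul]
      _ = b * ((b * k * b) * k) := by group
      _ = b * ((b * k * b⁻¹) * k) := by rw [hbi]
      _ = b * (k * (b * k * b⁻¹)) := by rw [h3]
  have mv : Cit.ROne.Mv (K '' Z) P P' b := by
    refine ⟨h.hyp, ?_, ?_, ?_, ?_, hbb, ?_, ?_, ?_⟩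
    · rintro _ ⟨z, hz, rfl⟩
      exact h.two hz
    · rintro _ ⟨z, hz, rfl⟩ _ ⟨u, hu, rfl⟩ he
      rw [h.zz_K hz, h.zz_K hu] at he
      rw [he]
    · obtain ⟨a, ha, -⟩ := F.three
      exact ⟨K a, by rw [hP]; exact (mem_OmS_iff h F.hS.two).2 ⟨a, ha, rfl⟩⟩
    · rw [hP]; exact hb
    · intro L hL he
      rw [hP] at hL
      obtain ⟨z, hz, rfl⟩ := (mem_OmS_iff h F.hS.two).1 hL
      rw [← h.conjK z hz.1] at he
      exact hmv z hz (h.K_inj (h.conjZ z hz.1 b) hz.1 he)
    · intro L hL k hk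
      rw [hP] at hL
      obtain ⟨z, hz, rfl⟩ := (mem_OmS_iff h F.hS.two).1 hL
      rw [hP']
      exact hCS' (hmem z hz k hk)
    · intro x hx hx1 L hL he
      rw [hP'] at hL
      obtain ⟨p, hp, rfl⟩ := (mem_OmS_iff h (isSyl_cj F.hS g').two).1 hL
      have hxT : x ∈ T0 Z K S := by
        have h1 : Subgroup.closure {x | ∃ K_1 ∈ OmS (K '' Z) (P : Subgroup G), x = zz K_1 * (b * zz K_1 * b⁻¹)} ≤
            T0 Z K S := by
          rw [closure_le]
          rintro _ ⟨L, hL, rfl⟩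
          rw [hP] at hL
          obtain ⟨z, hz, rfl⟩ := (mem_OmS_iff h F.hS.two).1 hL
          rw [h.zz_K hz.1]
          exact F.w.mul_mem_T0 hz (hbz z hz)
        exact h1 hx
      rw [← h.conjK p hp.1] at he
      have h2 : x * p * x⁻¹ = p := h.K_inj (h.conjZ p hp.1 x) hp.1 he
      have h3 : p * x = x * p := by
        calc p * x = x * p * x⁻¹ * x := by rw [h2]
          _ = x * p := by group
      have h4 : p ∈ M0 Z K S := F.cent_le hxT hx1 h3
      have h5 := F.w.omZ_cj.1 hp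
      apply hg'M
      apply F.mem_M0 (F.fr.sub h5)
      have e : g' * (g'⁻¹ * p * g') * g'⁻¹ = p := by group
      rwa [e]
  exact mv.false

end

/-- (THREE does not occur): a class of `C(s)`, `s ∈ T_S#`, is nil or `ONE` -/
def TPr (Z : Set G) (K : G → Subgroup G) (S : Subgroup G) : Prop :=
  ∀ s ∈ TS Z K S, s ≠ 1 → ∀ z ∈ OmZ Z K S, z ∈ oP 2 (centralizer {s}) ∨ OneC Z K s z

/-- the end: there is no strongly closed commutative subgroup -/
def NoCl (Z : Set G) (S : Subgroup G) : Prop :=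
  ∀ A : Subgroup G, A ≠ ⊥ → A ≤ closure Z → (∀ x ∈ A, ∀ y ∈ A, x * y = y * x) → IsStronglyClosed A S → False

/-- **`AN(s)`** for `m ≥ 3` -/
theorem an [Finite G] (w : AW Z K) (h : ROne.W Z K) {S : Subgroup G} (hS : IsSyl S ⊤)
    (three : ∃ z₁ ∈ OmZ Z K S, ∃ z₂ ∈ OmZ Z K S, ∃ z₃ ∈ OmZ Z K S, z₁ ≠ z₂ ∧ z₁ ≠ z₃ ∧ z₂ ≠ z₃)
    (tp : TPr Z K S) (ncl : NoCl Z S) {s : G} (hs : s ∈ TS Z K S) (hs1 : s ≠ 1) {z : G} (hz : z ∈ Z)
    (hsz : Ce s (K z)) : z ∈ oP 2 (centralizer {s}) := by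
  by_contra hn
  have three' := three
  obtain ⟨a, ha, b, hb, -, -, hab, -, -⟩ := three'
  obtain ⟨KK, fr⟩ := w.exists_fr hS tp hs hs1 ⟨hz, hsz⟩ hn ha hb hab
  have F : Fs Z K S KK := ⟨w, hS, fr, three⟩
  obtain ⟨t, ht, ht1⟩ := F.exists_t
  refine ncl (T0 Z K S) ?_ ?_ (fun x hx y hy => w.T0_comm hS hx hy) (F.closed h)
  · intro h1
    rw [h1, mem_bot] at ht
    exact ht1 ht
  · refine w.T0_le.trans ?_
    exact closure_mono fun x hx => hx.1

end Cfsg.Agent.Cit.Nil.AN
end
end
end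

-- part: Cit/Nil/ROne/Strong
section
set_option linter.all false
open scoped Cfsg.Agent.FastGrp

-- part: Cit/Nil/ROne/StrongCount
section
/-!
# (6b), `r = 1`: the count of step 9 (helper545, (9.1)(iii))

`T` elementary abelian, `τ i ≠ 1` (`i ∈ ι`), `H ≤ T × Q₈^ι` of index `≤ 2|ι|`, such that an element
`(t, ((a 2)^{e i}))` of `H` satisfies `t ∏ (τ i)^{e i} = 1`: impossible.
-/

set_option autoImplicit false
set_option linter.style.haveILetI false
set_option linter.unusedSectionVars false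

namespace Cfsg.Agent.Cit.Nil.ROne.StrongCount

open QuaternionGroup QEight

/-! ### Linear algebra over `𝔽₂` -/

/-- a plane for each index -/
abbrev V (ι : Type*) := ι → ZMod 2 × ZMod 2

/-- the sum of the determinants over `J` -/
noncomputable def form {ι : Type*} (J : Finset ι) : LinearMap.BilinForm (ZMod 2) (V ι) :=
  LinearMap.mk₂ (ZMod 2) (fun x y => ∑ i ∈ J, ((x i).1 * (y i).2 + (x i).2 * (y i).1))
    (fun x x' y => by
      rw [← Finset.sum_add_distrib]
      refine Finset.sum_congr rfl fun i _ => ?_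
      simp only [Pi.add_apply, Prod.fst_add, Prod.snd_add]; ring)
    (fun c x y => by
      rw [Finset.smul_sum]
      refine Finset.sum_congr rfl fun i _ => ?_
      simp only [Pi.smul_apply, Prod.smul_fst, Prod.smul_snd, smul_eq_mul]; ring)
    (fun x y y' => by
      rw [← Finset.sum_add_distrib]
      refine Finset.sum_congr rfl fun i _ => ?_
      simp only [Pi.add_apply, Prod.fst_add, Prod.snd_add]; ring)
    (fun c x y => by
      rw [Finset.smul_sum]
      refine Finset.sum_congr rfl fun i _ => ?_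
      simp only [Pi.smul_apply, Prod.smul_fst, Prod.smul_snd, smul_eq_mul]; ring)

theorem form_apply {ι : Type*} (J : Finset ι) (x y : V ι) :
    form J x y = ∑ i ∈ J, ((x i).1 * (y i).2 + (x i).2 * (y i).1) := rfl

theorem form_refl {ι : Type*} (J : Finset ι) : (form J).IsRefl := by
  intro x y h
  rw [form_apply] at h ⊢
  rw [← h]
  refine Finset.sum_congr rfl fun i _ => ?_
  ring

theorem finrank_V {ι : Type*} [Fintype ι] : Module.finrank (ZMod 2) (V ι) = 2 * Fintype.card ι := by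
  rw [Module.finrank_pi_fintype]
  simp only [mul_comm, _root_.Module.finrank_prod, _root_.Module.finrank_self, _root_.Nat.reduceAdd, _root_.Finset.sum_const, _root_.Finset.card_univ, _root_.smul_eq_mul]

/-- the radical vanishes on `J` -/
theorem rad_apply {ι : Type*} [Fintype ι] (J : Finset ι) {x : V ι} (hx : x ∈ (form J).orthogonal ⊤) {i : ι}
    (hi : i ∈ J) : x i = 0 := by
  classical
  rw [LinearMap.BilinForm.mem_orthogonal_iff] at hx
  have key : ∀ v : ZMod 2 × ZMod 2, v.1 * (x i).2 + v.2 * (x i).1 = 0 := by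
    intro v
    have h1 := hx (Pi.single i v) Submodule.mem_top
    rw [form_apply, Finset.sum_eq_single_of_mem i hi] at h1
    · rwa [Pi.single_eq_same] at h1
    · intro j _ hj
      rw [Pi.single_eq_of_ne hj]
      simp
  have h1 := key (1, 0)
  have h2 := key (0, 1)
  simp only [one_mul, zero_mul, add_zero, zero_add] at h1 h2
  exact Prod.ext h2 h1

theorem isotropic {ι : Type*} [Fintype ι] (J : Finset ι) (H : Submodule (ZMod 2) (V ι))
    (hH : ∀ x ∈ H, ∀ y ∈ H, ∑ i ∈ J, ((x i).1 * (y i).2 + (x i).2 * (y i).1) = 0) :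
    Nat.card H * 2 ^ J.card ≤ 4 ^ Fintype.card ι := by
  classical
  have h1 := LinearMap.BilinForm.finrank_add_finrank_orthogonal (form_refl J) H
  have h2 : Module.finrank (ZMod 2) H ≤ Module.finrank (ZMod 2) ((form J).orthogonal H) := by
    refine Submodule.finrank_mono fun x hx => ?_
    rw [LinearMap.BilinForm.mem_orthogonal_iff]
    intro y hy
    exact hH y hy x hx
  have h3 : Module.finrank (ZMod 2) ↥(H ⊓ (form J).orthogonal ⊤) + 2 * J.card ≤ 2 * Fintype.card ι := by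
    let f : ↥(H ⊓ (form J).orthogonal ⊤) →ₗ[ZMod 2] V {i // i ∉ J} :=
      { toFun := fun x i => (x : V ι) i
        map_add' := fun x y => rfl
        map_smul' := fun c x => rfl }
    have h4 : Function.Injective f := by
      intro x y hxy
      refine Subtype.ext (funext fun i => ?_)
      by_cases hi : i ∈ J
      · rw [rad_apply J x.2.2 hi, rad_apply J y.2.2 hi]
      · exact congrFun hxy ⟨i, hi⟩
    have h5 := LinearMap.finrank_le_finrank_of_injective h4
    rw [finrank_V] at h5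
    have h6 : Fintype.card {i // i ∉ J} = Fintype.card ι - J.card := by
      rw [Fintype.card_subtype_compl, Fintype.card_coe]
    have h7 : J.card ≤ Fintype.card ι := Finset.card_le_univ J
    (clear * - h5 h6 h7; omega)
  rw [finrank_V] at h1
  have h4 : Nat.card H = 2 ^ Module.finrank (ZMod 2) H := by
    rw [Module.natCard_eq_pow_finrank (K := ZMod 2), Nat.card_zmod]
  have h5 : (4 : ℕ) ^ Fintype.card ι = 2 ^ (2 * Fintype.card ι) := by
    rw [pow_mul]; norm_num only []
  rw [h4, h5, ← pow_add]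
  exact Nat.pow_le_pow_right (by norm_num) (by omega)

/-! ### Averaging over the functionals -/

theorem exists_functional {T : Type*} [AddCommGroup T] [Module (ZMod 2) T] [Finite T] {ι : Type*} [Fintype ι]
    [Nonempty ι] (τ : ι → T) (hτ : ∀ i, τ i ≠ 0) : ∃ χ : T →ₗ[ZMod 2] ZMod 2,
      Fintype.card ι < 2 * (Finset.univ.filter fun i => χ (τ i) = 1).card := by
  classical
  haveI : Finite (T →ₗ[ZMod 2] ZMod 2) := Finite.of_injective _ DFunLike.coe_injective
  haveI : Fintype (T →ₗ[ZMod 2] ZMod 2) := Fintype.ofFinite _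
  have z2 : ∀ x : ZMod 2, x ≠ 1 ↔ x = 0 := by decide
  by_contra hcon
  push Not at hcon
  have hcount : ∀ i, 2 * (Finset.univ.filter fun χ : T →ₗ[ZMod 2] ZMod 2 => χ (τ i) = 1).card =
      Fintype.card (T →ₗ[ZMod 2] ZMod 2) := by
    intro i
    obtain ⟨χ₀, hχ₀⟩ : ∃ φ : Module.Dual (ZMod 2) T, φ (τ i) ≠ 0 := by
      by_contra h
      push Not at h
      exact hτ i ((Module.forall_dual_apply_eq_zero_iff (ZMod 2) (τ i)).1 h)
    have h1 : χ₀ (τ i) = 1 := by
      by_contra h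
      exact hχ₀ ((z2 _).1 h)
    have h2 : (Finset.univ.filter fun χ : T →ₗ[ZMod 2] ZMod 2 => χ (τ i) = 1).card =
        (Finset.univ.filter fun χ : T →ₗ[ZMod 2] ZMod 2 => ¬ χ (τ i) = 1).card := by
      refine Finset.card_bij' (fun χ _ => χ + χ₀) (fun χ _ => χ + χ₀) ?_ ?_ ?_ ?_
      · intro χ hχ
        rw [Finset.mem_filter] at hχ ⊢
        refine ⟨Finset.mem_univ _, ?_⟩
        rw [LinearMap.add_apply, hχ.2, h1]
        decide
      · intro χ hχ
        rw [Finset.mem_filter] at hχ ⊢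
        refine ⟨Finset.mem_univ _, ?_⟩
        rw [LinearMap.add_apply, (z2 _).1 hχ.2, h1]
        decide
      · intro χ _
        ext t
        simp only [LinearMap.add_apply, add_assoc, CharTwo.add_self_eq_zero, add_zero]
      · intro χ _
        ext t
        simp only [LinearMap.add_apply, add_assoc, CharTwo.add_self_eq_zero, add_zero]
    have h3 := Finset.card_filter_add_card_filter_not (s := (Finset.univ : Finset (T →ₗ[ZMod 2] ZMod 2)))
      (fun χ => χ (τ i) = 1)
    rw [Finset.card_univ] at h3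
    omega
  have hsum : ∑ χ : T →ₗ[ZMod 2] ZMod 2, 2 * (Finset.univ.filter fun i => χ (τ i) = 1).card =
      ∑ _χ : T →ₗ[ZMod 2] ZMod 2, Fintype.card ι := by
    rw [← Finset.mul_sum]
    have h4 : ∑ χ : T →ₗ[ZMod 2] ZMod 2, (Finset.univ.filter fun i => χ (τ i) = 1).card =
        ∑ i : ι, (Finset.univ.filter fun χ : T →ₗ[ZMod 2] ZMod 2 => χ (τ i) = 1).card := by
      simp only [Finset.card_filter]
      exact Finset.sum_comm
    rw [h4, Finset.mul_sum, Finset.sum_congr rfl (fun i _ => hcount i), Finset.sum_const, Finset.sum_const,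
      Finset.card_univ, Finset.card_univ, smul_eq_mul, smul_eq_mul, mul_comm]
  have hlt : ∑ χ : T →ₗ[ZMod 2] ZMod 2, 2 * (Finset.univ.filter fun i => χ (τ i) = 1).card <
      ∑ _χ : T →ₗ[ZMod 2] ZMod 2, Fintype.card ι := by
    refine Finset.sum_lt_sum (fun χ _ => hcon χ) ⟨0, Finset.mem_univ _, ?_⟩
    have h5 : (Finset.univ.filter fun i => (0 : T →ₗ[ZMod 2] ZMod 2) (τ i) = 1) = ∅ := by
      refine Finset.filter_eq_empty_iff.2 fun i _ => ?_
      rw [LinearMap.zero_apply]
      decide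
    rw [h5, Finset.card_empty, mul_zero]
    exact Fintype.card_pos
  exact absurd hsum hlt.ne

/-! ### The quaternion group modulo its centre -/

/-- first coordinate -/
def c1 : Q → ZMod 2
  | a i => (i.val : ZMod 2)
  | xa i => (i.val : ZMod 2)

/-- second coordinate -/
def c2 : Q → ZMod 2
  | a _ => 0
  | xa _ => 1

theorem c1_mul : ∀ x y : Q, c1 (x * y) = c1 x + c1 y := by decide +kernel

theorem c2_mul : ∀ x y : Q, c2 (x * y) = c2 x + c2 y := by decide +kernel

theorem eq_of_c : ∀ x : Q, c1 x = 0 → c2 x = 0 → x = 1 ∨ x = a 2 := by decide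

theorem comm_c : ∀ x y : Q, x * y * x⁻¹ * y⁻¹ = (a 2) ^ (c1 x * c2 y + c2 x * c1 y).val := by decide +kernel

/-- the coordinates -/
def pr {T ι : Type*} [CommGroup T] : T × (ι → Q) →* Multiplicative (V ι) where
  toFun p := Multiplicative.ofAdd fun i => (c1 (p.2 i), c2 (p.2 i))
  map_one' := rfl
  map_mul' p q := by
    refine congrArg Multiplicative.ofAdd (funext fun i => ?_)
    exact Prod.ext (c1_mul _ _) (c2_mul _ _)

/-- **the count** -/
theorem count {T ι : Type*} [CommGroup T] [Finite T] (hT : ∀ t : T, t * t = 1) [Fintype ι] [Nonempty ι]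
    (τ : ι → T) (hτ : ∀ i, τ i ≠ 1) (H : Subgroup (T × (ι → Q)))
    (hH : ∀ (t : T) (e : ι → ℕ), ((t, fun i => (a 2 : Q) ^ e i) : T × (ι → Q)) ∈ H → t * ∏ i, τ i ^ e i = 1)
    (hidx : H.index ≤ 2 * Fintype.card ι) : False := by
  classical
  letI : Module (ZMod 2) (Additive T) := AddCommGroup.zmodModule fun x => by
    rw [two_nsmul]
    exact hT x.toMul
  obtain ⟨χ, hχ⟩ := exists_functional (T := Additive T) (fun i => Additive.ofMul (τ i)) (fun i h => hτ i h)
  set J := Finset.univ.filter fun i => χ (Additive.ofMul (τ i)) = 1 with hJ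
  -- the commutators
  have hcom : ∀ p ∈ H, ∀ q ∈ H, ∑ i ∈ J, (c1 (p.2 i) * c2 (q.2 i) + c2 (p.2 i) * c1 (q.2 i)) = 0 := by
    intro p hp q hq
    have h1 : p * q * p⁻¹ * q⁻¹ ∈ H := H.mul_mem (H.mul_mem (H.mul_mem hp hq) (H.inv_mem hp)) (H.inv_mem hq)
    have h2 : p * q * p⁻¹ * q⁻¹ =
        ((1, fun i => (a 2 : Q) ^ (c1 (p.2 i) * c2 (q.2 i) + c2 (p.2 i) * c1 (q.2 i)).val) : T × (ι → Q)) := by
      refine Prod.ext ?_ (funext fun i => comm_c _ _)
      change p.1 * q.1 * p.1⁻¹ * q.1⁻¹ = 1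
      rw [mul_comm p.1 q.1, mul_inv_cancel_right, mul_inv_cancel]
    rw [h2] at h1
    have h3 := hH _ _ h1
    rw [one_mul] at h3
    have h4 := congrArg (fun t => χ (Additive.ofMul t)) h3
    simp only [ofMul_prod, ofMul_pow, map_sum, map_nsmul, ofMul_one, map_zero] at h4
    rw [← h4, hJ, Finset.sum_filter]
    refine Finset.sum_congr rfl fun i _ => ?_
    have z2 : ∀ x y : ZMod 2, (if x = 1 then y else 0) = y.val • x := by decide
    exact z2 _ _
  -- the image
  let f : H →* Multiplicative (V ι) := pr.comp H.subtype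
  have hf : ∀ p : H, Multiplicative.toAdd (f p) = fun i => (c1 ((p : T × (ι → Q)).2 i), c2 ((p : T × (ι → Q)).2 i)) :=
    fun p => rfl
  let W : Submodule (ZMod 2) (V ι) :=
    { carrier := {v | Multiplicative.ofAdd v ∈ f.range}
      add_mem' := fun {x y} hx hy => f.range.mul_mem hx hy
      zero_mem' := f.range.one_mem
      smul_mem' := fun c x hx => by
        have z2 : ∀ c : ZMod 2, c = 0 ∨ c = 1 := by decide
        rcases z2 c with rfl | rfl
        · rw [zero_smul]; exact f.range.one_mem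
        · rwa [one_smul] }
  have hW : Nat.card W = Nat.card f.range :=
    Nat.card_congr ⟨fun v => ⟨Multiplicative.ofAdd v.1, v.2⟩, fun v => ⟨Multiplicative.toAdd v.1, v.2⟩,
      fun v => rfl, fun v => rfl⟩
  have hiso : Nat.card W * 2 ^ J.card ≤ 4 ^ Fintype.card ι := by
    refine isotropic J W ?_
    rintro x ⟨p, hp⟩ y ⟨q, hq⟩
    have h1 := hcom p p.2 q q.2
    have h2 : x = fun i => (c1 ((p : T × (ι → Q)).2 i), c2 ((p : T × (ι → Q)).2 i)) := by
      rw [← hf, hp]; rfl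
    have h3 : y = fun i => (c1 ((q : T × (ι → Q)).2 i), c2 ((q : T × (ι → Q)).2 i)) := by
      rw [← hf, hq]; rfl
    rw [h2, h3]
    exact h1
  -- the kernel
  have hker : Nat.card f.ker ≤ 2 ^ Fintype.card ι := by
    let g : f.ker → (ι → Bool) := fun p i => decide (((p : H) : T × (ι → Q)).2 i = 1)
    have hform : ∀ p : f.ker, ∀ i, ((p : H) : T × (ι → Q)).2 i = 1 ∨ ((p : H) : T × (ι → Q)).2 i = a 2 := by
      intro p i
      have h1 : f (p : H) = 1 := p.2
      have h2 := congrFun (congrArg Multiplicative.toAdd h1) i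
      rw [hf] at h2
      exact eq_of_c _ (congrArg Prod.fst h2) (congrArg Prod.snd h2)
    have hval : ∀ p : f.ker, ((p : H) : T × (ι → Q)).1 *
        ∏ i, τ i ^ (if g p i = true then 0 else 1) = 1 := by
      intro p
      refine hH _ _ ?_
      have h1 : (((p : H) : T × (ι → Q)).1, fun i => (a 2 : Q) ^ (if g p i = true then 0 else 1)) =
          ((p : H) : T × (ι → Q)) := by
        refine Prod.ext rfl (funext fun i => ?_)
        have h2 : (a 2 : Q) ≠ 1 := by decide
        rcases hform p i with h3 | h3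
        · simp [g, h3]
        · simp [g, h3, h2]
      rw [h1]
      exact (p : H).2
    have hinj : Function.Injective g := by
      intro p q hpq
      refine Subtype.ext (Subtype.ext (Prod.ext ?_ (funext fun i => ?_)))
      · have h1 := hval p
        have h2 := hval q
        rw [hpq] at h1
        exact mul_right_cancel (h1.trans h2.symm)
      · have h1 := congrFun hpq i
        simp only [g, decide_eq_decide] at h1
        rcases hform p i with h2 | h2
        · rw [h2, h1.1 h2]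
        · rcases hform q i with h3 | h3
          · rw [h3, h1.2 h3]
          · rw [h2, h3]
    have h1 := Nat.card_le_card_of_injective g hinj
    rwa [Nat.card_eq_fintype_card (α := ι → Bool), Fintype.card_fun, Fintype.card_bool] at h1
  have hcard : Nat.card H = Nat.card f.ker * Nat.card W := by
    rw [hW, ← Subgroup.index_ker, Subgroup.card_mul_index]
  have hP : Nat.card (T × (ι → Q)) = Nat.card T * 8 ^ Fintype.card ι := by
    rw [Nat.card_prod]
    congr 1
    rw [Nat.card_eq_fintype_card, Fintype.card_fun]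
    congr 1
  have hlag : Nat.card H * H.index = Nat.card (T × (ι → Q)) := Subgroup.card_mul_index H
  have hT2 : 2 ≤ Nat.card T := by
    obtain ⟨i⟩ := ‹Nonempty ι›
    haveI : Nontrivial T := ⟨⟨τ i, 1, hτ i⟩⟩
    exact Finite.one_lt_card
  -- conclusion
  set n := J.card
  set k := Fintype.card ι
  have h8 : (8 : ℕ) ^ k = 2 ^ k * 4 ^ k := by rw [← mul_pow]; norm_num
  have h1 : Nat.card T * 8 ^ k * 2 ^ n ≤ 8 ^ k * (2 * k) := by
    calc Nat.card T * 8 ^ k * 2 ^ n = Nat.card H * H.index * 2 ^ n := by rw [hlag, hP]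
      _ = Nat.card f.ker * (Nat.card W * 2 ^ n) * H.index := by rw [hcard]; ring
      _ ≤ 2 ^ k * 4 ^ k * (2 * k) := Nat.mul_le_mul (Nat.mul_le_mul hker hiso) hidx
      _ = 8 ^ k * (2 * k) := by rw [h8]
  have h2 : Nat.card T * 2 ^ n ≤ 2 * k := by
    have h3 : 8 ^ k * (Nat.card T * 2 ^ n) ≤ 8 ^ k * (2 * k) := by
      calc 8 ^ k * (Nat.card T * 2 ^ n) = Nat.card T * 8 ^ k * 2 ^ n := by ring
        _ ≤ _ := h1
    exact Nat.le_of_mul_le_mul_left h3 (by positivity)
  have h3 : 2 * 2 ^ n ≤ Nat.card T * 2 ^ n := Nat.mul_le_mul_right _ hT2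
  have h4 : ∀ n : ℕ, 2 * n ≤ 2 ^ n := by
    intro n
    induction n with
    | zero => norm_num
    | succ n ih =>
      rcases Nat.eq_zero_or_pos n with rfl | hn
      · norm_num
      · rw [pow_succ]; omega
  have h5 := h4 n
  omega

end Cfsg.Agent.Cit.Nil.ROne.StrongCount
end

-- part: Cit/Nil/ROne/Strong
section
/-!
# (6b), `r = 1`: the strongly closed subgroup (helper545, section 9)

`strong` : `S ≤ M`, `S` a Sylow 2-subgroup of `G`; `CS` a nonempty set of involutions `z` in quaternion subgroups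
`K z ≤ S` of order 8, pairwise commuting, permuted by `S`;

* (P1) `z ∈ CS`, `x z x⁻¹ ∈ M`, then `x ∈ M`;
* (P2) `C(h) ≤ M` for `1 ≠ h ∈ ⟨CS⟩`;
* `A ≤ S` normal in `M`, with `a² = 1` for `a ∈ A`, and
* (P3) for `1 ≠ a ∈ A`, every 2-subgroup of `C(a)` has a `C(a)`-conjugate in `M`.

Then `A` is strongly closed in `S`.
-/

set_option autoImplicit false
set_option linter.style.haveILetI false
set_option linter.unusedSectionVars false

namespace Cfsg.Agent.Cit.Nil.ROne.Strong

open Subgroup Cfsg Cit QuaternionGroup QEight StrongCount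

variable {G : Type*} [Group G]

/-- the index of a stabiliser -/
theorem index_le {P : Type*} [Group P] [Finite G] (Φ : P →* G) (z : G) (CS : Set G)
    (h : ∀ p, Φ p * z * (Φ p)⁻¹ ∈ CS) : ((centralizer {z}).comap Φ).index ≤ Nat.card CS := by
  have hrel : ∀ p q : P, (QuotientGroup.leftRel ((centralizer {z}).comap Φ)) p q →
      (⟨Φ p * z * (Φ p)⁻¹, h p⟩ : CS) = ⟨Φ q * z * (Φ q)⁻¹, h q⟩ := by
    intro p q hpq
    rw [QuotientGroup.leftRel_apply, mem_comap, mem_centralizer_singleton_iff, map_mul, map_inv] at hpq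
    refine Subtype.ext ?_
    change Φ p * z * (Φ p)⁻¹ = Φ q * z * (Φ q)⁻¹
    have h1 : Φ q * z = Φ p * z * ((Φ p)⁻¹ * Φ q) := by
      rw [mul_assoc (Φ p), ← hpq]; group
    rw [h1]; group
  have hinj : Function.Injective (Quotient.lift (fun p => (⟨Φ p * z * (Φ p)⁻¹, h p⟩ : CS)) hrel :
      (P ⧸ (centralizer {z}).comap Φ) → CS) := by
    rintro ⟨p⟩ ⟨q⟩ hpq
    refine Quotient.sound ?_
    change (QuotientGroup.leftRel ((centralizer {z}).comap Φ)) p q
    rw [QuotientGroup.leftRel_apply, mem_comap, mem_centralizer_singleton_iff, map_mul, map_inv]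
    have h1 : Φ p * z * (Φ p)⁻¹ = Φ q * z * (Φ q)⁻¹ := congrArg Subtype.val hpq
    have h2 : z * ((Φ p)⁻¹ * Φ q) = (Φ p)⁻¹ * (Φ p * z * (Φ p)⁻¹) * Φ q := by group
    rw [h2, h1]; group
  exact Nat.card_le_card_of_injective _ hinj

/-- evaluation on central elements -/
theorem pi_coe {T ι : Type*} [CommGroup T] [Fintype ι] (f : T →* G) (δ : ι → Q →* G)
    (hcom : Pairwise fun i j : ι => ∀ (x y : Q), Commute (δ i x) (δ j y)) (τ : ι → T)
    (h : ∀ i, δ i (a 2) = f (τ i)) (x : ι → ℕ) :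
    MonoidHom.noncommPiCoprod δ hcom (fun i => (a 2 : Q) ^ x i) = f (∏ i, τ i ^ x i) := by
  rw [MonoidHom.noncommPiCoprod_apply, ← Finset.noncommProd_eq_prod]
  have h1 : ∀ i ∈ Finset.univ, δ i ((a 2 : Q) ^ x i) = f (τ i ^ x i) := fun i _ => by
    rw [map_pow, map_pow, h]
  exact (Finset.noncommProd_congr rfl h1 _).trans
    (Finset.map_noncommProd Finset.univ (fun i => τ i ^ x i) (fun _ _ _ _ _ => Commute.all _ _) f).symm

/-- Sylow's theorem in `M ≥ S` -/
theorem exists_cj_le [Finite G] (S : Sylow 2 G) {M : Subgroup G} (hSM : (S : Subgroup G) ≤ M) {R : Subgroup G}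
    (hR : IsPGroup 2 R) (hRM : R ≤ M) : ∃ m ∈ M, cj m R ≤ (S : Subgroup G) := by
  haveI : Fact (Nat.Prime 2) := ⟨Nat.prime_two⟩
  have h1 : IsPGroup 2 (R.subgroupOf M) := hR.comap_subtype
  obtain ⟨P, hP⟩ := h1.exists_le_sylow
  obtain ⟨m, hm⟩ := MulAction.exists_smul_eq M P (S.subtype hSM)
  refine ⟨m, m.2, fun y hy => ?_⟩
  rw [mem_cj] at hy
  have h2 : (⟨(m : G)⁻¹ * y * m, hRM hy⟩ : M) ∈ (P : Subgroup M) := hP (mem_subgroupOf.2 hy)
  have h3 : m * (⟨(m : G)⁻¹ * y * m, hRM hy⟩ : M) * m⁻¹ ∈ ((m • P : Sylow 2 M) : Subgroup M) := by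
    rw [Sylow.coe_subgroup_smul]
    exact ⟨_, h2, rfl⟩
  rw [hm] at h3
  have h4 : ((m * (⟨(m : G)⁻¹ * y * m, hRM hy⟩ : M) * m⁻¹ : M) : G) = y := by
    change (m : G) * ((m : G)⁻¹ * y * m) * (m : G)⁻¹ = y
    group
  rw [← h4]
  exact h3

/-- representatives of the pairs of a fixed point free involution -/
theorem exists_reps [Finite G] (CS : Set G) (σ : G → G) (hσ : ∀ z ∈ CS, σ z ∈ CS) (hσσ : ∀ z ∈ CS, σ (σ z) = z)
    (hne : ∀ z ∈ CS, σ z ≠ z) : ∃ I : Set G, I ⊆ CS ∧ (∀ z ∈ I, ∀ u ∈ I, z ≠ σ u) ∧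
      Nat.card CS ≤ 2 * Nat.card I := by
  classical
  let e : G → ℕ := fun g => (Finite.equivFin G g : ℕ)
  have he : ∀ x y : G, e x = e y → x = y := fun x y hxy => (Finite.equivFin G).injective (Fin.ext hxy)
  refine ⟨{z | z ∈ CS ∧ e z < e (σ z)}, fun z hz => hz.1, ?_, ?_⟩
  · rintro z ⟨hz, hz1⟩ u ⟨hu, hu1⟩ hzu
    have h1 : σ z = u := by rw [hzu, hσσ u hu]
    rw [h1] at hz1
    rw [← hzu] at hu1
    omega
  · let I : Set G := {z | z ∈ CS ∧ e z < e (σ z)}
    have hcov : CS ⊆ I ∪ σ '' I := by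
      intro z hz
      rcases lt_trichotomy (e z) (e (σ z)) with h1 | h1 | h1
      · exact Or.inl ⟨hz, h1⟩
      · exact absurd (he _ _ h1).symm (hne z hz)
      · exact Or.inr ⟨σ z, ⟨hσ z hz, by rwa [hσσ z hz]⟩, hσσ z hz⟩
    rw [Nat.card_coe_set_eq, Nat.card_coe_set_eq]
    calc CS.ncard ≤ (I ∪ σ '' I).ncard := Set.ncard_le_ncard hcov (Set.toFinite _)
      _ ≤ I.ncard + (σ '' I).ncard := Set.ncard_union_le _ _
      _ ≤ I.ncard + I.ncard := Nat.add_le_add_left (Set.ncard_image_le (Set.toFinite _)) _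
      _ = 2 * I.ncard := by ring

/-- the data on `CS` -/
structure Data (S : Subgroup G) (CS : Set G) (K : G → Subgroup G) : Prop where
  sq : ∀ z ∈ CS, z * z = 1
  ne : ∀ z ∈ CS, z ≠ 1
  mem : ∀ z ∈ CS, z ∈ K z
  le : ∀ z ∈ CS, K z ≤ S
  q8 : ∀ z ∈ CS, Nonempty (K z ≃* QuaternionGroup 2)
  comm : ∀ z ∈ CS, ∀ u ∈ CS, z ≠ u → ∀ a ∈ K z, ∀ b ∈ K u, a * b = b * a
  conjZ : ∀ s ∈ S, ∀ z ∈ CS, s * z * s⁻¹ ∈ CS
  conjK : ∀ s ∈ S, ∀ z ∈ CS, K (s * z * s⁻¹) = cj s (K z)

namespace Data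

variable {S : Subgroup G} {CS : Set G} {K : G → Subgroup G} (d : Data S CS K)

include d

theorem e_z {z : G} (hz : z ∈ CS) (e : K z ≃* Q) : e ⟨z, d.mem z hz⟩ = a 2 := by
  have h1 : ∀ x : Q, x * x = 1 → x ≠ 1 → x = a 2 := by decide
  apply h1
  · rw [← map_mul, ← map_one e]
    exact congrArg e (Subtype.ext (d.sq z hz))
  · intro h2
    rw [← map_one e] at h2
    exact d.ne z hz (congrArg Subtype.val (e.injective h2))

/-- `CS` centralises all `K z` -/
theorem cen {z u : G} (hz : z ∈ CS) (hu : u ∈ CS) {k : G} (hk : k ∈ K u) : z * k = k * z := by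
  by_cases h : z = u
  · subst h
    obtain ⟨e⟩ := d.q8 z hz
    have h1 : ∀ x : Q, a 2 * x = x * a 2 := by decide
    have h2 := h1 (e ⟨k, hk⟩)
    rw [← d.e_z hz e, ← map_mul, ← map_mul] at h2
    exact congrArg Subtype.val (e.injective h2)
  · exact d.comm z hz u hu h z (d.mem z hz) k hk

theorem cenT {t u : G} (ht : t ∈ _root_.Subgroup.closure CS) (hu : u ∈ CS) {k : G} (hk : k ∈ K u) : t * k = k * t := by
  induction ht using closure_induction with
  | mem x hx => exact d.cen hx hu hk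
  | one => rw [one_mul, mul_one]
  | mul x y _ _ hx hy => rw [mul_assoc, hy, ← mul_assoc, hx, mul_assoc]
  | inv x _ hx =>
    rw [inv_mul_eq_iff_eq_mul, ← mul_assoc, hx, mul_inv_cancel_right]

theorem commT {t t' : G} (ht : t ∈ _root_.Subgroup.closure CS) (ht' : t' ∈ closure CS) : t * t' = t' * t := by
  induction ht' using closure_induction with
  | mem x hx => exact d.cenT ht hx (d.mem x hx)
  | one => rw [one_mul, mul_one]
  | mul x y _ _ hx hy => rw [← mul_assoc, hx, mul_assoc, hy, mul_assoc]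
  | inv x _ hx =>
    rw [eq_inv_mul_iff_mul_eq, ← mul_assoc, ← hx, mul_inv_cancel_right]

theorem sqT {t : G} (ht : t ∈ _root_.Subgroup.closure CS) : t * t = 1 := by
  induction ht using closure_induction with
  | mem x hx => exact d.sq x hx
  | one => rw [one_mul]
  | mul x y hx' hy' hx hy =>
    have h1 := d.commT hx' hy'
    calc x * y * (x * y) = x * (y * x) * y := by group
      _ = (x * x) * (y * y) := by rw [← h1]; group
      _ = 1 := by rw [hx, hy, one_mul]
  | inv x _ hx => rw [← mul_inv_rev, hx, inv_one]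

theorem T_le : closure CS ≤ S := (closure_le S).2 fun z hz => d.le z hz (d.mem z hz)

/-- **the count** -/
theorem false_of {b w : G} (hne : CS.Nonempty) [Finite G] (hbS : b ∈ S) (hbb : b * b = 1)
    (hmove : ∀ z ∈ CS, b * z * b⁻¹ ≠ z)
    (hw : ∀ s ∈ S, s * b = b * s → w * s * w⁻¹ ∈ S)
    (hfree : ∀ h ∈ _root_.Subgroup.closure CS, h * b = b * h → h ≠ 1 → ∀ z ∈ CS, (w * h * w⁻¹) * z ≠ z * (w * h * w⁻¹)) :
    False := by
  classical
  have hb1 : b⁻¹ = b := inv_eq_of_mul_eq_one_right hbb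
  obtain ⟨I, hI, hIσ, hcard⟩ := exists_reps CS (fun z => b * z * b⁻¹) (fun z hz => d.conjZ b hbS z hz)
    (fun z _ => by
      have h1 : b * (b * z * b⁻¹) * b⁻¹ = (b * b) * z * (b * b)⁻¹ := by group
      rw [h1, hbb, one_mul, inv_one, mul_one])
    hmove
  haveI : Fintype I := Fintype.ofFinite _
  haveI : Nonempty I := by
    obtain ⟨z, hz⟩ := hne
    haveI : Nonempty CS := ⟨⟨z, hz⟩⟩
    have h1 : 0 < Nat.card CS := Nat.card_pos
    by_contra h
    rw [not_nonempty_iff] at h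
    have h2 : Nat.card I = 0 := Nat.card_of_isEmpty
    omega
  -- the group `T₀`
  let T₀ : Subgroup G := _root_.Subgroup.closure CS ⊓ centralizer {b}
  have hT₀ : ∀ t : T₀, (t : G) ∈ closure CS ∧ (t : G) * b = b * t := fun t =>
    ⟨t.2.1, mem_centralizer_singleton_iff.1 t.2.2⟩
  letI : CommGroup T₀ :=
    { (inferInstance : Group T₀) with
      mul_comm := fun x y => Subtype.ext (d.commT (hT₀ x).1 (hT₀ y).1) }
  -- the diagonal maps
  have hK : ∀ i : I, ∀ k ∈ K i, b * k * b⁻¹ ∈ K (b * i * b⁻¹) := fun i k hk => by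
    rw [d.conjK b hbS i (hI i.2)]
    exact conj_mem_cj hk
  have hcomK : ∀ i : I, ∀ k ∈ K i, ∀ l ∈ K i, (b * k * b⁻¹) * l = l * (b * k * b⁻¹) := fun i k hk l hl =>
    d.comm _ (d.conjZ b hbS i (hI i.2)) i (hI i.2) (hmove i (hI i.2)) _ (hK i k hk) l hl
  let e : ∀ i : I, Q ≃* K (i : G) := fun i => (d.q8 i (hI i.2)).some.symm
  let δ : ∀ _ : I, Q →* G := fun i =>
    { toFun := fun q => (e i q : G) * (b * (e i q : G) * b⁻¹)
      map_one' := by simp only [_root_.map_one, _root_.OneMemClass.coe_one, _root_.mul_one, _root_.mul_inv_cancel]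
      map_mul' := fun p q => by
        have h1 := hcomK i (e i p) (e i p).2 (e i q) (e i q).2
        rw [map_mul]
        change ((e i p : G) * (e i q : G)) * (b * ((e i p : G) * (e i q : G)) * b⁻¹) = _
        calc ((e i p : G) * (e i q : G)) * (b * ((e i p : G) * (e i q : G)) * b⁻¹) =
            (e i p : G) * ((e i q : G) * (b * (e i p : G) * b⁻¹)) * (b * (e i q : G) * b⁻¹) := by group
          _ = (e i p : G) * ((b * (e i p : G) * b⁻¹) * (e i q : G)) * (b * (e i q : G) * b⁻¹) := by rw [h1]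
          _ = _ := by group }
  have hδ : ∀ i q, δ i q = (e i q : G) * (b * (e i q : G) * b⁻¹) := fun i q => rfl
  have hcom4 : ∀ i j : I, i ≠ j → ∀ k ∈ K i, ∀ l ∈ K j, Commute (k * (b * k * b⁻¹)) (l * (b * l * b⁻¹)) := by
    intro i j hij k hk l hl
    have hij' : (i : G) ≠ j := fun h => hij (Subtype.ext h)
    have c1 : Commute k l := d.comm i (hI i.2) j (hI j.2) hij' k hk l hl
    have c2 : Commute k (b * l * b⁻¹) :=
      d.comm i (hI i.2) _ (d.conjZ b hbS j (hI j.2)) (hIσ i i.2 j j.2) k hk _ (hK j l hl)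
    have c3 : Commute (b * k * b⁻¹) l :=
      d.comm _ (d.conjZ b hbS i (hI i.2)) j (hI j.2) (fun h => hIσ j j.2 i i.2 h.symm) _ (hK i k hk) l hl
    have c4 : Commute (b * k * b⁻¹) (b * l * b⁻¹) := by
      refine d.comm _ (d.conjZ b hbS i (hI i.2)) _ (d.conjZ b hbS j (hI j.2)) (fun h => hij' ?_) _ (hK i k hk)
        _ (hK j l hl)
      exact mul_left_cancel (mul_right_cancel h)
    exact (c1.mul_right c2).mul_left (c3.mul_right c4)
  have hcomδ : Pairwise fun i j : I => ∀ (x y : Q), Commute (δ i x) (δ j y) := fun i j hij x y =>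
    hcom4 i j hij _ (e i x).2 _ (e j y).2
  let Δ : (I → Q) →* G := MonoidHom.noncommPiCoprod δ hcomδ
  -- the `δ` lie in `C_S(b)` and commute with `T₀`
  have hδS : ∀ i q, δ i q ∈ S ⊓ centralizer {b} := by
    intro i q
    rw [hδ]
    have h1 : (e i q : G) ∈ S := d.le i (hI i.2) (e i q).2
    refine ⟨S.mul_mem h1 (S.mul_mem (S.mul_mem hbS h1) (S.inv_mem hbS)), mem_centralizer_singleton_iff.2 ?_⟩
    have h2 := hcomK i (e i q) (e i q).2 (e i q) (e i q).2
    calc (e i q : G) * (b * (e i q : G) * b⁻¹) * b = (b * (e i q : G) * b⁻¹) * (e i q : G) * b := by rw [h2]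
      _ = b * ((e i q : G) * (b * (e i q : G) * b⁻¹)) := by rw [hb1]; simp only [mul_assoc]
  have hΔS : ∀ x, Δ x ∈ S ⊓ centralizer {b} := by
    intro x
    rw [MonoidHom.noncommPiCoprod_apply]
    exact Subgroup.noncommProd_mem _ _ fun i _ => hδS i (x i)
  have hΔT : ∀ (t : T₀) (x : I → Q), Commute (t : G) (Δ x) := by
    intro t x
    have h1 : Δ x ∈ centralizer {(t : G)} := by
      rw [MonoidHom.noncommPiCoprod_apply]
      refine Subgroup.noncommProd_mem _ _ fun i _ => mem_centralizer_singleton_iff.2 ?_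
      have h2 : Commute (t : G) (e i (x i) : G) := d.cenT (hT₀ t).1 (hI i.2) (e i (x i)).2
      have h3 : Commute (t : G) (b * (e i (x i) : G) * b⁻¹) :=
        d.cenT (hT₀ t).1 (d.conjZ b hbS i (hI i.2)) (hK i _ (e i (x i)).2)
      exact (h2.mul_right h3).symm
    exact (mem_centralizer_singleton_iff.1 h1).symm
  let f₀ : T₀ →* G := { toFun := Subtype.val, map_one' := rfl, map_mul' := fun _ _ => rfl }
  let Φ : T₀ × (I → Q) →* G := f₀.noncommCoprod Δ hΔT
  have hΦ : ∀ p, Φ p = (p.1 : G) * Δ p.2 := fun p => rfl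
  have hΦS : ∀ p, Φ p ∈ S ⊓ centralizer {b} := by
    intro p
    rw [hΦ]
    exact mul_mem ⟨d.T_le (hT₀ p.1).1, p.1.2.2⟩ (hΔS p.2)
  let Ψ : T₀ × (I → Q) →* G := (MulAut.conj w).toMonoidHom.comp Φ
  have hΨ : ∀ p, Ψ p = w * Φ p * w⁻¹ := fun p => rfl
  have hΨS : ∀ p, Ψ p ∈ S := fun p => hw _ (hΦS p).1 (mem_centralizer_singleton_iff.1 (hΦS p).2)
  obtain ⟨z, hz⟩ := hne
  -- the elements `τ`
  have hτm : ∀ i : I, (i : G) * (b * i * b⁻¹) ∈ T₀ := by
    intro i
    have hi := hI i.2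
    have h1 := hcomK i i (d.mem i hi) i (d.mem i hi)
    refine ⟨mul_mem (_root_.Subgroup.subset_closure hi) (_root_.Subgroup.subset_closure (d.conjZ b hbS i hi)), mem_centralizer_singleton_iff.2 ?_⟩
    calc (i : G) * (b * i * b⁻¹) * b = (b * i * b⁻¹) * i * b := by rw [h1]
      _ = b * ((i : G) * (b * i * b⁻¹)) := by rw [hb1]; simp only [mul_assoc]
  let τ : I → T₀ := fun i => ⟨(i : G) * (b * i * b⁻¹), hτm i⟩
  have hτ : ∀ i, τ i ≠ 1 := by
    intro i h
    have hi := hI i.2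
    have h1 : (i : G) * (b * i * b⁻¹) = 1 := congrArg Subtype.val h
    apply hmove i hi
    have h2 := d.sq i hi
    exact mul_left_cancel (h1.trans h2.symm)
  have hea : ∀ i : I, (e i (a 2) : G) = i := by
    intro i
    have h1 := d.e_z (hI i.2) (d.q8 i (hI i.2)).some
    change (((d.q8 i (hI i.2)).some.symm (a 2) : K (i : G)) : G) = i
    rw [← h1, MulEquiv.symm_apply_apply]
  refine count (fun t => Subtype.ext (d.sqT (hT₀ t).1)) τ hτ ((centralizer {z}).comap Ψ) ?_ ?_
  · intro t x hx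
    rw [mem_comap, mem_centralizer_singleton_iff, hΨ] at hx
    have h1 : Φ (t, fun i => (a 2 : Q) ^ x i) = ((t * ∏ i, τ i ^ x i : T₀) : G) := by
      rw [hΦ]
      change (t : G) * Δ (fun i => (a 2 : Q) ^ x i) = (t : G) * ((∏ i, τ i ^ x i : T₀) : G)
      congr 1
      refine pi_coe f₀ δ hcomδ τ (fun i => ?_) x
      rw [hδ, hea]
      rfl
    rw [h1] at hx
    by_contra h3
    refine hfree _ (hT₀ (t * ∏ i, τ i ^ x i)).1 (hT₀ (t * ∏ i, τ i ^ x i)).2 (fun h4 => h3 (Subtype.ext h4)) z hz hx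
  · refine (index_le Ψ z CS fun p => d.conjZ _ (hΨS p) z hz).trans ?_
    rwa [Nat.card_eq_fintype_card (α := I)] at hcard

end Data

/-- **section 9** -/
theorem strong [Finite G] (S : Sylow 2 G) {M : Subgroup G} (hSM : (S : Subgroup G) ≤ M) {CS : Set G}
    {K : G → Subgroup G} (d : Data (S : Subgroup G) CS K) (hne : CS.Nonempty)
    (P1 : ∀ z ∈ CS, ∀ x, x * z * x⁻¹ ∈ M → x ∈ M)
    (P2 : ∀ h ∈ _root_.Subgroup.closure CS, h ≠ 1 → ∀ c, c * h = h * c → c ∈ M)
    {A : Subgroup G} (hAS : A ≤ S) (hAM : M ≤ normalizer (A : Set G)) (hA2 : ∀ x ∈ A, x * x = 1)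
    (P3 : ∀ x ∈ A, x ≠ 1 → ∀ R : Subgroup G, IsPGroup 2 R → (∀ r ∈ R, r * x = x * r) →
      ∃ c, c * x = x * c ∧ cj c R ≤ M) : IsStronglyClosed A (S : Subgroup G) := by
  haveI : Fact (Nat.Prime 2) := ⟨Nat.prime_two⟩
  refine ⟨hAS, fun x hx g hg => ?_⟩
  by_contra hb
  set b := g * x * g⁻¹ with hbdef
  have hx1 : x ≠ 1 := by
    rintro rfl
    apply hb
    rw [hbdef, mul_one, mul_inv_cancel]
    exact A.one_mem
  have hbb : b * b = 1 := by
    have h1 : b * b = g * (x * x) * g⁻¹ := by rw [hbdef]; group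
    rw [h1, hA2 x hx, mul_one, mul_inv_cancel]
  have hgb : g⁻¹ * b * g = x := by rw [hbdef]; group
  -- the 2-subgroup of `C(x)`
  let R : Subgroup G := cj g⁻¹ ((S : Subgroup G) ⊓ centralizer {b})
  have hR : ∀ r ∈ R, g * r * g⁻¹ ∈ (S : Subgroup G) ⊓ centralizer {b} := by
    intro r hr
    rw [mem_cj, inv_inv] at hr
    exact hr
  have hR2 : IsPGroup 2 R := (S.isPGroup'.to_le inf_le_left).map _
  obtain ⟨c, hc, hcR⟩ := P3 x hx hx1 R hR2 (fun r hr => by
    have h1 := mem_centralizer_singleton_iff.1 (hR r hr).2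
    rw [← hgb]
    calc r * (g⁻¹ * b * g) = g⁻¹ * ((g * r * g⁻¹) * b) * g := by group
      _ = g⁻¹ * (b * (g * r * g⁻¹)) * g := by rw [h1]
      _ = _ := by group)
  -- into `S`
  obtain ⟨m, hm, hmS⟩ := exists_cj_le S hSM (R := cj c R) (hR2.map _) hcR
  have hkey : ∀ s ∈ (S : Subgroup G), s * b = b * s → (m * c * g⁻¹) * s * (m * c * g⁻¹)⁻¹ ∈ (S : Subgroup G) := by
    intro s hs hsb
    have h1 : g⁻¹ * s * g⁻¹⁻¹ ∈ R := conj_mem_cj ⟨hs, mem_centralizer_singleton_iff.2 hsb⟩
    have h2 := hmS (conj_mem_cj (g := m) (conj_mem_cj (g := c) h1))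
    have h3 : (m * c * g⁻¹) * s * (m * c * g⁻¹)⁻¹ = m * (c * (g⁻¹ * s * g⁻¹⁻¹) * c⁻¹) * m⁻¹ := by group
    rw [h3]
    exact h2
  have hwM : m * c * g⁻¹ ∉ M := by
    intro h1
    have h2 : b = (m * c * g⁻¹)⁻¹ * (m * x * m⁻¹) * (m * c * g⁻¹)⁻¹⁻¹ := by
      have h3 : c⁻¹ * x * c = x := by
        rw [mul_assoc, ← hc, inv_mul_cancel_left]
      calc b = g * x * g⁻¹ := hbdef
        _ = g * (c⁻¹ * x * c) * g⁻¹ := by rw [h3]
        _ = _ := by group
    apply hb
    rw [h2]
    have h3 : m * x * m⁻¹ ∈ A := (mem_normalizer_iff.1 (hAM hm) x).1 hx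
    exact (mem_normalizer_iff.1 (hAM (M.inv_mem h1)) _).1 h3
  set w := m * c * g⁻¹ with hwdef
  refine d.false_of (b := b) (w := w) hne hg hbb ?_ hkey ?_
  · intro z hz h1
    have h2 : z * b = b * z := by
      conv_lhs => rw [← h1]
      group
    exact hwM (P1 z hz w (hSM (hkey z (d.le z hz (d.mem z hz)) h2)))
  · intro h hh hhb hh1 z hz hcomm
    have h1 : w⁻¹ * z * w ∈ M := by
      refine P2 h hh hh1 _ ?_
      calc w⁻¹ * z * w * h = w⁻¹ * (z * (w * h * w⁻¹)) * w := by group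
        _ = w⁻¹ * ((w * h * w⁻¹) * z) * w := by rw [hcomm]
        _ = _ := by group
    have h2 := P1 z hz w⁻¹ (by rwa [inv_inv])
    exact hwM (by simpa using M.inv_mem h2)

end Cfsg.Agent.Cit.Nil.ROne.Strong
end
end

-- part: Cit/Nil/ROne/MTwoOne
section
set_option linter.all false
open scoped Cfsg.Agent.FastGrp

/-!
# (6b), r = 1, m = 2, nil world: valency one (helper454, bb #12195 (f))

If every `z` has exactly one neighbour, then the product `z u` of an edge is an isolated involution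
(`W.isolated`), hence central in `G / O(G)` (`W.central_of_val`).
-/

set_option autoImplicit false
set_option linter.style.haveILetI false
set_option linter.unusedSectionVars false

namespace Cfsg.Agent.Cit.Nil.MTwo

open Subgroup Cfsg Cit OneBasic

variable {G : Type*} [Group G] {Z : Set G} {K : G → Subgroup G} {z u v b c x y g e : G}

namespace W

variable (w : W Z K)

include w

section

omit w

theorem commz_prod_left {z u y : G} (h1 : y * z = z * y) (h2 : y * u = u * y) : y * (z * u) = z * u * y := by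
  rw [← mul_assoc, h1, mul_assoc, h2, mul_assoc]

end

theorem prod_sq (h : Ed Z K z u) : (z * u) * (z * u) = 1 := by
  have h1 := w.comm h
  calc (z * u) * (z * u) = z * (u * z) * u := by group
    _ = (z * z) * (u * u) := by rw [← h1]; group
    _ = 1 := by rw [w.sq z h.left, w.sq u h.right, one_mul]

theorem prod_ne (h : Ed Z K z u) : z * u ≠ 1 := by
  intro h1
  apply h.ne
  rw [← w.inv h.right]
  exact eq_inv_of_mul_eq_one_left h1

/-- an element of `Z` commuting with the product `e ∉ Z` and with `y e ∈ Z` -/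
theorem ed_mul_e (h : Ed Z K z u) (hy : y ∈ Z) (hc : y * (z * u) = z * u * y) (hye : y * (z * u) ∈ Z) :
    Ed Z K y (y * (z * u)) := by
  have h1 : y * (y * (z * u)) = z * u := by rw [← mul_assoc, w.sq y hy, one_mul]
  rw [w.ed_iff hy hye ?_ ?_, h1]
  · exact w.prod z u h
  · intro h2
    exact w.prod_ne h (left_eq_mul.1 h2)
  · rw [h1, hc, mul_assoc, w.sq y hy, mul_one]

/-- an element of the Sylow subgroup swapping `z`, `u` -/
theorem ed_swap (h : Ed Z K z u) (hy : y ∈ Z) (h1 : y * z * y⁻¹ = u) (h2 : y * u * y⁻¹ = z) :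
    Ed Z K y (y * (z * u)) := by
  have hyi := w.inv hy
  have h3 : y * z = u * y := mul_inv_eq_iff_eq_mul.1 h1
  have h4 : y * u = z * y := mul_inv_eq_iff_eq_mul.1 h2
  have h5 : y * (z * u) = z * u * y := by
    calc y * (z * u) = (y * z) * u := by group
      _ = u * (y * u) := by rw [h3]; group
      _ = (u * z) * y := by rw [h4]; group
      _ = z * u * y := by rw [w.comm h]
  refine w.ed_mul_e h hy h5 ?_
  have h6 : y * (z * u) = u⁻¹⁻¹ * y * u⁻¹ := by
    rw [inv_inv, w.inv h.right]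
    calc y * (z * u) = (y * z) * u := by group
      _ = u * y * u := by rw [h3]
  rw [h6]
  have h7 := w.conj y hy u
  rwa [inv_inv]

variable [Finite G]

/-- uniqueness of the neighbour -/
def Val (Z : Set G) (K : G → Subgroup G) : Prop := ∀ z u v, Ed Z K z u → Ed Z K z v → u = v

omit [Finite G] in
theorem ed_comm_z (hv : Val Z K) (h : Ed Z K z u) (hy : y ∈ Z) (hc : y * z = z * y) :
    Ed Z K y (y * (z * u)) := by
  have h1 : y * u = u * y := by
    have h2 := w.ed_conj h y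
    rw [hc, mul_inv_cancel_right] at h2
    exact mul_inv_eq_iff_eq_mul.1 (hv _ _ _ h2 h)
  by_cases hyz : y = z
  · subst hyz
    have h2 : y * (y * u) = u := by rw [← mul_assoc, w.sq y hy, one_mul]
    rw [h2]; exact h
  by_cases hyu : y = u
  · subst hyu
    have h2 : y * (z * y) = z := by rw [← hc, ← mul_assoc, w.sq y hy, one_mul]
    rw [h2]; exact h.symm
  refine w.ed_mul_e h hy (commz_prod_left hc h1) ?_
  have h3 : z * y ∈ Z := by
    refine w.mul_mem_Z h.left hy (Ne.symm hyz) hc.symm fun h4 => hyu (hv _ _ _ h4 h)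
  have h5 : u * (z * y) ∈ Z := by
    refine w.mul_mem_Z h.right h3 ?_ ?_ ?_
    · intro h6
      apply w.prod z u h
      have h7 : z * u = y := by rw [h6, ← mul_assoc, w.sq z h.left, one_mul]
      rw [h7]; exact hy
    · calc u * (z * y) = (u * z) * y := by group
        _ = z * (u * y) := by rw [← w.comm h]; group
        _ = z * y * u := by rw [← h1]; group
    · intro h6
      have h7 := hv _ _ _ h6 h.symm
      exact w.ne y hy (mul_eq_left.1 h7)
  have h6 : y * (z * u) = u * (z * y) := by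
    calc y * (z * u) = (y * z) * u := by group
      _ = z * (y * u) := by rw [hc]; group
      _ = (z * u) * y := by rw [h1]; group
      _ = u * (z * y) := by rw [w.comm h]; group
  rw [h6]; exact h5

/-- the Sylow subgroup of `syl` is a Sylow subgroup of `C(z u)` -/
theorem exists_syl (h : Ed Z K z u) : ∃ S : Sylow 2 G, K z ≤ S ∧ K u ≤ S ∧
    (∀ s ∈ S, (s * z * s⁻¹ = z ∧ s * u * s⁻¹ = u) ∨ (s * z * s⁻¹ = u ∧ s * u * s⁻¹ = z)) ∧
    Syl (S : Subgroup G) (centralizer {z * u}) := by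
  obtain ⟨S, h1, h2, h3⟩ := w.syl z u h
  refine ⟨S, h1, h2, h3, ?_, S.isPGroup', ?_⟩
  · intro s hs
    rw [mem_centralizer_singleton_iff]
    have h4 : s * (z * u) * s⁻¹ = z * u := by
      rcases h3 s hs with ⟨h4, h5⟩ | ⟨h4, h5⟩
      · calc s * (z * u) * s⁻¹ = (s * z * s⁻¹) * (s * u * s⁻¹) := by group
          _ = z * u := by rw [h4, h5]
      · calc s * (z * u) * s⁻¹ = (s * z * s⁻¹) * (s * u * s⁻¹) := by group
          _ = z * u := by rw [h4, h5, w.comm h]
    exact mul_inv_eq_iff_eq_mul.1 h4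
  · intro h4
    exact S.not_dvd_index (h4.trans (relIndex_dvd_index_of_le (by
      intro s hs
      rw [mem_centralizer_singleton_iff]
      have h4 : s * (z * u) * s⁻¹ = z * u := by
        rcases h3 s hs with ⟨h4, h5⟩ | ⟨h4, h5⟩
        · calc s * (z * u) * s⁻¹ = (s * z * s⁻¹) * (s * u * s⁻¹) := by group
            _ = z * u := by rw [h4, h5]
        · calc s * (z * u) * s⁻¹ = (s * z * s⁻¹) * (s * u * s⁻¹) := by group
            _ = z * u := by rw [h4, h5, w.comm h]
      exact mul_inv_eq_iff_eq_mul.1 h4)))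

/-- a 2-element of `C(z u)` is conjugate in `C(z u)` into the Sylow subgroup -/
theorem exists_conj_syl {S C : Subgroup G} (hS : Syl S C) (hy : IsPGroup 2 (zpowers y)) (hyC : y ∈ C) :
    ∃ k ∈ C, k * y * k⁻¹ ∈ S := by
  obtain ⟨T, hT, hyT⟩ := OneBasic.exists_syl_ge hy (by rwa [zpowers_le])
  obtain ⟨k, hk, hkT⟩ := hT.exists_conj hS
  refine ⟨k, hk, ?_⟩
  rw [← hkT]
  exact conj_mem_cj (hyT (mem_zpowers y))

omit w [Finite G] in
theorem two_zpowers (hy : y * y = 1) : IsPGroup 2 (zpowers y) := by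
  intro x
  obtain ⟨k, hk⟩ := x.2
  refine ⟨1, Subtype.ext ?_⟩
  have hk' : y ^ k = (x : G) := hk
  rw [pow_one, pow_two]
  change (x : G) * x = 1
  rw [← hk', ← (Commute.refl y).mul_zpow, hy, one_zpow]

/-- `Z ∩ C(e) = {y : e_y = e}` -/
theorem ed_of_comm_e (hv : Val Z K) (h : Ed Z K z u) (hy : y ∈ Z) (hc : y * (z * u) = z * u * y) :
    Ed Z K y (y * (z * u)) := by
  obtain ⟨S, -, -, h3, hS⟩ := w.exists_syl h
  obtain ⟨k, hk, hkS⟩ := w.exists_conj_syl hS (two_zpowers (w.sq y hy)) (mem_centralizer_singleton_iff.2 hc)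
  have hk' := mem_centralizer_singleton_iff.1 hk
  have hkZ := w.conj y hy k
  have h4 : Ed Z K (k * y * k⁻¹) (k * y * k⁻¹ * (z * u)) := by
    rcases h3 _ hkS with ⟨h5, -⟩ | ⟨h5, h6⟩
    · exact w.ed_comm_z hv h hkZ (mul_inv_eq_iff_eq_mul.1 h5)
    · exact w.ed_swap h hkZ h5 h6
  have h5 := w.ed_conj h4 k⁻¹
  have h6 : k⁻¹ * (k * y * k⁻¹) * k⁻¹⁻¹ = y := by group
  have h7 : k⁻¹ * (k * y * k⁻¹ * (z * u)) * k⁻¹⁻¹ = y * (z * u) := by
    calc k⁻¹ * (k * y * k⁻¹ * (z * u)) * k⁻¹⁻¹ = y * k⁻¹ * ((z * u) * k) := by group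
      _ = y * k⁻¹ * (k * (z * u)) := by rw [hk']
      _ = y * (z * u) := by group
  rwa [h6, h7] at h5

/-- `K z` has an element of order 4 -/
theorem exists_four (hz : z ∈ Z) : ∃ k ∈ K z, k * k = z := by
  by_contra hcon
  push Not at hcon
  have h1 : K z ≤ zpowers z := by
    intro k hk
    by_cases h1 : k = 1
    · rw [h1]; exact one_mem _
    by_cases h2 : k = z
    · rw [h2]; exact mem_zpowers z
    exact absurd (w.four z hz k hk h1 h2) (hcon k hk)
  have h2 := card_dvd_of_le h1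
  rw [w.card z hz, Nat.card_zpowers] at h2
  have h3 : orderOf z ∣ 2 := orderOf_dvd_of_pow_eq_one (by rw [pow_two]; exact w.sq z hz)
  have h4 := Nat.le_of_dvd (by norm_num) (h2.trans h3)
  omega

/-- **(f)** the product of an edge is isolated -/
theorem isolated (hv : Val Z K) (h : Ed Z K z u) : IsIsolatedInvolution (z * u) := by
  refine ⟨orderOf_eq_prime (by rw [pow_two]; exact w.prod_sq h) (w.prod_ne h), ?_⟩
  -- the key: an edge product `e1 = z1 u1` commuting with `e` is `e`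
  have key : ∀ z1 u1, Ed Z K z1 u1 → (z1 * u1) * (z * u) = (z * u) * (z1 * u1) → z1 * u1 = z * u := by
    intro z1 u1 hE hc
    -- conjugate into `S`
    obtain ⟨S, h1, h2, h3, hS⟩ := w.exists_syl h
    obtain ⟨k, hk, hkS⟩ := w.exists_conj_syl hS (two_zpowers (w.prod_sq hE)) (mem_centralizer_singleton_iff.2 hc)
    have hk' := mem_centralizer_singleton_iff.1 hk
    have hE1 := w.ed_conj hE k
    set z2 := k * z1 * k⁻¹ with hz2
    set u2 := k * u1 * k⁻¹ with hu2
    have he2 : z2 * u2 = k * (z1 * u1) * k⁻¹ := by rw [hz2, hu2]; group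
    have hkS' : z2 * u2 ∈ S := by rw [he2]; exact hkS
    suffices h4 : z2 * u2 = z * u by
      rw [he2] at h4
      have h5 : z1 * u1 = k⁻¹ * (z * u * k) := by rw [← h4]; group
      rw [h5, ← hk', inv_mul_cancel_left]
    rcases h3 _ hkS' with ⟨h5, -⟩ | ⟨h5, h6⟩
    · -- `e2` commutes with `z`
      have h7 : z * (z2 * u2) = z2 * u2 * z := (mul_inv_eq_iff_eq_mul.1 h5).symm
      have h8 := w.ed_of_comm_e hv hE1 h.left h7
      have h9 := hv _ _ _ h8 h
      have h10 : z * (z * (z2 * u2)) = z2 * u2 := by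
        rw [← mul_assoc z z (z2 * u2), w.sq z h.left, one_mul]
      rw [← h10, h9]
    · -- `e2` swaps `z`, `u`
      obtain ⟨a, ha, haa⟩ := w.exists_four h.left
      set e2 := z2 * u2 with he2'
      have he22 : e2 * e2 = 1 := w.prod_sq hE1
      have hei : e2⁻¹ = e2 := inv_eq_of_mul_eq_one_right he22
      have ha' : e2 * a * e2⁻¹ ∈ K u := by
        have h8 := w.conjK z h.left e2
        rw [h5] at h8
        rw [h8]
        exact conj_mem_cj ha
      set a' := e2 * a * e2⁻¹ with ha'def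
      have haa' : a' * a' = u := by
        rw [ha'def, ← h5, ← haa]; group
      have hca : a * a' = a' * a := h.2.2.2 a ha a' ha'
      have ht2 : (a * a') * (a * a') = z * u := by
        calc (a * a') * (a * a') = a * (a' * a) * a' := by group
          _ = (a * a) * (a' * a') := by rw [← hca]; group
          _ = z * u := by rw [haa, haa']
      have hte : (a * a') * e2 = e2 * (a * a') := by
        have h8 : e2 * a = a' * e2 := by rw [ha'def]; group
        have h9 : e2 * a' = a * e2 := by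
          rw [ha'def, hei]
          calc e2 * (e2 * a * e2) = (e2 * e2) * a * e2 := by group
            _ = a * e2 := by rw [he22, one_mul]
        calc (a * a') * e2 = (a' * a) * e2 := by rw [hca]
          _ = a' * (e2 * a') := by rw [h9]; group
          _ = (e2 * a) * a' := by rw [h8]; group
          _ = _ := by group
      have ht4 : IsPGroup 2 (zpowers (a * a')) := by
        intro x
        obtain ⟨n, hn⟩ := x.2
        have hn' : (a * a') ^ n = (x : G) := hn
        refine ⟨2, Subtype.ext ?_⟩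
        have h8 : (a * a') ^ 4 = 1 := by
          calc (a * a') ^ 4 = ((a * a') * (a * a')) * ((a * a') * (a * a')) := by
                simp only [pow_succ, pow_zero, one_mul, mul_assoc]
            _ = 1 := by rw [ht2]; exact w.prod_sq h
        change ((x : G)) ^ 2 ^ 2 = 1
        rw [← hn', ← zpow_natCast, ← zpow_mul, mul_comm, zpow_mul]
        norm_num
        rw [h8, one_zpow]
      obtain ⟨S1, -, -, h31, hS1⟩ := w.exists_syl hE1
      obtain ⟨l, hl, hlS⟩ := w.exists_conj_syl hS1 ht4 (mem_centralizer_singleton_iff.2 hte)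
      have hl' : l * e2 = e2 * l := mem_centralizer_singleton_iff.1 hl
      -- the square of `l t l⁻¹` centralises `z2`
      have h10 : ∀ s ∈ S1, (s * s) * z2 = z2 * (s * s) := by
        intro s hs
        rcases h31 s hs with ⟨h11, -⟩ | ⟨h11, h12⟩
        · have h13 := mul_inv_eq_iff_eq_mul.1 h11
          rw [mul_assoc, h13, ← mul_assoc, h13, mul_assoc]
        · have h13 := mul_inv_eq_iff_eq_mul.1 h11
          have h14 := mul_inv_eq_iff_eq_mul.1 h12
          rw [mul_assoc, h13, ← mul_assoc, h14, mul_assoc]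
      have h11 := h10 _ hlS
      have h12 : l * (a * a') * l⁻¹ * (l * (a * a') * l⁻¹) = l * (z * u) * l⁻¹ := by
        rw [← ht2]; group
      rw [h12] at h11
      -- `x = l⁻¹ z2 l`
      have hE3 := w.ed_conj hE1 l⁻¹
      have h13 : l⁻¹ * z2 * l⁻¹⁻¹ * (z * u) = (z * u) * (l⁻¹ * z2 * l⁻¹⁻¹) := by
        calc l⁻¹ * z2 * l⁻¹⁻¹ * (z * u) = l⁻¹ * (z2 * (l * (z * u) * l⁻¹)) * l := by group
          _ = l⁻¹ * (l * (z * u) * l⁻¹ * z2) * l := by rw [h11]
          _ = _ := by group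
      have h14 := w.ed_of_comm_e hv h hE3.left h13
      have h15 := hv _ _ _ h14 hE3
      have h16 : l⁻¹ * z2 * l⁻¹⁻¹ * (l⁻¹ * u2 * l⁻¹⁻¹) = e2 := by
        calc l⁻¹ * z2 * l⁻¹⁻¹ * (l⁻¹ * u2 * l⁻¹⁻¹) = l⁻¹ * (e2 * l) := by rw [he2']; group
          _ = e2 := by rw [← hl', inv_mul_cancel_left]
      rw [← h16, ← h15, ← mul_assoc, w.sq _ hE3.left, one_mul]
  intro g hg
  have h1 := w.ed_conj h g
  have h2 : g * (z * u) * g⁻¹ = (g * z * g⁻¹) * (g * u * g⁻¹) := by group
  rw [h2]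
  refine key _ _ h1 ?_
  rw [← h2]
  exact hg.symm

/-- **(f)** the case of valency one -/
theorem central_of_val (hv : Val Z K) (h : Ed Z K z u) (hO : oddCore G = ⊥) :
    z * u ∈ center G := by
  rw [mem_center_iff]
  intro g
  have h1 := AschCrit.Dichotomy.commutator_mem_oddCore (w.isolated hv h) g
  have h2 : pPrimeCore 2 G = ⊥ := hO
  rw [h2, mem_bot, mul_inv_eq_one, mul_inv_eq_iff_eq_mul] at h1
  exact h1.symm

end W

end Cfsg.Agent.Cit.Nil.MTwo
end

-- part: Cit/Nil/ROne/MTwoMid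
section
set_option linter.all false
open scoped Cfsg.Agent.FastGrp

/-!
# (6b), r = 1, m = 2, nil world: valency at least 7 (helper454, bb #12195 (g), (h))

`U = A z`, `V = A u` for an edge `(z, u)`, `T = U ⊔ V`, `M = N(T)`.

* `W.A_eq` : `A b = V` for `1 ≠ b ∈ U`;
* `W.mem_T` : `Z ∩ T = U# ∪ V#`;
* `W.M_cases` : `M` permutes `{U, V}`;
* `W.cent_le` : `C(b) ≤ M` for `1 ≠ b ∈ U`;
* `W.mem_T_of_M` : `Z ∩ M ⊆ T` (g);
* `W.cent_prod` : `C(b c)` permutes `{b, c}` and lies in `M` (h).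
-/

set_option autoImplicit false
set_option linter.style.haveILetI false
set_option linter.unusedSectionVars false

namespace Cfsg.Agent.Cit.Nil.MTwo

open Subgroup Cfsg Cit OneBasic

variable {G : Type*} [Group G] {Z : Set G} {K : G → Subgroup G} {z u v b c x y g e t : G}

/-- an involution `b` which commutes modulo the central involution `e` only with its conjugates `b`, `b e` is
central modulo `⟨e⟩` -/
theorem iso_mod {X : Type*} [Group X] [Finite X] (hO : oddCore X = ⊥) {e b : X} (he : e ∈ center X)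
    (he2 : orderOf e = 2) (hb : b * b = 1) (hb1 : b ≠ 1) (hbe : b ≠ e)
    (hiso : ∀ g : X, (g * b * g⁻¹ * b = b * (g * b * g⁻¹) ∨ g * b * g⁻¹ * b = b * (g * b * g⁻¹) * e) →
      g * b * g⁻¹ = b ∨ g * b * g⁻¹ = b * e) (g : X) : g * b * g⁻¹ = b ∨ g * b * g⁻¹ = b * e := by
  haveI hN : (zpowers e).Normal := by
    refine ⟨fun n hn g => ?_⟩
    obtain ⟨k, rfl⟩ := hn
    have h1 : g * e ^ k * g⁻¹ = e ^ k := by
      have h2 : Commute g e := (mem_center_iff.1 he g)
      rw [(h2.zpow_right k).eq, mul_inv_cancel_right]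
    change g * e ^ k * g⁻¹ ∈ zpowers e
    rw [h1]
    exact ⟨k, rfl⟩
  have hee : e * e = 1 := by rw [← pow_two, ← he2, pow_orderOf_eq_one]
  have hei : e⁻¹ = e := inv_eq_of_mul_eq_one_right hee
  have hz : ∀ x : X, x ∈ zpowers e → x = 1 ∨ x = e := by
    rintro x ⟨k, rfl⟩
    rcases Int.even_or_odd' k with ⟨m, rfl | rfl⟩
    · left
      change e ^ (2 * m) = 1
      rw [zpow_mul]
      norm_num
      rw [pow_two, hee, one_zpow]
    · right
      change e ^ (2 * m + 1) = e
      rw [zpow_add, zpow_mul]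
      norm_num
      rw [pow_two, hee, one_zpow]
  have hq := TwoFusion.QuatQuotient.oddCore_quotient_eq_bot hO e he he2
  have hb' : IsIsolatedInvolution (QuotientGroup.mk b : X ⧸ zpowers e) := by
    refine ⟨orderOf_eq_prime ?_ ?_, ?_⟩
    · rw [pow_two, ← QuotientGroup.mk_mul, hb, QuotientGroup.mk_one]
    · intro h1
      rw [QuotientGroup.eq_one_iff] at h1
      rcases hz b h1 with h2 | h2
      · exact hb1 h2
      · exact hbe h2
    · intro g'
      obtain ⟨g, rfl⟩ := QuotientGroup.mk_surjective g'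
      intro hc
      have h1 : (QuotientGroup.mk (b * (g * b * g⁻¹)) : X ⧸ zpowers e) = QuotientGroup.mk (g * b * g⁻¹ * b) := by
        rw [QuotientGroup.mk_mul, QuotientGroup.mk_mul, QuotientGroup.mk_mul, QuotientGroup.mk_mul,
          QuotientGroup.mk_inv]
        exact hc
      rw [QuotientGroup.eq] at h1
      have h2 := hiso g (by
        rcases hz _ h1 with h3 | h3
        · left
          exact (inv_mul_eq_one.1 h3).symm
        · right
          rw [← h3, mul_inv_cancel_left])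
      have h3 : (QuotientGroup.mk (g * b * g⁻¹) : X ⧸ zpowers e) = QuotientGroup.mk b := by
        rcases h2 with h2 | h2
        · rw [h2]
        · rw [h2, QuotientGroup.eq]
          have h4 : (b * e)⁻¹ * b = e⁻¹ := by group
          rw [h4]
          exact inv_mem (mem_zpowers e)
      rwa [QuotientGroup.mk_mul, QuotientGroup.mk_mul, QuotientGroup.mk_inv] at h3
  have h1 := AschCrit.Dichotomy.commutator_mem_oddCore hb' (QuotientGroup.mk g)
  have h2 : pPrimeCore 2 (X ⧸ zpowers e) = ⊥ := hq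
  rw [h2, mem_bot, mul_inv_eq_one, mul_inv_eq_iff_eq_mul] at h1
  rw [← QuotientGroup.mk_mul, ← QuotientGroup.mk_mul, QuotientGroup.eq] at h1
  -- `(b g)⁻¹ (g b) ∈ ⟨e⟩`
  have h3 : (b * g)⁻¹ * (g * b) = g⁻¹ * (b⁻¹ * (g * b * g⁻¹)) * g := by group
  have h4 : b⁻¹ * (g * b * g⁻¹) ∈ zpowers e := by
    have h5 := hN.conj_mem _ h1 g
    rw [h3] at h5
    have h6 : g * (g⁻¹ * (b⁻¹ * (g * b * g⁻¹)) * g) * g⁻¹ = b⁻¹ * (g * b * g⁻¹) := by group
    rwa [h6] at h5
  rcases hz _ h4 with h5 | h5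
  · left
    exact (inv_mul_eq_one.1 h5).symm
  · right
    rw [← h5, mul_inv_cancel_left]

namespace W

variable (w : W Z K) [Finite G]

include w

/-- `A b = A u` for `1 ≠ b ∈ A z` -/
theorem A_eq (h : Ed Z K z u) (hb : b ∈ A Z K z) (hb1 : b ≠ 1) : A Z K b = A Z K u := by
  have h1 : A Z K u ≤ A Z K b := by
    intro c hc
    by_cases hc1 : c = 1
    · rw [hc1]; exact one_mem _
    · exact mem_A_of (w.full h hb hb1 hc hc1)
  exact (eq_of_le_of_card_ge h1 (w.card_A (w.ed_of_mem hb hb1).right h.right).le).symm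

theorem exists_mul (h : Ed Z K z u) (hx : x ∈ A Z K z ⊔ A Z K u) : ∃ b ∈ A Z K z, ∃ c ∈ A Z K u, x = b * c := by
  refine OneBasic.exists_mul_of_mem_sup ?_ hx
  refine le_trans ?_ (centralizer_le_normalizer _)
  intro b hb
  rw [mem_centralizer_iff]
  intro c hc
  exact (w.comm_A h hb hc).symm

/-- `Z ∩ U V = U# ∪ V#` -/
theorem mem_T (h : Ed Z K z u) (hx : x ∈ A Z K z ⊔ A Z K u) (hxZ : x ∈ Z) :
    x ∈ A Z K z ∨ x ∈ A Z K u := by
  obtain ⟨b, hb, c, hc, rfl⟩ := w.exists_mul h hx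
  by_cases hb1 : b = 1
  · right; rw [hb1, one_mul]; exact hc
  by_cases hc1 : c = 1
  · left; rw [hc1, mul_one]; exact hb
  exact absurd hxZ (w.prod _ _ (w.full h hb hb1 hc hc1))

theorem T_sq (h : Ed Z K z u) (hx : x ∈ A Z K z ⊔ A Z K u) : x * x = 1 := by
  obtain ⟨b, hb, c, hc, rfl⟩ := w.exists_mul h hx
  have h1 := w.comm_A h hb hc
  calc (b * c) * (b * c) = b * (c * b) * c := by group
    _ = (b * b) * (c * c) := by rw [← h1]; group
    _ = 1 := by rw [w.A_sq hb, w.A_sq hc, one_mul]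

theorem M_of_cases (hg : (cj g (A Z K z) = A Z K z ∧ cj g (A Z K u) = A Z K u) ∨
    (cj g (A Z K z) = A Z K u ∧ cj g (A Z K u) = A Z K z)) :
    g ∈ normalizer ((A Z K z ⊔ A Z K u : Subgroup G) : Set G) := by
  rw [mem_normalizer_iff_cj, cj_sup]
  rcases hg with ⟨h1, h2⟩ | ⟨h1, h2⟩
  · rw [h1, h2]
  · rw [h1, h2, sup_comm]

/-- `M` permutes `{U, V}` -/
theorem M_cases (h : Ed Z K z u) (hg : g ∈ normalizer ((A Z K z ⊔ A Z K u : Subgroup G) : Set G)) :
    (cj g (A Z K z) = A Z K z ∧ cj g (A Z K u) = A Z K u) ∨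
    (cj g (A Z K z) = A Z K u ∧ cj g (A Z K u) = A Z K z) := by
  have h1 : g * z * g⁻¹ ∈ A Z K z ⊔ A Z K u :=
    (mem_normalizer_iff.1 hg z).1 (mem_sup_right (mem_A_of h.symm))
  have h2 : g * u * g⁻¹ ∈ A Z K z ⊔ A Z K u :=
    (mem_normalizer_iff.1 hg u).1 (mem_sup_left (mem_A_of h))
  have hE := w.ed_conj h g
  have hz1 : g * z * g⁻¹ ≠ 1 := w.ne _ hE.left
  have hu1 : g * u * g⁻¹ ≠ 1 := w.ne _ hE.right
  rcases w.mem_T h h1 hE.left with h3 | h3
  · rcases w.mem_T h h2 hE.right with h4 | h4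
    · exfalso
      -- both in `U`
      have h5 : g * u * g⁻¹ ∈ A Z K u := by
        rw [← w.A_eq h h3 hz1]
        exact mem_A_of hE
      exact hu1 (w.inf_A h h4 h5)
    · right
      rw [← w.A_conj, ← w.A_conj]
      exact ⟨w.A_eq h h3 hz1, w.A_eq h.symm h4 hu1⟩
  · rcases w.mem_T h h2 hE.right with h4 | h4
    · left
      rw [← w.A_conj, ← w.A_conj]
      exact ⟨w.A_eq h.symm h3 hz1, w.A_eq h h4 hu1⟩
    · exfalso
      have h5 : g * u * g⁻¹ ∈ A Z K z := by
        rw [← w.A_eq h.symm h3 hz1]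
        exact mem_A_of hE
      exact hu1 (w.inf_A h h5 h4)

/-- `C(b) ≤ M` for `1 ≠ b ∈ U` -/
theorem cent_le (h : Ed Z K z u) (hb : b ∈ A Z K z) (hb1 : b ≠ 1) (hg : g * b = b * g) :
    g ∈ normalizer ((A Z K z ⊔ A Z K u : Subgroup G) : Set G) := by
  refine w.M_of_cases (Or.inl ?_)
  have h1 : cj g (A Z K u) = A Z K u := by
    rw [← w.A_eq h hb hb1, ← w.A_conj, hg, mul_inv_cancel_right]
  refine ⟨?_, h1⟩
  have h2 : g * z * g⁻¹ ∈ A Z K u := by
    rw [← h1]
    exact conj_mem_cj (mem_A_of h.symm)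
  rw [← w.A_conj]
  refine w.A_eq h.symm h2 (w.ne _ (w.conj z h.left g))

theorem cent_le' (h : Ed Z K z u) (hx : x ∈ A Z K z ⊔ A Z K u) (hxZ : x ∈ Z) (hg : g * x = x * g) :
    g ∈ normalizer ((A Z K z ⊔ A Z K u : Subgroup G) : Set G) := by
  rcases w.mem_T h hx hxZ with h1 | h1
  · exact w.cent_le h h1 (w.ne x hxZ) hg
  · have h2 := w.cent_le h.symm h1 (w.ne x hxZ) hg
    rwa [sup_comm] at h2

/-- `|A z| > 4` if `A z ≠ ⟨u⟩` -/
theorem five_le (h : Ed Z K z u) (hb : b ∈ A Z K z) (hb1 : b ≠ 1) (hbu : b ≠ u) :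
    5 ≤ Nat.card (A Z K z) := by
  classical
  obtain ⟨d, hd, hd1, hdu, hdb, hdbu⟩ := w.exists_indep h.symm hb hb1 hbu
  have hu1 := w.ne u h.right
  have hbu1 : b * u ≠ 1 := by
    intro h1
    apply hbu
    rw [← w.inv h.right]
    exact eq_inv_of_mul_eq_one_left h1
  have h7 : ({1, u, b, b * u, d} : Finset G) ⊆ (Set.toFinite (A Z K z : Set G)).toFinset := by
    intro x hx
    rw [Set.Finite.mem_toFinset, SetLike.mem_coe]
    simp only [Finset.mem_insert, Finset.mem_singleton] at hx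
    rcases hx with rfl | rfl | rfl | rfl | rfl
    · exact one_mem _
    · exact mem_A_of h
    · exact hb
    · exact mul_mem hb (mem_A_of h)
    · exact hd
  have h8 : ({1, u, b, b * u, d} : Finset G).card = 5 := by
    rw [Finset.card_insert_of_notMem, Finset.card_insert_of_notMem, Finset.card_insert_of_notMem,
      Finset.card_insert_of_notMem, Finset.card_singleton]
    · simp only [Finset.mem_singleton]; exact hdbu.symm
    · simp only [Finset.mem_insert, Finset.mem_singleton, not_or]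
      exact ⟨fun h1 => hu1 (left_eq_mul.1 h1), hdb.symm⟩
    · simp only [Finset.mem_insert, Finset.mem_singleton, not_or]
      exact ⟨hbu.symm, fun h1 => hb1 (right_eq_mul.1 h1), hdu.symm⟩
    · simp only [Finset.mem_insert, Finset.mem_singleton, not_or]
      exact ⟨hu1.symm, hb1.symm, hbu1.symm, hd1.symm⟩
  have h9 := Finset.card_le_card h7
  rwa [h8, ← Nat.card_eq_card_finite_toFinset] at h9

/-- an involution `y` normalising the elementary abelian group `E`, `|E| > 4`, has two fixed points `≠ 1` -/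
theorem exists_two_fix {E : Subgroup G} (hE : ∀ a ∈ E, a * a = 1) (hE2 : ∀ a ∈ E, ∀ b ∈ E, a * b = b * a)
    (h5 : 5 ≤ Nat.card E) (hy : y * y = 1) (hyE : cj y E = E) :
    ∃ c ∈ E, ∃ d ∈ E, c ≠ 1 ∧ d ≠ 1 ∧ c ≠ d ∧ y * c = c * y ∧ y * d = d * y := by
  classical
  have hyi : y⁻¹ = y := inv_eq_of_mul_eq_one_right hy
  have hyE' : ∀ a ∈ E, y * a * y⁻¹ ∈ E := fun a ha => hyE ▸ conj_mem_cj ha
  have hyy : ∀ a : G, y * (y * a * y⁻¹) * y⁻¹ = a := by
    intro a
    rw [hyi]
    calc y * (y * a * y) * y = (y * y) * a * (y * y) := by group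
      _ = a := by rw [hy, one_mul, mul_one]
  -- four elements do not cover `E`
  have hout : ∀ a b c : G, ∃ x ∈ E, x ≠ 1 ∧ x ≠ a ∧ x ≠ b ∧ x ≠ c := by
    intro a b c
    by_contra hcon
    push Not at hcon
    have h1 : (Set.toFinite (E : Set G)).toFinset ⊆ ({1, a, b, c} : Finset G) := by
      intro x hx
      rw [Set.Finite.mem_toFinset, SetLike.mem_coe] at hx
      simp only [Finset.mem_insert, Finset.mem_singleton]
      by_cases h2 : x = 1
      · exact Or.inl h2
      by_cases h3 : x = a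
      · exact Or.inr (Or.inl h3)
      by_cases h4 : x = b
      · exact Or.inr (Or.inr (Or.inl h4))
      · exact Or.inr (Or.inr (Or.inr (hcon x hx h2 h3 h4)))
    have h2 := Finset.card_le_card h1
    rw [← Nat.card_eq_card_finite_toFinset] at h2
    have h3 : ({1, a, b, c} : Finset G).card ≤ 4 := Finset.card_le_four
    have h4 : 5 ≤ Nat.card E := h5
    have h5' : Nat.card (E : Set G) = Nat.card E := rfl
    omega
  -- the norm `a ↦ a · a^y` is fixed
  have hnf : ∀ a ∈ E, y * (a * (y * a * y⁻¹)) = a * (y * a * y⁻¹) * y := by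
    intro a ha
    have h1 := hE2 a ha _ (hyE' a ha)
    have h2 : y * (a * (y * a * y⁻¹)) * y⁻¹ = (y * a * y⁻¹) * (y * (y * a * y⁻¹) * y⁻¹) := by group
    rw [hyy, ← h1] at h2
    exact mul_inv_eq_iff_eq_mul.1 h2
  have hfix : ∀ a ∈ E, a * (y * a * y⁻¹) = 1 → y * a = a * y := by
    intro a ha h1
    have h2 : y * a * y⁻¹ = a := by
      have h3 : a * (y * a * y⁻¹) = a * a := by rw [h1, hE a ha]
      exact mul_left_cancel h3
    exact mul_inv_eq_iff_eq_mul.1 h2
  -- a first fixed point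
  obtain ⟨c, hc, hc1, hyc⟩ : ∃ c ∈ E, c ≠ 1 ∧ y * c = c * y := by
    obtain ⟨a, ha, ha1, -, -, -⟩ := hout 1 1 1
    by_cases h1 : a * (y * a * y⁻¹) = 1
    · exact ⟨a, ha, ha1, hfix a ha h1⟩
    · exact ⟨_, mul_mem ha (hyE' a ha), h1, hnf a ha⟩
  by_contra hcon
  have hcon' : ∀ d ∈ E, y * d = d * y → d = 1 ∨ d = c := by
    intro d hd hyd
    by_contra h1
    push Not at h1
    exact hcon ⟨c, hc, d, hd, hc1, h1.1, h1.2.symm, hyc, hyd⟩
  obtain ⟨p, hp, hp1, hpc, -, -⟩ := hout c c c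
  obtain ⟨q, hq, hq1, hqc, hqp, hqpc⟩ := hout c p (p * c)
  have h1 : p * (y * p * y⁻¹) = c := by
    rcases hcon' _ (mul_mem hp (hyE' p hp)) (hnf p hp) with h2 | h2
    · rcases hcon' p hp (hfix p hp h2) with h3 | h3
      · exact absurd h3 hp1
      · exact absurd h3 hpc
    · exact h2
  have h2 : q * (y * q * y⁻¹) = c := by
    rcases hcon' _ (mul_mem hq (hyE' q hq)) (hnf q hq) with h3 | h3
    · rcases hcon' q hq (hfix q hq h3) with h4 | h4
      · exact absurd h4 hq1
      · exact absurd h4 hqc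
    · exact h3
  have h3 : (p * q) * (y * (p * q) * y⁻¹) = 1 := by
    have h4 : y * (p * q) * y⁻¹ = (y * p * y⁻¹) * (y * q * y⁻¹) := by group
    have h5 := hE2 q hq _ (hyE' p hp)
    rw [h4]
    calc p * q * (y * p * y⁻¹ * (y * q * y⁻¹)) = p * (q * (y * p * y⁻¹)) * (y * q * y⁻¹) := by
          simp only [mul_assoc]
      _ = p * ((y * p * y⁻¹) * q) * (y * q * y⁻¹) := by rw [h5]
      _ = (p * (y * p * y⁻¹)) * (q * (y * q * y⁻¹)) := by simp only [mul_assoc]
      _ = 1 := by rw [h1, h2, hE c hc]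
  rcases hcon' (p * q) (mul_mem hp hq) (hfix _ (mul_mem hp hq) h3) with h4 | h4
  · apply hqp
    have h5 : p * q = p * p := by rw [h4, hE p hp]
    exact mul_left_cancel h5
  · apply hqpc
    rw [← h4, ← mul_assoc, hE p hp, one_mul]

/-- **(g)** `Z ∩ M ⊆ T` -/
theorem mem_T_of_M (h : Ed Z K z u) (h5 : 5 ≤ Nat.card (A Z K z)) (hyZ : y ∈ Z)
    (hyM : y ∈ normalizer ((A Z K z ⊔ A Z K u : Subgroup G) : Set G)) : y ∈ A Z K z ⊔ A Z K u := by
  by_contra hyT
  have hyy := w.sq y hyZ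
  have hyi := w.inv hyZ
  have hyU : y ∉ A Z K z := fun h1 => hyT (mem_sup_left h1)
  have hyV : y ∉ A Z K u := fun h1 => hyT (mem_sup_right h1)
  have h5' : 5 ≤ Nat.card (A Z K u) := by rwa [← w.card_A h.left h.right]
  rcases w.M_cases h hyM with ⟨h1, h2⟩ | ⟨h1, h2⟩
  · -- (g1)
    obtain ⟨b, hb, -, -, hb1, -, -, hyb, -⟩ := w.exists_two_fix (fun a ha => w.A_sq ha)
      (fun a ha b hb => w.A_abel ha hb) h5 hyy h1
    obtain ⟨c, hc, d, hd, hc1, hd1, hcd, hyc, hyd⟩ := w.exists_two_fix (fun a ha => w.A_sq ha)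
      (fun a ha b hb => w.A_abel ha hb) h5' hyy h2
    have hbZ := (w.ed_of_mem hb hb1).right
    -- for `c ∈ C_V(y)`: `(y, y b c)` is an edge
    have key : ∀ c ∈ A Z K u, c ≠ 1 → y * c = c * y → Ed Z K y (y * b * c) := by
      intro c hc hc1 hyc
      have hcZ := (w.ed_of_mem hc hc1).right
      have hbc := w.full h hb hb1 hc hc1
      have hbc' := w.comm hbc
      have hyc2 : y ≠ c := by
        rintro rfl
        exact hyV hc
      have hyb2 : y ≠ b := by
        rintro rfl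
        exact hyU hb
      -- `(y, b)`, `(y, c)` are no edges
      have h3 : ¬ Ed Z K y b := by
        intro h4
        apply hyV
        rw [← w.A_eq h hb hb1]
        exact mem_A_of h4.symm
      have h4 : ¬ Ed Z K y c := by
        intro h6
        apply hyU
        rw [← w.A_eq h.symm hc hc1]
        exact mem_A_of h6.symm
      have h6 : y * c ∈ Z := w.mul_mem_Z hyZ hcZ hyc2 hyc h4
      -- an element of `K b` moving `y` to `y b`
      obtain ⟨k, hk, -, hk2⟩ := w.exists_move hbZ hyy hyb (by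
        intro h7
        exact h3 (w.ed_of hbZ hyZ (Ne.symm hyb2) h7).symm)
      have hkc : k * c = c * k := w.cent hbc k hk
      have h7 : y * b * c ∈ Z := by
        have h8 := w.conj _ h6 k
        have h9 : k * (y * c) * k⁻¹ = y * b * c := by
          calc k * (y * c) * k⁻¹ = (k * y * k⁻¹) * (k * c * k⁻¹) := by group
            _ = y * b * c := by rw [hk2, hkc, mul_inv_cancel_right]
        rwa [h9] at h8
      have h8 : y * (y * b * c) = b * c := by
        calc y * (y * b * c) = (y * y) * b * c := by group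
          _ = b * c := by rw [hyy, one_mul]
      have h9 : y * b * c * y = b * c := by
        calc y * b * c * y = y * b * (c * y) := by group
          _ = y * (b * y) * c := by rw [← hyc]; group
          _ = (y * y) * b * c := by rw [← hyb]; group
          _ = b * c := by rw [hyy, one_mul]
      rw [w.ed_iff hyZ h7 ?_ (by rw [h8, h9]), h8]
      · exact w.prod _ _ hbc
      · intro h10
        rw [mul_assoc] at h10
        exact w.prod_ne hbc (left_eq_mul.1 h10)
    have h3 := key c hc hc1 hyc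
    have h4 := key d hd hd1 hyd
    have h6 : Ed Z K y ((y * b * c) * (y * b * d)) := by
      refine w.ed_mul h3 h4 ?_
      intro h7
      exact hcd (mul_left_cancel h7)
    have h7 : (y * b * c) * (y * b * d) = c * d := by
      have hbc := w.comm_A h hb hc
      calc (y * b * c) * (y * b * d) = y * b * (c * y) * b * d := by group
        _ = y * (b * y) * (c * b) * d := by rw [← hyc]; group
        _ = y * (y * b) * (b * c) * d := by rw [← hyb, hbc]
        _ = (y * y) * (b * b) * c * d := by group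
        _ = c * d := by rw [hyy, w.sq b hbZ, one_mul, one_mul]
    rw [h7] at h6
    apply hyU
    rw [← w.A_eq h.symm (mul_mem hc hd) (w.ne _ h6.right)]
    exact mem_A_of h6.symm
  · -- (g2)
    have hyb : ∀ b ∈ A Z K z, y * b * y⁻¹ ∈ A Z K u := fun b hb => h1 ▸ conj_mem_cj hb
    have hcom : ∀ b ∈ A Z K z, (y * b * y⁻¹) * b = b * (y * b * y⁻¹) := fun b hb =>
      (w.comm_A h hb (hyb b hb)).symm
    -- `y` commutes with `b^y b`
    have hycom : ∀ b ∈ A Z K z, y * ((y * b * y⁻¹) * b) = (y * b * y⁻¹) * b * y := by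
      intro b hb
      have h3 : y * (y * b * y⁻¹ * b) * y⁻¹ = (y * y) * b * y⁻¹ * y⁻¹ * (y * b * y⁻¹) := by group
      have h4 : y * (y * b * y⁻¹ * b) * y⁻¹ = b * (y * b * y⁻¹) := by
        rw [h3, hyy, one_mul, mul_assoc b, ← mul_inv_rev, hyy, inv_one, mul_one]
      rw [← hcom b hb] at h4
      exact mul_inv_eq_iff_eq_mul.1 h4
    have key : ∀ b ∈ A Z K z, b ≠ 1 → Ed Z K y (y * ((y * b * y⁻¹) * b)) := by
      intro b hb hb1
      have hb1' : y * b * y⁻¹ ≠ 1 := fun h3 => hb1 (conj_eq_one_iff.1 h3)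
      have hE := w.full h hb hb1 (hyb b hb) hb1'
      have hbZ := hE.left
      have h3 : y * ((y * b * y⁻¹) * b) ∈ Z := by
        have h4 := w.conj y hyZ b
        have h6 : b * y * b⁻¹ = y * ((y * b * y⁻¹) * b) := by
          rw [w.inv hbZ]
          calc b * y * b = b * (y * b * y⁻¹) * y := by group
            _ = (y * b * y⁻¹) * b * y := by rw [hcom b hb]
            _ = _ := (hycom b hb).symm
        rwa [h6] at h4
      have h4 : y * (y * ((y * b * y⁻¹) * b)) = (y * b * y⁻¹) * b := by rw [← mul_assoc, hyy, one_mul]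
      rw [w.ed_iff hyZ h3 ?_ ?_, h4]
      · exact w.prod _ _ hE.symm
      · intro h6
        exact w.prod_ne hE.symm (left_eq_mul.1 h6)
      · rw [h4, hycom b hb, mul_assoc _ y y, hyy, mul_one]
    -- two different elements of `U`
    obtain ⟨b, hb, hb1, hbu⟩ : ∃ b ∈ A Z K z, b ≠ 1 ∧ b ≠ u := by
      by_contra hcon
      push Not at hcon
      have h3 : A Z K z ≤ zpowers u := by
        intro b hb
        by_cases hb1 : b = 1
        · rw [hb1]; exact one_mem _
        · rw [hcon b hb hb1]; exact mem_zpowers u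
      have h4 := Nat.le_of_dvd Nat.card_pos (card_dvd_of_le h3)
      rw [Nat.card_zpowers] at h4
      have h6 : orderOf u ∣ 2 := orderOf_dvd_of_pow_eq_one (by rw [pow_two]; exact w.sq u h.right)
      have h7 := Nat.le_of_dvd (by norm_num) h6
      omega
    have hu := mem_A_of h
    have h3 := key b hb hb1
    have h4 := key u hu (w.ne u h.right)
    have hne : b * u ≠ 1 := by
      intro h6
      apply hbu
      rw [← w.inv h.right]
      exact eq_inv_of_mul_eq_one_left h6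
    have hne' : y * (b * u) * y⁻¹ ≠ 1 := fun h6 => hne (conj_eq_one_iff.1 h6)
    have hbuU : b * u ∈ A Z K z := mul_mem hb hu
    have hE := w.full h hbuU hne (hyb _ hbuU) hne'
    have h6 : (y * ((y * b * y⁻¹) * b)) * (y * ((y * u * y⁻¹) * u)) = (y * (b * u) * y⁻¹) * (b * u) := by
      have h7 : b * (y * u * y⁻¹) = (y * u * y⁻¹) * b := w.comm_A h hb (hyb u hu)
      calc (y * ((y * b * y⁻¹) * b)) * (y * ((y * u * y⁻¹) * u))
          = ((y * b * y⁻¹) * b * y) * (y * ((y * u * y⁻¹) * u)) := by rw [hycom b hb]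
        _ = (y * b * y⁻¹) * b * (y * y) * ((y * u * y⁻¹) * u) := by simp only [mul_assoc]
        _ = (y * b * y⁻¹) * (b * (y * u * y⁻¹)) * u := by rw [hyy]; simp only [mul_assoc, one_mul]
        _ = (y * b * y⁻¹) * ((y * u * y⁻¹) * b) * u := by rw [h7]
        _ = _ := by group
    have h7 : (y * ((y * b * y⁻¹) * b)) * (y * ((y * u * y⁻¹) * u)) ∈ A Z K y :=
      mul_mem (mem_A_of h3) (mem_A_of h4)
    rw [h6] at h7
    have h8 := w.ed_of_mem h7 (w.prod_ne hE.symm)
    exact w.prod _ _ hE.symm h8.right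

/-- **(h)** `C(b c)` permutes `{b, c}` -/
theorem cent_prod (h : Ed Z K z u) (h5 : 5 ≤ Nat.card (A Z K z)) (hb : b ∈ A Z K z) (hb1 : b ≠ 1)
    (hc : c ∈ A Z K u) (hc1 : c ≠ 1) (hO : oddCore (centralizer {b * c}) = ⊥)
    (hg : g * (b * c) = b * c * g) :
    (g * b * g⁻¹ = b ∧ g * c * g⁻¹ = c) ∨ (g * b * g⁻¹ = c ∧ g * c * g⁻¹ = b) := by
  have hE := w.full h hb hb1 hc hc1
  have hbZ := hE.left
  have hcZ := hE.right
  have hbc := w.comm hE
  have hb2 := w.sq b hbZ
  have hc2 := w.sq c hcZ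
  have hee := w.prod_sq hE
  have hbe : b * (b * c) = c := by rw [← mul_assoc, hb2, one_mul]
  have hce : c * (b * c) = b := by rw [hbc, ← mul_assoc, hc2, one_mul]
  have main : ∀ g : G, g * (b * c) = b * c * g → g * b * g⁻¹ = b ∨ g * b * g⁻¹ = c := by
    intro g hg
    set C := centralizer {b * c} with hCdef
    have heC : b * c ∈ C := mem_centralizer_singleton_iff.2 rfl
    have hbC : b ∈ C := by
      rw [hCdef, mem_centralizer_singleton_iff]
      rw [mul_assoc, ← hbc]
    have hgC : g ∈ C := mem_centralizer_singleton_iff.2 hg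
    have h1 := iso_mod (X := C) hO (e := ⟨b * c, heC⟩) (b := ⟨b, hbC⟩)
      (mem_center_iff.2 fun x => Subtype.ext (mem_centralizer_singleton_iff.1 x.2))
      (by
        rw [Subgroup.orderOf_mk]
        exact orderOf_eq_prime (by rw [pow_two]; exact hee) (w.prod_ne hE))
      (Subtype.ext hb2) (fun h1 => hb1 (congrArg Subtype.val h1))
      (fun h1 => hc1 (left_eq_mul.1 (congrArg Subtype.val h1 : b = b * c))) ?_ ⟨g, hgC⟩
    · rcases h1 with h1 | h1
      · left
        exact congrArg Subtype.val h1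
      · right
        have h2 : g * b * g⁻¹ = b * (b * c) := congrArg Subtype.val h1
        rw [h2, hbe]
    · rintro ⟨s, hs⟩ h2
      have hs' : s * (b * c) = b * c * s := mem_centralizer_singleton_iff.1 hs
      have hxZ := w.conj b hbZ s
      -- `x = b^s`
      suffices h3 : s * b * s⁻¹ = b ∨ s * b * s⁻¹ = b * (b * c) by
        rcases h3 with h3 | h3
        · exact Or.inl (Subtype.ext h3)
        · exact Or.inr (Subtype.ext h3)
      have hxe : s * b * s⁻¹ * (b * c) = s * c * s⁻¹ := by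
        calc s * b * s⁻¹ * (b * c) = s * b * (s⁻¹ * (b * c * s)) * s⁻¹ := by group
          _ = s * b * (s⁻¹ * (s * (b * c))) * s⁻¹ := by rw [← hs']
          _ = s * (b * (b * c)) * s⁻¹ := by group
          _ = s * c * s⁻¹ := by rw [hbe]
      rcases h2 with h2 | h2
      · have h3 : (s * b * s⁻¹) * b = b * (s * b * s⁻¹) := congrArg Subtype.val h2
        have h4 : s * b * s⁻¹ ∈ A Z K z ⊔ A Z K u :=
          w.mem_T_of_M h h5 hxZ (w.cent_le h hb hb1 h3)
        have h6 : s * c * s⁻¹ * b = b * (s * c * s⁻¹) := by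
          rw [← hxe]
          calc s * b * s⁻¹ * (b * c) * b = s * b * s⁻¹ * (b * (c * b)) := by simp only [mul_assoc]
            _ = s * b * s⁻¹ * (b * (b * c)) := by rw [← hbc]
            _ = (s * b * s⁻¹ * b) * (b * c) := by simp only [mul_assoc]
            _ = b * (s * b * s⁻¹) * (b * c) := by rw [h3]
            _ = _ := by simp only [mul_assoc]
        have h7 : s * c * s⁻¹ ∈ A Z K z ⊔ A Z K u :=
          w.mem_T_of_M h h5 (w.conj c hcZ s) (w.cent_le h hb hb1 h6)
        have hx1 : s * b * s⁻¹ ≠ 1 := w.ne _ hxZ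
        rcases w.mem_T h h4 hxZ with h8 | h8
        · left
          -- `x e = (x b) c`
          rcases w.mem_T h h7 (w.conj c hcZ s) with h9 | h9
          · exfalso
            rw [← hxe, ← mul_assoc] at h9
            have h10 : c ∈ A Z K z := by
              have h11 : c = (s * b * s⁻¹ * b)⁻¹ * (s * b * s⁻¹ * b * c) := by group
              rw [h11]
              exact mul_mem (inv_mem (mul_mem h8 hb)) h9
            exact hc1 (w.inf_A h h10 hc)
          · rw [← hxe, ← mul_assoc] at h9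
            have h10 : s * b * s⁻¹ * b ∈ A Z K u := by
              have h11 : s * b * s⁻¹ * b = (s * b * s⁻¹ * b * c) * c⁻¹ := by group
              rw [h11]
              exact mul_mem h9 (inv_mem hc)
            have h11 := w.inf_A h (mul_mem h8 hb) h10
            rw [eq_inv_of_mul_eq_one_left h11, w.inv hbZ]
        · right
          rw [hbe]
          have h12 : s * b * s⁻¹ * (b * c) = b * ((s * b * s⁻¹) * c) := by
            rw [← mul_assoc, h3, mul_assoc]
          rcases w.mem_T h h7 (w.conj c hcZ s) with h9 | h9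
          · rw [← hxe, h12] at h9
            have h10 : s * b * s⁻¹ * c ∈ A Z K z := by
              have h11 : s * b * s⁻¹ * c = b⁻¹ * (b * (s * b * s⁻¹ * c)) := by group
              rw [h11]
              exact mul_mem (inv_mem hb) h9
            have h11 := w.inf_A h h10 (mul_mem h8 hc)
            rw [eq_inv_of_mul_eq_one_left h11, w.inv hcZ]
          · exfalso
            rw [← hxe, h12] at h9
            have h10 : b ∈ A Z K u := by
              have h11 : b = (b * (s * b * s⁻¹ * c)) * (s * b * s⁻¹ * c)⁻¹ := by group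
              rw [h11]
              exact mul_mem h9 (inv_mem (mul_mem h8 hc))
            exact hb1 (w.inf_A h hb h10)
      · exfalso
        have h3 : (s * b * s⁻¹) * b = b * (s * b * s⁻¹) * (b * c) := congrArg Subtype.val h2
        set x := s * b * s⁻¹ with hx
        have hxx : x * x = 1 := w.sq x hxZ
        have hxi : x⁻¹ = x := w.inv hxZ
        have hxC : x * (b * c) = (b * c) * x := by
          have h4 : x ∈ C := by
            rw [hx]
            exact mul_mem (mul_mem hs hbC) (inv_mem hs)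
          exact mem_centralizer_singleton_iff.1 h4
        -- `x b x⁻¹ = c`
        have h4 : x * b * x⁻¹ = c := by
          rw [h3]
          calc b * x * (b * c) * x⁻¹ = b * (x * (b * c)) * x⁻¹ := by group
            _ = b * ((b * c) * x) * x⁻¹ := by rw [hxC]
            _ = b * (b * c) := by group
            _ = c := hbe
        have h6 : x * c * x⁻¹ = b := by
          rw [← h4, hxi]
          calc x * (x * b * x) * x = (x * x) * b * (x * x) := by group
            _ = b := by rw [hxx, one_mul, mul_one]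
        have h7 : x ∈ normalizer ((A Z K z ⊔ A Z K u : Subgroup G) : Set G) := by
          refine w.M_of_cases (Or.inr ⟨?_, ?_⟩)
          · rw [← w.A_eq h.symm hc hc1, ← w.A_conj, h6]
            exact (w.A_eq h hb hb1).trans (by rfl)
          · rw [← w.A_eq h hb hb1, ← w.A_conj, h4]
            exact w.A_eq h.symm hc hc1
        have h8 := w.mem_T_of_M h h5 hxZ h7
        have h9 := w.T_comm h h8 (mem_sup_left hb)
        rw [h9, mul_inv_cancel_right] at h4
        exact hE.ne h4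
  have h1 := main g hg
  have h2 : g * c * g⁻¹ = (g * b * g⁻¹) * (b * c) := by
    calc g * c * g⁻¹ = g * (b * (b * c)) * g⁻¹ := by rw [hbe]
      _ = (g * b * g⁻¹) * (g * (b * c) * g⁻¹) := by group
      _ = (g * b * g⁻¹) * (b * c) := by rw [hg, mul_inv_cancel_right]
  rcases h1 with h1 | h1
  · exact Or.inl ⟨h1, by rw [h2, h1, hbe]⟩
  · exact Or.inr ⟨h1, by rw [h2, h1, hce]⟩

/-- **(h)** `C(b c) ≤ M` -/
theorem cent_prod_le (h : Ed Z K z u) (h5 : 5 ≤ Nat.card (A Z K z)) (hb : b ∈ A Z K z) (hb1 : b ≠ 1)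
    (hc : c ∈ A Z K u) (hc1 : c ≠ 1) (hO : oddCore (centralizer {b * c}) = ⊥)
    (hg : g * (b * c) = b * c * g) :
    g ∈ normalizer ((A Z K z ⊔ A Z K u : Subgroup G) : Set G) := by
  refine w.M_of_cases ?_
  rw [← w.A_eq h.symm hc hc1, ← w.A_eq h hb hb1, ← w.A_conj, ← w.A_conj]
  rcases w.cent_prod h h5 hb hb1 hc hc1 hO hg with ⟨h1, h2⟩ | ⟨h1, h2⟩
  · left; rw [h1, h2]; exact ⟨rfl, rfl⟩
  · right; rw [h1, h2]; exact ⟨rfl, rfl⟩

end W

end Cfsg.Agent.Cit.Nil.MTwo
end

-- part: Cit/Nil/ROne/MTwoEnd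
section
set_option linter.all false
open scoped Cfsg.Agent.FastGrp

/-!
# (6b), r = 1, m = 2, nil world: the end (helper454, bb #12195 (i))

`W.false_of` : the world `W Z K` does not exist in a group `G` with a simple non-abelian normal subgroup `X`,
`C(X) = 1`, `Z ⊆ X`, `O(G) = 1`, `O(C(z u)) = 1` for all edges `(z, u)`.  `Str X` is the text of S1174 for `X`.
-/

set_option autoImplicit false
set_option linter.style.haveILetI false
set_option linter.unusedSectionVars false

namespace Cfsg.Agent.Cit.Nil.MTwo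

open Subgroup Cfsg Cit OneBasic

variable {G : Type*} [Group G] {Z : Set G} {K : G → Subgroup G} {z u v a b c x y g e t : G}

/-- the text of S1174 for the group `X` -/
def Str (X : Type*) [Group X] [Finite X] : Prop := ∀ (S : Sylow 2 X) (T : Subgroup X), T ≠ ⊥ →
  IsStronglyClosed T (S : Subgroup X) →
  (⨆ t : {t : X // t ∈ T ∧ orderOf t = 2}, centralizer ({(t : X)} : Set X)) ≠ ⊤ →
  ∃ H : Subgroup X, IsStronglyEmbedded H

namespace W

variable (w : W Z K) [Finite G]

include w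

/-- an element moving an element of `Z ∩ T` into `T` is in `M` -/
theorem mem_M_of (h : Ed Z K z u) (ha : a ∈ A Z K z ⊔ A Z K u) (haZ : a ∈ Z)
    (ha' : g⁻¹ * a * g ∈ A Z K z ⊔ A Z K u) :
    g ∈ normalizer ((A Z K z ⊔ A Z K u : Subgroup G) : Set G) := by
  have haZ' : g⁻¹ * a * g ∈ Z := by
    have := w.conj a haZ g⁻¹
    rwa [inv_inv] at this
  have h1 : cj g (A Z K (g⁻¹ * a * g)) = A Z K a := by
    rw [← w.A_conj]
    congr 1
    group
  have hz1 : g * z * g⁻¹ ≠ 1 := w.ne _ (w.conj z h.left g)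
  have hu1 : g * u * g⁻¹ ≠ 1 := w.ne _ (w.conj u h.right g)
  refine w.M_of_cases ?_
  rcases w.mem_T h ha haZ with h2 | h2
  · have h3 : A Z K a = A Z K u := w.A_eq h h2 (w.ne a haZ)
    rcases w.mem_T h ha' haZ' with h4 | h4
    · left
      rw [h3, w.A_eq h h4 (w.ne _ haZ')] at h1
      refine ⟨?_, h1⟩
      rw [← w.A_conj]
      refine w.A_eq h.symm ?_ hz1
      rw [← h1]
      exact conj_mem_cj (mem_A_of h.symm)
    · right
      rw [h3, w.A_eq h.symm h4 (w.ne _ haZ')] at h1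
      refine ⟨h1, ?_⟩
      rw [← w.A_conj]
      refine w.A_eq h.symm ?_ hu1
      rw [← h1]
      exact conj_mem_cj (mem_A_of h)
  · have h3 : A Z K a = A Z K z := w.A_eq h.symm h2 (w.ne a haZ)
    rcases w.mem_T h ha' haZ' with h4 | h4
    · right
      rw [h3, w.A_eq h h4 (w.ne _ haZ')] at h1
      refine ⟨?_, h1⟩
      rw [← w.A_conj]
      refine w.A_eq h ?_ hz1
      rw [← h1]
      exact conj_mem_cj (mem_A_of h.symm)
    · left
      rw [h3, w.A_eq h.symm h4 (w.ne _ haZ')] at h1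
      refine ⟨h1, ?_⟩
      rw [← w.A_conj]
      refine w.A_eq h ?_ hu1
      rw [← h1]
      exact conj_mem_cj (mem_A_of h)

/-- **(i)** `T = U V` is strongly closed in `M` -/
theorem closed (h : Ed Z K z u) (h5 : 5 ≤ Nat.card (A Z K z))
    (hO : ∀ z u, Ed Z K z u → oddCore (centralizer {z * u}) = ⊥)
    (hx : x ∈ A Z K z ⊔ A Z K u)
    (hy : g * x * g⁻¹ ∈ normalizer ((A Z K z ⊔ A Z K u : Subgroup G) : Set G)) :
    g * x * g⁻¹ ∈ A Z K z ⊔ A Z K u := by
  by_cases hxZ : x ∈ Z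
  · exact w.mem_T_of_M h h5 (w.conj x hxZ g) hy
  -- it is enough that `g ∈ M`
  have hend : g ∈ normalizer ((A Z K z ⊔ A Z K u : Subgroup G) : Set G) →
      g * x * g⁻¹ ∈ A Z K z ⊔ A Z K u := fun h1 => (mem_normalizer_iff.1 h1 x).1 hx
  obtain ⟨b, hb, c, hc, rfl⟩ := w.exists_mul h hx
  by_cases hb1 : b = 1
  · by_cases hc1 : c = 1
    · rw [hb1, hc1, one_mul, mul_one, mul_inv_cancel]
      exact one_mem _
    · exfalso
      apply hxZ
      rw [hb1, one_mul]
      exact (w.ed_of_mem hc hc1).right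
  by_cases hc1 : c = 1
  · exfalso
    apply hxZ
    rw [hc1, mul_one]
    exact (w.ed_of_mem hb hb1).right
  have hE := w.full h hb hb1 hc hc1
  set y := g * (b * c) * g⁻¹ with hydef
  have hyy : y * y = 1 := by
    rw [hydef]
    calc g * (b * c) * g⁻¹ * (g * (b * c) * g⁻¹) = g * ((b * c) * (b * c)) * g⁻¹ := by group
      _ = 1 := by rw [w.prod_sq hE, mul_one, mul_inv_cancel]
  have hyi : y⁻¹ = y := inv_eq_of_mul_eq_one_right hyy
  -- centralisers
  have hcent : ∀ s : G, s * y = y * s → (g⁻¹ * s * g) * (b * c) = (b * c) * (g⁻¹ * s * g) := by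
    intro s hs
    calc (g⁻¹ * s * g) * (b * c) = g⁻¹ * (s * y) * g := by rw [hydef]; group
      _ = g⁻¹ * (y * s) * g := by rw [hs]
      _ = _ := by rw [hydef]; group
  apply hend
  rcases w.M_cases h hy with ⟨h1, -⟩ | ⟨h1, -⟩
  · obtain ⟨a, ha, -, -, ha1, -, -, hya, -⟩ := w.exists_two_fix (fun a ha => w.A_sq ha)
      (fun a ha b hb => w.A_abel ha hb) h5 hyy h1
    have haZ := (w.ed_of_mem ha ha1).right
    have h2 := w.cent_prod_le h h5 hb hb1 hc hc1 (hO _ _ hE) (hcent a hya.symm)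
    have h3 : g⁻¹ * a * g ∈ Z := by
      have := w.conj a haZ g⁻¹
      rwa [inv_inv] at this
    exact w.mem_M_of h (mem_sup_left ha) haZ (w.mem_T_of_M h h5 h3 h2)
  · have hu := mem_A_of h
    have huV : y * u * y⁻¹ ∈ A Z K u := h1 ▸ conj_mem_cj hu
    have hu1 := w.ne u h.right
    have hu1' : y * u * y⁻¹ ≠ 1 := fun h2 => hu1 (conj_eq_one_iff.1 h2)
    have hE' := w.full h hu hu1 huV hu1'
    obtain ⟨k, hk, hkk⟩ := w.exists_four h.right
    have hk' : y * k * y⁻¹ ∈ K (y * u * y⁻¹) := by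
      rw [w.conjK u h.right]
      exact conj_mem_cj hk
    have hkk' : (y * k * y⁻¹) * (y * k * y⁻¹) = y * u * y⁻¹ := by rw [← hkk]; group
    have hkc := hE'.2.2.2 k hk _ hk'
    set k' := y * k * y⁻¹ with hk'def
    have ht2 : (k * k') * (k * k') = u * (y * u * y⁻¹) := by
      calc (k * k') * (k * k') = k * (k' * k) * k' := by simp only [mul_assoc]
        _ = (k * k) * (k' * k') := by rw [← hkc]; simp only [mul_assoc]
        _ = _ := by rw [hkk, hkk']
    have hyk : y * k = k' * y := by rw [hk'def]; group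
    have hyk' : y * k' = k * y := by
      rw [hk'def, hyi]
      calc y * (y * k * y) = (y * y) * k * y := by group
        _ = k * y := by rw [hyy, one_mul]
    have hty : (k * k') * y = y * (k * k') := by
      calc (k * k') * y = (k' * k) * y := by rw [hkc]
        _ = k' * (y * k') := by rw [hyk']; simp only [mul_assoc]
        _ = (y * k) * k' := by rw [hyk]; simp only [mul_assoc]
        _ = _ := by simp only [mul_assoc]
    have h2 := w.cent_prod h h5 hb hb1 hc hc1 (hO _ _ hE) (hcent _ hty)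
    set t := g⁻¹ * (k * k') * g with ht
    -- `t²` commutes with `b`
    have h3 : (t * t) * b = b * (t * t) := by
      rcases h2 with ⟨h3, -⟩ | ⟨h3, h4⟩
      · have h6 := mul_inv_eq_iff_eq_mul.1 h3
        rw [mul_assoc, h6, ← mul_assoc, h6, mul_assoc]
      · have h6 := mul_inv_eq_iff_eq_mul.1 h3
        have h7 := mul_inv_eq_iff_eq_mul.1 h4
        rw [mul_assoc, h6, ← mul_assoc, h7, mul_assoc]
    have h4 : t * t = g⁻¹ * (u * (y * u * y⁻¹)) * g := by
      rw [← ht2, ht]; group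
    rw [h4] at h3
    -- `g b g⁻¹` commutes with `u u^y`
    have h6 : (g * b * g⁻¹) * (u * (y * u * y⁻¹)) = u * (y * u * y⁻¹) * (g * b * g⁻¹) := by
      calc (g * b * g⁻¹) * (u * (y * u * y⁻¹)) = g * (b * (g⁻¹ * (u * (y * u * y⁻¹)) * g)) * g⁻¹ := by
            simp only [mul_assoc, mul_inv_cancel, mul_one]
        _ = g * (g⁻¹ * (u * (y * u * y⁻¹)) * g * b) * g⁻¹ := by rw [h3]
        _ = _ := by simp only [mul_assoc, mul_inv_cancel_left]
    have h7 := w.cent_prod_le h h5 hu hu1 huV hu1' (hO _ _ hE') h6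
    have hbZ := hE.left
    have h8 := w.mem_T_of_M h h5 (w.conj b hbZ g) h7
    refine w.mem_M_of h h8 (w.conj b hbZ g) ?_
    have h9 : g⁻¹ * (g * b * g⁻¹) * g = b := by group
    rw [h9]
    exact mem_sup_left hb

/-- the centralisers of the elements of `T` are in `M` -/
theorem cent_T (h : Ed Z K z u) (h5 : 5 ≤ Nat.card (A Z K z))
    (hO : ∀ z u, Ed Z K z u → oddCore (centralizer {z * u}) = ⊥)
    (hx : x ∈ A Z K z ⊔ A Z K u) (hx1 : x ≠ 1) (hg : g * x = x * g) :
    g ∈ normalizer ((A Z K z ⊔ A Z K u : Subgroup G) : Set G) := by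
  by_cases hxZ : x ∈ Z
  · exact w.cent_le' h hx hxZ hg
  obtain ⟨b, hb, c, hc, rfl⟩ := w.exists_mul h hx
  by_cases hb1 : b = 1
  · by_cases hc1 : c = 1
    · exfalso
      apply hx1
      rw [hb1, hc1, one_mul]
    · exfalso
      apply hxZ
      rw [hb1, one_mul]
      exact (w.ed_of_mem hc hc1).right
  by_cases hc1 : c = 1
  · exfalso
    apply hxZ
    rw [hc1, mul_one]
    exact (w.ed_of_mem hb hb1).right
  exact w.cent_prod_le h h5 hb hb1 hc hc1 (hO _ _ (w.full h hb hb1 hc hc1)) hg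

/-- **#12195**: r = 1, m = 2, nil: contradiction -/
theorem false_of (hne : Z.Nonempty) {X : Subgroup G} (hX : X.Normal) (hs : IsSimpleGroup X)
    (hna : ¬ IsMulCommutative X) (hC : centralizer (X : Set G) = ⊥) (hZX : ∀ z ∈ Z, z ∈ X) (hstr : Str X)
    (hG : oddCore G = ⊥) (hO : ∀ z u, Ed Z K z u → oddCore (centralizer {z * u}) = ⊥) : False := by
  haveI : Fact (Nat.Prime 2) := ⟨Nat.prime_two⟩
  by_cases hv : Val Z K
  · obtain ⟨z, hz⟩ := hne
    obtain ⟨u, h⟩ := w.ex z hz
    have h1 := w.central_of_val hv h hG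
    have h2 : z * u ∈ centralizer (X : Set G) := by
      rw [mem_centralizer_iff]
      intro x _
      exact mem_center_iff.1 h1 x
    rw [hC, mem_bot] at h2
    exact w.prod_ne h h2
  obtain ⟨z, u, v, h, hvE, huv⟩ : ∃ z u v, Ed Z K z u ∧ Ed Z K z v ∧ u ≠ v := by
    by_contra hcon
    push Not at hcon
    exact hv hcon
  have h5 := w.five_le h (mem_A_of hvE) (w.ne v hvE.right) huv.symm
  set T := A Z K z ⊔ A Z K u with hT
  have hzT : z ∈ T := mem_sup_right (mem_A_of h.symm)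
  have huT : u ∈ T := mem_sup_left (mem_A_of h)
  have hTX : T ≤ X := by
    rw [hT, sup_le_iff]
    constructor
    · intro b hb
      by_cases hb1 : b = 1
      · rw [hb1]; exact one_mem _
      · exact hZX b (w.ed_of_mem hb hb1).right
    · intro b hb
      by_cases hb1 : b = 1
      · rw [hb1]; exact one_mem _
      · exact hZX b (w.ed_of_mem hb hb1).right
  have hT2 : IsPGroup 2 T := by
    intro x
    refine ⟨1, Subtype.ext ?_⟩
    rw [pow_one, pow_two]
    exact w.T_sq h x.2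
  obtain ⟨S, -, -, hS⟩ := w.syl z u h
  have hSM : (S : Subgroup G) ≤ normalizer (T : Set G) := by
    intro s hs
    refine w.M_of_cases ?_
    rcases hS s hs with ⟨h1, h2⟩ | ⟨h1, h2⟩
    · left; rw [← w.A_conj, ← w.A_conj, h1, h2]; exact ⟨rfl, rfl⟩
    · right; rw [← w.A_conj, ← w.A_conj, h1, h2]; exact ⟨rfl, rfl⟩
  have hSt : Syl (S : Subgroup G) ⊤ := by
    refine ⟨le_top, S.isPGroup', ?_⟩
    rw [relIndex_top_right]
    exact S.not_dvd_index
  have hTS : T ≤ S := OneBasic.syl_le_of_normalizes hSt hT2 le_top hSM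
  have hSX : Syl ((S : Subgroup G) ⊓ X) X := LB.syl_inf_normal hSt le_top (by rw [normalizer_eq_top_iff.2 hX])
  obtain ⟨P, hP⟩ := hSX.exists_sylow
  have hPmem : ∀ x : X, x ∈ P ↔ (x : G) ∈ S := by
    intro x
    have h1 : x ∈ (P : Subgroup X) ↔ (x : G) ∈ S := by
      rw [hP, mem_subgroupOf, mem_inf]
      exact ⟨fun h => h.1, fun h => ⟨h, x.2⟩⟩
    exact h1
  have hTne : T.subgroupOf X ≠ ⊥ := by
    intro h1
    have h2 : (⟨z, hTX hzT⟩ : X) ∈ T.subgroupOf X := mem_subgroupOf.2 hzT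
    rw [h1, mem_bot] at h2
    exact w.ne z h.left (congrArg Subtype.val h2)
  have hsc : IsStronglyClosed (T.subgroupOf X) (P : Subgroup X) := by
    refine ⟨?_, ?_⟩
    · intro x hx
      exact (hPmem x).2 (hTS (mem_subgroupOf.1 hx))
    · intro x hx g hg
      have h1 := hSM ((hPmem _).1 hg)
      exact mem_subgroupOf.2 (w.closed h h5 hO (mem_subgroupOf.1 hx) h1)
  obtain ⟨H, hH⟩ := hstr P (T.subgroupOf X) hTne hsc (by
    intro htop
    have h1 : (⊤ : Subgroup X) ≤ (normalizer (T : Set G)).subgroupOf X := by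
      rw [← htop, iSup_le_iff]
      rintro ⟨t, ht, ht2⟩ g hg
      rw [mem_subgroupOf]
      refine w.cent_T h h5 hO (mem_subgroupOf.1 ht) ?_ (congrArg Subtype.val (mem_centralizer_singleton_iff.1 hg))
      intro h2
      have h3 : t = 1 := Subtype.ext h2
      rw [h3, orderOf_one] at ht2
      omega
    have h2 : (T.subgroupOf X).Normal := by
      refine ⟨fun n hn g => ?_⟩
      have h3 := mem_subgroupOf.1 (h1 (mem_top g))
      exact mem_subgroupOf.2 ((mem_normalizer_iff.1 h3 _).1 (mem_subgroupOf.1 hn))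
    rcases hs.eq_bot_or_eq_top_of_normal _ h2 with h3 | h3
    · exact hTne h3
    · apply hna
      refine ⟨⟨fun x y => ?_⟩⟩
      have h4 : x ∈ T.subgroupOf X := h3 ▸ mem_top x
      have h6 : y ∈ T.subgroupOf X := h3 ▸ mem_top y
      exact Subtype.ext (w.T_comm h (mem_subgroupOf.1 h4) (mem_subgroupOf.1 h6)))
  have hzu : z * u ∈ X := X.mul_mem (hTX hzT) (hTX huT)
  have h6 := TwoFusion.StronglyEmbeddedBasic.isConj_of_involutions hH (⟨z, hTX hzT⟩ : X) ⟨z * u, hzu⟩
    (by rw [Subgroup.orderOf_mk]; exact orderOf_eq_prime (by rw [pow_two]; exact w.sq z h.left) (w.ne z h.left))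
    (by rw [Subgroup.orderOf_mk]; exact orderOf_eq_prime (by rw [pow_two]; exact w.prod_sq h) (w.prod_ne h))
  obtain ⟨k, hk⟩ := isConj_iff.1 h6
  have h7 : (k : G) * z * (k : G)⁻¹ = z * u := congrArg Subtype.val hk
  apply w.prod z u h
  rw [← h7]
  exact w.conj z h.left k

end W

end Cfsg.Agent.Cit.Nil.MTwo
end

-- part: UGT/U2/FOne/FixAut
section
set_option linter.all false
/-!
# THEOREM FIX for subgroups of odd order of `Aut K`

`K` with a split (B,N)-pair of odd characteristic `p` and trivial centre, `x` an automorphism with `x² = 1`,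
`D ≤ Aut K` of odd order, centralised by `x` and normalised by `C_K(x)`: every `p`-element of `C_K(x)` is
fixed by `D`.
-/

set_option autoImplicit false

namespace Cfsg.Agent.UGT.U2.FOne.FixAut

open Cfsg Cfsg.Agent.FixBN

universe u

section Pair

variable {K : Type u} [Group K]

/-- The hypotheses of (f1) on the pair `(x, D)`. -/
structure Hyp (x : MulAut K) (D : Subgroup (MulAut K)) : Prop where
  sq : x * x = 1
  ne : x ≠ 1
  comm : ∀ d ∈ D, d * x = x * d
  norm : ∀ v : K, x v = v → ∀ d ∈ D, MulAut.conj v * d * (MulAut.conj v)⁻¹ ∈ D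
  odd : Odd (Nat.card D)
  nt : D ≠ ⊥

end Pair

end Cfsg.Agent.UGT.U2.FOne.FixAut
end

-- part: Cit/Nil/IndDefs
section
set_option linter.all false

/-!
# The frame of S1309, `J` 2-nilpotent: definitions

`T0 Om` : `Om` is a family with `Hyp`, all members have order 8, `O(G) = 1`.
`TStat Om K` : the statement `T'` for the member `K`: `NIL` or `ONE` or `THREE`, where the last two refer to
the component `comp Om K` of the non-commuting graph.
`SC` : the simple case.
-/

set_option autoImplicit false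

namespace Cfsg.Agent.Cit.Nil.IndDefs

open Subgroup Cfsg Cit

universe u

variable {G : Type*} [Group G]

/-- elementwise commuting -/
def Cm (A B : Subgroup G) : Prop := ∀ a ∈ A, ∀ b ∈ B, a * b = b * a

theorem Cm.symm {A B : Subgroup G} (h : Cm A B) : Cm B A := fun b hb a ha => (h a ha b hb).symm

/-- two non-commuting members -/
def Adj (Om : Set (Subgroup G)) (K L : Subgroup G) : Prop := K ∈ Om ∧ L ∈ Om ∧ ¬ Cm K L

theorem Adj.symm {Om : Set (Subgroup G)} {K L : Subgroup G} (h : Adj Om K L) : Adj Om L K :=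
  ⟨h.2.1, h.1, fun h1 => h.2.2 h1.symm⟩

/-- the component of `K` in the non-commuting graph -/
def comp (Om : Set (Subgroup G)) (K : Subgroup G) : Set (Subgroup G) :=
  {L | Relation.ReflTransGen (Adj Om) K L}

/-- the world of the induction -/
structure T0 (Om : Set (Subgroup G)) : Prop where
  hyp : Hyp Om
  card : ∀ K ∈ Om, Nat.card K = 8
  core : Cfsg.pPrimeCore 2 G = ⊥

/-- NIL: `z_K ∈ O_2(G)` -/
def NIL (K : Subgroup G) : Prop := zz K ∈ Cfsg.pCore 2 G

/-- ONE: `z_1 z_2` centralises the members of the component for commuting `K_1`, `K_2` in the component -/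
def ONE (Om : Set (Subgroup G)) (K : Subgroup G) : Prop :=
  ∀ K₁ ∈ comp Om K, ∀ K₂ ∈ comp Om K, Cm K₁ K₂ → ∀ L ∈ comp Om K, ∀ x ∈ L,
    zz K₁ * zz K₂ * x = x * (zz K₁ * zz K₂)

/-- `SL(2,3)` over `K_1`: a subnormal subgroup `J` of `C(z_1)` with `K_1 ≤ J`, `J/O(J) ≃ SL(2,3)` -/
def Three (K₁ : Subgroup G) : Prop :=
  ∃ J : Subgroup G, J ≤ centralizer {zz K₁} ∧ K₁ ≤ J ∧ (J.subgroupOf (centralizer {zz K₁})).IsSubnormal ∧
    Nonempty ((↥J ⧸ oddCore ↥J) ≃* Matrix.SpecialLinearGroup (Fin 2) (ZMod 3))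

/-- THREE: some member of the component has `Three` -/
def THREE (Om : Set (Subgroup G)) (K : Subgroup G) : Prop := ∃ K₁ ∈ comp Om K, Three K₁

/-- the statement `T'` -/
def TStat (Om : Set (Subgroup G)) (K : Subgroup G) : Prop := NIL K ∨ ONE Om K ∨ THREE Om K

/-- the simple case -/
structure SCW (G : Type u) [Group G] [Finite G] (Om : Set (Subgroup G)) : Prop where
  t0 : T0 Om
  top : sSup Om = ⊤
  conn : ∀ K ∈ Om, ∀ L ∈ Om, L ∈ comp Om K
  simple : IsSimpleGroup ↥(generalizedFittingSubgroup G)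
  na : ¬ IsMulCommutative ↥(generalizedFittingSubgroup G)
  ih : ∀ (H : Type u) [Group H] [Finite H] (Om' : Set (Subgroup H)), Nat.card H < Nat.card G → T0 Om' →
    ∀ K ∈ Om', TStat Om' K
  three : ∀ K ∈ Om, ¬ Three K
  two : ∃ K₁ ∈ Om, ∃ K₂ ∈ Om, Cm K₁ K₂ ∧ zz K₁ ≠ zz K₂

/-- **the simple case is impossible** -/
def SC : Prop := ∀ (G : Type u) [Group G] [Finite G] (Om : Set (Subgroup G)), SCW G Om → False

/-! ### API -/

variable {Om : Set (Subgroup G)} {K L M : Subgroup G}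

theorem mem_comp_self : K ∈ comp Om K := Relation.ReflTransGen.refl

theorem comp_symm (h : L ∈ comp Om K) : K ∈ comp Om L := by
  induction h with
  | refl => exact Relation.ReflTransGen.refl
  | tail _ hbc ih => exact Relation.ReflTransGen.head hbc.symm ih

theorem comp_trans (h : L ∈ comp Om K) (h' : M ∈ comp Om L) : M ∈ comp Om K := h.trans h'

theorem comp_eq (h : L ∈ comp Om K) : comp Om L = comp Om K :=
  Set.ext fun _ => ⟨fun h' => comp_trans h h', fun h' => comp_trans (comp_symm h) h'⟩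

theorem comp_sub (hK : K ∈ Om) : comp Om K ⊆ Om := by
  intro L hL
  induction hL with
  | refl => exact hK
  | tail _ hbc _ => exact hbc.2.1

theorem mem_comp_of (hL : L ∈ comp Om K) (h : Adj Om L M) : M ∈ comp Om K :=
  Relation.ReflTransGen.tail hL h

end Cfsg.Agent.Cit.Nil.IndDefs
end
end
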