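import Cfsg.Agent.Cit.Nil.End
import Cfsg.Agent.Cit.Nil.Dich
import Cfsg.Agent.Cit.Nil.RFour.Gen_m3
import Mathlib
import Cfsg.Agent.Cit.OmB3.PairEx_m3
import Cfsg.Agent.Nodes.ChartFrame
import Cfsg.Agent.Nodes.MuSq
import Cfsg.Agent.StdLThreeFour.Facts1
import Cfsg.Agent.UGT.FL34.FixX_m3
import Cfsg.Agent.KFacts.RgdFld.Two_m3
import Cfsg.Agent.FastGrp
import Cfsg.Agent.Prune
set_option linter.all false

section
prune_inst 0x7ffefffbaff93ddfffff7e7ffffddffff9f9dfffefdff9fb7fe0ffff3fff230eebe5fbafefe0d8ff0ef7e2bc10ba7853f97eeabfeb6bdc7ffffd5ff45ffbee5ff7ffbf8d71ffbcbe1ffc6ffffbf17fca7f3fffffffffffffffffffffffffffbeffffffffffff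

-- part: Cit/AssemblyNil
section
set_option linter.all false
open scoped Cfsg.Agent.FastGrp

/-!
# The skeleton of S1309

Type distinction for the subgroup `J` of S1309:

* `J` not 2-nilpotent: `Nil.Dich.dich` gives a classical involution: S1310;
* `J` 2-nilpotent, `|Om(S)| = 1` (`One (cls J)`): THEOREM N1 (`Nil.End.main`);
* `J` 2-nilpotent, `|Om(S)| ≥ 2`, no (C3): `Nil.exists_vchoice`: leaf `CVStmt`;
* `J` 2-nilpotent, `|Om(S)| ≥ 2`, (C3): leaf `C3Stmt`, split by `r = |Om(z)|` into `LeafR1`, `LeafR2`, `LeafR4`, `LeafR`.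

`main` : the statement of S1309 from the leaves and the external inputs `Ext G`.
-/

set_option autoImplicit false
set_option linter.style.haveILetI false
set_option linter.unusedSectionVars false

namespace Cfsg.Agent.Cit.AssemblyNil

open Subgroup Cfsg Cit Nil

universe u

/-! ### The world -/

/-- the conclusion of S1309 for the group `X` -/
def Concl (X : Type*) [Group X] : Prop :=
  (∃ p : ℕ, p.Prime ∧ p ≠ 2 ∧ Cfsg.IsLieTypeChar p X) ∨ Cfsg.Spor.IsoM11 X ∨ Cfsg.Spor.IsoM12 X ∨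
    (∃ (F : Type) (_ : Field F) (_ : Fintype F), Fintype.card F = 2 ∧
      (Nonempty (X ≃* Cfsg.PSp 3 F) ∨ Nonempty (X ≃* Cfsg.POmega F (Cfsg.quadFormPlus 4 F))))

/-- a classical involution: the hypothesis of S1310 -/
def Cl (G : Type*) [Group G] : Prop :=
  ∃ (z : G) (J : Subgroup G), orderOf z = 2 ∧ J ≤ centralizer ({z} : Set G) ∧ z ∈ J ∧
    (J.subgroupOf (centralizer ({z} : Set G))).IsSubnormal ∧ Dich.IsTy (↥J ⧸ oddCore ↥J)

/-- `F*(G)` is simple, non-abelian, of even order -/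
structure FS (G : Type*) [Group G] : Prop where
  simple : IsSimpleGroup ↥(generalizedFittingSubgroup G)
  na : ¬ IsMulCommutative ↥(generalizedFittingSubgroup G)
  even : 2 ∣ Nat.card ↥(generalizedFittingSubgroup G)

/-- the members over `z_K` -/
def ovr {G : Type*} [Group G] (K : Subgroup G) : Set (Subgroup G) := {L | L ∈ cls K ∧ zz L = zz K}

/-- the world of (C3) -/
structure W3 (G : Type*) [Group G] (K : Subgroup G) : Prop extends FS G where
  hyp : Hyp (cls K)
  nil : NilK K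
  c3 : C3 K
  /-- S1310 does not apply -/
  ncl : ¬ Cl G
  /-- `|Om(S)| ≥ 2` -/
  two : ¬ One (cls K)

/-! ### The leaves -/

/-- **LEAF (CV)**: in the presence of an equivariant choice of `V_K` there is at most one member in `Om(S)` -/
def CVStmt : Prop := ∀ (G : Type u) [Group G] [Finite G], FS G → ∀ (K : Subgroup G) (U : Subgroup G → Subgroup G),
  Hyp (cls K) → NilK K → VChoice (cls K) U → ¬ Cl G → One (cls K)

/-- **(C3)** -/
def C3Stmt : Prop := ∀ (G : Type u) [Group G] [Finite G] (K : Subgroup G), W3 G K →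
  Concl ↥(generalizedFittingSubgroup G)

/-! ### `O(C(t)) = 1` for all involutions -/

/-- S1311 for `G` -/
def St1311 (G : Type*) [Group G] : Prop := ∀ t : G, orderOf t = 2 → centralizerPPrimeCore 2 t ≠ ⊥ →
  (∃ p : ℕ, p.Prime ∧ p ≠ 2 ∧ Cfsg.IsLieTypeChar p ↥(Cfsg.generalizedFittingSubgroup G)) ∨
    (∃ n : ℕ, Odd n ∧ 7 ≤ n ∧ Nonempty (↥(Cfsg.generalizedFittingSubgroup G) ≃* ↥(alternatingGroup (Fin n)))) ∨
    (∃ (F : Type) (_ : Field F) (_ : Fintype F), Fintype.card F = 4 ∧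
      Nonempty (↥(Cfsg.generalizedFittingSubgroup G) ≃* Matrix.ProjectiveSpecialLinearGroup (Fin 3) F)) ∨
    Cfsg.Spor.IsoHe ↥(Cfsg.generalizedFittingSubgroup G)

/-- (C3) with `O(C(t)) = 1` -/
def C3Free : Prop := ∀ (G : Type u) [Group G] [Finite G] (K : Subgroup G), W3 G K →
  (∀ t : G, orderOf t = 2 → centralizerPPrimeCore 2 t = ⊥) → Concl ↥(generalizedFittingSubgroup G)

/-! ### The external inputs -/

/-- the external inputs -/
structure Ext (G : Type u) [Group G] [Finite G] : Prop where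
  /-- S0483 -/
  gw : OddHalf.RankOne.GW.{u}
  /-- S1310 -/
  p1310 : Cl G → (∃ p : ℕ, p.Prime ∧ p ≠ 2 ∧ Cfsg.IsLieTypeChar p ↥(generalizedFittingSubgroup G)) ∨
    Cfsg.Spor.IsoM11 ↥(generalizedFittingSubgroup G)
  /-- S1173 -/
  p1173 : OneF.H1173 G
  /-- `Cit.OneF.h1171` (Nil/ExtProd.lean) -/
  p1171 : OneF.H1171 G
  /-- S0506 -/
  p0506 : NoHomo.S0506Stmt.{u}
  /-- S0507 -/
  p0507 : Ident.St0507 ↥(generalizedFittingSubgroup G)
  /-- S0523 -/
  p0523 : Ident.St0523 ↥(generalizedFittingSubgroup G)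
  /-- S1742 -/
  p1742 : Ident.St1742 ↥(generalizedFittingSubgroup G)
  /-- the odd order theorem -/
  even : 2 ∣ Nat.card ↥(generalizedFittingSubgroup G)

section main

variable {G : Type u} [Group G] [Finite G]

theorem nil_cls {J : Subgroup G} (h : NilK J) : NilOm (cls J) := by
  rintro _ ⟨g, rfl⟩ Q hQ
  have h1 : Syl (cj g⁻¹ Q) J := by
    have := hQ.cj g⁻¹
    rwa [cj_inv_cj] at this
  have h2 := cj_mono g (h _ h1)
  rwa [cj_sup, ← OO_cj, cj_cj_inv] at h2

/-- the case of a 2-nilpotent `J` -/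
theorem nil_main (e : Ext G) (fs : FS G) (hCV : CVStmt.{u}) (hC3 : C3Stmt.{u}) {J : Subgroup G}
    (hyp : Hyp (cls J)) (hn : NilK J) (hncl : ¬ Cl G) : Concl ↥(generalizedFittingSubgroup G) := by
  have hs := fs.simple
  have hna := fs.na
  by_cases h1 : One (cls J)
  · have h0483 : Ident.St0483 ↥(generalizedFittingSubgroup G) := by
      intro S n hn2 hS
      haveI : Group.IsPerfect ↥(generalizedFittingSubgroup G) := ⟨End.commutator_eq_top hs hna⟩
      exact e.gw _ S n hn2 hS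
    rcases End.main hs hna fs.even e.p1173 e.p1171 e.p0506 h0483 e.p0507 e.p0523 e.p1742 h1 ⟨J, self_mem_cls J⟩
      (nil_cls hn) with h2 | h2 | h2
    · exact Or.inl h2
    · exact Or.inr (Or.inl h2)
    · exact Or.inr (Or.inr (Or.inl h2))
  · by_cases h3 : C3 J
    · exact hC3 G J ⟨fs, hyp, hn, h3, hncl, h1⟩
    · obtain ⟨U, hU⟩ := exists_vchoice hyp (self_mem_cls J) hn h3
      exact absurd (hCV G fs J U hyp hn hU hncl) h1

/-- **S1309 from the leaves** -/
theorem main (e : Ext G) (hCV : CVStmt.{u}) (hC3 : C3Stmt.{u})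
    (hs : IsSimpleGroup ↥(Cfsg.generalizedFittingSubgroup G))
    (hna : ¬ IsMulCommutative ↥(Cfsg.generalizedFittingSubgroup G)) (z : G) (hz : orderOf z = 2)
    (J : Subgroup G) (hJz : J ≤ Subgroup.centralizer ({z} : Set G)) (hzJ : z ∈ J)
    (hsn : (J.subgroupOf (Subgroup.centralizer ({z} : Set G))).IsSubnormal)
    (hQ : ∃ S : Sylow 2 ↥J, ∃ n : ℕ, Nonempty (↥(S : Subgroup ↥J) ≃* QuaternionGroup (2 ^ (n + 1))))
    (huniq : ∀ t ∈ J, orderOf t = 2 → t = z)
    (h2 : ∀ u ∈ Subgroup.centralizer ({z} : Set G), J.map (MulAut.conj u).toMonoidHom = J ∨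
      ⁅J, J.map (MulAut.conj u).toMonoidHom⁆ ≤ (Cfsg.oddCore ↥J).map J.subtype ⊓
        (Cfsg.oddCore ↥(J.map (MulAut.conj u).toMonoidHom)).map (J.map (MulAut.conj u).toMonoidHom).subtype)
    (h3 : ∀ y ∈ J, ∀ g : G, IsPGroup 2 ↥(Subgroup.zpowers y) → 4 ≤ orderOf y →
      g * y * g⁻¹ ∈ Subgroup.centralizer ({z} : Set G) → g * y * g⁻¹ ∈ Subgroup.normalizer (J : Set G)) :
    (∃ p : ℕ, p.Prime ∧ p ≠ 2 ∧ Cfsg.IsLieTypeChar p ↥(Cfsg.generalizedFittingSubgroup G)) ∨
      Cfsg.Spor.IsoM11 ↥(Cfsg.generalizedFittingSubgroup G) ∨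
      Cfsg.Spor.IsoM12 ↥(Cfsg.generalizedFittingSubgroup G) ∨
      (∃ (F : Type) (_ : Field F) (_ : Fintype F), Fintype.card F = 2 ∧
        (Nonempty (↥(Cfsg.generalizedFittingSubgroup G) ≃* Cfsg.PSp 3 F) ∨
          Nonempty (↥(Cfsg.generalizedFittingSubgroup G) ≃* Cfsg.POmega F (Cfsg.quadFormPlus 4 F)))) := by
  by_cases hcl : Cl G
  · rcases e.p1310 hcl with h | h
    · exact Or.inl h
    · exact Or.inr (Or.inl h)
  obtain ⟨hyp, -⟩ := hyp_of_class z hz J hzJ hsn hQ huniq h2 h3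
  rcases Dich.dich e.gw hz hzJ hQ huniq with hn | ⟨M, hMJ, hMn, hzM, hty⟩
  · exact nil_main e ⟨hs, hna, e.even⟩ hCV hC3 hyp hn hcl
  · refine absurd ⟨z, M, hz, hMJ.trans hJz, hzM, ?_, hty⟩ hcl
    refine Subgroup.IsSubnormal.step _ _ (fun x hx => hMJ hx) hsn ?_
    refine ⟨fun x hx g => ?_⟩
    have h4 : (x : G) ∈ M := hx
    have hxJ : (x : G) ∈ J := hMJ h4
    have h5 := hMn.conj_mem (⟨_, hxJ⟩ : J) h4 (⟨_, g.2⟩ : J)
    exact h5

end main

end Cfsg.Agent.Cit.AssemblyNil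
end

-- part: Cit/Nil/Unbal/Down
section
prune_inst 0x100001004c00000000180000000000406200010200600801d0000c000c8e1141a0040101f0700f1001102ae4003a8068105400490010000020008a0041180080040320e000101c0030000040e803580c00000000000000000000000000041000000000000
set_option linter.all false
open scoped Cfsg.Agent.FastGrp

/-!
# S1309, unbalanced groups: restriction to a normal subgroup

`N` normal in `G`, containing a Sylow 2-subgroup of the member `K`: the class of `K ∩ N` in `N` satisfies the same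
hypothesis (`hyp_down`), and is 2-nilpotent if `K` is (`nil_down`).
`exists_down` : the subgroup `F*(G)`, if the elements of the commutator subgroup of `Aut(F*(G))` have inner cubes and
`K` satisfies (C3).
-/

set_option autoImplicit false
set_option linter.style.haveILetI false
set_option linter.unusedSectionVars false

namespace Cfsg.Agent.Cit.Nil.Unbal

open Subgroup Cfsg Cit Nil Transfer.SL23Recog
open scoped commutatorElement

section down

variable {G : Type*} [Group G] {N : Subgroup G}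

variable [Finite G] {K Q : Subgroup G}

end down

/-! ### `Q ≤ F*(G)` -/

section inner

variable {G : Type*} [Group G] [Finite G]

/-- the elements of the commutator subgroup of `Aut(X)` have inner cubes -/
def CubeInner (X : Type*) [Group X] : Prop := ∀ α ∈ commutator (MulAut X), ∃ l, α ^ 3 = MulAut.conj l

/-- a 2-element of `G'` is in `F*(G)` -/
theorem mem_fstar (fs : AssemblyNil.FS G) (hc : CubeInner ↥(generalizedFittingSubgroup G)) {q : G}
    (hq : q ∈ commutator G) (h4 : q ^ 4 = 1) : q ∈ generalizedFittingSubgroup G := by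
  obtain ⟨X, hX⟩ : ∃ X, X = generalizedFittingSubgroup G := ⟨_, rfl⟩
  have hXn : X.Normal := by rw [hX]; exact Lib.GenFitting.genFitting_normal (G := G)
  have hcen : centralizer (X : Set G) = ⊥ := by rw [hX]; exact End.centralizer_fstar fs.simple fs.na
  rw [← hX] at hc ⊢
  have h1 : MulAut.conjNormal q ∈ commutator (MulAut X) := by
    have h2 : (commutator G).map (MulAut.conjNormal (H := X)) ≤ commutator (MulAut X) := by
      rw [commutator_def, commutator_def, Subgroup.map_commutator]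
      exact commutator_mono le_top le_top
    exact h2 ⟨q, hq, rfl⟩
  obtain ⟨l, hl⟩ := hc _ h1
  have h3 : (l : G)⁻¹ * q ^ 3 ∈ centralizer (X : Set G) := by
    rw [mem_centralizer_iff]
    intro x hx
    have h5 := congrArg (fun α : MulAut X => ((α ⟨x, hx⟩ : X) : G)) hl
    have h6 : q ^ 3 * x * (q ^ 3)⁻¹ = (l : G) * x * (l : G)⁻¹ := by
      have h7 : (MulAut.conjNormal q ^ 3 : MulAut X) = MulAut.conjNormal (q ^ 3) := (map_pow _ q 3).symm
      rw [h7] at h5
      exact h5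
    calc x * ((l : G)⁻¹ * q ^ 3) = (l : G)⁻¹ * ((l : G) * x * (l : G)⁻¹) * q ^ 3 := by group
      _ = (l : G)⁻¹ * (q ^ 3 * x * (q ^ 3)⁻¹) * q ^ 3 := by rw [h6]
      _ = (l : G)⁻¹ * q ^ 3 * x := by group
  rw [hcen, mem_bot, inv_mul_eq_one] at h3
  have h5 : q⁻¹ = q ^ 3 := by
    rw [inv_eq_iff_mul_eq_one, ← pow_succ']
    exact h4
  rw [← inv_inv q, h5, ← h3]
  exact inv_mem l.2

end inner

end Cfsg.Agent.Cit.Nil.Unbal
end

-- part: Cit/Nil/LO/ChartDefs
section
set_option linter.all false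
open scoped Cfsg.Agent.FastGrp

/-!
# Lie odd sections, the chart part: interface (S1309, (n1), piece (C))

Text: `blueprints/CIT-6b-LieOdd-helper443.md`, sections 3, 4.

* `QK K e` : `K` is a quaternion group of order 8 (as far as it matters), `e` its involution.
* `Cen C F K` : `F = -F` is a maximal set of pairwise orthogonal classical roots; `K` centralises `Z r`, `r ∈ F`, and
  normalises `L = ⟨X y⟩`.
* `Out C F` : the OUTPUT for a type: if `K, e` and `K', e'` are as above and neither `e` nor `e'` centralises `L`, then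
  `e e'` centralises `L`.
* `KL_frame` : the plug (for a frame of members of `Om`).
-/

set_option autoImplicit false
set_option linter.unusedSectionVars false
set_option linter.dupNamespace false

namespace Cfsg.Agent.LOC.ChartDefs

open CoxeterSystem Cfsg.Agent.ChevalleyStructure.CoxeterGeom Cfsg.Agent.Tits.Roots Cfsg.Agent.Tits.Core
  Cfsg.Agent.Tits.RootComb Cfsg.Agent.Nodes.Comb Cfsg.Agent.Nodes.SubComb Cfsg.Agent.Nodes.Reps
  Cfsg.Agent.Nodes.Coroot Cfsg.Agent.Nodes.PosPair Cfsg.Agent.Nodes.BNOf Cfsg.Agent.Nodes.RGDLib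
  Cfsg.Agent.Nodes.Chart Cfsg.Agent.Nodes.ClsNorm Cfsg.Agent.Nodes.ChartLoc Cfsg.Agent.Nodes.ChartFrame

/-- `K` is a quaternion group of order 8, `e` its involution (only the properties which are used). -/
structure QK {Y : Type*} [Group Y] (K : Subgroup Y) (e : Y) : Prop where
  mem : e ∈ K
  ne : e ≠ 1
  sq : e * e = 1
  cen : ∀ k ∈ K, k * e = e * k
  pow : ∀ k ∈ K, k * k = 1 ∨ k * k = e
  one : ∀ k ∈ K, k * k = 1 → k = 1 ∨ k = e
  com : ∃ a ∈ K, ∃ b ∈ K, a * a = e ∧ b * b = e ∧ a * b = e * (b * a)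

section QKsec

variable {Y : Type*} [Group Y] {K : Subgroup Y} {e : Y}

theorem QK.of_equiv (f : QuaternionGroup 2 ≃* K) (he : e ∈ K) (h1 : e ≠ 1) (h2 : e * e = 1) : QK K e := by
  have key : ∀ g : QuaternionGroup 2, g * g = 1 → g = 1 ∨ g = QuaternionGroup.a 2 := by decide
  have hsymm : ∀ k : K, f (f.symm k) = k := f.apply_symm_apply
  have he' : f (QuaternionGroup.a 2) = ⟨e, he⟩ := by
    rcases key (f.symm ⟨e, he⟩) (by
      apply f.injective
      rw [map_mul, hsymm, map_one]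
      exact Subtype.ext h2) with h3 | h3
    · exfalso
      have := congrArg f h3
      rw [hsymm, map_one] at this
      exact h1 (congrArg Subtype.val this)
    · rw [← h3, hsymm]
  have hv : ((f (QuaternionGroup.a 2) : K) : Y) = e := by rw [he']
  have c1 : ∀ g : QuaternionGroup 2, g * QuaternionGroup.a 2 = QuaternionGroup.a 2 * g := by decide
  have c2 : ∀ g : QuaternionGroup 2, g * g = 1 ∨ g * g = QuaternionGroup.a 2 := by decide
  have tr : ∀ g : QuaternionGroup 2, ∀ g' : QuaternionGroup 2, ((f (g * g') : K) : Y) = (f g : Y) * (f g' : Y) := by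
    intro g g'; rw [map_mul]; rfl
  refine ⟨he, h1, h2, fun k hk => ?_, fun k hk => ?_, fun k hk hkk => ?_, ?_⟩
  · have := congrArg (fun g => ((f g : K) : Y)) (c1 (f.symm ⟨k, hk⟩))
    simp only [tr, hsymm, hv] at this
    exact this
  · rcases c2 (f.symm ⟨k, hk⟩) with h3 | h3
    · left
      have := congrArg (fun g => ((f g : K) : Y)) h3
      simp only [tr, hsymm, map_one] at this
      exact this
    · right
      have := congrArg (fun g => ((f g : K) : Y)) h3
      simp only [tr, hsymm, hv] at this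
      exact this
  · rcases key (f.symm ⟨k, hk⟩) (by
      apply f.injective
      rw [map_mul, hsymm, map_one]
      exact Subtype.ext hkk) with h3 | h3
    · left
      have := congrArg (fun g => ((f g : K) : Y)) h3
      simp only [hsymm, map_one] at this
      exact this
    · right
      have := congrArg (fun g => ((f g : K) : Y)) h3
      simp only [hsymm, hv] at this
      exact this
  · have d1 : (QuaternionGroup.a 1 : QuaternionGroup 2) * QuaternionGroup.a 1 = QuaternionGroup.a 2 := by decide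
    have d2 : (QuaternionGroup.xa 0 : QuaternionGroup 2) * QuaternionGroup.xa 0 = QuaternionGroup.a 2 := by decide
    have d3 : (QuaternionGroup.a 1 : QuaternionGroup 2) * QuaternionGroup.xa 0 =
      QuaternionGroup.a 2 * (QuaternionGroup.xa 0 * QuaternionGroup.a 1) := by decide
    refine ⟨f (QuaternionGroup.a 1), (f _).2, f (QuaternionGroup.xa 0), (f _).2, ?_, ?_, ?_⟩
    · rw [← tr, d1, hv]
    · rw [← tr, d2, hv]
    · have := congrArg (fun g => ((f g : K) : Y)) d3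
      simp only [tr, hv] at this
      exact this

theorem QK.inv_e (h : QK K e) : e⁻¹ = e := inv_eq_of_mul_eq_one_right h.sq

theorem QK.conj (h : QK K e) (g : Y) : QK (cj g K) (g * e * g⁻¹) := by
  have hm : ∀ {k : Y}, k ∈ cj g K ↔ ∃ l ∈ K, k = g * l * g⁻¹ := by
    intro k
    constructor
    · intro hk
      rw [mem_cj] at hk
      exact ⟨_, hk, by group⟩
    · rintro ⟨l, hl, rfl⟩
      rw [mem_cj]
      have : g⁻¹ * (g * l * g⁻¹) * g = l := by group
      rwa [this]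
  have hmul : ∀ x y : Y, g * x * g⁻¹ * (g * y * g⁻¹) = g * (x * y) * g⁻¹ := fun x y => by group
  have hinj : ∀ x y : Y, g * x * g⁻¹ = g * y * g⁻¹ → x = y := by
    intro x y hxy
    exact mul_left_cancel (mul_right_cancel hxy)
  refine ⟨hm.2 ⟨_, h.mem, rfl⟩, fun h0 => h.ne ?_, ?_, ?_, ?_, ?_, ?_⟩
  · apply hinj
    rw [h0]; group
  · rw [hmul, h.sq]; group
  · intro k hk
    obtain ⟨l, hl, rfl⟩ := hm.1 hk
    rw [hmul, hmul, h.cen l hl]
  · intro k hk
    obtain ⟨l, hl, rfl⟩ := hm.1 hk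
    rw [hmul]
    rcases h.pow l hl with h1 | h1
    · left; rw [h1]; group
    · right; rw [h1]
  · intro k hk hkk
    obtain ⟨l, hl, rfl⟩ := hm.1 hk
    rw [hmul] at hkk
    have h1 : l * l = 1 := hinj _ _ (by rw [hkk]; group)
    rcases h.one l hl h1 with h2 | h2
    · left; rw [h2]; group
    · right; rw [h2]
  · obtain ⟨a, ha, b, hb, h1, h2, h3⟩ := h.com
    refine ⟨_, hm.2 ⟨a, ha, rfl⟩, _, hm.2 ⟨b, hb, rfl⟩, ?_, ?_, ?_⟩
    · rw [hmul, h1]
    · rw [hmul, h2]
    · rw [hmul, hmul, hmul, h3]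

end QKsec

variable {I W Y : Type*} [Fintype I] [DecidableEq I] [Group W] [Fintype W] [Group Y] {M : CoxeterMatrix I}
  {cs : CoxeterSystem M W} {A : I → I → ℤ} {h : IsCartan M A} {p : ℕ} {T : Subgroup Y} {n : I → Y}
  {X : (I → ℤ) → Subgroup Y} {R : Set (I → ℤ)} {Z : (I → ℤ) → Subgroup Y} {z : (I → ℤ) → Y}

/-- `F = -F` is a maximal set of pairwise orthogonal (or opposite) classical roots. -/
structure MaxF (C : Cls cs h p T n X R Z z) (F : Set (I → ℤ)) : Prop where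
  sub : ∀ r ∈ F, r ∈ R
  neg : ∀ r ∈ F, -r ∈ F
  orth : ∀ r ∈ F, ∀ s ∈ F, s ≠ r → s ≠ -r → form cs h r s = 0
  max : ∀ x ∈ R, ∃ r ∈ F, form cs h x r ≠ 0

/-- `K` centralises all `Z r`, `r ∈ F`, and normalises `L = ⟨X y : all roots y⟩`. -/
structure Cen (C : Cls cs h p T n X R Z z) (F : Set (I → ℤ)) (K : Subgroup Y) : Prop where
  comm : ∀ r ∈ F, ∀ a ∈ Z r, ∀ k ∈ K, k * a = a * k
  nor : ∀ k ∈ K, k ∈ Subgroup.normalizer (G1 cs h X : Set Y)

/-- `e` centralises `L = ⟨X y⟩` -/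
def Triv (_C : Cls cs h p T n X R Z z) (e : Y) : Prop := ∀ l ∈ G1 cs h X, e * l = l * e

/-- **The output for a type**: two noncentral involutions of such `Q8`'s differ by an element centralising `L`.
[For the types without `I = {1}`: `∀ K e, QK K e → Cen C F K → Triv C e`.] -/
def Out (C : Cls cs h p T n X R Z z) (F : Set (I → ℤ)) : Prop :=
  ∀ (K K' : Subgroup Y) (e e' : Y), QK K e → QK K' e' → Cen C F K → Cen C F K' →
    ¬ Triv C e → ¬ Triv C e' → Triv C (e * e')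

/-- `e` centralises `L` for every `Q8`: the output for the types without `I = {1}`. -/
theorem Out.of_triv {C : Cls cs h p T n X R Z z} {F : Set (I → ℤ)}
    (H : ∀ (K : Subgroup Y) (e : Y), QK K e → Cen C F K → Triv C e) : Out C F :=
  fun K _ e _ hK _ hc _ h1 _ => absurd (H K e hK hc) h1

/-! ### The plug -/

section Plug

variable {G : Type*} [Group G] {Om : Set (Subgroup G)} {q : ℕ} {L : Subgroup G}

/-- **Plug**: `K`, `K'` are `Q8`'s normalising `L` and centralising a maximal frame of members of `Om` in `L`. -/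
theorem KL_frame (C : Chart Om q L) (hO : ∀ K ∈ Om, ∀ g, Cfsg.Agent.Cit.cj g K ∈ Om)
    (hout : ∀ F, MaxF C.cls F → Out C.cls F)
    {κ : Type*} [Finite κ] (J : κ → Subgroup G) (hJ : ∀ i, J i ∈ Om) (hJL : ∀ i, J i ≤ L)
    (hc : ∀ i j, i ≠ j → Cfsg.Agent.Cit.TypeDet.cm (J i) (J j)) (hmax : ∀ P ∈ Om, P ≤ L → ¬ ∀ k, Cfsg.Agent.Cit.TypeDet.cm P (J k))
    {K K' : Subgroup G} {e e' : G} (hK : QK K e) (hK' : QK K' e')
    (hKL : ∀ k ∈ K, k ∈ Subgroup.normalizer (L : Set G)) (hKL' : ∀ k ∈ K', k ∈ Subgroup.normalizer (L : Set G))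
    (hKJ : ∀ i, ∀ a ∈ J i, ∀ k ∈ K, k * a = a * k) (hKJ' : ∀ i, ∀ a ∈ J i, ∀ k ∈ K', k * a = a * k) :
    (∀ l ∈ L, e * l = l * e) ∨ (∀ l ∈ L, e' * l = l * e') ∨ ∀ l ∈ L, e * e' * l = l * (e * e') := by
  obtain ⟨s, d, FI⟩ := exists_frameIn C (K := J) (fun i => ⟨hJ i, hJL i⟩) hc
  have hmax' := FI.max hO (fun P hP hh => hmax P hP.1 hP.2 hh)
  set F : Set (C.I → ℤ) := {r | ∃ i, r = s i ∨ r = -s i} with hF
  have hFR : ∀ r ∈ F, r ∈ C.R := by
    rintro r ⟨i, rfl | rfl⟩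
    · exact FI.R i
    · exact Nodes.ClsNorm.neg_mem C.cls (FI.R i)
  have hM : MaxF C.cls F := by
    refine ⟨hFR, ?_, ?_, ?_⟩
    · rintro r ⟨i, rfl | rfl⟩
      · exact ⟨i, Or.inr rfl⟩
      · exact ⟨i, Or.inl (neg_neg _)⟩
    · rintro r ⟨i, hi⟩ t ⟨j, hj⟩ h1 h2
      have hij : i ≠ j := by
        rintro rfl
        rcases hi with rfl | rfl <;> rcases hj with rfl | rfl
        · exact h1 rfl
        · exact h2 rfl
        · exact h2 (neg_neg _).symm
        · exact h1 rfl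
      have h0 := FI.orth i j hij
      rcases hi with rfl | rfl <;> rcases hj with rfl | rfl <;>
        simp only [form_neg_left, form_neg_right, h0, neg_zero]
    · intro x hx
      by_contra hcon
      push Not at hcon
      exact hmax' x hx fun k => hcon _ ⟨k, Or.inl rfl⟩
  have hcc : ∀ (K : Subgroup G), (∀ k ∈ K, k ∈ Subgroup.normalizer (L : Set G)) → (∀ i, ∀ a ∈ J i, ∀ k ∈ K, k * a = a * k) →
      Cen C.cls F (cj d K) := by
    intro K h1 h2
    refine ⟨?_, ?_⟩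
    · intro r hr a ha k hk
      obtain ⟨i, hi⟩ := hr
      have ha' : a ∈ cj d (J i) := by
        rw [FI.eq]
        unfold Nodes.Perp.KK
        rcases hi with h3 | h3
        · rw [← h3]; exact (le_sup_left : C.Z r ≤ _) ha
        · have h4 : s i = -r := by rw [h3, neg_neg]
          rw [h4, neg_neg]
          exact (le_sup_right : C.Z r ≤ _) ha
      rw [mem_cj] at ha' hk
      have h3 := h2 _ _ ha' _ hk
      have h4 : k * a = d * ((d⁻¹ * k * d) * (d⁻¹ * a * d)) * d⁻¹ := by group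
      have h5 : a * k = d * ((d⁻¹ * a * d) * (d⁻¹ * k * d)) * d⁻¹ := by group
      rw [h4, h3, ← h5]
    · intro k hk
      rw [C.gen]
      rw [mem_cj] at hk
      have h3 := h1 _ hk
      have hdn : d ∈ Subgroup.normalizer (L : Set G) := Subgroup.le_normalizer FI.mem
      have h5 : k = d * (d⁻¹ * k * d) * d⁻¹ := by group
      rw [h5]
      exact mul_mem (mul_mem hdn h3) (inv_mem hdn)
  have back : ∀ x : G, Triv C.cls (d * x * d⁻¹) → ∀ l ∈ L, x * l = l * x := by
    intro x hx l hl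
    have h1 := hx (d * l * d⁻¹) (by
      rw [C.gen]
      exact mul_mem (mul_mem FI.mem hl) (inv_mem FI.mem))
    have h2 : d * (x * l) * d⁻¹ = d * (l * x) * d⁻¹ := by
      have e1 : d * (x * l) * d⁻¹ = d * x * d⁻¹ * (d * l * d⁻¹) := by group
      have e2 : d * (l * x) * d⁻¹ = d * l * d⁻¹ * (d * x * d⁻¹) := by group
      rw [e1, h1, ← e2]
    exact mul_left_cancel (mul_right_cancel h2)
  by_cases t1 : Triv C.cls (d * e * d⁻¹)
  · exact Or.inl (back e t1)
  by_cases t2 : Triv C.cls (d * e' * d⁻¹)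
  · exact Or.inr (Or.inl (back e' t2))
  refine Or.inr (Or.inr (back (e * e') ?_))
  have h1 := hout F hM (cj d K) (cj d K') _ _ (hK.conj d) (hK'.conj d) (hcc K hKL hKJ) (hcc K' hKL' hKJ') t1 t2
  have h2 : d * (e * e') * d⁻¹ = d * e * d⁻¹ * (d * e' * d⁻¹) := by group
  rw [h2]
  exact h1

end Plug

end Cfsg.Agent.LOC.ChartDefs
end

-- part: Cit/Nil/LO/Wt
section
set_option linter.all false
open scoped Cfsg.Agent.FastGrp

/-!
# Lie odd sections, the chart part: the weight groups (S1309, (n1), piece (C)); all types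

`Lam cs h F y` : the roots with the same signs as `y` on `F`; `MM cs h X F y = ⟨X x : x ∈ Lam y⟩`.

* `mem_MM_iff` : `MM y` is the set of `u ∈ VV r` (`(y, r) > 0`, `r ∈ F`) contained in all `VV s`, `(y, s) > 0`, and
  commuting with all `Z s`, `(y, s) ≥ 0`;
* `wt_inv` : the elements normalising `L` and centralising the `Z r`, `r ∈ F`, normalise `MM y`;
* `closed_Lam`, `mem_Lam_iff`, `X_le_MM`.
-/

set_option autoImplicit false
set_option linter.unusedSectionVars false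
set_option linter.dupNamespace false

namespace Cfsg.Agent.LOC.Wt

open CoxeterSystem Cfsg.Agent.ChevalleyStructure.CoxeterGeom Cfsg.Agent.Tits.Roots Cfsg.Agent.Tits.Core
  Cfsg.Agent.Tits.RootComb Cfsg.Agent.Nodes.Comb Cfsg.Agent.Nodes.SubComb Cfsg.Agent.Nodes.Reps
  Cfsg.Agent.Nodes.Coroot Cfsg.Agent.Nodes.PosPair Cfsg.Agent.Nodes.BNOf Cfsg.Agent.Nodes.RGDLib
  Cfsg.Agent.Nodes.Chart Cfsg.Agent.Nodes.ClsNorm Cfsg.Agent.Nodes.ChartLoc Cfsg.Agent.Nodes.ChartFrame
  Cfsg.Agent.Nodes.Slope Cfsg.Agent.Nodes.Bruhat Cfsg.Agent.LOC.ChartDefs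

variable {I W Y : Type*} [Fintype I] [DecidableEq I] [Group W] [Fintype W] [Group Y] {M : CoxeterMatrix I}
  {cs : CoxeterSystem M W} {A : I → I → ℤ} {h : IsCartan M A} {p : ℕ} {T : Subgroup Y} {n : I → Y}
  {X : (I → ℤ) → Subgroup Y} {R : Set (I → ℤ)} {Z : (I → ℤ) → Subgroup Y} {z : (I → ℤ) → Y}

/-- the roots with the same signs as `y` on `F = -F` -/
def Lam (cs : CoxeterSystem M W) (h : IsCartan M A) (F : Set (I → ℤ)) (y : I → ℤ) : Set (I → ℤ) :=
  {x | IsRoot cs h x ∧ ∀ s ∈ F, (0 < form cs h y s → 0 < form cs h x s) ∧ (0 ≤ form cs h y s → 0 ≤ form cs h x s)}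

/-- the weight group -/
def MM (cs : CoxeterSystem M W) (h : IsCartan M A) (X : (I → ℤ) → Subgroup Y) (F : Set (I → ℤ)) (y : I → ℤ) :
    Subgroup Y := RGD.Sup X (Lam cs h F y)

theorem mem_Lam_self {F : Set (I → ℤ)} {y : I → ℤ} (hy : IsRoot cs h y) : y ∈ Lam cs h F y :=
  ⟨hy, fun _ _ => ⟨fun h0 => h0, fun h0 => h0⟩⟩

theorem mem_Lam_iff {F : Set (I → ℤ)} (hF : ∀ r ∈ F, -r ∈ F) {x y : I → ℤ} :
    x ∈ Lam cs h F y ↔ IsRoot cs h x ∧ ∀ s ∈ F, SignType.sign (form cs h x s) = SignType.sign (form cs h y s) := by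
  constructor
  · rintro ⟨hx, h1⟩
    refine ⟨hx, fun s hs => ?_⟩
    obtain ⟨a1, a2⟩ := h1 s hs
    obtain ⟨b1, b2⟩ := h1 (-s) (hF s hs)
    rw [form_neg_right, form_neg_right] at b1 b2
    rcases lt_trichotomy (form cs h y s) 0 with h0 | h0 | h0
    · rw [sign_neg h0, sign_neg (by have := b1 (by omega); omega)]
    · rw [h0, sign_zero]
      have c1 := a2 h0.ge
      have c2 := b2 (by omega)
      rw [show form cs h x s = 0 by omega, sign_zero]
    · rw [sign_pos h0, sign_pos (a1 h0)]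
  · rintro ⟨hx, h1⟩
    refine ⟨hx, fun s hs => ⟨fun h0 => ?_, fun h0 => ?_⟩⟩
    · have := h1 s hs
      rw [sign_pos h0] at this
      exact sign_eq_one_iff.1 this
    · have := h1 s hs
      by_contra hcon
      rw [sign_neg (not_le.1 hcon)] at this
      have h2 := sign_eq_neg_one_iff.1 this.symm
      omega

theorem X_le_MM {F : Set (I → ℤ)} {x y : I → ℤ} (hx : x ∈ Lam cs h F y) : X x ≤ MM cs h X F y :=
  RGD.le_Sup hx

/-! ### Cutting down -/

theorem smono {S S' : Set (I → ℤ)} {u : Y} (hSS : ∀ x ∈ S, x ∈ S') (hu : u ∈ RGD.Sup X S) : u ∈ RGD.Sup X S' :=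
  RGD.Sup_mono hSS hu

theorem inf_VV (Rd : RGD cs h p T n X) {S : Set (I → ℤ)} (hS : Closed cs h S) {r s : I → ℤ}
    (hr : ∀ x ∈ S, 0 < form cs h x r) {u : Y} (hu : u ∈ RGD.Sup X S) (hus : u ∈ VV cs h X s) :
    u ∈ RGD.Sup X {x | x ∈ S ∧ 0 < form cs h x s} := by
  obtain ⟨a, ha, c, hc, e⟩ := split Rd hS (Nodes.CenVV.fh cs h r) (Nodes.CenVV.fh cs h s) hr hu
  have ha' : a ∈ VV cs h X s := smono (fun x hx => ⟨hS.root x hx.1, hx.2⟩) ha
  have hc' : c ∈ VV cs h X s := by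
    have : c = a⁻¹ * u := by rw [e]; group
    rw [this]
    exact mul_mem (inv_mem ha') hus
  have h1 : c = 1 := sup_inf_sup' Rd (Nodes.CenVV.fh cs h s) (Nodes.CenVV.fh cs h r) hc'
    (smono (fun x hx => ⟨hS.root x hx.1, hx.2, hr x hx.1⟩) hc)
  rw [e, h1, mul_one]
  exact ha

variable [Finite Y] (C : Cls cs h p T n X R Z z)

include C

theorem inf_C {S : Set (I → ℤ)} (hS : Closed cs h S) {r s : I → ℤ} (hs : s ∈ R)
    (hr : ∀ x ∈ S, 0 < form cs h x r) {u : Y} (hu : u ∈ RGD.Sup X S) (hus : ∀ a ∈ Z s, u * a = a * u) :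
    u ∈ RGD.Sup X {x | x ∈ S ∧ 0 ≤ form cs h x s} := by
  obtain ⟨a, ha, c, hc, e⟩ := split C.rgd hS (Nodes.CenVV.fh cs h r) (Nodes.CenVV.fh cs h (-s)) hr hu
  have hc1 : c ∈ RGD.Sup X {x | x ∈ S ∧ 0 ≤ form cs h x s} := by
    refine smono (fun x hx => ⟨hx.1, ?_⟩) hc
    have := hx.2
    rw [Nodes.CenVV.fh_apply, form_neg_right] at this
    omega
  have hc2 : c ∈ Subgroup.centralizer (Z s : Set Y) := by
    refine RGD.Sup_le (X := X) (fun x hx => ?_) hc1
    intro b hb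
    rw [Subgroup.mem_centralizer_iff]
    intro d hd
    exact (C.cent s hs x (hS.root x hx.1) hx.2 b hb d hd).symm
  have ha' : a ∈ VV cs h X (-s) := smono (fun x hx => ⟨hS.root x hx.1, hx.2⟩) ha
  have ha2 : a ∈ Subgroup.centralizer (Z s : Set Y) := by
    have : a = u * c⁻¹ := by rw [e]; group
    rw [this]
    refine mul_mem ?_ (inv_mem hc2)
    rw [Subgroup.mem_centralizer_iff]
    intro d hd
    exact (hus d hd).symm
  have h1 : a = 1 := by
    refine Nodes.CenVV.eq_one_of_normalizes C (neg_mem C hs) ha' ?_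
    rw [neg_neg]
    exact Nodes.ClsNorm.centralizer_le_normalizer' (Z s) ha2
  rw [e, h1, one_mul]
  exact hc1

/-- the roots of `Lam y`, for a subset `F'` of `F` -/
theorem mem_aux {y r : I → ℤ} {u : Y} (F' : Finset (I → ℤ)) (hF' : ∀ s ∈ F', s ∈ R)
    (hu : u ∈ VV cs h X r) (h1 : ∀ s ∈ F', 0 < form cs h y s → u ∈ VV cs h X s)
    (h2 : ∀ s ∈ F', 0 ≤ form cs h y s → ∀ a ∈ Z s, u * a = a * u) :
    u ∈ RGD.Sup X {x | IsRoot cs h x ∧ 0 < form cs h x r ∧
      ∀ s ∈ F', (0 < form cs h y s → 0 < form cs h x s) ∧ (0 ≤ form cs h y s → 0 ≤ form cs h x s)} := by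
  classical
  induction F' using Finset.induction_on with
  | empty =>
    refine smono (fun x hx => ⟨hx.1, hx.2, fun s hs => absurd hs (Finset.notMem_empty s)⟩) hu
  | insert t F' ht ih =>
    have ih' := ih (fun s hs => hF' s (Finset.mem_insert_of_mem hs)) (fun s hs => h1 s (Finset.mem_insert_of_mem hs))
      (fun s hs => h2 s (Finset.mem_insert_of_mem hs))
    have hcl : Closed cs h {x | IsRoot cs h x ∧ 0 < form cs h x r ∧
        ∀ s ∈ F', (0 < form cs h y s → 0 < form cs h x s) ∧ (0 ≤ form cs h y s → 0 ≤ form cs h x s)} := by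
      refine ⟨fun x hx => hx.1, fun x hx u hu v hv => ⟨hv.1, ?_, fun s hs => ⟨fun h0 => ?_, fun h0 => ?_⟩⟩⟩
      · exact btwn_pos' hv (Nodes.CenVV.fh cs h r) hx.2.1 (le_of_lt hu.2.1)
      · exact btwn_pos' hv (Nodes.CenVV.fh cs h s) ((hx.2.2 s hs).1 h0) ((hu.2.2 s hs).2 h0.le)
      · exact btwn_nonneg' hv (Nodes.CenVV.fh cs h s) ((hx.2.2 s hs).2 h0) ((hu.2.2 s hs).2 h0)
    have hg : ∀ x ∈ {x | IsRoot cs h x ∧ 0 < form cs h x r ∧
        ∀ s ∈ F', (0 < form cs h y s → 0 < form cs h x s) ∧ (0 ≤ form cs h y s → 0 ≤ form cs h x s)},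
        0 < form cs h x r := fun x hx => hx.2.1
    rcases lt_trichotomy (form cs h y t) 0 with h0 | h0 | h0
    · refine smono (fun x hx => ⟨hx.1, hx.2.1, fun s hs => ?_⟩) ih'
      rcases Finset.mem_insert.1 hs with rfl | hs
      · exact ⟨fun h3 => absurd h3 (by omega), fun h3 => absurd h3 (by omega)⟩
      · exact hx.2.2 s hs
    · have h3 := inf_C C hcl (hF' t (Finset.mem_insert_self _ _)) hg ih'
        (h2 t (Finset.mem_insert_self _ _) h0.ge)
      refine smono (fun x hx => ⟨hx.1.1, hx.1.2.1, fun s hs => ?_⟩) h3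
      rcases Finset.mem_insert.1 hs with rfl | hs
      · exact ⟨fun h3 => absurd h3 (by omega), fun _ => hx.2⟩
      · exact hx.1.2.2 s hs
    · have h3 := inf_VV C.rgd hcl hg ih' (h1 t (Finset.mem_insert_self _ _) h0)
      refine smono (fun x hx => ⟨hx.1.1, hx.1.2.1, fun s hs => ?_⟩) h3
      rcases Finset.mem_insert.1 hs with rfl | hs
      · exact ⟨fun _ => hx.2, fun _ => le_of_lt hx.2⟩
      · exact hx.1.2.2 s hs

/-- **The weight group.** -/
theorem mem_MM_iff {F : Set (I → ℤ)} (hF : ∀ s ∈ F, s ∈ R) {y r : I → ℤ} (hrF : r ∈ F) (hr : 0 < form cs h y r)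
    {u : Y} : u ∈ MM cs h X F y ↔ (∀ s ∈ F, 0 < form cs h y s → u ∈ VV cs h X s) ∧
      ∀ s ∈ F, 0 ≤ form cs h y s → ∀ a ∈ Z s, u * a = a * u := by
  constructor
  · intro hu
    refine ⟨fun s hs h0 => smono (fun x hx => ⟨hx.1, (hx.2 s hs).1 h0⟩) hu, fun s hs h0 a ha => ?_⟩
    have h1 : u ∈ Subgroup.centralizer (Z s : Set Y) := by
      refine RGD.Sup_le (X := X) (fun x hx => ?_) hu
      intro b hb
      rw [Subgroup.mem_centralizer_iff]
      intro d hd
      exact (C.cent s (hF s hs) x hx.1 ((hx.2 s hs).2 h0) b hb d hd).symm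
    exact (Subgroup.mem_centralizer_iff.1 h1 a ha).symm
  · rintro ⟨h1, h2⟩
    have hfin : F.Finite := (RGD.finite_roots (cs := cs) (h := h)).subset fun s hs => C.root s (hF s hs)
    have h3 := mem_aux C (y := y) (r := r) (u := u) hfin.toFinset (fun s hs => hF s (hfin.mem_toFinset.1 hs))
      (h1 r hrF hr) (fun s hs => h1 s (hfin.mem_toFinset.1 hs)) (fun s hs => h2 s (hfin.mem_toFinset.1 hs))
    exact smono (fun x hx => ⟨hx.1, fun s hs => hx.2.2 s (hfin.mem_toFinset.2 hs)⟩) h3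

variable [Fact p.Prime]

/-- elements normalising `L` (`T ≤ L`) and centralising `Z r` normalise `VV r` -/
theorem cj_VV_eq (hT : T ≤ G1 cs h X) {r : I → ℤ} (hr : r ∈ R) {k : Y}
    (hk : k ∈ Subgroup.normalizer (G1 cs h X : Set Y)) (hkr : ∀ a ∈ Z r, k * a = a * k) :
    cj k (VV cs h X r) = VV cs h X r := by
  have hGG : GG cs h T X = G1 cs h X := by
    have h1 : GG cs h T X = T ⊔ G1 cs h X := rfl
    rw [h1]
    exact sup_eq_right.2 hT
  have h1 : cj k (VV cs h X r) ≤ VV cs h X r := by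
    refine Nodes.MuSq.cj_VV_le C hr ?_ hkr
    rw [hGG]
    exact hk
  have h2 : cj k⁻¹ (VV cs h X r) ≤ VV cs h X r := by
    refine Nodes.MuSq.cj_VV_le C hr ?_ fun a ha => ?_
    · rw [hGG]
      exact inv_mem hk
    · have h3 := hkr a ha
      calc k⁻¹ * a = k⁻¹ * (a * k) * k⁻¹ := by group
        _ = k⁻¹ * (k * a) * k⁻¹ := by rw [h3]
        _ = a * k⁻¹ := by group
  refine le_antisymm h1 ?_
  have h3 := cj_mono k h2
  rwa [cj_cj_inv] at h3

/-- **K-invariance of the weight groups** (elementwise). -/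
theorem wt_inv (hT : T ≤ G1 cs h X) {F : Set (I → ℤ)} (hF : ∀ s ∈ F, s ∈ R) {y r : I → ℤ} (hrF : r ∈ F)
    (hr : 0 < form cs h y r) {K : Subgroup Y} (hK : Cen C F K) {k : Y} (hk : k ∈ K) {u : Y}
    (hu : u ∈ MM cs h X F y) : k * u * k⁻¹ ∈ MM cs h X F y := by
  rw [mem_MM_iff C hF hrF hr] at hu ⊢
  refine ⟨fun s hs h0 => ?_, fun s hs h0 a ha => ?_⟩
  · have h1 := cj_VV_eq C hT (hF s hs) (hK.nor k hk) fun a ha => hK.comm s hs a ha k hk
    rw [← h1, mem_cj]
    have h2 : k⁻¹ * (k * u * k⁻¹) * k = u := by group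
    rw [h2]
    exact hu.1 s hs h0
  · have h1 := hK.comm s hs a ha k hk
    have h2 := hu.2 s hs h0 a ha
    have h3 : k⁻¹ * a = a * k⁻¹ := by
      calc k⁻¹ * a = k⁻¹ * (a * k) * k⁻¹ := by group
        _ = k⁻¹ * (k * a) * k⁻¹ := by rw [h1]
        _ = a * k⁻¹ := by group
    calc k * u * k⁻¹ * a = k * u * (k⁻¹ * a) := by group
      _ = k * (u * a) * k⁻¹ := by rw [h3]; group
      _ = (k * a) * u * k⁻¹ := by rw [h2]; group
      _ = a * (k * u * k⁻¹) := by rw [h1]; group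

theorem wt_nor (hT : T ≤ G1 cs h X) {F : Set (I → ℤ)} (hF : ∀ s ∈ F, s ∈ R) {y r : I → ℤ} (hrF : r ∈ F)
    (hr : 0 < form cs h y r) {K : Subgroup Y} (hK : Cen C F K) :
    K ≤ Subgroup.normalizer (MM cs h X F y : Set Y) := by
  intro k hk
  rw [mem_normalizer_iff_cj]
  ext u
  rw [mem_cj]
  constructor
  · intro h1
    have h2 := wt_inv C hT hF hrF hr hK hk h1
    have h3 : k * (k⁻¹ * u * k) * k⁻¹ = u := by group
    rwa [h3] at h2
  · intro h1
    have h2 := wt_inv C hT hF hrF hr hK (inv_mem hk) h1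
    rwa [inv_inv] at h2

end Cfsg.Agent.LOC.Wt
end

-- part: Cit/Nil/LO/Phi
section
prune_inst 0x100045004c2200000018000020000000600000020040080030000c00014e1040a044000140200d1000100c100800006000100000401000000a000000000000000000000000000000200000002003180c00000000000000000000000000041000000000000
set_option linter.all false
open scoped Cfsg.Agent.FastGrp

/-!
# Lie odd sections, the chart part: the roots `y` with `[X y, e] = 1` (S1309, (n1), piece (C)); all types

* `Fx e y` : `e` centralises `X y`;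
* `Fx.refl` : `Fx e w`, `Fx e (-w)`, `Fx e y` ⟹ `Fx e (s_w y)`;
* `diam` : in an irreducible root system any two roots have a common non-orthogonal root;
* `triv_of_ne` : `Fx e y` for all roots `y` not orthogonal to one fixed root `r` ⟹ `e` centralises `L`;
* `eq_of_stab` : an element `g`, `g² = 1`, normalising a `p`-group `M`, `p` odd, and trivial on `Z ≤ M` and modulo
  `Z` centralises `M`.
-/

set_option autoImplicit false
set_option linter.unusedSectionVars false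
set_option linter.dupNamespace false

namespace Cfsg.Agent.LOC.Phi

open CoxeterSystem Cfsg.Agent.ChevalleyStructure.CoxeterGeom Cfsg.Agent.Tits.Roots Cfsg.Agent.Tits.Core
  Cfsg.Agent.Tits.RootComb Cfsg.Agent.Nodes.Comb Cfsg.Agent.Nodes.SubComb Cfsg.Agent.Nodes.Reps
  Cfsg.Agent.Nodes.Coroot Cfsg.Agent.Nodes.PosPair Cfsg.Agent.Nodes.BNOf Cfsg.Agent.Nodes.RGDLib
  Cfsg.Agent.Nodes.Chart Cfsg.Agent.Nodes.ClsNorm Cfsg.Agent.Nodes.ChartLoc Cfsg.Agent.Nodes.ChartFrame
  Cfsg.Agent.Nodes.Slope Cfsg.Agent.Nodes.Bruhat Cfsg.Agent.LOC.ChartDefs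
open scoped commutatorElement

variable {I W Y : Type*} [Fintype I] [DecidableEq I] [Group W] [Fintype W] [Group Y] {M : CoxeterMatrix I}
  {cs : CoxeterSystem M W} {A : I → I → ℤ} {h : IsCartan M A} {p : ℕ} {T : Subgroup Y} {n : I → Y}
  {X : (I → ℤ) → Subgroup Y} {R : Set (I → ℤ)} {Z : (I → ℤ) → Subgroup Y} {z : (I → ℤ) → Y}

/-- `e` centralises `X y` -/
def Fx (X : (I → ℤ) → Subgroup Y) (e : Y) (y : I → ℤ) : Prop := ∀ a ∈ X y, e * a = a * e

theorem triv_of_fx (C : Cls cs h p T n X R Z z) {e : Y} (H : ∀ y, IsRoot cs h y → Fx X e y) : Triv C e := by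
  intro l hl
  have h1 : G1 cs h X ≤ Subgroup.centralizer {e} := by
    unfold G1
    refine iSup_le ?_
    rintro ⟨y, hy⟩ a ha
    rw [Subgroup.mem_centralizer_singleton_iff]
    exact (H y hy a ha).symm
  exact (Subgroup.mem_centralizer_singleton_iff.1 (h1 hl)).symm

theorem Fx.refl (C : Cls cs h p T n X R Z z) {e : Y} {w y : I → ℤ} (hw : IsRoot cs h w) (hy : IsRoot cs h y)
    (h1 : Fx X e w) (h2 : Fx X e (-w)) (h3 : Fx X e y) : Fx X e (y - cpr cs h y w • w) := by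
  obtain ⟨a, ha, ha1⟩ : ∃ a ∈ X w, a ≠ 1 := by
    by_contra hcon
    push Not at hcon
    exact Nodes.StdConn.X_ne_bot C hw ((Subgroup.eq_bot_iff_forall _).2 hcon)
  obtain ⟨u, hu, v, hv, s, hs, -, e1⟩ := Nodes.MuSq.exists_mu' C.rgd hw ha ha1
  have hm : ∀ {b c : Y}, e * b = b * e → e * c = c * e → e * (b * c) = b * c * e := by
    intro b c hb hc
    rw [← mul_assoc, hb, mul_assoc, hc, mul_assoc]
  have hme : e * (u * a * v) = u * a * v * e := hm (hm (h2 u hu) (h1 a ha)) (h2 v hv)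
  set m := u * a * v
  intro b hb
  rw [← e1 y, ← C.rgd.conj_rp hs hy, mem_cj] at hb
  have h4 := h3 _ hb
  have h5 : e * m⁻¹ = m⁻¹ * e := by
    calc e * m⁻¹ = m⁻¹ * (m * e) * m⁻¹ := by group
      _ = m⁻¹ * (e * m) * m⁻¹ := by rw [hme]
      _ = m⁻¹ * e := by group
  calc e * b = e * (m * (m⁻¹ * b * m) * m⁻¹) := by group
    _ = (e * m) * (m⁻¹ * b * m) * m⁻¹ := by group
    _ = m * (e * (m⁻¹ * b * m)) * m⁻¹ := by rw [hme]; group
    _ = m * (m⁻¹ * b * m) * (e * m⁻¹) := by rw [h4]; group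
    _ = b * e := by rw [h5]; group

/-! ### Irreducible root systems -/

section Diam

variable (hirr : ∀ J : Set I, J.Nonempty → J ≠ Set.univ → ∃ a ∈ J, ∃ b, b ∉ J ∧ M a b ≠ 2)

include hirr

omit [Fintype W] in
/-- **Any two roots have a common non-orthogonal root.** -/
theorem diam [Fintype W] {r y : I → ℤ} (hr : IsRoot cs h r) (hy : IsRoot cs h y) :
    ∃ w, IsRoot cs h w ∧ form cs h w r ≠ 0 ∧ form cs h w y ≠ 0 := by
  by_contra hcon
  push Not at hcon
  let B : Set (I → ℤ) := {b | IsRoot cs h b ∧ ∀ w, IsRoot cs h w → form cs h w r ≠ 0 → form cs h w b = 0}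
  have hyB : y ∈ B := ⟨hy, hcon⟩
  have key : ∀ x, IsRoot cs h x → x ∉ B → ∀ b ∈ B, form cs h x b = 0 := by
    intro x hx hxB b hb
    by_cases h0 : form cs h x r = 0
    · have : ∃ w, IsRoot cs h w ∧ form cs h w r ≠ 0 ∧ form cs h w x ≠ 0 := by
        by_contra hc
        push Not at hc
        exact hxB ⟨hx, hc⟩
      obtain ⟨w, hw, h1, h2⟩ := this
      have h3 : form cs h (w - cpr cs h w x • x) b = 0 := by
        refine hb.2 _ (isRoot_refl cs h hw hx) ?_
        rw [form_sub_left, form_smul_left, h0, mul_zero, sub_zero]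
        exact h1
      rw [form_sub_left, form_smul_left, hb.2 w hw h1, zero_sub, neg_eq_zero, mul_eq_zero] at h3
      refine h3.resolve_left fun h4 => h2 ?_
      exact (cpr_zero_iff cs h w hx).1 h4
    · exact hb.2 x hx h0
  have hne : {i : I | sr i ∈ B} ≠ Set.univ := by
    intro h0
    have h1 : ∀ i, form cs h r (sr i) = 0 := fun i => by
      have : i ∈ {i : I | sr i ∈ B} := by rw [h0]; trivial
      exact this.2 r hr (form_pos cs h hr.ne_zero).ne'
    have h2 := form_pos cs h hr.ne_zero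
    have h3 : form cs h r r = 0 := by
      rw [form_eq_sum]
      exact Finset.sum_eq_zero fun k _ => by rw [h1, mul_zero]
    omega
  have hnonempty : {i : I | sr i ∈ B}.Nonempty := by
    by_contra hemp
    rw [Set.not_nonempty_iff_eq_empty] at hemp
    have h1 : ∀ i, form cs h y (sr i) = 0 := by
      intro i
      rw [form_comm]
      refine key (sr i) (isRoot_sr cs h i) (fun h2 => ?_) y hyB
      have : i ∈ (∅ : Set I) := by rw [← hemp]; exact h2
      exact this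
    have h2 := form_pos cs h hy.ne_zero
    have h3 : form cs h y y = 0 := by
      rw [form_eq_sum]
      exact Finset.sum_eq_zero fun k _ => by rw [h1, mul_zero]
    omega
  obtain ⟨a, ha, b, hb, hm⟩ := hirr _ hnonempty hne
  have hab : a ≠ b := by
    rintro rfl
    exact hb ha
  refine Nodes.ExactLift.form_sr_ne_zero (cs := cs) (h := h) hab hm ?_
  rw [form_comm]
  exact key (sr b) (isRoot_sr cs h b) hb (sr a) ha

/-- **`e` centralises `L` if it centralises the `X y`, `y` not orthogonal to one root `r`.** -/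
theorem triv_of_ne (C : Cls cs h p T n X R Z z) {e : Y} {r : I → ℤ} (hr : IsRoot cs h r)
    (H : ∀ y, IsRoot cs h y → form cs h y r ≠ 0 → Fx X e y) : Triv C e := by
  refine triv_of_fx C fun y hy => ?_
  by_cases h0 : form cs h y r = 0
  · obtain ⟨w, hw, h1, h2⟩ := diam (cs := cs) (h := h) hirr hr hy
    have h3 : form cs h (y - cpr cs h y w • w) r ≠ 0 := by
      rw [form_sub_left, form_smul_left, h0, zero_sub, neg_ne_zero]
      refine mul_ne_zero (fun h4 => h2 ?_) h1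
      rw [form_comm]
      exact (cpr_zero_iff cs h y hw).1 h4
    have hy' := isRoot_refl cs h hy hw
    have h5 := Fx.refl C hw hy' (H w hw h1) (H (-w) hw.neg (by rw [form_neg_left]; exact neg_ne_zero.2 h1))
      (H _ hy' h3)
    have e1 : y - cpr cs h y w • w - cpr cs h (y - cpr cs h y w • w) w • w = y := by
      have h6 : cpr cs h (y - cpr cs h y w • w) w = -cpr cs h y w := by
        apply cpr_eq_of_form cs h hw
        rw [form_sub_left, form_smul_left]
        have := two_form_cpr cs h y hw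
        linarith
      rw [h6, neg_smul, sub_neg_eq_add, sub_add_cancel]
    rwa [e1] at h5
  · exact H y hy h0

end Diam

/-! ### Stabilisers of chains -/

section Stab

variable {G : Type*} [Group G]

end Stab

end Cfsg.Agent.LOC.Phi
end

-- part: Cit/Nil/Unbal/LThree
section
set_option linter.all false
open scoped Cfsg.Agent.FastGrp

/-!
# S1309, unbalanced groups: `L₃(4)`

`Heis X` : every involution `z` has a centraliser of class at most 2 with elementary abelian commutators; an element `i`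
with `i² = z` has a commutator `≠ 1, z` with an element of `C(z)`.
`false_of_heis` : such a group has no member; `heis_psl` : `PSL(3, F)`, `|F| = 4`, is such a group.
-/

set_option autoImplicit false
set_option linter.style.haveILetI false
set_option linter.unusedSectionVars false

namespace Cfsg.Agent.Cit.Nil.Unbal

open Subgroup Cfsg Cit Nil

/-- see the head of the file -/
structure Heis (X : Type*) [Group X] : Prop where
  cen : ∀ z : X, z ≠ 1 → z * z = 1 → ∀ a b, a * z = z * a → b * z = z * b →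
    (∀ c, c * z = z * c → a * b * a⁻¹ * b⁻¹ * c = c * (a * b * a⁻¹ * b⁻¹)) ∧
      a * b * a⁻¹ * b⁻¹ * (a * b * a⁻¹ * b⁻¹) = 1
  mov : ∀ i : X, i * i ≠ 1 → i * i * (i * i) = 1 →
    ∃ t, t * (i * i) = i * i * t ∧ t * i * t⁻¹ * i⁻¹ ≠ 1 ∧ t * i * t⁻¹ * i⁻¹ ≠ i * i

theorem Heis.congr {X Y : Type*} [Group X] [Group Y] (e : X ≃* Y) (h : Heis X) : Heis Y where
  cen := by
    intro z hz1 hz2 a b ha hb
    have key := h.cen (e.symm z) (fun h1 => hz1 (e.symm.injective (h1.trans (map_one _).symm)))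
      (by rw [← map_mul, hz2, map_one]) (e.symm a) (e.symm b) (by rw [← map_mul, ha, map_mul])
      (by rw [← map_mul, hb, map_mul])
    constructor
    · intro c hc
      have h1 := key.1 (e.symm c) (by rw [← map_mul, hc, map_mul])
      simp only [← map_mul, ← map_inv] at h1
      exact e.symm.injective h1
    · have h1 := key.2
      simp only [← map_mul, ← map_inv] at h1
      exact e.symm.injective (h1.trans (map_one _).symm)
  mov := by
    intro i h1 h2
    obtain ⟨t, ht1, ht2, ht3⟩ := h.mov (e.symm i)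
      (fun h3 => h1 (e.symm.injective (by rw [map_mul, h3, map_one])))
      (by rw [← map_mul, ← map_mul, h2, map_one])
    refine ⟨e t, ?_, ?_, ?_⟩
    · apply e.symm.injective
      simp only [map_mul, e.symm_apply_apply]
      exact ht1
    · intro h3
      apply ht2
      have h4 := congrArg e.symm h3
      simp only [map_mul, map_inv, map_one, e.symm_apply_apply] at h4
      exact h4
    · intro h3
      apply ht3
      have h4 := congrArg e.symm h3
      simp only [map_mul, map_inv, e.symm_apply_apply] at h4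
      exact h4

/-! ### `PSL(3,4)` -/

section psl

open Cfsg.Agent.SporadicA.FieldFour Cfsg.Agent.ONType.Psl Cfsg.Agent.StdL34.PslCent Cfsg.Agent.StdLThreeFour.Base
open Cfsg.Agent.StdLThreeFour.Facts1

theorem heis_PSL3 : Heis L0 := by
  have hcen : ∀ g : L0, g * t 0 2 1 = t 0 2 1 * g → ∃ a b c, g = e a b c := fun g hg => (cent_t02 g).1 hg
  have conj_comm : ∀ (l x y : L0), x * y = y * x → (l * x * l⁻¹) * (l * y * l⁻¹) = (l * y * l⁻¹) * (l * x * l⁻¹) := by
    intro l x y hxy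
    calc (l * x * l⁻¹) * (l * y * l⁻¹) = l * (x * y) * l⁻¹ := by group
      _ = l * (y * x) * l⁻¹ := by rw [hxy]
      _ = _ := by group
  refine ⟨?_, ?_⟩
  · intro z hz1 hz2 a b ha hb
    obtain ⟨l, hl⟩ := inv_conj hz1 hz2
    have ha' := conj_comm l a z ha
    have hb' := conj_comm l b z hb
    rw [hl] at ha' hb'
    obtain ⟨a1, a2, a3, hae⟩ := hcen _ ha'
    obtain ⟨b1, b2, b3, hbe⟩ := hcen _ hb'
    have h1 : l * (a * b * a⁻¹ * b⁻¹) * l⁻¹ = e 0 0 (b1 * a2 + a1 * b2) := by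
      rw [← e_comm a1 a2 a3 b1 b2 b3, ← hae, ← hbe]
      group
    constructor
    · intro c hc
      have hc' := conj_comm l c z hc
      rw [hl] at hc'
      obtain ⟨c1, c2, c3, hce⟩ := hcen _ hc'
      have h2 : l * (a * b * a⁻¹ * b⁻¹ * c) * l⁻¹ = l * (c * (a * b * a⁻¹ * b⁻¹)) * l⁻¹ := by
        calc l * (a * b * a⁻¹ * b⁻¹ * c) * l⁻¹ = (l * (a * b * a⁻¹ * b⁻¹) * l⁻¹) * (l * c * l⁻¹) := by group
          _ = (l * c * l⁻¹) * (l * (a * b * a⁻¹ * b⁻¹) * l⁻¹) := by
              rw [h1, hce]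
              refine (comm_iff _ _ _ _ _ _).2 ?_
              rw [mul_zero, zero_mul, add_zero]
          _ = l * (c * (a * b * a⁻¹ * b⁻¹)) * l⁻¹ := by group
      exact mul_left_cancel (mul_right_cancel h2)
    · have h2 : l * (a * b * a⁻¹ * b⁻¹ * (a * b * a⁻¹ * b⁻¹)) * l⁻¹ = l * 1 * l⁻¹ := by
        calc l * (a * b * a⁻¹ * b⁻¹ * (a * b * a⁻¹ * b⁻¹)) * l⁻¹ =
            (l * (a * b * a⁻¹ * b⁻¹) * l⁻¹) * (l * (a * b * a⁻¹ * b⁻¹) * l⁻¹) := by group
          _ = 1 := by rw [h1, e_sq, zero_mul, e_zero]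
          _ = l * 1 * l⁻¹ := by group
      exact mul_left_cancel (mul_right_cancel h2)
  · intro i h1 h2
    obtain ⟨l, hl⟩ := inv_conj h1 h2
    have hi' := conj_comm l i (i * i) (by rw [mul_assoc])
    rw [hl] at hi'
    obtain ⟨a, b, c, hie⟩ := hcen _ hi'
    have hab : a * b = 1 := by
      have h3 : e a b c * e a b c = t 0 2 1 := by
        rw [← hl, ← hie]; group
      rw [e_sq, ← e_02] at h3
      exact (e_inj h3).2.2
    have hb : ∃ w : F4, a * w ≠ 0 ∧ a * w ≠ 1 := by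
      revert hab
      revert a b
      intro a b _ hab
      have : ∀ a b : F4, a * b = 1 → ∃ w : F4, a * w ≠ 0 ∧ a * w ≠ 1 := by decide
      exact this a b hab
    obtain ⟨w, hw0, hw1⟩ := hb
    have key : e 0 w 0 * (l * i * l⁻¹) * (e 0 w 0)⁻¹ * (l * i * l⁻¹)⁻¹ = e 0 0 (a * w) := by
      rw [hie, e_comm]
      simp
    refine ⟨l⁻¹ * e 0 w 0 * l, ?_, ?_, ?_⟩
    · have h3 : e 0 w 0 * t 0 2 1 = t 0 2 1 * e 0 w 0 := by
        rw [← e_02]
        refine (comm_iff _ _ _ _ _ _).2 ?_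
        simp
      rw [← hl] at h3
      calc l⁻¹ * e 0 w 0 * l * (i * i) = l⁻¹ * (e 0 w 0 * (l * (i * i) * l⁻¹)) * l := by group
        _ = l⁻¹ * (l * (i * i) * l⁻¹ * e 0 w 0) * l := by rw [h3]
        _ = i * i * (l⁻¹ * e 0 w 0 * l) := by group
    · intro h3
      have h4 : l * (l⁻¹ * e 0 w 0 * l * i * (l⁻¹ * e 0 w 0 * l)⁻¹ * i⁻¹) * l⁻¹ = e 0 0 (a * w) := by
        rw [← key]; group
      rw [h3, mul_one, mul_inv_cancel, ← e_zero] at h4
      exact hw0 (e_inj h4).2.2.symm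
    · intro h3
      have h4 : l * (l⁻¹ * e 0 w 0 * l * i * (l⁻¹ * e 0 w 0 * l)⁻¹ * i⁻¹) * l⁻¹ = e 0 0 (a * w) := by
        rw [← key]; group
      rw [h3, hl, ← e_02] at h4
      exact hw1 (e_inj h4).2.2.symm

end psl

end Cfsg.Agent.Cit.Nil.Unbal
end

-- part: Cit/Nil/LO/LThreeQ
section
prune_inst 0x4000822000000000000200000604200010000200801e0000c000481010100000100b0000600010022240038802811440049422000002a008200411800800400000000001000010000408800400000000000000000000000000000000000000000000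
set_option linter.all false
open scoped Cfsg.Agent.FastGrp

/-!
# S1309: no members in groups `G` with `F*(G) = L₃(4)` (members 2-groups of any order, no (C3))

`LF X` : the properties of `L₃(4)` which are used: `Unbal.Heis`, one class of involutions, squares of elements of `C(z)` are
central in `C(z)`, a noncentral involution of `C(z)` whose centraliser in `C(z)` is elementary abelian.

* `WF.case_one` : no element of order four of a member is in `F`;
* `WF.false_of` : no member at all;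
* `lf_psl` : `PSL(3, F)`, `|F| = 4`, has `LF`;
* `lthree_false` : the theorem.
-/

set_option autoImplicit false
set_option linter.style.haveILetI false
set_option linter.unusedSectionVars false

namespace Cfsg.Agent.Cit.Nil.LO.LThreeQ

open Subgroup Cfsg Cit Nil Unbal

/-- see the head of the file -/
structure LF (X : Type*) [Group X] : Prop extends Heis X where
  conj : ∀ z w : X, z ≠ 1 → z * z = 1 → w ≠ 1 → w * w = 1 → ∃ g, g * z * g⁻¹ = w
  sq : ∀ z : X, z ≠ 1 → z * z = 1 → ∀ a, a * z = z * a → ∀ c, c * z = z * c → a * a * c = c * (a * a)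
  nc : ∀ z : X, z ≠ 1 → z * z = 1 → ∃ a, a ≠ 1 ∧ a * a = 1 ∧ a * z = z * a ∧
    (∀ b, b * z = z * b → b * a = a * b → b * b = 1) ∧ ∃ t, t * a = a * t ∧ t * z ≠ z * t

variable {G : Type*} [Group G]

/-- the world -/
structure WF (Om : Set (Subgroup G)) (F : Subgroup G) : Prop where
  hyp : Hyp Om
  two : ∀ K ∈ Om, IsPGroup 2 K
  nor : F.Normal
  lf : LF F
  q4 : ∀ q ∈ commutator G, q ^ 4 = 1 → q ∈ F

namespace WF

variable [Finite G] {Om : Set (Subgroup G)} {F K L : Subgroup G} {a b c d g i j k l s t u x y z : G}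

section

variable (w : WF Om F)

include w

theorem cen (hz : z ∈ F) (hz1 : z ≠ 1) (hz2 : z * z = 1) (ha : a ∈ F) (hb : b ∈ F) (haz : a * z = z * a)
    (hbz : b * z = z * b) : (∀ c ∈ F, c * z = z * c → a * b * a⁻¹ * b⁻¹ * c = c * (a * b * a⁻¹ * b⁻¹)) ∧
      a * b * a⁻¹ * b⁻¹ * (a * b * a⁻¹ * b⁻¹) = 1 := by
  have h1 := w.lf.cen ⟨z, hz⟩ (fun h => hz1 (congrArg Subtype.val h)) (Subtype.ext hz2) ⟨a, ha⟩ ⟨b, hb⟩
    (Subtype.ext haz) (Subtype.ext hbz)
  exact ⟨fun c hc hcz => congrArg Subtype.val (h1.1 ⟨c, hc⟩ (Subtype.ext hcz)), congrArg Subtype.val h1.2⟩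

theorem mov (hi : i ∈ F) (h1 : i * i ≠ 1) (h2 : i * i * (i * i) = 1) :
    ∃ t ∈ F, t * (i * i) = i * i * t ∧ t * i * t⁻¹ * i⁻¹ ≠ 1 ∧ t * i * t⁻¹ * i⁻¹ ≠ i * i := by
  obtain ⟨t, e1, e2, e3⟩ := w.lf.mov ⟨i, hi⟩ (fun h => h1 (congrArg Subtype.val h)) (Subtype.ext h2)
  exact ⟨t, t.2, congrArg Subtype.val e1, fun h => e2 (Subtype.ext h), fun h => e3 (Subtype.ext h)⟩

theorem exists_conj (hz : z ∈ F) (hz1 : z ≠ 1) (hz2 : z * z = 1) (ha : a ∈ F) (ha1 : a ≠ 1) (ha2 : a * a = 1) :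
    ∃ g ∈ F, g * z * g⁻¹ = a := by
  obtain ⟨g, hg⟩ := w.lf.conj ⟨z, hz⟩ ⟨a, ha⟩ (fun h => hz1 (congrArg Subtype.val h)) (Subtype.ext hz2)
    (fun h => ha1 (congrArg Subtype.val h)) (Subtype.ext ha2)
  exact ⟨g, g.2, congrArg Subtype.val hg⟩

theorem sq (hz : z ∈ F) (hz1 : z ≠ 1) (hz2 : z * z = 1) (ha : a ∈ F) (haz : a * z = z * a) (hc : c ∈ F)
    (hcz : c * z = z * c) : a * a * c = c * (a * a) :=
  congrArg Subtype.val (w.lf.sq ⟨z, hz⟩ (fun h => hz1 (congrArg Subtype.val h)) (Subtype.ext hz2) ⟨a, ha⟩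
    (Subtype.ext haz) ⟨c, hc⟩ (Subtype.ext hcz))

theorem nc (hz : z ∈ F) (hz1 : z ≠ 1) (hz2 : z * z = 1) : ∃ a ∈ F, a ≠ 1 ∧ a * a = 1 ∧ a * z = z * a ∧
    (∀ b ∈ F, b * z = z * b → b * a = a * b → b * b = 1) ∧ ∃ t ∈ F, t * a = a * t ∧ t * z ≠ z * t := by
  obtain ⟨a, e1, e2, e3, e4, t, e5, e6⟩ := w.lf.nc ⟨z, hz⟩ (fun h => hz1 (congrArg Subtype.val h)) (Subtype.ext hz2)
  exact ⟨a, a.2, fun h => e1 (Subtype.ext h), congrArg Subtype.val e2, congrArg Subtype.val e3,
    fun b hb h1 h2 => congrArg Subtype.val (e4 ⟨b, hb⟩ (Subtype.ext h1) (Subtype.ext h2)),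
    t, t.2, congrArg Subtype.val e5, fun h => e6 (Subtype.ext h)⟩

/-! ### The members -/

/-- different members over the same involution commute -/
theorem comm (hK : K ∈ Om) (hL : L ∈ Om) (hz : zz K = zz L) (hne : K ≠ L) : ∀ a ∈ K, ∀ b ∈ L, a * b = b * a := by
  intro a ha b hb
  rcases w.hyp.h2 K hK L hL hz with h1 | h1
  · exact absurd h1 hne
  · have h2 : a * b * a⁻¹ * b⁻¹ ∈ OO K := (h1 (commutator_mem_commutator ha hb)).1
    rwa [OO_eq_bot_of_two (w.two K hK), mem_bot, mul_inv_eq_one, mul_inv_eq_iff_eq_mul] at h2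

theorem sq_eq (hK : K ∈ Om) (hy : y ∈ K) (hy4 : orderOf y = 4) : y * y = zz K := by
  have h1 : y ^ 4 = 1 := by rw [← hy4]; exact pow_orderOf_eq_one y
  refine w.hyp.eq_zz hK (K.mul_mem hy hy) ?_ ?_
  · rw [← h1]; simp only [pow_succ, pow_zero, one_mul, mul_assoc]
  · intro h2
    have h3 := orderOf_dvd_of_pow_eq_one (show y ^ 2 = 1 by rw [pow_two]; exact h2)
    rw [hy4] at h3
    omega

theorem norm (hK : K ∈ Om) (hL : L ∈ Om) (hy : y ∈ K) (hy4 : orderOf y = 4) (hc : y * zz L = zz L * y) :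
    y ∈ normalizer (L : Set G) :=
  w.hyp.norm_four (w.two K hK) hK hL hy hy (by omega) hc

/-- `K` has elements of order four, and every such element is inverted by another one -/
theorem exists_four (hK : K ∈ Om) : ∃ y ∈ K, orderOf y = 4 := by
  obtain ⟨c, v, n, hgq⟩ := w.hyp.exists_gq hK (syl_self (w.two K hK))
  exact ⟨v, hgq.v_mem, hgq.orderOf_v⟩

theorem exists_inv (hK : K ∈ Om) (hy : y ∈ K) (hy4 : orderOf y = 4) :
    ∃ x ∈ K, orderOf x = 4 ∧ x * y * x⁻¹ = y⁻¹ := by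
  obtain ⟨c, v, n, hgq⟩ := w.hyp.exists_gq hK (syl_self (w.two K hK))
  exact hgq.exists_inverting hy hy4

theorem inv_eq (hK : K ∈ Om) (hy : y ∈ K) (hy4 : orderOf y = 4) : y⁻¹ = zz K * y := by
  rw [inv_eq_iff_mul_eq_one, ← w.sq_eq hK hy hy4]
  have h1 : y ^ 4 = 1 := by rw [← hy4]; exact pow_orderOf_eq_one y
  rw [← h1]; simp only [pow_succ, pow_zero, one_mul, mul_assoc]

theorem zF (K : Subgroup G) (hK : K ∈ Om) : zz K ∈ F := by
  obtain ⟨y, hy, hy4⟩ := w.exists_four hK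
  obtain ⟨x, hx, hx4, hxy⟩ := w.exists_inv hK hy hy4
  have h1 : x * y * x⁻¹ * y⁻¹ = zz K := by
    rw [hxy, ← mul_inv_rev, w.sq_eq hK hy hy4, w.hyp.zz_inv hK]
  refine w.q4 _ ?_ ?_
  · rw [← h1]
    exact commutator_mem_commutator (mem_top x) (mem_top y)
  · have h2 := w.hyp.zz_mul hK
    calc zz K ^ 4 = (zz K * zz K) * (zz K * zz K) := by simp only [pow_succ, pow_zero, one_mul, mul_assoc]
      _ = 1 := by rw [h2, one_mul]

theorem z_comm (hK : K ∈ Om) (hy : y ∈ K) : y * zz K = zz K * y :=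
  mem_centralizer_singleton_iff.1 (w.hyp.le_centralizer hK hy)

/-- **no element of order four of a member is in `F`** -/
theorem case_one (hK : K ∈ Om) (hy : y ∈ K) (hyF : y ∈ F) (hy4 : orderOf y = 4) : False := by
  obtain ⟨z, hz⟩ : ∃ z, z = zz K := ⟨_, rfl⟩
  have hyy : y * y = z := by rw [hz]; exact w.sq_eq hK hy hy4
  have hzz : z * z = 1 := by rw [hz]; exact w.hyp.zz_mul hK
  have hz1 : z ≠ 1 := by rw [hz]; exact w.hyp.zz_ne hK
  have hzF : z ∈ F := by rw [hz]; exact w.zF K hK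
  have hyz : y * z = z * y := by rw [hz]; exact w.z_comm hK hy
  have hyi : y⁻¹ = z * y := by rw [hz]; exact w.inv_eq hK hy hy4
  obtain ⟨t, htF, htz, ht1, ht2⟩ := w.mov hyF (by rw [hyy]; exact hz1) (by rw [hyy]; exact hzz)
  rw [hyy] at htz ht2
  obtain ⟨c, hc⟩ : ∃ c, c = t * y * t⁻¹ * y⁻¹ := ⟨_, rfl⟩
  rw [← hc] at ht1 ht2
  have hcy : t * y * t⁻¹ = c * y := by rw [hc]; group
  obtain ⟨hcc, hc2⟩ := w.cen hzF hz1 hzz htF hyF htz hyz
  rw [← hc] at hcc hc2
  -- `K^t ≠ K`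
  have hKt : cj t K ∈ Om := w.hyp.conj K hK t
  have hzt : zz K = zz (cj t K) := by
    rw [w.hyp.zz_cj hK, ← hz, htz, mul_inv_cancel_right]
  have hne : K ≠ cj t K := by
    intro h1
    have h2 : c ∈ K := by
      rw [hc]
      refine K.mul_mem ?_ (K.inv_mem hy)
      rw [h1]
      exact conj_mem_cj hy
    exact ht2 ((w.hyp.eq_zz hK h2 hc2 ht1).trans hz.symm)
  have hcomm := w.comm hK hKt hzt hne
  -- elements inverting `y`
  have hinv : ∀ k ∈ K, k * y * k⁻¹ = y⁻¹ → k * c * k⁻¹ = c * z := by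
    intro k hk hky
    have h1 : k * (c * y) = c * y * k := by
      rw [← hcy]
      exact hcomm k hk _ (conj_mem_cj hy)
    have h2 : k * c * k⁻¹ * (k * y * k⁻¹) = c * y := by
      calc k * c * k⁻¹ * (k * y * k⁻¹) = k * (c * y) * k⁻¹ := by group
        _ = c * y := by rw [h1, mul_inv_cancel_right]
    rw [hky] at h2
    calc k * c * k⁻¹ = k * c * k⁻¹ * y⁻¹ * y := by group
      _ = c * y * y := by rw [h2]
      _ = c * z := by rw [mul_assoc, hyy]
  obtain ⟨x, hx, hx4, hxy⟩ := w.exists_inv hK hy hy4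
  have hxx : x * x = z := by rw [hz]; exact w.sq_eq hK hx hx4
  have hxz : x * z = z * x := by rw [hz]; exact w.z_comm hK hx
  have hxc := hinv x hx hxy
  -- the involution `a`
  obtain ⟨a, ha⟩ : ∃ a, a = x⁻¹ * (t * x * t⁻¹) := ⟨_, rfl⟩
  have hxt := hcomm x hx _ (conj_mem_cj (g := t) hx)
  have hax : a * x = x * a := by
    rw [ha]
    calc x⁻¹ * (t * x * t⁻¹) * x = x⁻¹ * (t * x * t⁻¹ * x) := by group
      _ = x⁻¹ * (x * (t * x * t⁻¹)) := by rw [hxt]
      _ = x * (x⁻¹ * (t * x * t⁻¹)) := by group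
  have haF : a ∈ F := by
    have h1 := F.mul_mem (w.nor.conj_mem t htF x⁻¹) (F.inv_mem htF)
    have h2 : x⁻¹ * t * x⁻¹⁻¹ * t⁻¹ = a := by rw [ha]; group
    rwa [h2] at h1
  have ha2 : a * a = 1 := by
    have h1 : x⁻¹ * (t * x * t⁻¹) = t * x * t⁻¹ * x⁻¹ := by
      rw [eq_mul_inv_iff_mul_eq, mul_assoc, ← hxt, inv_mul_cancel_left]
    calc a * a = x⁻¹ * (t * x * t⁻¹) * (x⁻¹ * (t * x * t⁻¹)) := by rw [ha]
      _ = x⁻¹ * (t * x * t⁻¹) * (t * x * t⁻¹ * x⁻¹) := by rw [h1]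
      _ = x⁻¹ * (t * (x * x) * t⁻¹) * x⁻¹ := by group
      _ = x⁻¹ * z * x⁻¹ := by rw [hxx, htz, mul_inv_cancel_right]
      _ = 1 := by
        rw [← hxx]; group
  have haz : a * z = z * a := by
    have h1 : t⁻¹ * z = z * t⁻¹ := by
      rw [inv_mul_eq_iff_eq_mul, ← mul_assoc, htz, mul_inv_cancel_right]
    have h2 : x⁻¹ * z = z * x⁻¹ := by
      rw [inv_mul_eq_iff_eq_mul, ← mul_assoc, hxz, mul_inv_cancel_right]
    rw [ha]
    calc x⁻¹ * (t * x * t⁻¹) * z = x⁻¹ * t * x * (t⁻¹ * z) := by group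
      _ = x⁻¹ * t * (x * z) * t⁻¹ := by rw [h1]; group
      _ = x⁻¹ * (t * z) * x * t⁻¹ := by rw [hxz]; group
      _ = x⁻¹ * z * (t * x * t⁻¹) := by rw [htz]; group
      _ = z * (x⁻¹ * (t * x * t⁻¹)) := by rw [h2]; group
  -- `a` is not central in `C(z)`
  have hd : a * (t * y * t⁻¹) ≠ t * y * t⁻¹ * a := by
    intro h1
    have e1 : x⁻¹ * t * x = a * t := by rw [ha]; group
    have e2 : x⁻¹ * y * x = y⁻¹ := by
      have h3 : x * y⁻¹ * x⁻¹ = y := by
        have h4 := congrArg (·⁻¹) hxy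
        simpa [mul_assoc] using h4
      calc x⁻¹ * y * x = x⁻¹ * (x * y⁻¹ * x⁻¹) * x := by rw [h3]
        _ = y⁻¹ := by group
    have e3 : x⁻¹ * c * x = c := by
      calc x⁻¹ * c * x = (x⁻¹ * t * x) * (x⁻¹ * y * x) * (x⁻¹ * t * x)⁻¹ * (x⁻¹ * y * x)⁻¹ := by rw [hc]; group
        _ = (a * t) * y⁻¹ * (a * t)⁻¹ * y := by rw [e1, e2, inv_inv]
        _ = (a * (t * y * t⁻¹) * a⁻¹)⁻¹ * y := by group
        _ = (t * y * t⁻¹)⁻¹ * y := by rw [h1, mul_inv_cancel_right]
        _ = (t * y⁻¹ * t⁻¹) * y := by group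
        _ = (t * (z * y) * t⁻¹) * (z * y)⁻¹ := by rw [hyi, ← hyi, inv_inv, hyi]
        _ = (t * z) * y * t⁻¹ * y⁻¹ * z⁻¹ := by group
        _ = z * (t * y * t⁻¹ * y⁻¹) * z⁻¹ := by rw [htz]; group
        _ = z * c * z⁻¹ := by rw [hc]
        _ = c := by rw [← hcc z hzF rfl, mul_inv_cancel_right]
    have e4 : x * c * x⁻¹ = c := by
      calc x * c * x⁻¹ = x * (x⁻¹ * c * x) * x⁻¹ := by rw [e3]
        _ = c := by group
    rw [hxc] at e4
    exact hz1 (mul_eq_left.1 e4)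
  have ha1 : a ≠ 1 := by
    rintro rfl
    exact hd (by rw [one_mul, mul_one])
  -- the member over `a`
  obtain ⟨g, hgF, hg⟩ := w.exists_conj hzF hz1 hzz haF ha1 ha2
  have hKa : cj g K ∈ Om := w.hyp.conj K hK g
  have hza : zz (cj g K) = a := by rw [w.hyp.zz_cj hK, ← hz, hg]
  have hxN := w.norm hK hKa hx hx4 (by rw [hza, hax])
  have hyaF : g * y * g⁻¹ ∈ F := w.nor.conj_mem y hyF g
  have hyaa : g * y * g⁻¹ * (g * y * g⁻¹) = a := by
    calc g * y * g⁻¹ * (g * y * g⁻¹) = g * (y * y) * g⁻¹ := by group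
      _ = a := by rw [hyy, hg]
  obtain ⟨v, hv⟩ : ∃ v, v = x * (g * y * g⁻¹) * x⁻¹ := ⟨_, rfl⟩
  have hvK : v ∈ cj g K := by
    rw [hv]
    exact (mem_normalizer_iff.1 hxN _).1 (conj_mem_cj hy)
  have hvF : v ∈ F := by rw [hv]; exact w.nor.conj_mem _ hyaF x
  have hvv : v * v = a := by
    calc v * v = x * (g * y * g⁻¹ * (g * y * g⁻¹)) * x⁻¹ := by rw [hv]; group
      _ = a := by rw [hyaa, ← hax, mul_inv_cancel_right]
  obtain ⟨v', hv'⟩ : ∃ v', v' = g⁻¹ * v * g := ⟨_, rfl⟩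
  have hv'K : v' ∈ K := by rw [hv']; exact mem_cj.1 hvK
  have hv'F : v' ∈ F := by
    rw [hv']
    have h1 := w.nor.conj_mem v hvF g⁻¹
    rwa [inv_inv] at h1
  have hv'v' : v' * v' = z := by
    calc v' * v' = g⁻¹ * (v * v) * g := by rw [hv']; group
      _ = g⁻¹ * (g * z * g⁻¹) * g := by rw [hvv, hg]
      _ = z := by group
  have hv'z : v' * z = z * v' := by rw [hz]; exact w.z_comm hK hv'K
  have hvy : v' = y ∨ v' = y⁻¹ := by
    obtain ⟨-, h2⟩ := w.cen hzF hz1 hzz hv'F hyF hv'z hyz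
    have hmem : v' * y * v'⁻¹ * y⁻¹ ∈ K :=
      K.mul_mem (K.mul_mem (K.mul_mem hv'K hy) (K.inv_mem hv'K)) (K.inv_mem hy)
    have h3 : v' * y * v'⁻¹ * y⁻¹ = 1 := by
      by_contra h4
      have h5 := w.hyp.eq_zz hK hmem h2 h4
      rw [← hz] at h5
      have h6 : v' * y * v'⁻¹ = y⁻¹ := by
        rw [hyi, ← h5]; group
      have h7 := hinv v' hv'K h6
      have h8 := hcc v' hv'F hv'z
      rw [← h8, mul_inv_cancel_right] at h7
      exact hz1 (mul_eq_left.1 h7.symm)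
    have h4 : v' * y = y * v' := by
      rwa [mul_inv_eq_one, mul_inv_eq_iff_eq_mul] at h3
    by_cases h5 : v' * y⁻¹ = 1
    · left
      rwa [mul_inv_eq_one] at h5
    · right
      have h6 : v' * y⁻¹ * (v' * y⁻¹) = 1 := by
        calc v' * y⁻¹ * (v' * y⁻¹) = v' * (y⁻¹ * (v' * y) * y⁻¹) * y⁻¹ := by group
          _ = v' * (y⁻¹ * (y * v') * y⁻¹) * y⁻¹ := by rw [h4]
          _ = (v' * v') * (y * y)⁻¹ := by group
          _ = 1 := by rw [hv'v', hyy, mul_inv_cancel]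
      have h7 := w.hyp.eq_zz hK (K.mul_mem hv'K (K.inv_mem hy)) h6 h5
      rw [← hz, mul_inv_eq_iff_eq_mul] at h7
      rw [h7, hyi]
  -- `x ya x⁻¹ = ya^{±1}`
  have hback : v = g * v' * g⁻¹ := by rw [hv']; group
  have hzya : g * y * g⁻¹ * z = z * (g * y * g⁻¹) := by
    have h1 : x * (g * y * g⁻¹) * x⁻¹ = g * y * g⁻¹ ∨ x * (g * y * g⁻¹) * x⁻¹ = (g * y * g⁻¹)⁻¹ := by
      rw [← hv, hback]
      rcases hvy with h2 | h2
      · left; rw [h2]
      · right; rw [h2]; group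
    have h2 : x * (x * (g * y * g⁻¹) * x⁻¹) * x⁻¹ = g * y * g⁻¹ := by
      rcases h1 with h3 | h3
      · rw [h3, h3]
      · rw [h3]
        have h4 : x * (g * y * g⁻¹)⁻¹ * x⁻¹ = (x * (g * y * g⁻¹) * x⁻¹)⁻¹ := by group
        rw [h4, h3, inv_inv]
    have h3 : z * (g * y * g⁻¹) * z⁻¹ = g * y * g⁻¹ := by
      calc z * (g * y * g⁻¹) * z⁻¹ = x * (x * (g * y * g⁻¹) * x⁻¹) * x⁻¹ := by rw [← hxx]; group
        _ = g * y * g⁻¹ := h2
    exact (mul_inv_eq_iff_eq_mul.1 h3).symm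
  have h1 := w.sq hzF hz1 hzz hyaF hzya (w.nor.conj_mem y hyF t) (by
    have h3 : t⁻¹ * z = z * t⁻¹ := by
      rw [inv_mul_eq_iff_eq_mul, ← mul_assoc, htz, mul_inv_cancel_right]
    calc t * y * t⁻¹ * z = t * y * (t⁻¹ * z) := by group
      _ = t * (y * z) * t⁻¹ := by rw [h3]; group
      _ = t * z * y * t⁻¹ := by rw [hyz]; group
      _ = z * (t * y * t⁻¹) := by rw [htz]; group)
  rw [hyaa] at h1
  exact hd h1

/-! ### The case `K ∩ F = ⟨z⟩` -/

/-- 2-elements of `K` in a subgroup without elements of order four -/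
theorem eq_of (hK : K ∈ Om) (hl : l ∈ K) (P : G → Prop) (hP : ∀ n : ℕ, P (l ^ n)) (h4 : ∀ y ∈ K, P y → orderOf y ≠ 4) :
    l = 1 ∨ l = zz K := by
  by_cases h1 : l = 1
  · exact Or.inl h1
  right
  refine w.hyp.eq_zz hK hl ?_ h1
  obtain ⟨m, hm⟩ := (IsPGroup.iff_orderOf.1 (w.two K hK)) ⟨l, hl⟩
  rw [Subgroup.orderOf_mk] at hm
  rcases lt_or_ge m 2 with h2 | h2
  · interval_cases m
    · rw [pow_zero, orderOf_eq_one_iff] at hm
      exact absurd hm h1
    · rw [← pow_two, ← pow_one 2, ← hm]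
      exact pow_orderOf_eq_one l
  · exfalso
    refine h4 (l ^ 2 ^ (m - 2)) (K.pow_mem hl _) (hP _) ?_
    rw [orderOf_pow_of_dvd (by positivity) (by rw [hm]; exact pow_dvd_pow 2 (by omega)), hm,
      Nat.pow_div (by omega) (by norm_num)]
    have h5 : m - (m - 2) = 2 := by omega
    rw [h5]

theorem eq_of_comm (hK : K ∈ Om) (hl : l ∈ K) (hc : l ∈ commutator G) : l = 1 ∨ l = zz K := by
  refine w.eq_of hK hl (fun y => y ∈ commutator G) (fun n => pow_mem hc n) ?_
  intro y hy hyc hy4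
  refine w.case_one hK hy (w.q4 y hyc ?_) hy4
  rw [← hy4]
  exact pow_orderOf_eq_one y

/-- `[g, l] ∈ {1, z}` for `g ∈ N(K)` -/
theorem conj_or (hK : K ∈ Om) (hg : g ∈ normalizer (K : Set G)) (hl : l ∈ K) : g * l = l * g ∨ g * l = zz K * l * g := by
  have h1 : g * l * g⁻¹ * l⁻¹ ∈ K := K.mul_mem ((mem_normalizer_iff.1 hg l).1 hl) (K.inv_mem hl)
  rcases w.eq_of_comm hK h1 (commutator_mem_commutator (mem_top g) (mem_top l)) with h2 | h2
  · left
    rwa [mul_inv_eq_one, mul_inv_eq_iff_eq_mul] at h2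
  · right
    rw [← h2]; group

/-- an involution `a ≠ z` of `F` commuting with an element of order four of `K` centralises `K` -/
theorem cent_of (hK : K ∈ Om) (haF : a ∈ F) (ha1 : a ≠ 1) (ha2 : a * a = 1) (hi : i ∈ K)
    (hi4 : orderOf i = 4) (hai : a * i = i * a) : ∀ j ∈ K, a * j = j * a := by
  obtain ⟨g, hgF, hg⟩ := w.exists_conj (w.zF K hK) (w.hyp.zz_ne hK) (w.hyp.zz_mul hK) haF ha1 ha2
  have hKa : cj g K ∈ Om := w.hyp.conj K hK g
  have hza : zz (cj g K) = a := by rw [w.hyp.zz_cj hK, hg]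
  have hiN := w.norm hK hKa hi hi4 (by rw [hza, hai])
  have hii := w.sq_eq hK hi hi4
  -- `K_a` centralises `z = i²`
  have hz : ∀ l ∈ cj g K, l * zz K = zz K * l := by
    intro l hl
    have h1 : i * (i * l * i⁻¹) * i⁻¹ = l := by
      rcases w.conj_or hKa hiN hl with h2 | h2
      · rw [h2, mul_inv_cancel_right, h2, mul_inv_cancel_right]
      · rw [hza] at h2
        have h3 : i * l * i⁻¹ = a * l := by rw [h2, mul_inv_cancel_right]
        rw [h3]
        calc i * (a * l) * i⁻¹ = a * (i * l * i⁻¹) := by rw [← mul_assoc, ← hai]; group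
          _ = l := by rw [h3, ← mul_assoc, ha2, one_mul]
    have h4 : zz K * l * (zz K)⁻¹ = l := by
      calc zz K * l * (zz K)⁻¹ = i * (i * l * i⁻¹) * i⁻¹ := by rw [← hii]; group
        _ = l := h1
    exact (mul_inv_eq_iff_eq_mul.1 h4).symm
  obtain ⟨l, hl, hl4⟩ := w.exists_four hKa
  have hll : l * l = a := by rw [w.sq_eq hKa hl hl4, hza]
  have hlN := w.norm hKa hK hl hl4 (hz l hl)
  intro j hj
  have h1 : l * (l * j * l⁻¹) * l⁻¹ = j := by
    rcases w.conj_or hK hlN hj with h2 | h2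
    · rw [h2, mul_inv_cancel_right, h2, mul_inv_cancel_right]
    · have h3 : l * j * l⁻¹ = zz K * j := by rw [h2, mul_inv_cancel_right]
      rw [h3]
      calc l * (zz K * j) * l⁻¹ = zz K * (l * j * l⁻¹) := by rw [← mul_assoc, hz l hl]; group
        _ = j := by rw [h3, ← mul_assoc, w.hyp.zz_mul hK, one_mul]
  have h4 : a * j * a⁻¹ = j := by
    calc a * j * a⁻¹ = l * (l * j * l⁻¹) * l⁻¹ := by rw [← hll]; group
      _ = j := h1
  exact mul_inv_eq_iff_eq_mul.1 h4

/-- `C_F(z)` normalises `K` -/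
theorem norm_of (hK : K ∈ Om) (htF : t ∈ F) (htz : t * zz K = zz K * t) : t ∈ normalizer (K : Set G) := by
  rw [mem_normalizer_iff_cj]
  by_contra hne
  have hKt : cj t K ∈ Om := w.hyp.conj K hK t
  have hzt : zz K = zz (cj t K) := by
    rw [w.hyp.zz_cj hK, htz, mul_inv_cancel_right]
  have hcomm := w.comm hK hKt hzt (Ne.symm hne)
  obtain ⟨i, hi, hi4⟩ := w.exists_four hK
  have hii := w.sq_eq hK hi hi4
  have hit := hcomm i hi _ (conj_mem_cj (g := t) hi)
  obtain ⟨x, hx, hx4, hxi⟩ := w.exists_inv hK hi hi4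
  have hxn : x * i ≠ i * x := by
    intro h1
    rw [h1, mul_inv_cancel_right] at hxi
    have h2 : i * i = 1 := by
      nth_rw 2 [hxi]
      rw [mul_inv_cancel]
    rw [hii] at h2
    exact w.hyp.zz_ne hK h2
  -- `i^t ∉ K`
  have hnot : t * i * t⁻¹ ∉ K := by
    intro h1
    obtain ⟨x', hx', -, hxi'⟩ := w.exists_inv hK h1 (by
      have : orderOf (t * i * t⁻¹) = orderOf i := MulEquiv.orderOf_eq (MulAut.conj t) i
      rw [this, hi4])
    have h2 := hcomm x' hx' _ (conj_mem_cj (g := t) hi)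
    rw [h2, mul_inv_cancel_right] at hxi'
    have h3 : t * i * t⁻¹ * (t * i * t⁻¹) = 1 := by
      nth_rw 2 [hxi']
      rw [mul_inv_cancel]
    have h4 : t * (i * i) * t⁻¹ = 1 := by
      rw [← h3]; group
    rw [hii, htz, mul_inv_cancel_right] at h4
    exact w.hyp.zz_ne hK h4
  obtain ⟨a, ha⟩ : ∃ a, a = i⁻¹ * (t * i * t⁻¹) := ⟨_, rfl⟩
  have hat : i * a = t * i * t⁻¹ := by rw [ha]; group
  have haF : a ∈ F := by
    have h1 := F.mul_mem (w.nor.conj_mem t htF i⁻¹) (F.inv_mem htF)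
    have h2 : i⁻¹ * t * i⁻¹⁻¹ * t⁻¹ = a := by rw [ha]; group
    rwa [h2] at h1
  have ha1 : a ≠ 1 := by
    intro h1
    apply hnot
    rw [← hat, h1, mul_one]
    exact hi
  have hai : a * i = i * a := by
    rw [ha]
    calc i⁻¹ * (t * i * t⁻¹) * i = i⁻¹ * (t * i * t⁻¹ * i) := by group
      _ = i⁻¹ * (i * (t * i * t⁻¹)) := by rw [hit]
      _ = i * (i⁻¹ * (t * i * t⁻¹)) := by group
  have ha2 : a * a = 1 := by
    have h1 : i⁻¹ * (t * i * t⁻¹) = t * i * t⁻¹ * i⁻¹ := by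
      rw [eq_mul_inv_iff_mul_eq, mul_assoc, ← hit, inv_mul_cancel_left]
    calc a * a = i⁻¹ * (t * i * t⁻¹) * (i⁻¹ * (t * i * t⁻¹)) := by rw [ha]
      _ = i⁻¹ * (t * i * t⁻¹) * (t * i * t⁻¹ * i⁻¹) := by rw [h1]
      _ = i⁻¹ * (t * (i * i) * t⁻¹) * i⁻¹ := by group
      _ = i⁻¹ * zz K * i⁻¹ := by rw [hii, htz, mul_inv_cancel_right]
      _ = 1 := by rw [← hii]; group
  have h1 := w.cent_of hK haF ha1 ha2 hi hi4 hai x hx
  have h2 := hcomm x hx _ (conj_mem_cj (g := t) hi)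
  apply hxn
  have h3 : i = t * i * t⁻¹ * a⁻¹ := by rw [← hat, mul_inv_cancel_right]
  have h4 : x * a⁻¹ = a⁻¹ * x := by
    rw [eq_inv_mul_iff_mul_eq, ← mul_assoc, h1, mul_inv_cancel_right]
  calc x * i = x * (t * i * t⁻¹) * a⁻¹ := by conv_lhs => rw [h3, ← mul_assoc]
    _ = t * i * t⁻¹ * (x * a⁻¹) := by rw [h2, mul_assoc]
    _ = t * i * t⁻¹ * a⁻¹ * x := by rw [h4]; group
    _ = i * x := by rw [← h3]

/-- the involutions of `C_F(z)` centralise `K` -/
theorem cent_inv (hK : K ∈ Om) (hb : b ∈ F) (hbz : b * zz K = zz K * b) (hb2 : b * b = 1) : ∀ k ∈ K, b * k = k * b := by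
  by_cases h1 : b = 1
  · intro k _
    rw [h1, one_mul, mul_one]
  have hbN := w.norm_of hK hb hbz
  obtain ⟨c, v, n, hgq⟩ := w.hyp.exists_gq hK (syl_self (w.two K hK))
  obtain ⟨q₁, hq₁, q₂, hq₂, h41, h42, h43, -⟩ := hgq.exists_pair
  rcases w.conj_or hK hbN hq₁ with e1 | e1
  · exact w.cent_of hK hb h1 hb2 hq₁ h41 e1
  rcases w.conj_or hK hbN hq₂ with e2 | e2
  · exact w.cent_of hK hb h1 hb2 hq₂ h42 e2
  refine w.cent_of hK hb h1 hb2 (K.mul_mem hq₁ hq₂) h43 ?_
  have hz1 := w.z_comm hK hq₁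
  calc b * (q₁ * q₂) = b * q₁ * q₂ := by rw [mul_assoc]
    _ = zz K * q₁ * (b * q₂) := by rw [e1]; group
    _ = zz K * (q₁ * zz K) * q₂ * b := by rw [e2]; group
    _ = (zz K * zz K) * q₁ * q₂ * b := by rw [hz1]; group
    _ = q₁ * q₂ * b := by rw [w.hyp.zz_mul hK, one_mul]

/-- **no members** -/
theorem false_of (hK : K ∈ Om) : False := by
  have hzF := w.zF K hK
  have hz1 := w.hyp.zz_ne hK
  have hzz := w.hyp.zz_mul hK
  obtain ⟨a, haF, ha1, ha2, haz, hel, t, htF, hta, htz⟩ := w.nc hzF hz1 hzz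
  obtain ⟨k, hk, hk4⟩ := w.exists_four hK
  have hkk := w.sq_eq hK hk hk4
  have hkz := w.z_comm hK hk
  have hak := w.cent_inv hK haF haz ha2 k hk
  obtain ⟨hd1, hd2⟩ := w.cen haF ha1 ha2 htF hzF hta haz.symm
  obtain ⟨d, hd⟩ : ∃ d, d = t * zz K * t⁻¹ * (zz K)⁻¹ := ⟨_, rfl⟩
  rw [← hd] at hd1 hd2
  have hdF : d ∈ F := by
    rw [hd]
    exact F.mul_mem (F.mul_mem (F.mul_mem htF hzF) (F.inv_mem htF)) (F.inv_mem hzF)
  have hdz : d * zz K = zz K * d := hd1 _ hzF haz.symm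
  have hdk := w.cent_inv hK hdF hdz hd2 k hk
  have htzd : t * zz K * t⁻¹ = d * zz K := by rw [hd]; group
  obtain ⟨u, hu⟩ : ∃ u, u = t⁻¹ * (k * t * k⁻¹) := ⟨_, rfl⟩
  have huF : u ∈ F := by
    rw [hu]
    exact F.mul_mem (F.inv_mem htF) (w.nor.conj_mem t htF k)
  have hktk : k * t * k⁻¹ = t * u := by rw [hu]; group
  have hta' : t⁻¹ * a = a * t⁻¹ := by
    rw [inv_mul_eq_iff_eq_mul, ← mul_assoc, hta, mul_inv_cancel_right]
  have hka' : k⁻¹ * a = a * k⁻¹ := by
    rw [inv_mul_eq_iff_eq_mul, ← mul_assoc, ← hak, mul_inv_cancel_right]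
  have hua : u * a = a * u := by
    rw [hu]
    calc t⁻¹ * (k * t * k⁻¹) * a = t⁻¹ * (k * t * (k⁻¹ * a)) := by group
      _ = t⁻¹ * (k * (t * a) * k⁻¹) := by rw [hka']; group
      _ = t⁻¹ * (k * a * t * k⁻¹) := by rw [hta]; group
      _ = t⁻¹ * a * (k * t * k⁻¹) := by rw [← hak]; group
      _ = a * (t⁻¹ * (k * t * k⁻¹)) := by rw [hta']; group
  have huz : u * zz K = zz K * u := by
    have h1 : k * t * k⁻¹ * zz K * (k * t * k⁻¹)⁻¹ = t * zz K * t⁻¹ := by
      have h2 : k⁻¹ * zz K = zz K * k⁻¹ := by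
        rw [inv_mul_eq_iff_eq_mul, ← mul_assoc, hkz, mul_inv_cancel_right]
      calc k * t * k⁻¹ * zz K * (k * t * k⁻¹)⁻¹ = k * t * (k⁻¹ * zz K) * k * t⁻¹ * k⁻¹ := by group
        _ = k * (t * zz K * t⁻¹) * k⁻¹ := by rw [h2]; group
        _ = (k * d) * zz K * k⁻¹ := by rw [htzd]; group
        _ = d * (k * zz K) * k⁻¹ := by rw [← hdk]; group
        _ = d * zz K := by rw [hkz]; group
        _ = t * zz K * t⁻¹ := htzd.symm
    rw [hktk] at h1
    have h3 : u * zz K * u⁻¹ = zz K := by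
      calc u * zz K * u⁻¹ = t⁻¹ * (t * u * zz K * (t * u)⁻¹) * t := by group
        _ = t⁻¹ * (t * zz K * t⁻¹) * t := by rw [h1]
        _ = zz K := by group
    exact mul_inv_eq_iff_eq_mul.1 h3
  have hu2 := hel u huF huz hua
  have huk := w.cent_inv hK huF huz hu2 k hk
  apply htz
  have h1 : k * (k * t * k⁻¹) * k⁻¹ = t := by
    rw [hktk]
    calc k * (t * u) * k⁻¹ = (k * t * k⁻¹) * (k * u) * k⁻¹ := by group
      _ = t * u * u := by rw [hktk, ← huk]; group
      _ = t := by rw [mul_assoc, hu2, mul_one]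
  have h2 : zz K * t * (zz K)⁻¹ = t := by
    calc zz K * t * (zz K)⁻¹ = k * (k * t * k⁻¹) * k⁻¹ := by rw [← hkk]; group
      _ = t := h1
  exact (mul_inv_eq_iff_eq_mul.1 h2).symm

end

end WF

/-! ### `PSL(3,4)` -/

theorem LF.congr {X Y : Type*} [Group X] [Group Y] (e : X ≃* Y) (h : LF X) : LF Y where
  toHeis := h.toHeis.congr e
  conj := by
    intro z w hz1 hz2 hw1 hw2
    have key : ∀ a : Y, a ≠ 1 → a * a = 1 → e.symm a ≠ 1 ∧ e.symm a * e.symm a = 1 := fun a h1 h2 =>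
      ⟨fun h3 => h1 (e.symm.injective (h3.trans (map_one _).symm)), by rw [← map_mul, h2, map_one]⟩
    obtain ⟨g, hg⟩ := h.conj _ _ (key z hz1 hz2).1 (key z hz1 hz2).2 (key w hw1 hw2).1 (key w hw1 hw2).2
    refine ⟨e g, e.symm.injective ?_⟩
    simpa using hg
  sq := by
    intro z hz1 hz2 a ha c hc
    have h1 := h.sq (e.symm z) (fun h3 => hz1 (e.symm.injective (h3.trans (map_one _).symm)))
      (by rw [← map_mul, hz2, map_one]) (e.symm a) (by rw [← map_mul, ha, map_mul]) (e.symm c)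
      (by rw [← map_mul, hc, map_mul])
    apply e.symm.injective
    simpa using h1
  nc := by
    intro z hz1 hz2
    obtain ⟨a, e1, e2, e3, e4, t, e5, e6⟩ := h.nc (e.symm z) (fun h3 => hz1 (e.symm.injective (h3.trans (map_one _).symm)))
      (by rw [← map_mul, hz2, map_one])
    refine ⟨e a, fun h1 => e1 (e.injective (h1.trans (map_one e).symm)), by rw [← map_mul, e2, map_one], ?_, ?_, e t,
      by rw [← map_mul, e5, map_mul], ?_⟩
    · apply e.symm.injective
      simpa using e3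
    · intro b hb1 hb2
      apply e.symm.injective
      rw [map_mul, map_one]
      refine e4 _ ?_ ?_
      · rw [← map_mul, hb1, map_mul]
      · apply e.injective
        simpa using hb2
    · intro h1
      apply e6
      have h2 := congrArg e.symm h1
      simpa using h2

section psl

open Cfsg.Agent.SporadicA.FieldFour Cfsg.Agent.ONType.Psl Cfsg.Agent.StdL34.PslCent Cfsg.Agent.StdLThreeFour.Base
open Cfsg.Agent.StdLThreeFour.Facts1

theorem lf_PSL3 : LF L0 where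
  toHeis := heis_PSL3
  conj := by
    intro x y hx hx2 hy hy2
    obtain ⟨l, hl⟩ := inv_conj hx hx2
    obtain ⟨m, hm⟩ := inv_conj hy hy2
    refine ⟨m⁻¹ * l, ?_⟩
    calc m⁻¹ * l * x * (m⁻¹ * l)⁻¹ = m⁻¹ * (l * x * l⁻¹) * m := by group
      _ = m⁻¹ * (m * y * m⁻¹) * m := by rw [hl, hm]
      _ = y := by group
  sq := by
    intro z hz1 hz2 a ha c hc
    obtain ⟨l, hl⟩ := inv_conj hz1 hz2
    have key : ∀ x, x * z = z * x → ∃ x1 x2 x3, l * x * l⁻¹ = e x1 x2 x3 := by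
      intro x hx
      apply (cent_t02 _).1
      rw [← hl]
      calc l * x * l⁻¹ * (l * z * l⁻¹) = l * (x * z) * l⁻¹ := by group
        _ = l * (z * x) * l⁻¹ := by rw [hx]
        _ = l * z * l⁻¹ * (l * x * l⁻¹) := by group
    obtain ⟨a1, a2, a3, hae⟩ := key a ha
    obtain ⟨c1, c2, c3, hce⟩ := key c hc
    have h2 : l * (a * a * c) * l⁻¹ = l * (c * (a * a)) * l⁻¹ := by
      calc l * (a * a * c) * l⁻¹ = (l * a * l⁻¹) * (l * a * l⁻¹) * (l * c * l⁻¹) := by group
        _ = (l * c * l⁻¹) * ((l * a * l⁻¹) * (l * a * l⁻¹)) := by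
            rw [hae, hce, e_sq]
            refine (comm_iff _ _ _ _ _ _).2 ?_
            rw [mul_zero, zero_mul, add_zero]
        _ = l * (c * (a * a)) * l⁻¹ := by group
    exact mul_left_cancel (mul_right_cancel h2)
  nc := by
    intro z hz1 hz2
    obtain ⟨l, hl⟩ := inv_conj hz1 hz2
    have hz : z = l⁻¹ * t 0 2 1 * l := by rw [← hl]; group
    have conj_mul : ∀ x y : L0, l⁻¹ * x * l * (l⁻¹ * y * l) = l⁻¹ * (x * y) * l := fun x y => by group
    refine ⟨l⁻¹ * e 1 0 0 * l, ?_, ?_, ?_, ?_, l⁻¹ * t 2 1 1 * l, ?_, ?_⟩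
    · intro h1
      have h2 : e 1 0 0 = 1 := by
        calc e 1 0 0 = l * (l⁻¹ * e 1 0 0 * l) * l⁻¹ := by group
          _ = 1 := by rw [h1, mul_one, mul_inv_cancel]
      exact one_ne_zero (e_one h2).1
    · rw [conj_mul, e_sq, mul_zero, e_zero, mul_one, inv_mul_cancel]
    · rw [hz, conj_mul, conj_mul, ← e_02, (comm_iff 1 0 0 0 0 1).2 (by rw [zero_mul, mul_zero, add_zero])]
    · intro b hb1 hb2
      have h1 : l * b * l⁻¹ * t 0 2 1 = t 0 2 1 * (l * b * l⁻¹) := by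
        rw [← hl]
        calc l * b * l⁻¹ * (l * z * l⁻¹) = l * (b * z) * l⁻¹ := by group
          _ = l * (z * b) * l⁻¹ := by rw [hb1]
          _ = l * z * l⁻¹ * (l * b * l⁻¹) := by group
      obtain ⟨b1, b2, b3, hbe⟩ := (cent_t02 _).1 h1
      have hbe' : l * b * l⁻¹ = e b1 b2 b3 := hbe
      have h2 : e b1 b2 b3 * e 1 0 0 = e 1 0 0 * e b1 b2 b3 := by
        rw [← hbe']
        calc l * b * l⁻¹ * e 1 0 0 = l * (b * (l⁻¹ * e 1 0 0 * l)) * l⁻¹ := by group
          _ = l * (l⁻¹ * e 1 0 0 * l * b) * l⁻¹ := by rw [hb2]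
          _ = e 1 0 0 * (l * b * l⁻¹) := by group
      have h3 := (comm_iff _ _ _ _ _ _).1 h2
      rw [one_mul, mul_zero, add_zero] at h3
      have h4 : l * (b * b) * l⁻¹ = 1 := by
        calc l * (b * b) * l⁻¹ = (l * b * l⁻¹) * (l * b * l⁻¹) := by group
          _ = 1 := by rw [hbe', e_sq, h3, mul_zero, e_zero]
      calc b * b = l⁻¹ * (l * (b * b) * l⁻¹) * l := by group
        _ = 1 := by rw [h4, mul_one, inv_mul_cancel]
    · rw [conj_mul, conj_mul, e_01, t_col 2 1 0 1 1 (by decide) (by decide)]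
    · rw [hz, conj_mul, conj_mul]
      intro h1
      have h2 : t 2 1 1 * t 0 2 1 = t 0 2 1 * t 2 1 1 := mul_left_cancel (mul_right_cancel h1)
      rw [t_sum 0 1 2 1 1 (by decide) (by decide) (by decide), one_mul, ← e_01] at h2
      have h3 : e 1 0 0 = 1 := mul_eq_left.1 h2.symm
      exact one_ne_zero (e_one h3).1

theorem lf_psl {X : Type*} [Group X] {F : Type*} [Field F] [Fintype F] (hF : Fintype.card F = 4)
    (e : Nonempty (X ≃* Matrix.ProjectiveSpecialLinearGroup (Fin 3) F)) : LF X := by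
  obtain ⟨e⟩ := e
  obtain ⟨f⟩ := nonempty_psl_equiv (n := Fin 3) F hF
  exact lf_PSL3.congr (f.trans e.symm)

end psl

/-- **no members (2-groups of any order) if `F*(G) = L₃(4)`** -/
theorem lthree_false {G : Type*} [Group G] [Finite G] {Om : Set (Subgroup G)} (h : Hyp Om)
    (two : ∀ K ∈ Om, IsPGroup 2 K) {K : Subgroup G} (hK : K ∈ Om) (fs : AssemblyNil.FS G)
    (hL : ∃ (F : Type) (_ : Field F) (_ : Fintype F), Fintype.card F = 4 ∧
      Nonempty (↥(generalizedFittingSubgroup G) ≃* Matrix.ProjectiveSpecialLinearGroup (Fin 3) F)) : False := by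
  obtain ⟨F, i, j, hF, e⟩ := hL
  have w : WF Om (generalizedFittingSubgroup G) :=
    ⟨h, two, Lib.GenFitting.genFitting_normal (G := G), lf_psl hF e,
      fun q hq h4 => mem_fstar fs (Cfsg.Agent.StdL3.OuterFacts.facts_of_psl hF e).cube hq h4⟩
  exact w.false_of hK

end Cfsg.Agent.Cit.Nil.LO.LThreeQ
end
end
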