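import Cfsg.Agent.LFourB.RBStd_m3
import Cfsg.Agent.LFourB.FixQuat
import Cfsg.Agent.Cit.TyTrans_m3
import Cfsg.Agent.LFourB.RBSix_m3
import Cfsg.Agent.LieRecognition.FieldSemilinear
import Cfsg.Agent.OddHalf.NI3.Bad.OutPow
import Cfsg.Agent.Lib.PSL2Inv
import Cfsg.Agent.Cit.Nil.RG.TZero
import Cfsg.Agent.FastGrp
import Cfsg.Agent.Prune
set_option linter.all false

section
prune_inst 0x7ffcb9fbcff89fffdfff7e7faedcdffdfabddfffffdff9cbffe869efafdf230ac9c52b8d0be05afe0ee2629400b87813ff7eeeffea6fdc7ffffdfff45ffbee4fe5f7bd08519688340f340fff03f0778e7f3fffffffffffffffffffffffffffbeffffffffffff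

-- part: Cit/Nil/LO/Sl2
section
prune_inst 0x100003001200000000000510020000100200000000000000406101000481400200020841b0101401d0008104403c0008111001000200000000000000011801800000020090480108820006000080000000000000000000000000000000000000000000000
set_option linter.all false
open scoped Cfsg.Agent.FastGrp

/-!
# S1309, node (n1), piece (A): involutory automorphisms of `SL(2,F)`, `|F| > 3` odd

* `F1` : an involutory automorphism centralising a Sylow 2-subgroup is trivial;
* `sl_cases` : an involutory automorphism `α ≠ 1` of `SL(2,F)` fixes an element `≠ 1` of odd order, or is the inner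
  automorphism of an element `e` of order 4 with `C(e) = ⟨τ⟩` a cyclic 2-group inverted by some `j`, `j² = -1`,
  `α j = -j`;
* `F2` : the same for a subgroup `J ≃* SL(2,F)` of a group and `z ∈ N(J)`, `z²` centralising `J`.
-/

set_option autoImplicit false

namespace Cfsg.Agent.Cit.Nil.LO

open Matrix Cfsg.Agent.Lib.SL2Mat Cfsg.Agent.Lib.AutSL2 Cfsg.Agent.Lib.AutSL2Out
open Cfsg.Agent.Lib.PSL2Circle Cfsg.Agent.Lib.PSL2Inv Cfsg.Agent.Lib.PSL2Torus Cfsg.Agent.Lib.PSL2Outer
open Cfsg.Agent.LFourA.FieldInv Cfsg.Agent.LFourR.Mat2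

variable {F : Type*} [Field F] [Finite F]

omit [Finite F] in
theorem up_pow (n : ℕ) : (up (1 : F)) ^ n = up (n : F) := by
  induction n with
  | zero => rw [pow_zero, Nat.cast_zero, up_zero]
  | succ n ih => rw [pow_succ, ih, up_mul, Nat.cast_succ]

theorem orderOf_up (h2 : (2 : F) ≠ 0) : Odd (orderOf (up (1 : F))) ∧ up (1 : F) ≠ 1 := by
  obtain ⟨p, hp⟩ := CharP.exists F
  have hpp : p.Prime := (CharP.char_is_prime_or_zero F p).resolve_right (by
    rintro rfl
    have : CharZero F := CharP.charP_to_charZero F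
    exact not_finite F)
  have hp2 : p ≠ 2 := by
    rintro rfl
    exact h2 (by exact_mod_cast CharP.cast_eq_zero F 2)
  refine ⟨?_, fun h => ?_⟩
  · refine Odd.of_dvd_nat (hpp.odd_of_ne_two hp2) (orderOf_dvd_of_pow_eq_one ?_)
    rw [up_pow, CharP.cast_eq_zero, up_zero]
  · rw [← up_zero] at h
    exact one_ne_zero (up_inj h)

/-- An involutory automorphism of `SL(2,F)` fixing no element `≠ 1` of odd order is induced by `GL(2,F)`. -/
theorem exists_form (h2 : (2 : F) ≠ 0) {α : MulAut (Matrix.SpecialLinearGroup (Fin 2) F)}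
    (hα : ∀ x, α (α x) = x) (hno : ∀ x, Odd (orderOf x) → α x = x → x = 1) :
    ∃ g : GL (Fin 2) F, ∀ x, α x = conjGL g x := by
  obtain ⟨g, σ, hgσ'⟩ := exists_gl_ringEquiv (MonoidHom.id (Matrix.SpecialLinearGroup (Fin 2) F))
    Function.surjective_id (by
      intro x hx
      rw [MonoidHom.mem_ker] at hx
      rw [show x = 1 from hx]
      exact one_mem _) α
  have hgσ : ∀ x, α x = conjGL g (fieldAut σ x) := hgσ'
  have hsemi : ∀ (k : GL (Fin 2) F) (x), fieldAut σ (conjGL k x) =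
      conjGL (Matrix.GeneralLinearGroup.map σ.toRingHom k) (fieldAut σ x) := by
    intro k x
    have := DFunLike.congr_fun (fieldAut_mul_conjGL σ k) x
    rwa [MulAut.mul_apply, MulAut.mul_apply] at this
  have hsq : ∀ x, conjGL (g * Matrix.GeneralLinearGroup.map σ.toRingHom g) (fieldAut (σ * σ) x) = x ∨
      conjGL (g * Matrix.GeneralLinearGroup.map σ.toRingHom g) (fieldAut (σ * σ) x) = -x := by
    intro x
    left
    have h1 := hα x
    rw [hgσ, hgσ, hsemi] at h1
    have h5 : conjGL (g * Matrix.GeneralLinearGroup.map σ.toRingHom g) (fieldAut (σ * σ) x) =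
        conjGL g (conjGL (Matrix.GeneralLinearGroup.map σ.toRingHom g) (fieldAut σ (fieldAut σ x))) := by
      rw [map_mul, map_mul]; rfl
    rw [h5]
    exact h1
  obtain ⟨hσ, c, hc, hgc⟩ := eq_one_of_map h2 hsq
  have hσ2 : ∀ a, σ (σ a) = a := fun a => DFunLike.congr_fun hσ a
  by_cases hσ1 : σ = 1
  · subst hσ1
    exact ⟨g, fun x => by rw [hgσ, map_one, MulAut.one_apply]⟩
  exfalso
  have hσne : ∃ a, σ a ≠ a := by
    by_contra hcon
    push Not at hcon
    exact hσ1 (RingEquiv.ext hcon)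
  have hmap : (Matrix.GeneralLinearGroup.map σ.toRingHom g).1 = g.1.map σ := rfl
  have hgc' : g.1 * g.1.map σ = c • (1 : Matrix (Fin 2) (Fin 2) F) := by
    rw [← hmap, ← Units.val_mul, hgc]
  -- `c` is fixed by `σ`
  have hgc2 : g.1.map σ * g.1 = σ c • (1 : Matrix (Fin 2) (Fin 2) F) := by
    have h1 := congrArg (fun M : Matrix (Fin 2) (Fin 2) F => σ.toRingHom.mapMatrix M) hgc'
    simp only [map_mul] at h1
    have h3 : σ.toRingHom.mapMatrix (g.1.map σ) = g.1 := by
      ext i j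
      exact hσ2 _
    have h4 : σ.toRingHom.mapMatrix (c • (1 : Matrix (Fin 2) (Fin 2) F)) =
        σ c • (1 : Matrix (Fin 2) (Fin 2) F) := by
      ext i j
      change σ (c * (1 : Matrix (Fin 2) (Fin 2) F) i j) = σ c * (1 : Matrix (Fin 2) (Fin 2) F) i j
      rw [map_mul]
      congr 1
      by_cases hij : i = j
      · rw [hij, Matrix.one_apply_eq, map_one]
      · rw [Matrix.one_apply_ne hij, map_zero]
    rw [h3, h4] at h1
    exact h1
  have hcσ : σ c = c := by
    have h1 : g.1.map σ * (g.1 * g.1.map σ) = c • g.1.map σ := by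
      rw [hgc', Matrix.mul_smul, Matrix.mul_one]
    rw [← Matrix.mul_assoc, hgc2, Matrix.smul_mul, Matrix.one_mul] at h1
    by_contra hne
    have h3 : (σ c - c) • g.1.map σ = 0 := by rw [sub_smul, h1, sub_self]
    have h4 : g.1.map σ = 0 := (smul_eq_zero.1 h3).resolve_left (sub_ne_zero.2 hne)
    rw [h4, Matrix.mul_zero] at hgc'
    have := congrFun (congrFun hgc' 0) 0
    simp at this
    exact hc this.symm
  have hσid : σ.toRingHom ≠ RingHom.id F := by
    intro h
    obtain ⟨a, ha⟩ := hσne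
    exact ha (DFunLike.congr_fun h a)
  obtain ⟨μ, hμ⟩ := Cfsg.Agent.ClassicalGeometry.InvolutiveNorm.exists_mul_sigma_eq
    (σ := σ.toRingHom) hσid hσ2 (a := c⁻¹) (by
      change σ c⁻¹ = c⁻¹
      rw [map_inv₀, hcσ])
  have hμ' : μ * σ μ = c⁻¹ := hμ
  have hμ0 : μ ≠ 0 := by
    rintro rfl
    rw [zero_mul] at hμ'
    exact inv_ne_zero hc hμ'.symm
  have hA : (μ • g.1) * (μ • g.1).map σ = 1 := by
    have h1 : (μ • g.1).map σ = σ μ • g.1.map σ := by
      ext i j
      change σ (μ * g.1 i j) = σ μ * σ (g.1 i j)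
      rw [map_mul]
    rw [h1, Matrix.smul_mul, Matrix.mul_smul, hgc', smul_smul, smul_smul, hμ',
      inv_mul_cancel₀ hc, one_smul]
  obtain ⟨B, hBu, hB⟩ := hilbert σ hσ2 hσne (μ • g.1) hA
  obtain ⟨h, rfl⟩ := hBu
  have key : ∀ x, α (conjGL h x) = conjGL h (fieldAut σ x) := by
    intro x
    rw [hgσ, hsemi]
    have h1 : conjGL g (conjGL (Matrix.GeneralLinearGroup.map σ.toRingHom h) (fieldAut σ x)) =
        conjGL (g * Matrix.GeneralLinearGroup.map σ.toRingHom h) (fieldAut σ x) := by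
      rw [map_mul]; rfl
    rw [h1]
    apply conjGL_smul (c := μ⁻¹)
    have h3 : (Matrix.GeneralLinearGroup.map σ.toRingHom h).1 = h.1.map σ := rfl
    have h5 : μ⁻¹ • h.1 = μ⁻¹ • (μ • g.1 * h.1.map σ) := by rw [hB]
    rw [Units.val_mul, h3, h5, Matrix.smul_mul, smul_smul, inv_mul_cancel₀ hμ0, one_smul]
  have hfix : fieldAut σ (up (1 : F)) = up 1 := by rw [fieldAut_up, map_one]
  obtain ⟨ho, h1⟩ := orderOf_up (F := F) h2
  have h3 := hno (conjGL h (up 1)) (by rw [MulEquiv.orderOf_eq]; exact ho) (by rw [key, hfix])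
  exact h1 ((map_eq_one_iff _ (conjGL h).injective).1 h3)

/-- a finite group whose order is twice an odd number `> 1` has an element `≠ 1` of odd order -/
theorem exists_odd_elt {A : Type*} [Group A] [Finite A] {m : ℕ} (hA : Nat.card A = 2 * m) (hm : Odd m) (h1 : 1 < m) :
    ∃ c : A, c ≠ 1 ∧ Odd (orderOf c) := by
  obtain ⟨r, hr, hrm⟩ := Nat.exists_prime_and_dvd h1.ne'
  have : Fact r.Prime := ⟨hr⟩
  obtain ⟨c, hc⟩ := exists_prime_orderOf_dvd_card' (G := A) r (by rw [hA]; exact Dvd.dvd.mul_left hrm 2)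
  refine ⟨c, ?_, ?_⟩
  · rintro rfl
    rw [orderOf_one] at hc
    exact hr.one_lt.ne hc
  · rw [hc]
    exact hm.of_dvd_nat hrm

/-- **Involutory automorphisms of `SL(2,F)`, `|F| > 3` odd.** -/
theorem sl_cases (h2 : (2 : F) ≠ 0) (h3 : 3 < Nat.card F) {α : MulAut (Matrix.SpecialLinearGroup (Fin 2) F)}
    (hα : ∀ x, α (α x) = x) (h1 : ∃ x, α x ≠ x) :
    (∃ c, c ≠ 1 ∧ Odd (orderOf c) ∧ α c = c) ∨
    ∃ e τ j : Matrix.SpecialLinearGroup (Fin 2) F, e * e = -1 ∧ (∀ x, α x = e * x * e⁻¹) ∧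
      (∃ a, 2 ≤ a ∧ orderOf τ = 2 ^ a) ∧ (∀ x, α x = x ↔ x ∈ Subgroup.zpowers τ) ∧ e ∈ Subgroup.zpowers τ ∧
      j⁻¹ * τ * j = τ⁻¹ ∧ j * j = -1 ∧ α j = -j := by
  by_cases hodd : ∃ c, c ≠ 1 ∧ Odd (orderOf c) ∧ α c = c
  · exact Or.inl hodd
  right
  have hno : ∀ x, Odd (orderOf x) → α x = x → x = 1 := by
    intro x hx hαx
    by_contra hne
    exact hodd ⟨x, hne, hx, hαx⟩
  obtain ⟨g, hg⟩ := exists_form h2 hα hno
  have hsc : ∀ x : Matrix.SpecialLinearGroup (Fin 2) F, conjGL (g * g) x = x := by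
    intro x
    rw [map_mul, MulAut.mul_apply, ← hg, ← hg, hα]
  have hns : ¬ IsSc g.1 := by
    intro h
    obtain ⟨x, hx⟩ := h1
    exact hx (by rw [hg, conjGL_eq_one_of_isSc h, MulAut.one_apply])
  have htr0 : g.1.trace = 0 := by
    refine trace_eq_zero_of_sq hns ?_
    have h1 : IsSc (g * g).1 := isSc_of_conjGL_eq_one (MulEquiv.ext hsc)
    exact h1
  have htr : g.1 1 1 = - g.1 0 0 := by
    rw [Matrix.trace_fin_two] at htr0
    linear_combination htr0
  let A : Subgroup (Matrix.SpecialLinearGroup (Fin 2) F) :=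
    { carrier := {x | α x = x}
      mul_mem' := fun {x y} hx hy => by
        show α (x * y) = x * y
        rw [map_mul, show α x = x from hx, show α y = y from hy]
      one_mem' := map_one α
      inv_mem' := fun {x} hx => by
        show α x⁻¹ = x⁻¹
        rw [map_inv, show α x = x from hx] }
  have hmemA : ∀ x, x ∈ A ↔ α x = x := fun x => Iff.rfl
  by_cases hsq : IsSquare g.1.det
  swap
  · exfalso
    obtain ⟨-, hcard⟩ := Cfsg.Agent.LFourR.FixTorus.fixed_cyclic h2 g htr hsq A (fun x => by rw [hmemA, hg])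
    obtain ⟨m, hm, hm1, hAm⟩ : ∃ m, Odd m ∧ 1 < m ∧ Nat.card A = 2 * m := by
      rcases hcard with ⟨hq, hc⟩ | ⟨hq, hc⟩
      · exact ⟨(Nat.card F + 1) / 2, by rw [Nat.odd_iff]; omega, by omega, by omega⟩
      · exact ⟨(Nat.card F - 1) / 2, by rw [Nat.odd_iff]; omega, by omega, by omega⟩
    obtain ⟨c, hc1, hco⟩ := exists_odd_elt hAm hm hm1
    apply hc1
    apply Subtype.ext
    refine hno c.1 ?_ c.2
    rwa [Subgroup.orderOf_coe]
  obtain ⟨s, hs⟩ := hsq
  have hd0 : g.1.det ≠ 0 := (Matrix.GeneralLinearGroup.det g).ne_zero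
  have hs0 : s ≠ 0 := by
    rintro rfl
    rw [mul_zero] at hs
    exact hd0 hs
  have hdet : g.1.det = -(g.1 0 0 ^ 2 + g.1 0 1 * g.1 1 0) := by
    rw [det_fin_two, htr]; ring
  rw [hdet] at hs
  have hee : s⁻¹ * s⁻¹ * (g.1 0 0 ^ 2 + g.1 0 1 * g.1 1 0) = -1 := by
    have : g.1 0 0 ^ 2 + g.1 0 1 * g.1 1 0 = -(s * s) := by linear_combination -hs
    rw [this]; field_simp
  set e : Matrix.SpecialLinearGroup (Fin 2) F := mk (s⁻¹ * g.1 0 0) (s⁻¹ * g.1 0 1) (s⁻¹ * g.1 1 0) (s⁻¹ * -g.1 0 0)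
    (by linear_combination -hee) with he
  have hev : e.1 = s⁻¹ • g.1 := by
    ext a b
    fin_cases a <;> fin_cases b
    · rfl
    · rfl
    · rfl
    · change s⁻¹ * -g.1 0 0 = s⁻¹ * g.1 1 1
      rw [htr]
  have he2 : e * e = -1 := by
    refine ext_ent ?_ ?_ ?_ ?_
    · rw [ent_mul]
      change s⁻¹ * g.1 0 0 * (s⁻¹ * g.1 0 0) + s⁻¹ * g.1 0 1 * (s⁻¹ * g.1 1 0) = -1
      linear_combination hee
    · rw [ent_mul]
      change s⁻¹ * g.1 0 0 * (s⁻¹ * g.1 0 1) + s⁻¹ * g.1 0 1 * (s⁻¹ * -g.1 0 0) = -0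
      ring
    · rw [ent_mul]
      change s⁻¹ * g.1 1 0 * (s⁻¹ * g.1 0 0) + s⁻¹ * -g.1 0 0 * (s⁻¹ * g.1 1 0) = -0
      ring
    · rw [ent_mul]
      change s⁻¹ * g.1 1 0 * (s⁻¹ * g.1 0 1) + s⁻¹ * -g.1 0 0 * (s⁻¹ * -g.1 0 0) = -1
      linear_combination hee
  have hαe : ∀ x, α x = e * x * e⁻¹ := by
    intro x
    rw [hg, ← conjGL_toGL]
    symm
    apply conjGL_smul (c := s⁻¹)
    exact hev
  have htre : ent e 1 1 = - ent e 0 0 := tr_of_sq h2 he2
  have hcyc := isCyclic_centralizer h2 htre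
  have hcard := card_centralizer h2 htre
  have hfix : ∀ x, α x = x ↔ x ∈ Subgroup.centralizer ({e} : Set (Matrix.SpecialLinearGroup (Fin 2) F)) := by
    intro x
    rw [hαe, mul_inv_eq_iff_eq_mul, Subgroup.mem_centralizer_singleton_iff]
    exact eq_comm
  obtain ⟨τ, hτ⟩ := hcyc.exists_generator
  have hτz : ∀ x, x ∈ Subgroup.centralizer ({e} : Set (Matrix.SpecialLinearGroup (Fin 2) F)) ↔
      x ∈ Subgroup.zpowers τ.1 := by
    intro x
    constructor
    · intro hx
      obtain ⟨k, hk⟩ := Subgroup.mem_zpowers_iff.1 (hτ ⟨x, hx⟩)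
      exact Subgroup.mem_zpowers_iff.2 ⟨k, congrArg Subtype.val hk⟩
    · intro hx
      obtain ⟨k, rfl⟩ := Subgroup.mem_zpowers_iff.1 hx
      exact Subgroup.zpow_mem _ τ.2 k
  have hoτ : orderOf τ.1 = Nat.card (Circ F) := by
    rw [← hcard, Subgroup.orderOf_coe, ← Nat.card_zpowers, (Subgroup.eq_top_iff' _).2 hτ, Subgroup.card_top]
  have h4 : 4 ∣ orderOf τ.1 := by
    rw [hoτ]
    rcases card_circ (F := F) h2 with ⟨hq, hc⟩ | ⟨hq, hc⟩
    · rw [hc]; omega
    · rw [hc]; omega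
  have hτ0 : orderOf τ.1 ≠ 0 := (orderOf_pos τ.1).ne'
  obtain ⟨a, m, hm, ham⟩ := Nat.exists_eq_two_pow_mul_odd hτ0
  have hm1 : m = 1 := by
    have h5 : orderOf (τ.1 ^ 2 ^ a) = m := by
      rw [orderOf_pow, ham, Nat.gcd_eq_right (Dvd.intro _ rfl), Nat.mul_div_cancel_left _ (by positivity)]
    have h6 := hno (τ.1 ^ 2 ^ a) (by rw [h5]; exact hm) (by
      rw [map_pow, (hfix τ.1).2 τ.2])
    rw [h6, orderOf_one] at h5
    exact h5.symm
  rw [hm1, mul_one] at ham
  have ha2 : 2 ≤ a := by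
    rw [ham] at h4
    by_contra hlt
    interval_cases a <;> omega
  have hei : e⁻¹ = -e := Cfsg.Agent.LFourR.TorusB.inv_eq_neg he2
  have htre' : ent e⁻¹ 1 1 = - ent e⁻¹ 0 0 := tr_of_sq h2 (by rw [hei, neg_mul_neg, he2])
  obtain ⟨j, hj⟩ := exists_conj h2 htre htre'
  have hjτ : j * τ.1 * j⁻¹ = τ.1⁻¹ :=
    Cfsg.Agent.LFourR.TorusB.inv_of h2 he2 hj (Subgroup.mem_centralizer_singleton_iff.1 τ.2)
  have hje : j * e = -(e * j) := by
    rw [mul_inv_eq_iff_eq_mul, hei] at hj
    rw [hj, neg_mul]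
  have hj2 : j * j = -1 := sq_of_tr (anti h2 htre hje).1
  refine ⟨e, τ.1, j, he2, hαe, ⟨a, ha2, ham⟩, fun x => by rw [hfix, hτz], ?_, ?_, hj2, ?_⟩
  · rw [← hτz, Subgroup.mem_centralizer_singleton_iff]
  · have h5 : j * τ.1⁻¹ * j⁻¹ = τ.1 := by
      have := congrArg (·⁻¹) hjτ
      simpa [mul_assoc] using this
    calc j⁻¹ * τ.1 * j = j⁻¹ * (j * τ.1⁻¹ * j⁻¹) * j := by rw [h5]
      _ = τ.1⁻¹ := by group
  · rw [hαe]
    have h5 : e * j = -(j * e) := by rw [hje, neg_neg]
    rw [h5, neg_mul, mul_inv_cancel_right]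

/-- **(F2)** `J ≃* SL(2,F)`, `|F| > 3` odd, `t` the involution of `J`, `z ∈ N(J)` does not centralise `J`, `z²` does:
`z` centralises an element `≠ 1` of odd order of `J`, or acts as an element `e` of order four of `J`, with
`C_J(z) = ⟨τ⟩` a cyclic 2-group inverted by `j`, `j² = t`, `j^z = j t`. -/
theorem F2 {H : Type*} [Group H] {J : Subgroup H} (h2 : (2 : F) ≠ 0) (h3 : 3 < Nat.card F)
    (e0 : J ≃* Matrix.SpecialLinearGroup (Fin 2) F) {z t : H} (hz : z ∈ Subgroup.normalizer (J : Set H))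
    (hz2 : ∀ a ∈ J, z * z * a = a * (z * z)) (ht : t ∈ J) (ht2 : t * t = 1) (ht1 : t ≠ 1)
    (hne : ∃ a ∈ J, z * a ≠ a * z) :
    (∃ c ∈ J, c ≠ 1 ∧ Odd (orderOf c) ∧ c * z = z * c) ∨
    ∃ e ∈ J, ∃ τ ∈ J, ∃ j ∈ J, e * e = t ∧ (∀ x ∈ J, z * x * z⁻¹ = e * x * e⁻¹) ∧
      (∃ a, 2 ≤ a ∧ orderOf τ = 2 ^ a) ∧ τ * z = z * τ ∧ (∀ x ∈ J, x * z = z * x → x ∈ Subgroup.zpowers τ) ∧
      e ∈ Subgroup.zpowers τ ∧ j⁻¹ * τ * j = τ⁻¹ ∧ j * j = t ∧ z * j * z⁻¹ = j * t ∧ z⁻¹ * j * z = j * t := by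
  let α : MulAut (Matrix.SpecialLinearGroup (Fin 2) F) := (e0.symm.trans (Cfsg.Agent.LFourR.nact J hz)).trans e0
  let b : Matrix.SpecialLinearGroup (Fin 2) F →* H := J.subtype.comp e0.symm.toMonoidHom
  have hbJ : ∀ x, b x ∈ J := fun x => (e0.symm x).2
  have hbinj : Function.Injective b := by
    intro x y h
    exact e0.symm.injective (Subtype.ext h)
  have hbsur : ∀ x ∈ J, ∃ y, b y = x := fun x hx => ⟨e0 ⟨x, hx⟩, by
    show ((e0.symm (e0 ⟨x, hx⟩) : J) : H) = x
    rw [e0.symm_apply_apply]⟩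
  have hbα : ∀ x, b (α x) = z * b x * z⁻¹ := by
    intro x
    show ((e0.symm (e0 (Cfsg.Agent.LFourR.nact J hz (e0.symm x))) : J) : H) = _
    rw [e0.symm_apply_apply, Cfsg.Agent.LFourR.coe_nact]
    rfl
  have hα : ∀ x, α (α x) = x := by
    intro x
    apply hbinj
    rw [hbα, hbα]
    calc z * (z * b x * z⁻¹) * z⁻¹ = z * z * b x * (z * z)⁻¹ := by group
      _ = b x := by rw [hz2 _ (hbJ x), mul_inv_cancel_right]
  have hneα : ∃ x, α x ≠ x := by
    obtain ⟨a, ha, haz⟩ := hne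
    obtain ⟨x, rfl⟩ := hbsur a ha
    refine ⟨x, fun h => haz ?_⟩
    have h5 := hbα x
    rw [h, eq_mul_inv_iff_mul_eq] at h5
    exact h5.symm
  have hfix : ∀ x, α x = x ↔ b x * z = z * b x := by
    intro x
    rw [← hbinj.eq_iff, hbα, mul_inv_eq_iff_eq_mul]
    exact eq_comm
  have hbt : b (-1) = t := by
    obtain ⟨y, hy⟩ := hbsur t ht
    rcases Cfsg.Agent.ClassicalGeometry.PSL2ElemOrder.eq_one_or_of_sq h2 y (by
      apply hbinj
      rw [map_mul, hy, ht2, map_one]) with h | h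
    · exact absurd (by rw [← hy, h, map_one]) ht1
    · rw [← h, hy]
  have hbneg : ∀ x, b (-x) = b x * t := by
    intro x
    rw [← hbt, ← map_mul, mul_neg, mul_one]
  rcases sl_cases h2 h3 hα hneα with ⟨c, hc1, hco, hcα⟩ | ⟨e, τ, j, he2, hαe, ⟨a, ha2, ham⟩, hτ, heτ, hjτ, hj2, hjα⟩
  · left
    refine ⟨b c, hbJ c, ?_, ?_, (hfix c).1 hcα⟩
    · intro h
      exact hc1 (hbinj (by rw [h, map_one]))
    · rwa [orderOf_injective b hbinj]
  · right
    have hbz : ∀ x, x ∈ Subgroup.zpowers τ → b x ∈ Subgroup.zpowers (b τ) := by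
      intro x hx
      obtain ⟨k, rfl⟩ := Subgroup.mem_zpowers_iff.1 hx
      exact Subgroup.mem_zpowers_iff.2 ⟨k, by rw [map_zpow]⟩
    have hzj : z * b j * z⁻¹ = b j * t := by rw [← hbα, hjα, hbneg]
    have hzt : z * t * z⁻¹ = t := by
      rw [← hbt, ← hbα]
      congr 1
      rw [hαe, mul_neg, mul_one, neg_mul, mul_inv_cancel]
    refine ⟨b e, hbJ e, b τ, hbJ τ, b j, hbJ j, ?_, ?_, ⟨a, ha2, ?_⟩, ?_, ?_, hbz e heτ, ?_, ?_, hzj, ?_⟩
    · rw [← map_mul, he2, hbt]
    · intro x hx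
      obtain ⟨y, rfl⟩ := hbsur x hx
      rw [← hbα, hαe, map_mul, map_mul, map_inv]
    · rw [orderOf_injective b hbinj, ham]
    · exact (hfix τ).1 ((hτ τ).2 (Subgroup.mem_zpowers τ))
    · intro x hx hxz
      obtain ⟨y, rfl⟩ := hbsur x hx
      exact hbz y ((hτ y).1 ((hfix y).2 hxz))
    · rw [← map_inv, ← map_mul, ← map_mul, hjτ, map_inv]
    · rw [← map_mul, hj2, hbt]
    · have h5 : z * (b j * t) * z⁻¹ = b j := by
        calc z * (b j * t) * z⁻¹ = (z * b j * z⁻¹) * (z * t * z⁻¹) := by group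
          _ = b j := by rw [hzj, hzt, mul_assoc, ht2, mul_one]
      calc z⁻¹ * b j * z = z⁻¹ * (z * (b j * t) * z⁻¹) * z := by rw [h5]
        _ = b j * t := by group

end Cfsg.Agent.Cit.Nil.LO
end

-- part: Cit/Nil/LO/ReeQ
section
prune_inst 0x34404100360000000000001210002050220000020040000050410100048350620d062840b21019114800a90460380008110000400210000000000000011900800000020091480108800006000080000000000000000000000000000000041000000000000
set_option linter.all false
open scoped Cfsg.Agent.FastGrp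

-- part: Cit/Nil/LO/LTwo
section
/-!
# `L₂(q)`, `q` odd: two commuting quaternion groups of order 8 of automorphisms have the same involution

Section 5 of `blueprints/CIT-6b-LieOdd-helper443.md`.

* `QP z a b` : `a² = b² = z`, `a^b = a⁻¹`;
* `glMain` : elements of `PGL(2,F)` of order 4 which commute have the same square;
* `slMain` : in `Aut SL(2,F)`;
* `psl_mem`, `sl_mem` : in a group with a normal subgroup `L ≃* PSL(2,F)`, `SL(2,F)`: `z z' ∈ C(L)`.
-/

set_option autoImplicit false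
set_option linter.unusedSectionVars false
set_option linter.style.haveILetI false

namespace Cfsg.Agent.Cit.Nil.LO

open Matrix Subgroup Cfsg
open Cfsg.Agent.Lib.SL2Mat Cfsg.Agent.Lib.AutSL2 Cfsg.Agent.Classification.QDW.TypeHom
open Cfsg.Agent.LFourA.FieldInv (comm_of_conj exists_scalar conjGL_scalar conjGL_smul gl_det_ne eq_one_of_map)
open Cfsg.Agent.LFourB.AutSylow (scalar_of_noncomm)

local notation "SL2" => Matrix.SpecialLinearGroup (Fin 2)

/-- `a, b` generate a quaternion group of order 8 (or a quotient) over `z` -/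
structure QP {H : Type*} [Group H] (z a b : H) : Prop where
  aa : a * a = z
  bb : b * b = z
  ba : b * a * b⁻¹ = a⁻¹

theorem QP.map {H H' : Type*} [Group H] [Group H'] {z a b : H} (h : QP z a b) (f : H →* H') : QP (f z) (f a) (f b) where
  aa := by rw [← map_mul, h.aa]
  bb := by rw [← map_mul, h.bb]
  ba := by rw [← map_inv, ← map_mul, ← map_mul, h.ba, map_inv]

theorem QP.ab {H : Type*} [Group H] {z a b : H} (h : QP z a b) : (a * b) * (a * b) = z := by
  calc (a * b) * (a * b) = a * (b * a * b⁻¹) * (b * b) := by group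
    _ = z := by rw [h.ba, mul_inv_cancel, one_mul, h.bb]

theorem QP.zz {H : Type*} [Group H] {z a b : H} (h : QP z a b) : z * z = 1 := by
  have h1 : b * z * b⁻¹ = z := by rw [← h.bb]; group
  have h2 : b * z * b⁻¹ = z⁻¹ := by
    calc b * z * b⁻¹ = (b * a * b⁻¹) * (b * a * b⁻¹) := by rw [← h.aa]; group
      _ = z⁻¹ := by rw [h.ba, ← h.aa, _root_.mul_inv_rev]
  rw [h1] at h2
  exact mul_eq_one_iff_eq_inv.2 h2

section gl

variable {F : Type*} [Field F]

/-- a nonscalar matrix with scalar square has trace zero -/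
theorem trace_zero {M : Matrix (Fin 2) (Fin 2) F} {c : F} (hM : M * M = c • (1 : Matrix (Fin 2) (Fin 2) F))
    (hn : ¬ ∃ d : F, M = d • (1 : Matrix (Fin 2) (Fin 2) F)) : M 1 1 = - M 0 0 := by
  have h01 := congrFun (congrFun hM 0) 1
  have h10 := congrFun (congrFun hM 1) 0
  have h00 := congrFun (congrFun hM 0) 0
  have h11 := congrFun (congrFun hM 1) 1
  simp only [Matrix.mul_apply, Fin.sum_univ_two, Matrix.smul_apply, Matrix.one_apply, smul_eq_mul] at h00 h01 h10 h11
  norm_num only [_root_.ite_true, _root_.mul_one, _root_.zero_ne_one, _root_.ite_false, _root_.MulZeroClass.mul_zero, _root_.one_ne_zero] at h00 h01 h10 h11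
  by_contra hne
  have ht : M 0 0 + M 1 1 ≠ 0 := fun h => hne (by linear_combination h)
  have e01 : M 0 1 = 0 := by
    have : M 0 1 * (M 0 0 + M 1 1) = 0 := by linear_combination h01
    exact (mul_eq_zero.1 this).resolve_right ht
  have e10 : M 1 0 = 0 := by
    have : M 1 0 * (M 0 0 + M 1 1) = 0 := by linear_combination h10
    exact (mul_eq_zero.1 this).resolve_right ht
  have e : M 0 0 = M 1 1 := by
    have : (M 0 0 - M 1 1) * (M 0 0 + M 1 1) = 0 := by
      rw [e01, e10] at h00 h11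
      linear_combination h00 - h11
    exact sub_eq_zero.1 ((mul_eq_zero.1 this).resolve_right ht)
  apply hn
  refine ⟨M 0 0, ?_⟩
  ext i j
  (revert i j; simp only [e01, e10, e, _root_.Fin.forall_fin_succ, Fin.isValue, _root_.Matrix.smul_apply, _root_.smul_eq_mul, _root_.Fin.succ_zero_eq_one, _root_.IsEmpty.forall_iff, _root_.and_true, _root_.Matrix.one_apply_eq, _root_.mul_one, Nat.reduceAdd, _root_.ne_eq, _root_.zero_ne_one, _root_.not_false_eq_true, _root_.Matrix.one_apply_ne, _root_.MulZeroClass.mul_zero, _root_.and_self, _root_.Fin.succ_ne_zero])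

/-- commuting matrices of trace zero are proportional -/
theorem prop_of_comm (h2 : (2 : F) ≠ 0) {M M' : Matrix (Fin 2) (Fin 2) F} (hM : M 1 1 = - M 0 0)
    (hM' : M' 1 1 = - M' 0 0) (h0 : M ≠ 0) (hc : M * M' = M' * M) : ∃ v : F, M' = v • M := by
  have h01 := congrFun (congrFun hc 0) 1
  have h10 := congrFun (congrFun hc 1) 0
  have h00 := congrFun (congrFun hc 0) 0
  simp only [Matrix.mul_apply, Fin.sum_univ_two] at h00 h01 h10
  rw [hM, hM'] at h01 h10
  have e1 : M 0 1 * M' 1 0 = M' 0 1 * M 1 0 := by linear_combination h00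
  have e2 : M 0 0 * M' 0 1 = M' 0 0 * M 0 1 := by
    apply mul_left_cancel₀ h2
    linear_combination h01
  have e3 : M 0 0 * M' 1 0 = M' 0 0 * M 1 0 := by
    apply mul_left_cancel₀ h2
    linear_combination -h10
  by_cases ha : M 0 0 = 0
  · by_cases hb : M 0 1 = 0
    · have hcn : M 1 0 ≠ 0 := by
        intro hcn
        apply h0
        ext i j
        (revert i j; simp only [ha, hb, hcn, hM, _root_.Fin.forall_fin_succ, _root_.Matrix.zero_apply, Fin.isValue, _root_.Fin.succ_zero_eq_one, _root_.IsEmpty.forall_iff, _root_.and_true, _root_.and_self, _root_.neg_zero])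
      refine ⟨M' 1 0 / M 1 0, ?_⟩
      have f1 : M' 0 1 = 0 := by
        have : M' 0 1 * M 1 0 = 0 := by rw [← e1, hb, zero_mul]
        exact (mul_eq_zero.1 this).resolve_right hcn
      have f2 : M' 0 0 = 0 := by
        have : M' 0 0 * M 1 0 = 0 := by rw [← e3, ha, zero_mul]
        exact (mul_eq_zero.1 this).resolve_right hcn
      ext i j
      (revert i j; simp only [ha, hb, hM, hM', f1, f2, div_mul_cancel₀ _ hcn, _root_.Fin.forall_fin_succ, Fin.isValue, _root_.Matrix.smul_apply, _root_.smul_eq_mul, _root_.Fin.succ_zero_eq_one, _root_.IsEmpty.forall_iff, _root_.and_true, _root_.MulZeroClass.mul_zero, _root_.and_self, _root_.neg_zero])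
    · refine ⟨M' 0 1 / M 0 1, ?_⟩
      have f2 : M' 0 0 = 0 := by
        have : M' 0 0 * M 0 1 = 0 := by rw [← e2, ha, zero_mul]
        exact (mul_eq_zero.1 this).resolve_right hb
      have f3 : M' 1 0 = M' 0 1 / M 0 1 * M 1 0 := by
        field_simp
        linear_combination e1
      ext i j
      (revert i j; simp only [ha, hM, hM', f2, div_mul_cancel₀ _ hb, _root_.Fin.forall_fin_succ, Fin.isValue, _root_.Matrix.smul_apply, _root_.smul_eq_mul, _root_.Fin.succ_zero_eq_one, _root_.IsEmpty.forall_iff, _root_.MulZeroClass.mul_zero, _root_.neg_zero, _root_.and_true, _root_.true_and]) <;> (repeat' with_reducible apply And.intro)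
      exact f3
  · refine ⟨M' 0 0 / M 0 0, ?_⟩
    have f1 : M' 0 1 = M' 0 0 / M 0 0 * M 0 1 := by
      field_simp
      linear_combination e2
    have f2 : M' 1 0 = M' 0 0 / M 0 0 * M 1 0 := by
      field_simp
      linear_combination e3
    ext i j
    (revert i j; simp only [hM, hM', div_mul_cancel₀ _ ha, _root_.Fin.forall_fin_succ, Fin.isValue, _root_.Matrix.smul_apply, _root_.smul_eq_mul, _root_.Fin.succ_zero_eq_one, _root_.IsEmpty.forall_iff, _root_.mul_neg, _root_.and_true, _root_.true_and]) <;> (repeat' with_reducible apply And.intro)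
    · exact f1
    · exact f2

theorem conjGL_eq_one_iff {k : GL (Fin 2) F} :
    conjGL k = 1 ↔ ∃ c : F, k.1 = c • (1 : Matrix (Fin 2) (Fin 2) F) := by
  constructor
  · intro h
    obtain ⟨c, -, hc⟩ := exists_scalar (k := k) (by rw [h]; rfl) (by rw [h]; rfl)
    exact ⟨c, hc⟩
  · rintro ⟨c, hc⟩
    exact MulEquiv.ext fun x => conjGL_scalar hc x

/-- **two commuting elements of order 4 of `PGL(2,F)` have the same square** -/
theorem glMain (h2 : (2 : F) ≠ 0) {g g' : GL (Fin 2) F} (hc : conjGL g * conjGL g' = conjGL g' * conjGL g)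
    (h1 : conjGL (g * g) ≠ 1) (h1' : conjGL (g' * g') ≠ 1) (h4 : conjGL (g * g) * conjGL (g * g) = 1)
    (h4' : conjGL (g' * g') * conjGL (g' * g') = 1) : conjGL (g * g) = conjGL (g' * g') := by
  have hn : ¬ ∃ d : F, (g * g).1 = d • (1 : Matrix (Fin 2) (Fin 2) F) := fun h => h1 (conjGL_eq_one_iff.2 h)
  have hn' : ¬ ∃ d : F, (g' * g').1 = d • (1 : Matrix (Fin 2) (Fin 2) F) := fun h => h1' (conjGL_eq_one_iff.2 h)
  rw [← map_mul, conjGL_eq_one_iff] at h4 h4'
  obtain ⟨c, hc4⟩ := h4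
  obtain ⟨c', hc4'⟩ := h4'
  rw [Units.val_mul] at hc4 hc4'
  have ht := trace_zero hc4 hn
  have ht' := trace_zero hc4' hn'
  -- the commutator is a scalar
  have hcom : ∃ d : F, g.1 * g'.1 = d • (g'.1 * g.1) := by
    have h3 : conjGL (g * g' * (g' * g)⁻¹) = 1 := by
      rw [map_mul, map_inv, map_mul, map_mul, hc, mul_inv_cancel]
    obtain ⟨d, hd⟩ := conjGL_eq_one_iff.1 h3
    refine ⟨d, ?_⟩
    have h5 : (g * g' * (g' * g)⁻¹).1 * (g' * g).1 = (g * g').1 := by
      rw [← Units.val_mul, inv_mul_cancel_right]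
    rw [hd, Matrix.smul_mul, Matrix.one_mul] at h5
    rw [← Units.val_mul, ← Units.val_mul, h5]
  obtain ⟨d, hd⟩ := hcom
  have hdd : d * d = 1 := by
    have h3 := congrArg Matrix.det hd
    rw [Matrix.det_smul, Matrix.det_mul, Matrix.det_mul, Fintype.card_fin] at h3
    have hg := gl_det_ne g
    have hg' := gl_det_ne g'
    have h5 : (d * d - 1) * (g.1.det * g'.1.det) = 0 := by linear_combination -h3
    exact sub_eq_zero.1 ((mul_eq_zero.1 h5).resolve_right (mul_ne_zero hg hg'))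
  have hggc : (g * g).1 * g'.1 = g'.1 * (g * g).1 := by
    rw [Units.val_mul]
    calc g.1 * g.1 * g'.1 = g.1 * (g.1 * g'.1) := by rw [Matrix.mul_assoc]
      _ = d • (g.1 * (g'.1 * g.1)) := by rw [hd, Matrix.mul_smul]
      _ = d • (g.1 * g'.1 * g.1) := by rw [Matrix.mul_assoc]
      _ = d • ((d • (g'.1 * g.1)) * g.1) := by rw [hd]
      _ = (d * d) • (g'.1 * (g.1 * g.1)) := by rw [Matrix.smul_mul, smul_smul, Matrix.mul_assoc]
      _ = g'.1 * (g.1 * g.1) := by rw [hdd, one_smul]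
  have hggg : (g * g).1 * (g' * g').1 = (g' * g').1 * (g * g).1 := by
    rw [Units.val_mul g' g', ← Matrix.mul_assoc, hggc, Matrix.mul_assoc, hggc, Matrix.mul_assoc]
  obtain ⟨v, hv⟩ := prop_of_comm h2 ht ht' (by
    intro h0
    apply hn
    exact ⟨0, by rw [h0, zero_smul]⟩) hggg
  exact (MulEquiv.ext fun x => conjGL_smul hv x).symm

end gl

section Cyc

/-- three elements of order two do not exist in a cyclic group -/
theorem cyc_two {C : Type*} [Group C] [Finite C] [IsCyclic C] {x y : C} (hx : x * x = 1) (hy : y * y = 1) (hx1 : x ≠ 1)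
    (hy1 : y ≠ 1) : x = y := by
  classical
  by_contra hne
  have : Fintype C := Fintype.ofFinite C
  have h1 := IsCyclic.card_pow_eq_one_le (α := C) (n := 2) (by norm_num)
  have h3 : ({1, x, y} : Finset C) ⊆ Finset.univ.filter fun a : C => a ^ 2 = 1 := by
    intro a ha
    rw [Finset.mem_insert, Finset.mem_insert, Finset.mem_singleton] at ha
    rw [Finset.mem_filter]
    refine ⟨Finset.mem_univ _, ?_⟩
    rcases ha with rfl | rfl | rfl
    · rw [one_pow]
    · rw [pow_two, hx]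
    · rw [pow_two, hy]
  have h4 := Finset.card_le_card h3
  have h5 : ({1, x, y} : Finset C).card = 3 := by
    rw [Finset.card_insert_of_notMem, Finset.card_insert_of_notMem, Finset.card_singleton]
    · rw [Finset.mem_singleton]; exact hne
    · rw [Finset.mem_insert, Finset.mem_singleton]
      rintro (h | h)
      · exact hx1 h.symm
      · exact hy1 h.symm
  omega

end Cyc

section Main

variable {F : Type*} [Field F] [Fintype F]

/-- a quaternion pair of automorphisms contains a root of `z` in `PGL(2,F)` -/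
theorem exists_root {z a b : MulAut (SL2 F)} (h : QP z a b) :
    ∃ g : GL (Fin 2) F, (conjGL g = a ∨ conjGL g = b ∨ conjGL g = a * b) ∧ conjGL g * conjGL g = z := by
  haveI : IsCyclic (F ≃+* F) := LieRecognition.FieldSemilinear.isCyclic_ringAut F
  haveI : Finite (F ≃+* F) := Finite.of_injective (fun σ : F ≃+* F => (σ : F → F)) DFunLike.coe_injective
  have hcom : ∀ x y : F ≃+* F, x * y = y * x := fun x y => Lib.AutSL2Out.ringEquiv_comm x y
  have hta : typ a * typ a = 1 := by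
    have h1 := congrArg typ h.ba
    rw [map_mul, map_mul, map_inv, map_inv, hcom (typ b) (typ a), mul_inv_cancel_right] at h1
    exact mul_eq_one_iff_eq_inv.2 h1
  have htz : typ z = 1 := by rw [← h.aa, map_mul, hta]
  have htb : typ b * typ b = 1 := by rw [← map_mul, h.bb, htz]
  have key : ∀ x : MulAut (SL2 F), (x = a ∨ x = b ∨ x = a * b) → x * x = z → typ x = 1 →
      ∃ g : GL (Fin 2) F, (conjGL g = a ∨ conjGL g = b ∨ conjGL g = a * b) ∧ conjGL g * conjGL g = z := by
    intro x hx hxx hx1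
    obtain ⟨g, rfl⟩ := (typ_eq_one_iff x).1 hx1
    exact ⟨g, hx, hxx⟩
  by_cases ha : typ a = 1
  · exact key a (Or.inl rfl) h.aa ha
  by_cases hb : typ b = 1
  · exact key b (Or.inr (Or.inl rfl)) h.bb hb
  · refine key (a * b) (Or.inr (Or.inr rfl)) h.ab ?_
    rw [map_mul, cyc_two hta htb ha hb, htb]

/-- **Two commuting quaternion groups of automorphisms of `SL(2,F)` have the same involution.** -/
theorem slMain (hF : Odd (Fintype.card F)) {z a b z' a' b' : MulAut (SL2 F)} (h : QP z a b) (h' : QP z' a' b')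
    (haa : a * a' = a' * a) (hab : a * b' = b' * a) (hba : b * a' = a' * b) (hbb : b * b' = b' * b)
    (hz : z ≠ 1) (hz' : z' ≠ 1) : z = z' := by
  have h2 : (2 : F) ≠ 0 := TwoFusion.QuatCoverSL.two_ne_zero_of_odd hF
  obtain ⟨g, hg, hgz⟩ := exists_root h
  obtain ⟨g', hg', hgz'⟩ := exists_root h'
  have c1 : ∀ x : MulAut (SL2 F), x * a' = a' * x → x * b' = b' * x → x * conjGL g' = conjGL g' * x := by
    intro x hx hx'
    rcases hg' with h1 | h1 | h1 <;> rw [h1]
    · exact hx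
    · exact hx'
    · rw [← mul_assoc, hx, mul_assoc, hx', mul_assoc]
  have c2 : conjGL g * conjGL g' = conjGL g' * conjGL g := by
    apply c1
    · rcases hg with h1 | h1 | h1 <;> rw [h1]
      · exact haa
      · exact hba
      · rw [mul_assoc, hba, ← mul_assoc, haa, mul_assoc]
    · rcases hg with h1 | h1 | h1 <;> rw [h1]
      · exact hab
      · exact hbb
      · rw [mul_assoc, hbb, ← mul_assoc, hab, mul_assoc]
  have e1 : conjGL (g * g) = z := by rw [map_mul, hgz]
  have e2 : conjGL (g' * g') = z' := by rw [map_mul, hgz']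
  have := glMain h2 c2 (by rw [e1]; exact hz) (by rw [e2]; exact hz') (by rw [e1]; exact h.zz) (by rw [e2]; exact h'.zz)
  rwa [e1, e2] at this

/-- automorphisms of `PSL(2,F)` lift -/
theorem exists_lift_psl (hF : Odd (Fintype.card F)) :
    ∃ f : MulAut (Matrix.ProjectiveSpecialLinearGroup (Fin 2) F) →* MulAut (SL2 F), Function.Injective f := by
  have h2 : (2 : F) ≠ 0 := TwoFusion.QuatCoverSL.two_ne_zero_of_odd hF
  let π : SL2 F →* Matrix.ProjectiveSpecialLinearGroup (Fin 2) F := QuotientGroup.mk' _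
  have hπ : Function.Surjective π := QuotientGroup.mk'_surjective _
  have hk : π.ker ≤ center (SL2 F) := by rw [QuotientGroup.ker_mk']
  have hex : ∀ α : MulAut (Matrix.ProjectiveSpecialLinearGroup (Fin 2) F), ∃ θ : MulAut (SL2 F), ∀ x, α (π x) = π (θ x) := by
    intro α
    obtain ⟨g, σ, h⟩ := exists_gl_ringEquiv π hπ hk α
    exact ⟨conjGL g * fieldAut σ, fun x => by rw [h, MulAut.mul_apply]⟩
  have huniq : ∀ θ θ' : MulAut (SL2 F), (∀ x, π (θ x) = π (θ' x)) → θ = θ' := by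
    intro θ θ' h
    have h3 : ∀ x, (θ'⁻¹ * θ : MulAut (SL2 F)) x = x := by
      intro x
      refine Classification.TypeB.SigAut.eq_of_lift h2 π hk (θ'⁻¹ * θ) (fun y => ?_) x
      have hm : ∀ u v : SL2 F, π u = π v → π (θ'⁻¹ u) = π (θ'⁻¹ v) := by
        intro u v huv
        have h5 : u⁻¹ * v ∈ center (SL2 F) := by
          apply hk
          rw [MonoidHom.mem_ker, map_mul, map_inv, huv, inv_mul_cancel]
        have h6 : θ'⁻¹ (u⁻¹ * v) ∈ center (SL2 F) := by
          have hc : (center (SL2 F)).map (θ'⁻¹ : MulAut (SL2 F)).toMonoidHom = center (SL2 F) :=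
            Subgroup.characteristic_iff_map_eq.1 inferInstance _
          rw [← hc]
          exact ⟨_, h5, rfl⟩
        have h7 : π (θ'⁻¹ (u⁻¹ * v)) = 1 := (QuotientGroup.eq_one_iff _).2 h6
        rw [map_mul, map_mul, map_inv, map_inv, inv_mul_eq_one] at h7
        exact h7
      have h8 := hm _ _ (h y)
      rw [MulAut.inv_apply_self] at h8
      rw [MulAut.mul_apply, h8]
    have h4 : θ'⁻¹ * θ = 1 := MulEquiv.ext h3
    exact (inv_mul_eq_one.1 h4).symm
  choose f hf using hex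
  refine ⟨⟨⟨f, ?_⟩, ?_⟩, ?_⟩
  · apply huniq
    intro x
    rw [← hf]
    rfl
  · intro α β
    apply huniq
    intro x
    rw [← hf, MulAut.mul_apply, MulAut.mul_apply, ← hf, hf β, ← hf]
  · intro α β hαβ
    have h5 : f α = f β := hαβ
    refine MulEquiv.ext fun y => ?_
    obtain ⟨x, rfl⟩ := hπ y
    rw [hf, hf, h5]

/-- the same in `Aut PSL(2,F)` -/
theorem pslMain (hF : Odd (Fintype.card F)) {z a b z' a' b' : MulAut (Matrix.ProjectiveSpecialLinearGroup (Fin 2) F)}
    (h : QP z a b) (h' : QP z' a' b') (haa : a * a' = a' * a) (hab : a * b' = b' * a) (hba : b * a' = a' * b)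
    (hbb : b * b' = b' * b) (hz : z ≠ 1) (hz' : z' ≠ 1) : z = z' := by
  obtain ⟨f, hf⟩ := exists_lift_psl hF
  apply hf
  refine slMain hF (h.map f) (h'.map f) ?_ ?_ ?_ ?_ ?_ ?_
  · rw [← map_mul, haa, map_mul]
  · rw [← map_mul, hab, map_mul]
  · rw [← map_mul, hba, map_mul]
  · rw [← map_mul, hbb, map_mul]
  · exact fun h1 => hz ((map_eq_one_iff f hf).1 h1)
  · exact fun h1 => hz' ((map_eq_one_iff f hf).1 h1)

end Main

section Group

variable {H : Type*} [Group H]

theorem mem_of_aut {L : Subgroup H} [L.Normal] {A : Type*} [Group A] (f : MulAut L →* A)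
    (hf : Function.Injective f) {z z' : H} (h : f (MulAut.conjNormal z) = f (MulAut.conjNormal z')) (hz' : z' * z' = 1) :
    z * z' ∈ centralizer (L : Set H) := by
  have h1 : (MulAut.conjNormal (z * z') : MulAut L) = 1 := by
    rw [map_mul, hf h, ← map_mul, hz', map_one]
  rw [mem_centralizer_iff]
  intro x hx
  have h2 := congrArg Subtype.val (DFunLike.congr_fun h1 (⟨x, hx⟩ : L))
  rw [MulAut.conjNormal_apply, MulAut.one_apply] at h2
  have h3 : z * z' * x * (z * z')⁻¹ = x := h2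
  rw [mul_inv_eq_iff_eq_mul] at h3
  exact h3.symm

theorem conj_ne_one {L : Subgroup H} [L.Normal] {A : Type*} [Group A] (f : MulAut L →* A)
    (hf : Function.Injective f) {z : H} (hz : z ∉ centralizer (L : Set H)) : f (MulAut.conjNormal z) ≠ 1 := by
  intro h
  apply hz
  have h1 := (map_eq_one_iff f hf).1 h
  rw [mem_centralizer_iff]
  intro x hx
  have h2 := congrArg Subtype.val (DFunLike.congr_fun h1 (⟨x, hx⟩ : L))
  rw [MulAut.conjNormal_apply, MulAut.one_apply] at h2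
  have h3 : z * x * z⁻¹ = x := h2
  rw [mul_inv_eq_iff_eq_mul] at h3
  exact h3.symm

variable {F : Type*} [Field F] [Fintype F] {L : Subgroup H} {z a b z' a' b' : H}

/-- **`L₂(q)`** : commuting quaternion groups acting nontrivially on a normal subgroup `L ≃* PSL(2,F)` -/
theorem psl_mem (hF : Odd (Fintype.card F)) (hN : L.Normal) (e : L ≃* Matrix.ProjectiveSpecialLinearGroup (Fin 2) F)
    (h : QP z a b) (h' : QP z' a' b') (haa : a * a' = a' * a) (hab : a * b' = b' * a) (hba : b * a' = a' * b)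
    (hbb : b * b' = b' * b) (hz : z ∉ centralizer (L : Set H)) (hz' : z' ∉ centralizer (L : Set H)) :
    z * z' ∈ centralizer (L : Set H) := by
  let f : MulAut L →* MulAut (Matrix.ProjectiveSpecialLinearGroup (Fin 2) F) := (MulAut.congr e).toMonoidHom
  have hf : Function.Injective f := (MulAut.congr e).injective
  let φ : H →* MulAut (Matrix.ProjectiveSpecialLinearGroup (Fin 2) F) := f.comp MulAut.conjNormal
  refine mem_of_aut f hf (pslMain hF (h.map φ) (h'.map φ) ?_ ?_ ?_ ?_ (conj_ne_one f hf hz) (conj_ne_one f hf hz')) h'.zz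
  · rw [← map_mul, haa, map_mul]
  · rw [← map_mul, hab, map_mul]
  · rw [← map_mul, hba, map_mul]
  · rw [← map_mul, hbb, map_mul]

end Group

end Cfsg.Agent.Cit.Nil.LO
end

-- part: Cit/Nil/LO/ReeQ
section
/-!
# Sylow 2-subgroups elementary abelian of order 8 (`²G₂(q)`): no quaternion group of automorphisms

Section 5 of `blueprints/CIT-6b-LieOdd-helper443.md`, the Ree groups.

* `sq_eq_one` : an automorphism with `a⁴ = 1` has `a² = 1`;
* `ree_mem` : a quaternion group centralises modulo its ... : `z ∈ C(L)`, `L` normal, `L ≃ ²G₂(q)`.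
-/

set_option autoImplicit false
set_option linter.unusedSectionVars false
set_option linter.style.haveILetI false

namespace Cfsg.Agent.Cit.Nil.LO

open Subgroup Cfsg
open Cfsg.Agent.Omega.Lie.OutT Cfsg.Agent.Omega.Lie.OutT.Small

section

variable {L : Type*} [Group L] [Finite L]

/-- an automorphism which leaves an elementary abelian Sylow 2-subgroup of order 8 invariant and whose square is trivial
on it, is trivial on it -/
theorem triv_on [IsSimpleGroup L] (hL : ¬ IsMulCommutative L) (S : Sylow 2 L) (hc8 : Nat.card (S : Subgroup L) = 8)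
    (hexp : ∀ s ∈ S, s * s = 1) {x : MulAut L} (hx : ∀ s ∈ S, x s ∈ S) (hxx : ∀ s ∈ S, x (x s) = s) :
    ∀ s ∈ S, x s = s := by
  have hinv : ∀ s ∈ S, s⁻¹ = s := fun s hs => inv_eq_of_mul_eq_one_left (hexp s hs)
  have hab : ∀ a ∈ S, ∀ b ∈ S, a * b = b * a := by
    intro a ha b hb
    have h1 := hinv _ ((S : Subgroup L).mul_mem ha hb)
    rw [mul_inv_rev, hinv a ha, hinv b hb] at h1
    exact h1.symm
  obtain ⟨hAo, hA7⟩ := card_act hL S hab hexp hc8
  let _ : CommGroup (S : Subgroup L) := { (inferInstance : Group (S : Subgroup L)) with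
    mul_comm := fun a b => Subtype.ext (hab a a.2 b b.2) }
  let ξ : MulAut (S : Subgroup L) :=
    { toFun := fun s => ⟨x s.1, hx s.1 s.2⟩
      invFun := fun s => ⟨x s.1, hx s.1 s.2⟩
      left_inv := fun s => Subtype.ext (hxx s.1 s.2)
      right_inv := fun s => Subtype.ext (hxx s.1 s.2)
      map_mul' := fun a b => Subtype.ext (map_mul x a.1 b.1) }
  have hξ2 : ξ * ξ = 1 := by
    apply MulEquiv.ext
    intro s
    exact Subtype.ext (hxx s.1 s.2)
  have hξi : ξ⁻¹ = ξ := inv_eq_of_mul_eq_one_left hξ2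
  have e1 : ∀ n : L, ∀ y ∈ S, x (n * x y * n⁻¹) = x n * y * (x n)⁻¹ := by
    intro n y hy
    rw [map_mul, map_mul, map_inv, hxx y hy]
  have hnorm : ∀ n ∈ normalizer ((S : Subgroup L) : Set L), x n ∈ normalizer ((S : Subgroup L) : Set L) := by
    intro n hn
    apply mem_normalizer_fintype
    intro y hy
    rw [← e1 n y hy]
    exact hx _ ((mem_normalizer_iff.1 hn (x y)).1 (hx y hy))
  have h1 : ξ = 1 := by
    refine eight (fun v => ?_) hc8 _ hAo hA7 hξ2 ?_
    · rw [pow_two]; exact Subtype.ext (hexp v v.2)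
    · rintro _ ⟨n, rfl⟩
      refine ⟨⟨x n.1, hnorm n.1 n.2⟩, ?_⟩
      rw [hξi]
      apply MulEquiv.ext
      intro s
      apply Subtype.ext
      show x n.1 * s.1 * (x n.1)⁻¹ = x (n.1 * x s.1 * n.1⁻¹)
      rw [e1 n.1 s.1 s.2]
  intro s hs
  exact congrArg Subtype.val (DFunLike.congr_fun h1 (⟨s, hs⟩ : (S : Subgroup L)))

/-- **automorphisms of order dividing 4 have order dividing 2** -/
theorem sq_eq_one [IsSimpleGroup L] (hL : ¬ IsMulCommutative L)
    (h : ∀ S : Sylow 2 L, Nat.card (S : Subgroup L) = 8 ∧ ∀ s ∈ S, s * s = 1) {a : MulAut L}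
    (ha : (a * a) * (a * a) = 1) : a * a = 1 := by
  have : Fact (Nat.Prime 2) := ⟨Nat.prime_two⟩
  have h4 : a ^ 2 ^ 2 = 1 := by
    rw [show (2 : ℕ) ^ 2 = 2 * 2 by norm_num, pow_mul, pow_two, pow_two, ha]
  have hp : IsPGroup 2 (zpowers a) := by
    rintro ⟨_, m, rfl⟩
    refine ⟨2, Subtype.ext ?_⟩
    change (a ^ m) ^ 2 ^ 2 = 1
    rw [← zpow_natCast, zpow_comm, zpow_natCast, h4, one_zpow]
  obtain ⟨S, hS⟩ := exists_sylow hp
  obtain ⟨h8, hexp⟩ := h S
  have hinv : ∀ s ∈ S, s⁻¹ = s := fun s hs => inv_eq_of_mul_eq_one_left (hexp s hs)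
  have hab : ∀ a ∈ S, ∀ b ∈ S, a * b = b * a := by
    intro a ha b hb
    have h1 := hinv _ ((S : Subgroup L).mul_mem ha hb)
    rw [mul_inv_rev, hinv a ha, hinv b hb] at h1
    exact h1.symm
  have h2 : 2 ∣ Nat.card L := by
    refine Dvd.dvd.trans ?_ (S : Subgroup L).card_subgroup_dvd_card
    rw [h8]; norm_num
  have haS : ∀ s ∈ S, a s ∈ S := hS a (mem_zpowers a)
  have hzS : ∀ s ∈ S, (a * a) s = s :=
    triv_on hL S h8 hexp (fun s hs => haS _ (haS s hs)) (fun s _ => DFunLike.congr_fun ha s)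
  have haS' : ∀ s ∈ S, a s = s := triv_on hL S h8 hexp haS hzS
  obtain ⟨w, rfl⟩ := inner_of_cent hL h2 S hab (k := 2) h4 haS'
  -- `w` is a 2-element
  have hinj := conj_inj hL
  have hw4 : w ^ 2 ^ 2 = 1 := hinj (by rw [map_pow, h4, map_one])
  have hpw : IsPGroup 2 (zpowers w) := by
    rintro ⟨_, m, rfl⟩
    refine ⟨2, Subtype.ext ?_⟩
    change (w ^ m) ^ 2 ^ 2 = 1
    rw [← zpow_natCast, zpow_comm, zpow_natCast, hw4, one_zpow]
  obtain ⟨R, hR⟩ := hpw.exists_le_sylow
  rw [← map_mul, (h R).2 w (hR (mem_zpowers w)), map_one]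

end

section

variable {H : Type*} [Group H] {L : Subgroup H} {z a b : H}

theorem eight_mem [Finite L] [IsSimpleGroup L] (hN : L.Normal) (hL : ¬ IsMulCommutative L)
    (hs : ∀ S : Sylow 2 L, Nat.card (S : Subgroup L) = 8 ∧ ∀ s ∈ S, s * s = 1) (h : QP z a b) :
    z ∈ centralizer (L : Set H) := by
  have h1 := h.map (MulAut.conjNormal (H := L))
  have h3 : (MulAut.conjNormal z : MulAut L) = 1 := by
    rw [← h1.aa]
    apply sq_eq_one hL hs
    rw [h1.aa, h1.zz]
  rw [mem_centralizer_iff]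
  intro x hx
  have h2 := congrArg Subtype.val (DFunLike.congr_fun h3 (⟨x, hx⟩ : L))
  rw [MulAut.conjNormal_apply, MulAut.one_apply] at h2
  have h4 : z * x * z⁻¹ = x := h2
  rw [mul_inv_eq_iff_eq_mul] at h4
  exact h4.symm

/-- **`²G₂(q)`** -/
theorem ree_mem (hN : L.Normal) (hL : Cfsg.Lie.IsoRee L) (h : QP z a b) : z ∈ centralizer (L : Set H) := by
  obtain ⟨F, _, _, m, hm, hF, ⟨e⟩⟩ := hL
  obtain ⟨hs, hc⟩ := Cfsg.Agent.S1073.result hm hF
  obtain ⟨u, huH, hu1, hu2⟩ := Cfsg.Agent.S1157.exists_involution hF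
  obtain ⟨-, hS⟩ := Cfsg.Agent.S1152.result hF u huH hu1 hu2
  have hfin : Finite ↥(Cfsg.Lie.twistedG2 F (3 ^ m)) := inferInstance
  have : Finite L := Finite.of_equiv _ e.symm.toEquiv
  have : IsSimpleGroup L := e.isSimpleGroup
  refine eight_mem hN (fun hcL => hc ?_) (fun S => ?_) h
  · exact ⟨⟨fun x y => e.symm.injective (by rw [map_mul, map_mul]; exact hcL.is_comm.comm _ _)⟩⟩
  · have hfac : Fact (Nat.Prime 2) := ⟨Nat.prime_two⟩
    obtain ⟨h8, hx⟩ := hS (S.mapSurjective (f := e.toMonoidHom) e.surjective)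
    constructor
    · rw [← h8]
      exact Nat.card_congr ((S : Subgroup L).equivMapOfInjective e.toMonoidHom e.injective).toEquiv
    · intro s hs'
      apply e.injective
      rw [map_mul, map_one]
      exact hx _ ⟨s, hs', rfl⟩

end

end Cfsg.Agent.Cit.Nil.LO
end
end

-- part: Cit/Nil/LO/LTwoOut
section
set_option linter.all false
open scoped Cfsg.Agent.FastGrp

/-!
# `L₂(q)`, `q` odd: fields without automorphisms of odd order (helper724)

S1309, node (n2), the arithmetic of helper981's step (2).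

* `pow_sub_ne` : `x ^ m - δ` is not a power of two, `x ≥ 3` odd, `m > 1` odd, `δ = ±1`;
* `ringEquiv_one_of_pow` : `|F| - δ = 2^a` or `|F| = r²`, `r ± 1 = 2^a`: automorphisms of odd order are trivial.
-/

set_option autoImplicit false
set_option linter.unusedSectionVars false

namespace Cfsg.Agent.Cit.Nil.LO

open Matrix Subgroup Cfsg
open Cfsg.Agent.Lib.SL2Mat Cfsg.Agent.Lib.AutSL2 Cfsg.Agent.Classification.QDW.TypeHom

section arith

/-- `x ^ m - δ` is not a power of two -/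
theorem pow_sub_ne {x δ : ℤ} {m a : ℕ} (hx : 3 ≤ x) (hxo : Odd x) (hδ : δ = 1 ∨ δ = -1) (hm : Odd m) (h1 : 1 < m) :
    x ^ m - δ ≠ 2 ^ a := by
  intro h
  have hδm : δ ^ m = δ := by
    rcases hδ with rfl | rfl
    · rw [one_pow]
    · exact hm.neg_one_pow
  have h2p : Prime (2 : ℤ) := Int.prime_two
  have hd : x - δ ∣ 2 ^ a := by
    rw [← h, ← hδm]
    nth_rw 1 [hδm]
    have := sub_dvd_pow_sub_pow x δ m
    rwa [hδm] at this ⊢
  have hpos : 0 < x - δ := by rcases hδ with rfl | rfl <;> omega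
  obtain ⟨b, hb⟩ : ∃ b : ℕ, x - δ = 2 ^ b := by
    obtain ⟨n, hn⟩ := Int.eq_ofNat_of_zero_le hpos.le
    rw [hn] at hd ⊢
    have h3 : n ∣ 2 ^ a := by exact_mod_cast hd
    obtain ⟨b, -, hb⟩ := (Nat.dvd_prime_pow Nat.prime_two).1 h3
    exact ⟨b, by rw [hb]; push_cast; rfl⟩
  have hmul : emultiplicity 2 (x ^ m - δ ^ m) = emultiplicity 2 (x - δ) := by
    apply emultiplicity_pow_sub_pow_of_prime h2p
    · obtain ⟨k, hk⟩ := hxo
      rcases hδ with rfl | rfl
      · exact ⟨k, by rw [hk]; ring⟩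
      · exact ⟨k + 1, by rw [hk]; ring⟩
    · intro h3
      obtain ⟨k, hk⟩ := hxo
      obtain ⟨l, hl⟩ := h3
      omega
    · intro h3
      obtain ⟨k, hk⟩ := hm
      omega
  rw [hδm, h, hb, emultiplicity_pow_self_of_prime h2p, emultiplicity_pow_self_of_prime h2p] at hmul
  have hab : a = b := by exact_mod_cast hmul
  rw [hab, ← hb] at h
  have h4 : x ^ m = x := by linarith
  have h5 : x < x ^ m := by
    calc x = x ^ 1 := (pow_one x).symm
      _ < x ^ m := pow_lt_pow_right₀ (by omega) h1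
  omega

/-- `r ^ 2 = s ^ m`, `m` odd: `s` is a square and `r` a power of its root -/
theorem exists_root_of_sq {r s m : ℕ} (hr : 0 < r) (hm : Odd m) (h : r ^ 2 = s ^ m) : ∃ t, s = t ^ 2 ∧ r = t ^ m := by
  obtain ⟨k, rfl⟩ := hm
  have h1 : r ^ 2 = s * (s ^ k) ^ 2 := by rw [h]; ring
  have hs : 0 < s := by
    rcases Nat.eq_zero_or_pos s with rfl | hs
    · rw [zero_mul] at h1
      have := pow_pos hr 2
      omega
    · exact hs
  have h2 : s ^ k ∣ r := by
    rw [← Nat.pow_dvd_pow_iff (n := 2) (by norm_num), h1]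
    exact dvd_mul_left _ _
  obtain ⟨t, rfl⟩ := h2
  have h3 : (s ^ k) ^ 2 * t ^ 2 = (s ^ k) ^ 2 * s := by rw [← mul_pow, h1, mul_comm]
  have h4 : t ^ 2 = s := Nat.eq_of_mul_eq_mul_left (by positivity) h3
  refine ⟨t, h4.symm, ?_⟩
  rw [← h4]
  ring

end arith

section field

variable {F : Type*} [Field F] [Finite F]

/-- the fixed field of an automorphism -/
theorem exists_fixed_card (σ : F ≃+* F) : ∃ q, 1 < q ∧ Nat.card F = q ^ orderOf σ := by
  classical
  have : Finite (F ≃+* F) :=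
    Finite.of_injective (fun σ : F ≃+* F => (σ : F → F)) DFunLike.coe_injective
  have : Fintype (Subgroup.zpowers σ) := Fintype.ofFinite _
  let K := FixedPoints.subfield (Subgroup.zpowers σ) F
  have h1 := FixedPoints.finrank_eq_card (Subgroup.zpowers σ) F
  rw [← Nat.card_eq_fintype_card, Nat.card_zpowers] at h1
  refine ⟨Nat.card K, Finite.one_lt_card, ?_⟩
  rw [← h1]
  exact Module.natCard_eq_pow_finrank

/-- `|F|` is such that the automorphisms of odd order are trivial -/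
def NoOdd (q : ℕ) : Prop :=
  (∃ (δ : ℤ) (a : ℕ), (δ = 1 ∨ δ = -1) ∧ (q : ℤ) - δ = 2 ^ a) ∨
  (∃ (r : ℕ) (δ : ℤ) (a : ℕ), q = r ^ 2 ∧ (δ = 1 ∨ δ = -1) ∧ (r : ℤ) - δ = 2 ^ a)

theorem ringEquiv_one {σ : F ≃+* F} (h2 : (2 : F) ≠ 0) (hF : NoOdd (Nat.card F)) (hσ : Odd (orderOf σ)) : σ = 1 := by
  by_contra hne
  have h1 : orderOf σ ≠ 1 := fun h => hne (orderOf_eq_one_iff.1 h)
  have hm1 : 1 < orderOf σ := by
    obtain ⟨k, hk⟩ := hσ
    omega
  have hcar : Nat.card F % 2 = 1 := Lib.PSL2Torus.odd_card h2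
  obtain ⟨q, hq1, hq⟩ := exists_fixed_card σ
  have hqo : Odd q := by
    by_contra hc
    rw [Nat.not_odd_iff_even] at hc
    have : Even (Nat.card F) := by rw [hq]; exact hc.pow_of_ne_zero (by omega)
    rw [Nat.even_iff] at this
    omega
  rcases hF with ⟨δ, a, hδ, ha⟩ | ⟨r, δ, a, hr, hδ, ha⟩
  · refine pow_sub_ne (x := q) (δ := δ) (m := orderOf σ) (a := a) ?_ ?_ hδ hσ hm1 ?_
    · obtain ⟨k, hk⟩ := hqo
      omega
    · exact_mod_cast hqo
    · rw [← ha, hq]; push_cast; rfl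
  · have hr0 : 0 < r := by
      rcases Nat.eq_zero_or_pos r with rfl | h
      · rw [hr] at hcar
        omega
      · exact h
    obtain ⟨t, ht, htr⟩ := exists_root_of_sq hr0 hσ (hr.symm.trans hq)
    have hto : Odd t := by
      by_contra hc
      rw [Nat.not_odd_iff_even] at hc
      have : Even q := by rw [ht]; exact hc.pow_of_ne_zero (by norm_num)
      exact (Nat.not_even_iff_odd.2 hqo) this
    refine pow_sub_ne (x := t) (δ := δ) (m := orderOf σ) (a := a) ?_ ?_ hδ hσ hm1 ?_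
    · obtain ⟨k, hk⟩ := hto
      rcases Nat.eq_zero_or_pos k with rfl | hk0
      · rw [hk] at ht
        norm_num at ht
        omega
      · omega
    · exact_mod_cast hto
    · rw [← ha, htr]; push_cast; rfl

end field

end Cfsg.Agent.Cit.Nil.LO
end

-- part: Cit/Nil/LO/LTwoAut
section
prune_inst 0x20400200700000000000000212000000000000000000000000000000000900200d400800020010009000010028040000001000000000000000000000000001000000000001000008820000000080000000000000000000000000000000000000000000000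
set_option linter.all false
open scoped Cfsg.Agent.FastGrp

/-!
# `L₂(q)`, `q` odd: automorphisms of odd order of `SL(2,F)` (helper724)

S1309, node (n2), helper981's step (2).

* `conj_of_typ` : an automorphism of odd order of field type `1` is inner;
* `factB` : an involution `w` fixing no element `≠ 1` of odd order: an automorphism of odd order commuting with `w`
  is trivial;
* `root_cases` : two square roots of `z` in `PGL(2,F)` are equal or inverse;
* `factA0` : two commuting quaternion groups over the same `z` do not exist;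
* `factA` : a quaternion group fixing the elements of odd order fixed by `z`: automorphisms of odd order are inner.
-/

set_option autoImplicit false
set_option linter.unusedSectionVars false

namespace Cfsg.Agent.Cit.Nil.LO

open Matrix Subgroup Cfsg
open Cfsg.Agent.Lib.SL2Mat Cfsg.Agent.Lib.AutSL2 Cfsg.Agent.Lib.AutSL2Out Cfsg.Agent.Classification.QDW.TypeHom
open Cfsg.Agent.LFourA.FieldInv (comm_of_conj exists_scalar conjGL_scalar conjGL_smul gl_det_ne eq_one_of_map)

local notation "SL2" => Matrix.SpecialLinearGroup (Fin 2)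

section basic

variable {F : Type*} [Field F]

theorem conj_eq_one (h2 : (2 : F) ≠ 0) {x : SL2 F} (h : MulAut.conj x = 1) : x = 1 ∨ x = -1 := by
  apply Lib.PSL2Inv.sq_eq_one h2
  have h1 : conjGL (Matrix.SpecialLinearGroup.toGL x) = 1 := MulEquiv.ext fun y => by
    rw [conjGL_toGL, ← MulAut.conj_apply, h]
  obtain ⟨c, hc⟩ := conjGL_eq_one_iff.1 h1
  have h3 : x.1 = c • (1 : Matrix (Fin 2) (Fin 2) F) := hc
  have h4 : x.1.det = 1 := x.2
  rw [h3, Matrix.det_smul, Matrix.det_one, Fintype.card_fin, mul_one] at h4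
  apply Subtype.ext
  change x.1 * x.1 = 1
  rw [h3, Matrix.smul_mul, Matrix.one_mul, smul_smul, ← pow_two, h4, one_smul]

theorem conj_sq (g : GL (Fin 2) F) : ∃ s : SL2 F, conjGL (g * g) = MulAut.conj s := by
  obtain ⟨s, hs⟩ := conjGL_of_det_sq (g * g) g.1.det (gl_det_ne g) (by
    rw [Units.val_mul, Matrix.det_mul, pow_two])
  exact ⟨s, MulEquiv.ext fun x => by rw [hs, MulAut.conj_apply]⟩

/-- a power of an element `c` with `c ^ n = 1`, `n` odd -/
theorem pow_half {H : Type*} [Group H] {c : H} {n : ℕ} (hn : Odd n) (h : c ^ n = 1) : (c * c) ^ ((n + 1) / 2) = c := by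
  obtain ⟨k, rfl⟩ := hn
  have : (2 * k + 1 + 1) / 2 = k + 1 := by omega
  rw [this, ← pow_two, ← pow_mul]
  have : 2 * (k + 1) = (2 * k + 1) + 1 := by ring
  rw [this, pow_succ, h, one_mul]

variable [Finite F]

theorem conj_of_typ (h2 : (2 : F) ≠ 0) {c : MulAut (SL2 F)} (ht : typ c = 1) (hc : Odd (orderOf c)) :
    ∃ x : SL2 F, Odd (orderOf x) ∧ c = MulAut.conj x := by
  obtain ⟨g, rfl⟩ := (typ_eq_one_iff c).1 ht
  obtain ⟨s, hs⟩ := conj_sq g
  set n := orderOf (conjGL g) with hn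
  have h1 : (conjGL g) ^ n = 1 := pow_orderOf_eq_one _
  have h3 : conjGL g = MulAut.conj (s ^ ((n + 1) / 2)) := by
    rw [map_pow, ← hs, map_mul, pow_half hc h1]
  set x := s ^ ((n + 1) / 2) with hx
  -- `x ^ n` is central
  have h4 : MulAut.conj (x ^ n) = 1 := by rw [map_pow, ← h3, h1]
  have h5 : x ^ n * x ^ n = 1 := by
    rcases conj_eq_one h2 h4 with h | h
    · rw [h, one_mul]
    · rw [h, neg_mul_neg, one_mul]
  obtain ⟨k, hk⟩ := hc
  have h6 : (x ^ (n + 1)) ^ n = 1 := by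
    have e : n + 1 = 2 * (k + 1) := by omega
    have e2 : 2 * (k + 1) * n = (n + n) * (k + 1) := by ring
    calc (x ^ (n + 1)) ^ n = x ^ ((n + n) * (k + 1)) := by rw [← pow_mul, e, e2]
      _ = (x ^ n * x ^ n) ^ (k + 1) := by rw [pow_mul x (n + n) (k + 1), pow_add x n n]
      _ = 1 := by rw [h5, one_pow]
  refine ⟨x ^ (n + 1), ?_, ?_⟩
  · have h7 : orderOf (x ^ (n + 1)) ∣ n := orderOf_dvd_of_pow_eq_one h6
    exact Odd.of_dvd_nat ⟨k, hk⟩ h7
  · rw [map_pow, ← h3, pow_succ, h1, one_mul]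

/-- an element of odd order commuting modulo `±1` commutes -/
theorem comm_of_conj_comm (h2 : (2 : F) ≠ 0) {x e : SL2 F} (hx : Odd (orderOf x))
    (h : MulAut.conj x * MulAut.conj e = MulAut.conj e * MulAut.conj x) : x * e = e * x := by
  have h1 : MulAut.conj ((e * x)⁻¹ * (x * e)) = 1 := by
    rw [map_mul, map_inv, map_mul, map_mul, h, inv_mul_cancel]
  rcases conj_eq_one h2 h1 with h3 | h3
  · exact (inv_mul_eq_one.1 h3).symm
  · have h4 : x * e = -(e * x) := by rw [inv_mul_eq_iff_eq_mul.1 h3, mul_neg, mul_one]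
    have h5 : ∀ k : ℕ, x ^ (2 * k) * e = e * x ^ (2 * k) := by
      intro k
      induction k with
      | zero => rw [mul_zero, pow_zero, one_mul, mul_one]
      | succ k ih =>
        have e1 : x ^ (2 * (k + 1)) = x * x * x ^ (2 * k) := by
          rw [Nat.mul_succ, add_comm, pow_add, pow_two]
        have e2 : x * x * e = e * (x * x) := by
          rw [mul_assoc, h4, mul_neg, ← mul_assoc, h4, neg_mul, neg_neg, mul_assoc]
        rw [e1, mul_assoc, ih, ← mul_assoc, e2, mul_assoc]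
    have h6 : (x * x) ^ ((orderOf x + 1) / 2) = x := pow_half hx (pow_orderOf_eq_one x)
    have h7 := h5 ((orderOf x + 1) / 2)
    rw [pow_mul, pow_two, h6] at h7
    exact h7

end basic

section B

variable {F : Type*} [Field F] [Finite F]

theorem typ_one_of_noOdd (h2 : (2 : F) ≠ 0) (hF : NoOdd (Nat.card F)) {c : MulAut (SL2 F)} (hc : Odd (orderOf c)) :
    typ c = 1 :=
  ringEquiv_one h2 hF (hc.of_dvd_nat (orderOf_map_dvd typ c))

/-- **Fact B** -/
theorem factB (h2 : (2 : F) ≠ 0) (h3 : 3 < Nat.card F) {w c : MulAut (SL2 F)} (hw : w * w = 1) (hw1 : w ≠ 1)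
    (hno : ∀ x, Odd (orderOf x) → w x = x → x = 1) (hc : Odd (orderOf c)) (hcw : c * w = w * c) : c = 1 := by
  have hww : ∀ x, w (w x) = x := fun x => by rw [← MulAut.mul_apply, hw, MulAut.one_apply]
  have hne : ∃ x, w x ≠ x := by
    by_contra hcon
    push Not at hcon
    exact hw1 (MulEquiv.ext hcon)
  rcases sl_cases h2 h3 hww hne with ⟨x, hx1, hx, hwx⟩ | ⟨e, τ, j, he, hwe, ⟨a, -, ha⟩, hτ, -⟩
  · exact absurd (hno x hx hwx) hx1
  have htre : ent e 1 1 = - ent e 0 0 := Lib.PSL2Inv.tr_of_sq h2 he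
  have hcard := Lib.PSL2Circle.card_centralizer h2 htre
  have hcen : Subgroup.centralizer ({e} : Set (SL2 F)) = Subgroup.zpowers τ := by
    ext x
    rw [← hτ, hwe, mul_inv_eq_iff_eq_mul, Subgroup.mem_centralizer_singleton_iff]
    exact eq_comm
  rw [hcen, Nat.card_zpowers, ha] at hcard
  have hNo : NoOdd (Nat.card F) := by
    left
    rcases Lib.PSL2Circle.card_circ (F := F) h2 with ⟨-, hq⟩ | ⟨-, hq⟩
    · refine ⟨1, a, Or.inl rfl, ?_⟩
      rw [hq] at hcard
      have : ((2 ^ a : ℕ) : ℤ) = ((Nat.card F - 1 : ℕ) : ℤ) := by rw [hcard]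
      push_cast [Nat.cast_sub (show 1 ≤ Nat.card F by omega)] at this
      linarith only [this]
    · refine ⟨-1, a, Or.inr rfl, ?_⟩
      rw [hq] at hcard
      have : ((2 ^ a : ℕ) : ℤ) = ((Nat.card F + 1 : ℕ) : ℤ) := by rw [hcard]
      push_cast at this
      linarith only [hcard]
  obtain ⟨x, hx, rfl⟩ := conj_of_typ h2 (typ_one_of_noOdd h2 hNo hc) hc
  have hwe' : w = MulAut.conj e := MulEquiv.ext fun y => by rw [hwe, MulAut.conj_apply]
  rw [hwe'] at hcw
  have h4 := comm_of_conj_comm h2 hx hcw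
  have h5 : x = 1 := hno x hx (by rw [hwe, mul_inv_eq_iff_eq_mul]; exact h4.symm)
  rw [h5, map_one]

end B

section roots

variable {F : Type*} [Field F]

/-- **square roots in `PGL(2,F)`** of the same nontrivial involution are equal or inverse -/
theorem root_cases {g g' : GL (Fin 2) F} (h : conjGL (g * g) = conjGL (g' * g')) (h1 : conjGL (g * g) ≠ 1)
    (h4 : conjGL (g * g) * conjGL (g * g) = 1) : conjGL g' = conjGL g ∨ conjGL g' = (conjGL g)⁻¹ := by
  have hn : ¬ ∃ d : F, (g * g).1 = d • (1 : Matrix (Fin 2) (Fin 2) F) := fun h => h1 (conjGL_eq_one_iff.2 h)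
  have h4' := h4
  rw [← map_mul, conjGL_eq_one_iff] at h4'
  obtain ⟨c, hc4⟩ := h4'
  rw [Units.val_mul] at hc4
  have ht := trace_zero hc4 hn
  -- `g' g' = v g g`
  obtain ⟨v, hv⟩ : ∃ v : F, (g' * g').1 = v • (g * g).1 := by
    have h5 : conjGL (g' * g' * (g * g)⁻¹) = 1 := by rw [map_mul, map_inv, h, mul_inv_cancel]
    obtain ⟨v, hv⟩ := conjGL_eq_one_iff.1 h5
    refine ⟨v, ?_⟩
    have h6 : (g' * g' * (g * g)⁻¹).1 * (g * g).1 = (g' * g').1 := by
      rw [← Units.val_mul, inv_mul_cancel_right]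
    rw [← h6, hv, Matrix.smul_mul, Matrix.one_mul]
  set M := (g * g).1 with hM
  have hcay : ∀ k : GL (Fin 2) F, k.1.trace • k.1 = (k * k).1 + k.1.det • (1 : Matrix (Fin 2) (Fin 2) F) := by
    intro k
    rw [Units.val_mul]
    ext i j
    (revert i j; simp only [Matrix.mul_apply, Fin.sum_univ_two, Matrix.trace_fin_two, Matrix.det_fin_two, _root_.Fin.forall_fin_succ, Fin.isValue, _root_.Matrix.smul_apply, _root_.smul_eq_mul, _root_.Matrix.add_apply, _root_.Fin.succ_zero_eq_one, _root_.IsEmpty.forall_iff, _root_.and_true, _root_.Matrix.one_apply_eq, _root_.mul_one, _root_.add_add_sub_cancel, Nat.reduceAdd, _root_.ne_eq, _root_.zero_ne_one, _root_.not_false_eq_true, _root_.Matrix.one_apply_ne, _root_.MulZeroClass.mul_zero, _root_.add_zero, _root_.Fin.succ_ne_zero]) <;> (repeat' with_reducible apply And.intro) <;> ring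
  have hMM : M * M = -(g.1.det ^ 2) • (1 : Matrix (Fin 2) (Fin 2) F) := by
    have hdM : M.det = g.1.det ^ 2 := by rw [hM, Units.val_mul, Matrix.det_mul, pow_two]
    rw [← hdM]
    ext i j
    (revert i j; simp only [Matrix.mul_apply, Fin.sum_univ_two, Matrix.det_fin_two, ht, _root_.Fin.forall_fin_succ, Fin.isValue, _root_.mul_neg, _root_.neg_sub, _root_.sub_neg_eq_add, _root_.Matrix.smul_apply, _root_.smul_eq_mul, _root_.Fin.succ_zero_eq_one, _root_.IsEmpty.forall_iff, _root_.and_true, _root_.Matrix.one_apply_eq, _root_.mul_one, Nat.reduceAdd, _root_.ne_eq, _root_.zero_ne_one, _root_.not_false_eq_true, _root_.Matrix.one_apply_ne, _root_.MulZeroClass.mul_zero, _root_.Fin.succ_ne_zero, _root_.neg_mul, _root_.neg_neg, _root_.add_left_inj]) <;> (repeat' with_reducible apply And.intro) <;> ring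
  have hd0 := gl_det_ne g
  have hd0' := gl_det_ne g'
  have hdet : g'.1.det ^ 2 = v ^ 2 * g.1.det ^ 2 := by
    have e1 := congrArg Matrix.det hv
    rw [Units.val_mul, Matrix.det_mul, Matrix.det_smul, hM, Units.val_mul, Matrix.det_mul, Fintype.card_fin] at e1
    linear_combination e1
  have hv0 : v ≠ 0 := by
    rintro rfl
    rw [zero_pow (by norm_num), zero_mul] at hdet
    exact hd0' (pow_eq_zero_iff (by norm_num) |>.1 hdet)
  have e1 := hcay g
  rw [← hM] at e1
  have e2 := hcay g'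
  rw [hv] at e2
  have htr' : g'.1.trace ≠ 0 := by
    intro h0
    rw [h0, zero_smul] at e2
    apply hn
    refine ⟨-(v⁻¹ * g'.1.det), ?_⟩
    have e3 : v • M = -(g'.1.det) • (1 : Matrix (Fin 2) (Fin 2) F) := by
      rw [neg_smul]
      exact eq_neg_of_add_eq_zero_left e2.symm
    have e4 : M = v⁻¹ • (v • M) := by rw [smul_smul, inv_mul_cancel₀ hv0, one_smul]
    rw [e4, e3, smul_smul]
    congr 1
    ring
  have hcases : g'.1.det = v * g.1.det ∨ g'.1.det = -(v * g.1.det) := by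
    rw [← mul_pow] at hdet
    exact sq_eq_sq_iff_eq_or_eq_neg.1 hdet
  rcases hcases with h5 | h5
  · left
    have e3 : g'.1.trace • g'.1 = (v * g.1.trace) • g.1 := by
      rw [e2, h5, mul_smul v g.1.trace g.1, e1, smul_add, smul_smul]
    have e4 : g'.1 = (g'.1.trace⁻¹ * (v * g.1.trace)) • g.1 := by
      rw [mul_smul, ← e3, smul_smul, inv_mul_cancel₀ htr', one_smul]
    exact MulEquiv.ext fun x => conjGL_smul e4 x
  · right
    rw [eq_inv_iff_mul_eq_one, ← map_mul, conjGL_eq_one_iff]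
    have htr : g.1.trace ≠ 0 := by
      intro h0
      rw [h0, zero_smul] at e1
      apply hn
      exact ⟨-(g.1.det), by rw [neg_smul]; exact eq_neg_of_add_eq_zero_left e1.symm⟩
    have e3 : (g'.1.trace * g.1.trace) • (g'.1 * g.1) = (-(2 * v * g.1.det ^ 2)) • (1 : Matrix (Fin 2) (Fin 2) F) := by
      have e4 : (g'.1.trace * g.1.trace) • (g'.1 * g.1) = (g'.1.trace • g'.1) * (g.1.trace • g.1) := by
        rw [Matrix.smul_mul, Matrix.mul_smul, smul_smul]
      rw [e4, e2, e1, h5, add_mul, mul_add, mul_add, Matrix.smul_mul, hMM]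
      ext i j
      (revert i j; simp only [_root_.Fin.forall_fin_succ, _root_.neg_smul, _root_.smul_neg, _root_.Algebra.mul_smul_comm, _root_.mul_one, _root_.neg_mul, _root_.Algebra.smul_mul_assoc, _root_.one_mul, _root_.Matrix.add_apply, _root_.Matrix.neg_apply, _root_.Matrix.smul_apply, _root_.smul_eq_mul, Fin.isValue, _root_.Fin.succ_zero_eq_one, _root_.IsEmpty.forall_iff, _root_.and_true, _root_.Matrix.one_apply_eq, Nat.reduceAdd, _root_.ne_eq, _root_.zero_ne_one, _root_.not_false_eq_true, _root_.Matrix.one_apply_ne, _root_.MulZeroClass.mul_zero, _root_.neg_zero, _root_.zero_add, _root_.add_zero, _root_.Fin.succ_ne_zero]) <;> (repeat' with_reducible apply And.intro) <;> ring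
    refine ⟨(g'.1.trace * g.1.trace)⁻¹ * (-(2 * v * g.1.det ^ 2)), ?_⟩
    rw [mul_smul, ← e3, smul_smul, inv_mul_cancel₀ (mul_ne_zero htr' htr), one_smul, Units.val_mul]

end roots

section A

variable {F : Type*} [Field F] [Fintype F]

/-- a root commuting with `a` and `b` -/
theorem QP.false_of_comm {H : Type*} [Group H] {z a b k : H} (h : QP z a b) (hz : z ≠ 1)
    (hk : k = a ∨ k = b ∨ k = a * b) (ha : k * a = a * k) (hb : k * b = b * k) : False := by
  have hab : a * b = b * a := by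
    rcases hk with rfl | rfl | rfl
    · exact hb
    · exact ha.symm
    · have h1 : a * (b * a) = a * (a * b) := by rw [← mul_assoc, ha]
      exact (mul_left_cancel h1).symm
  apply hz
  have h1 := h.ba
  rw [← hab, mul_inv_cancel_right] at h1
  rw [← h.aa]
  nth_rw 2 [h1]
  rw [mul_inv_cancel]

theorem noOdd_of_div {q r n s : ℕ} (hr : 3 ≤ r) (hq : q = r ^ 2) (hn : q - 1 = 2 ^ s * n) (hno : Odd n)
    (h : n ∣ r - 1 ∨ n ∣ r + 1) : NoOdd q := by
  right
  have hfac : (r - 1) * (r + 1) = 2 ^ s * n := by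
    rw [← hn, hq]
    obtain ⟨t, rfl⟩ : ∃ t, r = t + 1 := ⟨r - 1, by omega⟩
    have : (t + 1) ^ 2 - 1 = t * (t + 1 + 1) := by
      have e : (t + 1) ^ 2 = t * (t + 1 + 1) + 1 := by ring
      omega
    rw [this, Nat.add_sub_cancel]
  have hn0 : 0 < n := hno.pos
  rcases h with ⟨k, hk⟩ | ⟨k, hk⟩
  · -- `r + 1` divides `2 ^ s`
    have h1 : (r + 1) * k = 2 ^ s := by
      rw [hk] at hfac
      have e : n * ((r + 1) * k) = n * 2 ^ s := by rw [mul_comm n (2 ^ s), ← hfac]; ring
      exact Nat.eq_of_mul_eq_mul_left hn0 e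
    obtain ⟨a, -, ha⟩ := (Nat.dvd_prime_pow Nat.prime_two).1 (Dvd.intro _ h1)
    refine ⟨r, -1, a, hq, Or.inr rfl, ?_⟩
    have : ((r + 1 : ℕ) : ℤ) = ((2 ^ a : ℕ) : ℤ) := by rw [ha]
    push_cast at this
    linarith only [ha]
  · have h1 : (r - 1) * k = 2 ^ s := by
      rw [hk] at hfac
      have e : n * ((r - 1) * k) = n * 2 ^ s := by rw [mul_comm n (2 ^ s), ← hfac]; ring
      exact Nat.eq_of_mul_eq_mul_left hn0 e
    obtain ⟨a, -, ha⟩ := (Nat.dvd_prime_pow Nat.prime_two).1 (Dvd.intro _ h1)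
    refine ⟨r, 1, a, hq, Or.inl rfl, ?_⟩
    have : ((r - 1 : ℕ) : ℤ) = ((2 ^ a : ℕ) : ℤ) := by rw [ha]
    push_cast [Nat.cast_sub (show 1 ≤ r by omega)] at this
    linarith only [this]

/-- **Fact A** -/
theorem factA (h2 : (2 : F) ≠ 0) (h3 : 3 < Nat.card F) {z a b c : MulAut (SL2 F)} (h : QP z a b) (hz : z ≠ 1)
    (hfix : ∀ x, Odd (orderOf x) → z x = x → a x = x ∧ b x = x) (hc : Odd (orderOf c)) :
    ∃ x : SL2 F, Odd (orderOf x) ∧ c = MulAut.conj x := by
  apply conj_of_typ h2 _ hc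
  refine typ_one_of_noOdd h2 ?_ hc
  -- `z = conj e`
  obtain ⟨g, hg, hgz⟩ := exists_root h
  obtain ⟨e, he⟩ := conj_sq g
  have hze : z = MulAut.conj e := by rw [← he, map_mul, hgz]
  have hee : e * e = -1 := by
    have h1 : MulAut.conj (e * e) = 1 := by rw [map_mul, ← hze, h.zz]
    rcases conj_eq_one h2 h1 with h4 | h4
    · exfalso
      apply hz
      rcases Lib.PSL2Inv.sq_eq_one h2 h4 with h5 | h5
      · rw [hze, h5, map_one]
      · rw [hze, h5]
        refine MulEquiv.ext fun x => ?_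
        rw [MulAut.conj_apply, MulAut.one_apply, neg_one_mul, inv_neg, inv_one, mul_neg, mul_one, neg_neg]
    · exact h4
  have htre : ent e 1 1 = - ent e 0 0 := Lib.PSL2Inv.tr_of_sq h2 hee
  have htz : typ z = 1 := by rw [← hgz, map_mul, typ_conjGL, one_mul]
  -- some element has nontrivial field type
  obtain ⟨k, hkf, hkk, hk1⟩ : ∃ k : MulAut (SL2 F), (∀ x, Odd (orderOf x) → z x = x → k x = x) ∧ k * k = z ∧
      typ k ≠ 1 := by
    by_cases ha : typ a = 1
    · by_cases hb : typ b = 1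
      · exfalso
        obtain ⟨g1, hg1⟩ := (typ_eq_one_iff a).1 ha
        obtain ⟨g2, hg2⟩ := (typ_eq_one_iff b).1 hb
        have e1 : conjGL (g1 * g1) = z := by rw [map_mul, ← hg1, h.aa]
        have e2 : conjGL (g2 * g2) = z := by rw [map_mul, ← hg2, h.bb]
        have hab : a * b = b * a := by
          rcases root_cases (e1.trans e2.symm) (by rw [e1]; exact hz) (by rw [e1]; exact h.zz) with h5 | h5
          · rw [← hg1, ← hg2] at h5
            rw [h5]
          · rw [← hg1, ← hg2] at h5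
            rw [h5, mul_inv_cancel, inv_mul_cancel]
        exact h.false_of_comm hz (Or.inl rfl) rfl hab
      · exact ⟨b, fun x hx hzx => (hfix x hx hzx).2, h.bb, hb⟩
    · exact ⟨a, fun x hx hzx => (hfix x hx hzx).1, h.aa, ha⟩
  set σ := typ k with hσ
  have hσσ : σ * σ = 1 := by rw [hσ, ← map_mul, hkk, htz]
  obtain ⟨K, hK, hcK⟩ := Classification.QDW.TypeHom.exists_fixed_card hσσ hk1
  have hσ2 : ∀ x, σ (σ x) = x := fun x => DFunLike.congr_fun hσσ x
  have hσne : ∃ x, σ x ≠ x := by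
    by_contra hcon
    push Not at hcon
    exact hk1 (RingEquiv.ext hcon)
  have hpow := LFourB.AutSylow.pow_of_involutory σ hσ2 hK hσne
  have hodd : Nat.card F % 2 = 1 := Lib.PSL2Torus.odd_card h2
  have hK3 : 3 ≤ Nat.card K := by
    have h1 : 1 < Nat.card K := Finite.one_lt_card
    have h5 : Nat.card K ≠ 2 := by
      intro h6
      rw [hcK, h6] at hodd
      norm_num at hodd
    omega
  -- `ι ^ 2 = -1`
  have h4q : Nat.card F % 4 = 1 := by
    rw [hcK]
    have h1 : Nat.card K % 2 = 1 := by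
      by_contra hcon
      have : Even (Nat.card K) := by rw [Nat.even_iff]; omega
      have h5 : Even (Nat.card F) := by rw [hcK]; exact this.pow_of_ne_zero (by norm_num)
      rw [Nat.even_iff] at h5
      omega
    have h5 : Nat.card K % 4 = 1 ∨ Nat.card K % 4 = 3 := by omega
    rw [Nat.pow_mod]
    rcases h5 with h5 | h5 <;> rw [h5] 
  obtain ⟨ι, hι⟩ : ∃ ι : F, -1 = ι * ι := by
    have := (FiniteField.isSquare_neg_one_iff (F := F)).2 (by rw [← Nat.card_eq_fintype_card]; omega)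
    exact this
  have hι0 : ι ≠ 0 := by
    rintro rfl
    rw [mul_zero] at hι
    exact neg_ne_zero.2 one_ne_zero hι
  have hιi : ι⁻¹ = -ι := inv_eq_of_mul_eq_one_right (by rw [mul_neg, ← hι, neg_neg])
  obtain ⟨s, hs⟩ := Lib.PSL2Torus.exists_conj h2 (i := dg ι hι0) (j := e) (by rw [dg_11, dg_00, hιi]) htre
  -- elements of the torus
  have htor : ∀ l : F, ∀ hl : l ≠ 0, Odd (orderOf (dg l hl)) → σ (l + l⁻¹) = l + l⁻¹ := by
    intro l hl ho
    set x := s * dg l hl * s⁻¹ with hx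
    have hxo : Odd (orderOf x) := by
      have : orderOf x = orderOf (dg l hl) := by
        rw [hx, ← MulAut.conj_apply, MulEquiv.orderOf_eq]
      rw [this]; exact ho
    have hcomm : dg ι hι0 * dg l hl = dg l hl * dg ι hι0 := by
      refine ext_ent ?_ ?_ ?_ ?_ <;> simp [ent_mul, mul_comm]
    have hze' : z x = x := by
      rw [hze, MulAut.conj_apply, ← hs, hx]
      have : s * dg ι hι0 * s⁻¹ * (s * dg l hl * s⁻¹) * (s * dg ι hι0 * s⁻¹)⁻¹ =
          s * (dg ι hι0 * dg l hl * (dg ι hι0)⁻¹) * s⁻¹ := by group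
      rw [this, hcomm, mul_inv_cancel_right]
    have h5 := hkf x hxo hze'
    have h6 := tr_apply k x
    rw [h5] at h6
    have h7 : tr x = l + l⁻¹ := by
      have h8 : tr x = tr (dg l hl) := by
        have := tr_conjGL (Matrix.SpecialLinearGroup.toGL s) (dg l hl)
        rwa [conjGL_toGL] at this
      rw [h8]
      rfl
    rw [h7] at h6
    exact h6.symm
  have hord : ∀ l : F, ∀ hl : l ≠ 0, ∀ n : ℕ, l ^ n = 1 → (dg l hl) ^ n = 1 := by
    intro l hl n hn
    have h5 : ∀ m : ℕ, (dg l hl) ^ m = dg (l ^ m) (pow_ne_zero m hl) := fun m => LFourB.AutSylow.dg_pow l hl m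
    rw [h5]
    refine ext_ent ?_ ?_ ?_ ?_ <;> simp [hn]
  -- a generator of the odd part
  have hq0 : Nat.card F - 1 ≠ 0 := by omega
  obtain ⟨t, n, hn, htn⟩ := Nat.exists_eq_two_pow_mul_odd hq0
  obtain ⟨u, hu⟩ := IsCyclic.exists_generator (α := Fˣ)
  have hou : orderOf u = Nat.card F - 1 := by
    rw [orderOf_eq_card_of_forall_mem_zpowers hu, Nat.card_units]
  set l : Fˣ := u ^ 2 ^ t with hl
  have hol : orderOf l = n := by
    rw [hl, orderOf_pow, hou, htn, Nat.gcd_eq_right (Dvd.intro _ rfl), Nat.mul_div_cancel_left _ (by positivity)]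
  have hln : (l : F) ^ n = 1 := by
    rw [← Units.val_pow_eq_pow_val, ← hol, pow_orderOf_eq_one, Units.val_one]
  have h5 := htor l l.ne_zero (by
    have : orderOf (dg (l : F) l.ne_zero) ∣ n := orderOf_dvd_of_pow_eq_one (hord _ _ n hln)
    exact hn.of_dvd_nat this)
  rw [map_add, map_inv₀] at h5
  have hl0 : (l : F) ≠ 0 := l.ne_zero
  have hσl0 : σ (l : F) ≠ 0 := by rwa [ne_eq, map_eq_zero]
  have h6 : (σ (l : F) - l) * (σ (l : F) * l - 1) = 0 := by
    field_simp at h5
    linear_combination h5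
  refine noOdd_of_div (r := Nat.card K) (n := n) (s := t) hK3 hcK htn hn ?_
  rcases mul_eq_zero.1 h6 with h7 | h7
  · left
    rw [sub_eq_zero, hpow] at h7
    have h8 : l ^ (Nat.card K - 1) = 1 := by
      apply Units.ext
      rw [Units.val_pow_eq_pow_val, Units.val_one]
      apply mul_right_cancel₀ hl0
      rw [one_mul, ← pow_succ, Nat.sub_add_cancel (by omega)]
      exact h7
    rw [← hol]
    exact orderOf_dvd_of_pow_eq_one h8
  · right
    rw [sub_eq_zero, hpow] at h7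
    have h8 : l ^ (Nat.card K + 1) = 1 := by
      apply Units.ext
      rw [Units.val_pow_eq_pow_val, Units.val_one, pow_succ]
      exact h7
    rw [← hol]
    exact orderOf_dvd_of_pow_eq_one h8

end A

end Cfsg.Agent.Cit.Nil.LO
end

-- part: Cit/Nil/LO/LTwoInner
section
prune_inst 0x14600300460002000018051230002054220000000063000159610100048e53622d022f41f0001f115802a344203c0008110000500210000020000000411901a0802a52069348a10ca6000f80b884000000000000000000000000000000041000000000000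
set_option linter.all false
open scoped Cfsg.Agent.FastGrp

/-!
# S1309, node (n2): components `L₂(q)` (helper724; text: helper981, bb R18 #17955 (2))

* `exists_act` : the action of `N(L)` on `SL(2,F)`, `L/Z(L) ≃* PSL(2,F)`;
* `actB`, `actA`, `actA0` : the facts of `LTwoAut.lean` for `L ≤ H`;
* `ltwo_inner` : `WR Om`, `w ∈ ZZ Om` nontrivial on `L`, `c ∈ N(L)` of odd order commuting with `w`: `c` acts on `L`
  as an element of odd order of `L`.
-/

set_option autoImplicit false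
set_option linter.unusedSectionVars false

namespace Cfsg.Agent.Cit.Nil.LO

open Matrix Subgroup Cfsg Cit
open scoped commutatorElement
open Cfsg.Agent.Lib.SL2Mat Cfsg.Agent.Lib.AutSL2 Cfsg.Agent.Lib.AutSL2Out Cfsg.Agent.Classification.QDW.TypeHom

local notation "SL2" => Matrix.SpecialLinearGroup (Fin 2)

section lift

variable {F : Type*} [Field F] [Finite F]

/-- automorphisms of a central quotient of `SL(2,F)` lift -/
theorem exists_lift_hom (h2 : (2 : F) ≠ 0) {X : Type*} [Group X] (π : SL2 F →* X) (hπ : Function.Surjective π)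
    (hk : π.ker ≤ center (SL2 F)) :
    ∃ f : MulAut X →* MulAut (SL2 F), Function.Injective f ∧ ∀ α y, π (f α y) = α (π y) := by
  have hex : ∀ α : MulAut X, ∃ θ : MulAut (SL2 F), ∀ x, α (π x) = π (θ x) := by
    intro α
    obtain ⟨g, σ, h⟩ := exists_gl_ringEquiv π hπ hk α
    exact ⟨conjGL g * fieldAut σ, fun x => by rw [h, MulAut.mul_apply]⟩
  have huniq : ∀ θ θ' : MulAut (SL2 F), (∀ x, π (θ x) = π (θ' x)) → θ = θ' := by
    intro θ θ' h
    have h3 : ∀ x, (θ * θ'⁻¹ : MulAut (SL2 F)) x = x := by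
      intro x
      refine Classification.TypeB.SigAut.eq_of_lift h2 π hk (θ * θ'⁻¹) (fun y => ?_) x
      rw [MulAut.mul_apply, h, MulAut.apply_inv_self]
    have h4 : θ * θ'⁻¹ = 1 := MulEquiv.ext h3
    exact mul_inv_eq_one.1 h4
  choose f hf using hex
  refine ⟨⟨⟨f, ?_⟩, ?_⟩, ?_, fun α y => (hf α y).symm⟩
  · apply huniq
    intro x
    rw [← hf]
    rfl
  · intro α β
    apply huniq
    intro x
    rw [← hf, MulAut.mul_apply, MulAut.mul_apply, ← hf, hf β, ← hf]
  · intro α β hαβ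
    have h5 : f α = f β := hαβ
    refine MulEquiv.ext fun y => ?_
    obtain ⟨x, rfl⟩ := hπ y
    rw [hf, hf, h5]

end lift

section quo

/-- automorphisms of `L` on `L / Z(L)` -/
noncomputable def quoAut (X : Type*) [Group X] : MulAut X →* MulAut (X ⧸ center X) where
  toFun α := QuotientGroup.congr (center X) (center X) α (Subgroup.characteristic_iff_map_eq.1 inferInstance α)
  map_one' := by
    refine MulEquiv.ext fun x => ?_
    induction x using QuotientGroup.induction_on with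
    | H z => rfl
  map_mul' α β := by
    refine MulEquiv.ext fun x => ?_
    induction x using QuotientGroup.induction_on with
    | H z => rfl

variable {H : Type*} [Group H] {L : Subgroup H}

/-- `x` acts on `L` -/
def cjL (x : normalizer (L : Set H)) (l : L) : L := ⟨x * l * x⁻¹, (mem_normalizer_iff.1 x.2 l).1 l.2⟩

/-- an element trivial on `L` modulo `Z(L)`, `L` perfect, centralises `L` -/
theorem cent_of_mod (hp : ⁅L, L⁆ = L) {x : H} (h : ∀ l ∈ L, ∃ ζ ∈ L, (∀ m ∈ L, ζ * m = m * ζ) ∧ x * l * x⁻¹ = l * ζ) :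
    ∀ l ∈ L, x * l = l * x := by
  have h1 : ⁅L, L⁆ ≤ centralizer {x} := by
    rw [commutator_le]
    intro a ha b hb
    rw [mem_centralizer_singleton_iff]
    obtain ⟨α, hα, hαc, ea⟩ := h a ha
    obtain ⟨β, hβ, hβc, eb⟩ := h b hb
    have h2 : x * ⁅a, b⁆ * x⁻¹ = ⁅a, b⁆ := by
      rw [commutatorElement_def]
      calc x * (a * b * a⁻¹ * b⁻¹) * x⁻¹ = (x * a * x⁻¹) * (x * b * x⁻¹) * (x * a * x⁻¹)⁻¹ * (x * b * x⁻¹)⁻¹ := by group
        _ = (a * α) * (b * β) * (a * α)⁻¹ * (b * β)⁻¹ := by rw [ea, eb]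
        _ = a * (α * b) * β * α⁻¹ * a⁻¹ * β⁻¹ * b⁻¹ := by group
        _ = a * b * (α * β) * α⁻¹ * a⁻¹ * β⁻¹ * b⁻¹ := by rw [hαc b hb]; group
        _ = a * b * (β * (α * α⁻¹)) * a⁻¹ * β⁻¹ * b⁻¹ := by rw [hαc β hβ]; group
        _ = a * b * (β * a⁻¹) * β⁻¹ * b⁻¹ := by rw [mul_inv_cancel, mul_one]; group
        _ = a * b * (a⁻¹ * β) * β⁻¹ * b⁻¹ := by rw [hβc a⁻¹ (L.inv_mem ha)]
        _ = a * b * a⁻¹ * b⁻¹ := by group
    rw [mul_inv_eq_iff_eq_mul] at h2
    exact h2.symm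
  intro l hl
  rw [← hp] at hl
  exact (mem_centralizer_singleton_iff.1 (h1 hl)).symm

/-- odd orders -/
theorem ltwo_odd_mul {x y : H} (hc : x * y = y * x) (hx : Odd (orderOf x)) (hy : Odd (orderOf y)) : Odd (orderOf (x * y)) :=
  (hx.mul hy).of_dvd_nat ((show Commute x y from hc).orderOf_mul_dvd_mul_orderOf)

theorem odd_inv {x : H} (hx : Odd (orderOf x)) : Odd (orderOf x⁻¹) := by rw [orderOf_inv]; exact hx

theorem eq_one_of_odd_two {x : H} (hx : Odd (orderOf x)) {n : ℕ} (h : x ^ 2 ^ n = 1) : x = 1 := by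
  have h1 := orderOf_dvd_of_pow_eq_one h
  obtain ⟨k, -, hk⟩ := (Nat.dvd_prime_pow Nat.prime_two).1 h1
  rcases Nat.eq_zero_or_pos k with rfl | h0
  · rw [pow_zero] at hk
    exact orderOf_eq_one_iff.1 hk
  · exfalso
    have : Even (orderOf x) := by rw [hk]; exact even_two.pow_of_ne_zero (by omega)
    exact Nat.not_even_iff_odd.2 hx this

/-- lifting elements of odd order -/
theorem exists_odd_lift {X : Type*} [Group X] {N : Subgroup X} [N.Normal] (hN : IsPGroup 2 N) (x : X)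
    {n : ℕ} (hn : Odd n) (hx : (x : X ⧸ N) ^ n = 1) :
    ∃ y : X, (y : X ⧸ N) = x ∧ Odd (orderOf y) := by
  have h1 : x ^ n ∈ N := by rw [← QuotientGroup.eq_one_iff]; exact hx
  obtain ⟨k, hk⟩ := hN ⟨x ^ n, h1⟩
  have hk' : (x ^ n) ^ 2 ^ k = 1 := congrArg Subtype.val hk
  have hco : Nat.Coprime n (2 ^ k) := (Nat.coprime_two_right.2 hn).pow_right k
  obtain ⟨m, hm1, hm2⟩ := Nat.chineseRemainder hco 1 0
  refine ⟨x ^ m, ?_, ?_⟩
  · rw [QuotientGroup.mk_pow]
    rcases Nat.le_total 1 m with h | h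
    · obtain ⟨t, ht⟩ : n ∣ m - 1 := (Nat.modEq_iff_dvd' h).1 hm1.symm
      have : m = n * t + 1 := by omega
      rw [this, pow_succ, pow_mul, hx, one_pow, one_mul]
    · obtain ⟨t, ht⟩ : n ∣ 1 - m := (Nat.modEq_iff_dvd' h).1 hm1
      rcases Nat.eq_or_lt_of_le h with h3 | h3
      · rw [h3, pow_one]
      · have hm0 : m = 0 := by omega
        rw [hm0] at ht
        have hn1 : n = 1 := Nat.dvd_one.1 ⟨t, by omega⟩
        rw [hn1, pow_one] at hx
        rw [hx, one_pow]
  · have h2 : (x ^ m) ^ n = 1 := by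
      obtain ⟨t, ht⟩ := (Nat.modEq_zero_iff_dvd).1 hm2
      rw [ht, ← pow_mul]
      have : 2 ^ k * t * n = n * 2 ^ k * t := by ring
      rw [this, pow_mul, pow_mul, hk', one_pow]
    exact hn.of_dvd_nat (orderOf_dvd_of_pow_eq_one h2)

end quo

section act

variable {F : Type*} [Field F] [Fintype F] {H : Type*} [Group H] {L : Subgroup H}

/-- the action of `N(L)` on `SL(2,F)` -/
structure Act (π : SL2 F →* L ⧸ center L) (ψ : normalizer (L : Set H) →* MulAut (SL2 F)) : Prop where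
  surj : Function.Surjective π
  ker : ∀ y, π y = 1 ↔ y = 1 ∨ y = -1
  act : ∀ (x : normalizer (L : Set H)) (y : SL2 F) (l : L), π y = (l : L ⧸ center L) → π (ψ x y) = (cjL x l : L ⧸ center L)

theorem exists_act (h2 : (2 : F) ≠ 0) (e : L ⧸ center L ≃* Matrix.ProjectiveSpecialLinearGroup (Fin 2) F) :
    ∃ (π : SL2 F →* L ⧸ center L) (ψ : normalizer (L : Set H) →* MulAut (SL2 F)), Act π ψ := by
  obtain ⟨π, hπ, hk⟩ := Lib.PSL2Torus.exists_hom h2 e
  have hk' : π.ker ≤ center (SL2 F) := by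
    intro y hy
    rw [MonoidHom.mem_ker, hk] at hy
    rcases hy with rfl | rfl
    · exact one_mem _
    · rw [mem_center_iff]
      intro z
      rw [mul_neg, mul_one, neg_mul, one_mul]
  obtain ⟨f, -, hf⟩ := exists_lift_hom h2 π hπ hk'
  refine ⟨π, f.comp ((quoAut L).comp L.normalizerMonoidHom), hπ, hk, ?_⟩
  intro x y l hl
  rw [MonoidHom.comp_apply, MonoidHom.comp_apply, hf, hl]
  rfl

namespace Act

variable {π : SL2 F →* L ⧸ center L} {ψ : normalizer (L : Set H) →* MulAut (SL2 F)} (A : Act π ψ) (hp : ⁅L, L⁆ = L)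
  (hZ : IsPGroup 2 (center L))

include A

include hp

/-- two elements of `N(L)` with the same action on `SL(2,F)` -/
theorem comm_of_eq_one {x : normalizer (L : Set H)} (h : ψ x = 1) : ∀ l ∈ L, (x : H) * l = l * x := by
  apply cent_of_mod hp
  intro l hl
  obtain ⟨y, hy⟩ := A.surj ((⟨l, hl⟩ : L) : L ⧸ center L)
  have h1 := A.act x y ⟨l, hl⟩ hy
  rw [h, MulAut.one_apply, hy, QuotientGroup.eq] at h1
  refine ⟨l⁻¹ * ((x : H) * l * (x : H)⁻¹), ?_, ?_, by group⟩
  · exact L.mul_mem (L.inv_mem hl) (cjL x ⟨l, hl⟩).2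
  · intro m hm
    have h3 := mem_center_iff.1 h1 ⟨m, hm⟩
    exact (congrArg Subtype.val h3).symm

/-- inner automorphisms -/
theorem inner_of_conj {x : normalizer (L : Set H)} {y : SL2 F} {l : L} (h : ψ x = MulAut.conj y)
    (hl : π y = (l : L ⧸ center L)) : ∀ m ∈ L, (x : H) * m * (x : H)⁻¹ = l * m * (l : H)⁻¹ := by
  have hlN : (l : H) ∈ normalizer (L : Set H) := le_normalizer l.2
  have key : ∀ m ∈ L, ((l : H)⁻¹ * x) * m = m * ((l : H)⁻¹ * x) := by
    apply cent_of_mod hp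
    intro m hm
    obtain ⟨z, hz⟩ := A.surj ((⟨m, hm⟩ : L) : L ⧸ center L)
    have h1 := A.act x z ⟨m, hm⟩ hz
    rw [h, MulAut.conj_apply, map_mul, map_mul, map_inv, hl, hz, ← QuotientGroup.mk_mul, ← QuotientGroup.mk_inv,
      ← QuotientGroup.mk_mul, QuotientGroup.eq] at h1
    -- `ζ = (l m l⁻¹)⁻¹ (x m x⁻¹)` is central
    have hcen : ∀ u ∈ L, ((l : H) * m * (l : H)⁻¹)⁻¹ * ((x : H) * m * (x : H)⁻¹) * u =
        u * (((l : H) * m * (l : H)⁻¹)⁻¹ * ((x : H) * m * (x : H)⁻¹)) := by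
      intro u hu
      exact (congrArg Subtype.val (mem_center_iff.1 h1 ⟨u, hu⟩)).symm
    set ζ := ((l : H) * m * (l : H)⁻¹)⁻¹ * ((x : H) * m * (x : H)⁻¹) with hζ
    have hζL : ζ ∈ L := L.mul_mem (L.inv_mem (L.mul_mem (L.mul_mem l.2 hm) (L.inv_mem l.2))) (cjL x ⟨m, hm⟩).2
    refine ⟨ζ, hζL, hcen, ?_⟩
    have h4 : (x : H) * m * (x : H)⁻¹ = (l : H) * m * (l : H)⁻¹ * ζ := by rw [hζ]; group
    calc (l : H)⁻¹ * x * m * ((l : H)⁻¹ * x)⁻¹ = (l : H)⁻¹ * ((x : H) * m * (x : H)⁻¹) * l := by group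
      _ = m * ((l : H)⁻¹ * (ζ * l)) := by rw [h4]; group
      _ = m * ζ := by rw [hcen l l.2]; group
  intro m hm
  have h1 := key m hm
  calc (x : H) * m * (x : H)⁻¹ = l * (((l : H)⁻¹ * x) * m) * (x : H)⁻¹ := by group
    _ = l * m * (l : H)⁻¹ := by rw [h1]; group

omit hp

include hZ

/-- lifting elements of odd order -/
theorem exists_odd {y : SL2 F} (hy : Odd (orderOf y)) : ∃ l : L, Odd (orderOf l) ∧ π y = (l : L ⧸ center L) := by
  obtain ⟨l0, hl0⟩ := QuotientGroup.mk_surjective (π y)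
  obtain ⟨l, hl, ho⟩ := exists_odd_lift hZ l0 hy (by rw [hl0, ← map_pow, pow_orderOf_eq_one, map_one])
  exact ⟨l, ho, by rw [hl, hl0]⟩

/-- fixed elements of odd order -/
theorem comm_of_fix {w : normalizer (L : Set H)} {y : SL2 F} (hy : ψ w y = y) {l : L} (ho : Odd (orderOf l))
    (hl : π y = (l : L ⧸ center L)) : (w : H) * l = l * w := by
  have h1 := A.act w y l hl
  rw [hy, hl, QuotientGroup.eq] at h1
  set ζ := l⁻¹ * cjL w l with hζ
  have hc : l * ζ = ζ * l := mem_center_iff.1 h1 l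
  have hcj : cjL w l = l * ζ := by rw [hζ]; group
  have h3 : Odd (orderOf (cjL w l)) := by
    have : orderOf (cjL w l) = orderOf l := by
      rw [← Subgroup.orderOf_coe, ← Subgroup.orderOf_coe]
      have : ((cjL w l : L) : H) = MulAut.conj (w : H) (l : H) := rfl
      rw [this, MulEquiv.orderOf_eq]
    rw [this]; exact ho
  have h4 : Odd (orderOf ζ) := by
    have hcomm : l⁻¹ * cjL w l = cjL w l * l⁻¹ := by
      rw [hcj, ← mul_assoc, inv_mul_cancel, one_mul, hc, mul_inv_cancel_right]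
    rw [hζ]
    exact ltwo_odd_mul hcomm (odd_inv ho) h3
  obtain ⟨k, hk⟩ := hZ ⟨ζ, h1⟩
  have h5 : ζ = 1 := eq_one_of_odd_two h4 (congrArg Subtype.val hk)
  rw [h5, mul_one] at hcj
  have h6 : (w : H) * l * (w : H)⁻¹ = l := congrArg Subtype.val hcj
  rw [mul_inv_eq_iff_eq_mul] at h6
  exact h6

end Act

/-! ### The facts -/

section facts

variable (h2 : (2 : F) ≠ 0) (h3 : 3 < Nat.card F) {π : SL2 F →* L ⧸ center L}
  {ψ : normalizer (L : Set H) →* MulAut (SL2 F)} (A : Act π ψ) (hp : ⁅L, L⁆ = L) (hZ : IsPGroup 2 (center L))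

include h2 h3 A hp hZ

/-- **(B)** -/
theorem actB {w c : normalizer (L : Set H)} (hw : (w : H) * w = 1) (hw1 : ∃ m ∈ L, (w : H) * m ≠ m * w)
    (hno : ∀ l ∈ L, Odd (orderOf l) → (w : H) * l = l * w → l = 1) (hc : Odd (orderOf c))
    (hcw : (c : H) * w = w * c) : ∀ m ∈ L, (c : H) * m = m * c := by
  apply A.comm_of_eq_one hp
  refine factB h2 h3 (w := ψ w) ?_ ?_ ?_ (hc.of_dvd_nat (orderOf_map_dvd ψ c)) ?_
  · rw [← map_mul, show w * w = 1 from Subtype.ext hw, map_one]
  · intro h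
    obtain ⟨m, hm, hne⟩ := hw1
    exact hne (A.comm_of_eq_one hp h m hm)
  · intro y hy hwy
    obtain ⟨l, ho, hl⟩ := A.exists_odd hZ hy
    have h4 := A.comm_of_fix hZ hwy ho hl
    have h5 : (l : H) = 1 := hno l l.2 (by rw [Subgroup.orderOf_coe]; exact ho) h4
    have h6 : π y = 1 := by
      rw [hl, show l = 1 from Subtype.ext h5]
      rfl
    rcases (A.ker y).1 h6 with h7 | h7
    · exact h7
    · refine eq_one_of_odd_two hy (n := 1) ?_
      rw [pow_one, h7, neg_one_sq]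
  · rw [← map_mul, ← map_mul, show c * w = w * c from Subtype.ext hcw]

/-- an action as an element of odd order of `SL(2,F)` -/
theorem act_inner {c : normalizer (L : Set H)} {x : SL2 F} (hx : Odd (orderOf x)) (hc : ψ c = MulAut.conj x) :
    ∃ l ∈ L, Odd (orderOf l) ∧ (∀ m ∈ L, (c : H) * m * (c : H)⁻¹ = l * m * l⁻¹) ∧ (c : H) * l = l * c := by
  obtain ⟨l, ho, hl⟩ := A.exists_odd hZ hx
  have h4 := A.inner_of_conj hp hc hl
  refine ⟨l, l.2, by rw [Subgroup.orderOf_coe]; exact ho, h4, ?_⟩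
  have h5 := h4 l l.2
  rw [mul_inv_cancel_right, mul_inv_eq_iff_eq_mul] at h5
  exact h5

/-- **(A)** -/
theorem actA {z a b c : normalizer (L : Set H)} (hq : QP z a b) (hz1 : ∃ m ∈ L, (z : H) * m ≠ m * z)
    (hfix : ∀ l ∈ L, Odd (orderOf l) → (z : H) * l = l * z →
      (∃ n, (l⁻¹ * ((a : H) * l * (a : H)⁻¹)) ^ 2 ^ n = 1) ∧ ∃ n, (l⁻¹ * ((b : H) * l * (b : H)⁻¹)) ^ 2 ^ n = 1)
    (hc : Odd (orderOf c)) :
    ∃ l ∈ L, Odd (orderOf l) ∧ (∀ m ∈ L, (c : H) * m * (c : H)⁻¹ = l * m * l⁻¹) ∧ (c : H) * l = l * c := by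
  have hz1' : ψ z ≠ 1 := by
    intro h
    obtain ⟨m, hm, hne⟩ := hz1
    exact hne (A.comm_of_eq_one hp h m hm)
  have hq' := hq.map ψ
  -- `ψ z` is inner and the fixed points commute
  obtain ⟨g, hg, hgz⟩ := exists_root hq'
  obtain ⟨e, he⟩ := conj_sq g
  have hze : ψ z = MulAut.conj e := by rw [← he, map_mul, hgz]
  have hee : e * e = -1 := by
    have h1 : MulAut.conj (e * e) = 1 := by rw [map_mul, ← hze, hq'.zz]
    rcases conj_eq_one h2 h1 with h4 | h4
    · exfalso
      apply hz1'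
      rcases Lib.PSL2Inv.sq_eq_one h2 h4 with h5 | h5
      · rw [hze, h5, map_one]
      · rw [hze, h5]
        refine MulEquiv.ext fun x => ?_
        rw [MulAut.conj_apply, MulAut.one_apply, neg_one_mul, inv_neg, inv_one, mul_neg, mul_one, neg_neg]
    · exact h4
  have hab : ∀ x y, ψ z x = x → ψ z y = y → x * y = y * x := by
    intro x y hx hy
    have htre : ent e 1 1 = - ent e 0 0 := Lib.PSL2Inv.tr_of_sq h2 hee
    have hcyc := Lib.PSL2Circle.isCyclic_centralizer h2 htre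
    have hm : ∀ x, ψ z x = x → x ∈ Subgroup.centralizer ({e} : Set (SL2 F)) := by
      intro x hx
      rw [hze, MulAut.conj_apply, mul_inv_eq_iff_eq_mul] at hx
      exact Subgroup.mem_centralizer_singleton_iff.2 hx.symm
    have := hcyc.isMulCommutative.is_comm.comm (⟨x, hm x hx⟩ : Subgroup.centralizer ({e} : Set (SL2 F))) ⟨y, hm y hy⟩
    exact congrArg Subtype.val this
  have key : ∀ k : normalizer (L : Set H), k * z = z * k → (∀ l ∈ L, Odd (orderOf l) → (z : H) * l = l * z →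
      ∃ n, (l⁻¹ * ((k : H) * l * (k : H)⁻¹)) ^ 2 ^ n = 1) → ∀ x, Odd (orderOf x) → ψ z x = x → ψ k x = x := by
    intro k hkz hk x hx hzx
    obtain ⟨l, ho, hl⟩ := A.exists_odd hZ hx
    have hzl := A.comm_of_fix hZ hzx ho hl
    obtain ⟨n, hn⟩ := hk l l.2 (by rw [Subgroup.orderOf_coe]; exact ho) hzl
    have h4 : π (ψ k x) = (cjL k l : L ⧸ center L) := A.act k x l hl
    have h5 : ψ z (ψ k x) = ψ k x := by
      rw [← MulAut.mul_apply, ← map_mul, ← hkz, map_mul, MulAut.mul_apply, hzx]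
    have h6 : x⁻¹ * ψ k x = ψ k x * x⁻¹ := by
      rw [inv_mul_eq_iff_eq_mul, ← mul_assoc, hab x _ hzx h5, mul_inv_cancel_right]
    have h7 : Odd (orderOf (x⁻¹ * ψ k x)) := ltwo_odd_mul h6 (odd_inv hx) (by rw [MulEquiv.orderOf_eq]; exact hx)
    have h8 : π (x⁻¹ * ψ k x) ^ 2 ^ n = 1 := by
      rw [map_mul, map_inv, h4, hl, ← QuotientGroup.mk_inv, ← QuotientGroup.mk_mul, ← QuotientGroup.mk_pow]
      have : (l⁻¹ * cjL k l) ^ 2 ^ n = 1 := Subtype.ext hn
      rw [this]
      rfl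
    have h9 : (x⁻¹ * ψ k x) ^ 2 ^ (n + 1) = 1 := by
      rw [← map_pow, A.ker] at h8
      rw [pow_succ, pow_mul]
      rcases h8 with h | h
      · rw [h, one_pow]
      · rw [h, neg_one_sq]
    have h10 := eq_one_of_odd_two h7 h9
    exact (inv_mul_eq_one.1 h10).symm
  have haz : a * z = z * a := by rw [← hq.aa, mul_assoc]
  have hbz : b * z = z * b := by rw [← hq.bb, mul_assoc]
  obtain ⟨x, hx, hcx⟩ := factA h2 h3 hq' hz1' (fun x hx hzx =>
    ⟨key a haz (fun l hl ho hzl => (hfix l hl ho hzl).1) x hx hzx,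
      key b hbz (fun l hl ho hzl => (hfix l hl ho hzl).2) x hx hzx⟩) (hc.of_dvd_nat (orderOf_map_dvd ψ c))
  exact act_inner h2 h3 A hp hZ hx hcx

end facts

end act

/-! ### The world -/

section world

open Cfsg.Agent.Cit.Nil.RG

variable {H : Type*} [Group H] [Finite H] {Om : Set (Subgroup H)} {L K : Subgroup H}

/-- a quaternion pair generating a member -/
theorem ltwo_exists_qp (h : WR Om) {z : H} (hK : K ∈ Ov Om z) (hL : K ≤ normalizer (L : Set H)) (hzL : z ∈ normalizer (L : Set H)) :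
    ∃ a b : normalizer (L : Set H), (a : H) ∈ K ∧ (b : H) ∈ K ∧ QP ⟨z, hzL⟩ a b := by
  obtain ⟨a, ha, haa⟩ := h.exists_four hK.1
  obtain ⟨b, hb, hbb, h1, h2⟩ := h.exists_anti hK.1 ha haa
  obtain ⟨h4, -⟩ := h.anti hK.1 ha hb haa hbb h1 h2
  refine ⟨⟨a, hL ha⟩, ⟨b, hL hb⟩, ha, hb, ⟨Subtype.ext ?_, Subtype.ext ?_, Subtype.ext ?_⟩⟩
  · change a * a = z
    rw [haa, hK.2]
  · change b * b = z
    rw [hbb, hK.2]
  · change b * a * b⁻¹ = a⁻¹
    rw [h4, h.inv_eq hK.1 ha haa, ← mul_assoc, mul_inv_cancel_right]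

/-- **S1309 (n2), (2)** : components of type `L₂(q)` -/
theorem ltwo_inner {F : Type*} [Field F] [Fintype F] (h : WR Om) (hp : ⁅L, L⁆ = L) (hZ : IsPGroup 2 (center L))
    (e : L ⧸ center L ≃* Matrix.ProjectiveSpecialLinearGroup (Fin 2) F) (hF : Odd (Fintype.card F))
    (h3 : 3 < Fintype.card F) {w c : H} (hw : w ∈ ZZ Om) (hwL : w ∈ normalizer (L : Set H))
    (hw1 : ∃ m ∈ L, w * m ≠ m * w)
    (hcm : ∀ K ∈ Ov Om w, ∀ k ∈ K, k ∈ normalizer (L : Set H) ∨ ∀ x ∈ L, ∀ y ∈ L, x * (k * y * k⁻¹) = k * y * k⁻¹ * x)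
    (hc : Odd (orderOf c)) (hcL : c ∈ normalizer (L : Set H)) (hcw : c * w = w * c) :
    ∃ l ∈ L, Odd (orderOf l) ∧ (∀ m ∈ L, c * m * c⁻¹ = l * m * l⁻¹) ∧ c * l = l * c := by
  have h2 : (2 : F) ≠ 0 := TwoFusion.QuatCoverSL.two_ne_zero_of_odd hF
  have h3' : 3 < Nat.card F := by rw [Nat.card_eq_fintype_card]; exact h3
  obtain ⟨π, ψ, A⟩ := exists_act h2 e
  have hcN : Odd (orderOf (⟨c, hcL⟩ : normalizer (L : Set H))) := by
    rw [← Subgroup.orderOf_coe]; exact hc
  -- commutators of the elements of a member over `w` with elements commuting with `w`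
  have hcom : ∀ K ∈ Ov Om w, ∀ k ∈ K, ∀ l, w * l = l * w → l⁻¹ * (k * l * k⁻¹) ∈ RR Om w := by
    intro K hK k hk l hl
    have hl' : l⁻¹ * w = w * l⁻¹ := by rw [inv_mul_eq_iff_eq_mul, ← mul_assoc, ← hl, mul_inv_cancel_right]
    have h4 := h.f_mem hK hl' hk
    rw [inv_inv] at h4
    have : l⁻¹ * (k * l * k⁻¹) = l⁻¹ * k * l * k⁻¹ := by group
    rw [this]
    exact h4
  have htwo : ∀ x ∈ RR Om w, ∃ n, x ^ 2 ^ n = 1 := by
    intro x hx
    obtain ⟨n, hn⟩ := h.RR_two hw ⟨x, hx⟩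
    exact ⟨n, congrArg Subtype.val hn⟩
  by_cases hA : ∀ K ∈ Ov Om w, K ≤ normalizer (L : Set H)
  · -- case (A)
    obtain ⟨K, hK1, hK2⟩ := hw
    have hK : K ∈ Ov Om w := ⟨hK1, hK2⟩
    obtain ⟨a, b, ha, hb, hq⟩ := ltwo_exists_qp h hK (hA K hK) hwL
    refine actA h2 h3' A hp hZ (c := ⟨c, hcL⟩) hq hw1 ?_ hcN
    intro l hl ho hwl
    exact ⟨htwo _ (hcom K hK a ha l hwl), htwo _ (hcom K hK b hb l hwl)⟩
  · push Not at hA
    obtain ⟨K, hK, hKn⟩ := hA
    obtain ⟨k, hk, hkn⟩ := SetLike.not_le_iff_exists.1 hKn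
    have hkL := (hcm K hK k hk).resolve_left hkn
    have h4 := actB h2 h3' A hp hZ (w := ⟨w, hwL⟩) (c := ⟨c, hcL⟩) (h.zz_sq hw) hw1 (fun l hl ho hwl => by
      -- `l⁻¹ l^k` is a 2-element of odd order
      have h5 := hcom K hK k hk l hwl
      obtain ⟨n, hn⟩ := htwo _ h5
      have h6 : Odd (orderOf (l⁻¹ * (k * l * k⁻¹))) := by
        refine ltwo_odd_mul (hkL l⁻¹ (L.inv_mem hl) l hl) (odd_inv ho) ?_
        have : k * l * k⁻¹ = MulAut.conj k l := rfl
        rw [this, MulEquiv.orderOf_eq]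
        exact ho
      have h7 : k * l * k⁻¹ = l := (inv_mul_eq_one.1 (eq_one_of_odd_two h6 hn)).symm
      have h8 : (⟨l, hl⟩ : L) ∈ center L := by
        rw [mem_center_iff]
        intro y
        have h9 := hkL y y.2 l hl
        rw [h7] at h9
        exact Subtype.ext h9
      obtain ⟨j, hj⟩ := hZ ⟨_, h8⟩
      exact eq_one_of_odd_two ho (congrArg (fun t : center L => ((t : L) : H)) hj)) hcN hcw
    refine ⟨1, L.one_mem, by rw [orderOf_one]; exact odd_one, fun m hm => ?_, by rw [mul_one, one_mul]⟩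
    rw [h4 m hm, mul_inv_cancel_right, one_mul, inv_one, mul_one]

end world

end Cfsg.Agent.Cit.Nil.LO
end
end
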