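import Cfsg.Agent.Cit.Nil.LO.ThreeComp
import Cfsg.Agent.Cit.Nil.RG.Closed
import Cfsg.Agent.Cit.CorOf_m3
import Cfsg.Agent.Cit.GoodOf_m3
import Cfsg.Agent.Cit.Nil.LO.LTwoInner
import Cfsg.Agent.S1073
import Cfsg.Agent.FastGrp
import Cfsg.Agent.Prune
set_option linter.all false

section
prune_inst 0x7f00000000000000000000000000000000000000000000000000000000000000000000000000000000000000000000000000000000000000000000000000000000000000000000000000000000000000003fffffffffffffffffffffffffffbeffbdffffffff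

-- part: Cit/Nil/LO/TW
section
set_option linter.all false
open scoped Cfsg.Agent.FastGrp

/-!
# S1309, node (n2) THREE PROPAGATION: the world for one component `L` of `H = C(a)`

`H` plays `C(a)`, `Om` = the members contained in `H`, `S` a Sylow 2-subgroup of `H`, `s ∈ T_S`, `N / E = O(C_H(s) / E)`,
`E` the product of the members over `a`, `c ∈ N` of odd order centralising the members in `S` (those not in `O₂(H)`).

* `TW.RR_le` : `K ∈ Om`, `K ≤ S` : all members over `z_K` are contained in `S`;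
* `TW.comm_p` : `c` centralises the `p`-elements of `C_L(s)` (THEOREM FIX).
-/

set_option autoImplicit false
set_option linter.style.haveILetI false
set_option linter.unusedSectionVars false

namespace Cfsg.Agent.Cit.Nil.LO

open Subgroup Cfsg Cit RG

/-- the world of (n2) -/
structure TW {H : Type*} [Group H] [Finite H] (Om : Set (Subgroup H)) (S : Sylow 2 H) (N E : Subgroup H) (s c : H) :
    Prop where
  hyp : Hyp Om
  card : ∀ K ∈ Om, Nat.card K = 8
  core : pPrimeCore 2 H = ⊥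
  s2 : s * s = 1
  sT : s ∈ closure {z | ∃ K ∈ Om, K ≤ (S : Subgroup H) ∧ zz K = z}
  odd : Odd (orderOf c)
  cN : c ∈ N
  Ns : N ≤ centralizer {s}
  nN : centralizer {s} ≤ normalizer (N : Set H)
  nE : E.Normal
  EN : E ≤ N
  E2 : E ≤ pCore 2 H
  rel : Odd (E.relIndex N)
  fix : ∀ K ∈ Om, K ≤ (S : Subgroup H) → (∀ k ∈ K, c * k = k * c) ∨ K ≤ pCore 2 H

section gen

variable {H : Type*} [Group H] [Finite H]

/-- a group with a central Sylow 2-subgroup -/
theorem split_central {M Z : Subgroup H} (hZ : IsPGroup 2 Z) (hc : ∀ z ∈ Z, ∀ m ∈ M, z * m = m * z)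
    (hr : Odd (Z.relIndex M)) {m : H} (hm : m ∈ M) : ∃ z ∈ Z, ∃ o ∈ OO M, m = z * o := by
  haveI : Fact (Nat.Prime 2) := ⟨Nat.prime_two⟩
  have hP : IsPGroup 2 (Z.subgroupOf M) := hZ.comap_subtype
  have hi : ¬ 2 ∣ (Z.subgroupOf M).index := by
    intro h
    have h1 : Z.relIndex M = (Z.subgroupOf M).index := rfl
    rw [← h1] at h
    exact (Nat.not_even_iff_odd.2 hr) (even_iff_two_dvd.2 h)
  let P : Sylow 2 M := hP.toSylow hi
  have hPZ : (P : Subgroup M) = Z.subgroupOf M := rfl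
  have hPc : normalizer ((P : Subgroup M) : Set M) ≤ centralizer ((P : Subgroup M) : Set M) := by
    intro g _
    rw [mem_centralizer_iff]
    intro x hx
    exact Subtype.ext (hc _ (mem_subgroupOf.1 (by rw [hPZ] at hx; exact hx)) _ g.2)
  have hK := MonoidHom.ker_transferSylow_isComplement' P hPc
  have hK2 := MonoidHom.not_dvd_card_ker_transferSylow P hPc
  obtain ⟨K, hKe⟩ : ∃ K : Subgroup M, K = (MonoidHom.transferSylow P hPc).ker := ⟨_, rfl⟩
  rw [← hKe] at hK hK2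
  have hKn : K.Normal := by rw [hKe]; infer_instance
  obtain ⟨⟨x, y⟩, hxy⟩ := hK.2 ⟨m, hm⟩
  have h1 : K ≤ oddCore M := Lib.Cores.le_pPrimeCore hKn ((Nat.Prime.coprime_iff_not_dvd Nat.prime_two).2 hK2).symm
  have h2 : (y : M) ∈ Z.subgroupOf M := by rw [← hPZ]; exact y.2
  have h3 : ((y : M) : H) ∈ Z := mem_subgroupOf.1 h2
  refine ⟨_, h3, ((x : M) : H), mem_map.2 ⟨x, h1 x.2, rfl⟩, ?_⟩
  have h4 : ((x : M) : H) * ((y : M) : H) = m := congrArg Subtype.val hxy
  rw [hc _ h3 _ (x : M).2, h4]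

/-- components centralise `O₂` -/
theorem comp_pCore {L : Subgroup H} (hL : IsComponent L) {x l : H} (hx : x ∈ pCore 2 H) (hl : l ∈ L) : l * x = x * l := by
  have h2 := ((SignalizersComponents.Components.component_le_layer hL).trans
    (SignalizersComponents.Components.layer_le_centralizer_fitting (G := H))) hl
  exact (mem_centralizer_iff.1 h2 x (Lib.Cores.pCore_le_fittingSubgroup 2 hx)).symm

end gen

namespace TW

variable {H : Type*} [Group H] [Finite H] {Om : Set (Subgroup H)} {S : Sylow 2 H} {N E L K : Subgroup H} {s c : H}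

/-- the nil family -/
theorem w (t : TW Om S N E s c) : WR Om := WR.of_hyp t.hyp t.card

/-- all members over `z_K` lie in `S` -/
theorem _root_.Cfsg.Agent.Cit.Nil.RG.WR.RR_le_sylow (w : WR Om) (S : Sylow 2 H) (hK : K ∈ Om) (hKS : K ≤ (S : Subgroup H)) :
    RR Om (zz K) ≤ (S : Subgroup H) := by
  haveI : Fact (Nat.Prime 2) := ⟨Nat.prime_two⟩
  obtain ⟨𝒦, h𝒦⟩ : ∃ 𝒦 : Set (Subgroup H), 𝒦 = {M | M ∈ Om ∧ ∃ K ∈ Om, K ≤ (S : Subgroup H) ∧ zz M = zz K} := ⟨_, rfl⟩
  have hS2 : IsPGroup 2 (S : Subgroup H) := S.isPGroup'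
  have h1 : IsPGroup 2 (SS 𝒦) := by
    refine SS_two _ 𝒦 rfl ?_ ?_
    · intro M hM
      rw [h𝒦] at hM
      exact w.two hM.1
    · intro M hM M' hM' hne
      rw [h𝒦] at hM hM'
      obtain ⟨hMO, K, hK, hKS, hz⟩ := hM
      obtain ⟨hMO', K', hK', hKS', hz'⟩ := hM'
      by_cases he : zz K = zz K'
      · exact w.comm M hMO M' hMO' (by rw [hz, hz', he]) hne
      · have hKK : K ≠ K' := by rintro rfl; exact he rfl
        have h2 := w.pg K hK K' hK' _ hS2 hKS hKS' hKK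
        have h3 := w.CP_of_cen (z := zz K) (t := zz K') ⟨hK, rfl⟩
          (fun k hk => (h2 k hk _ (w.zm hK')).symm) he
        exact h3.2 M ⟨hMO, hz⟩ M' ⟨hMO', hz'⟩
  have h2 : (S : Subgroup H) ≤ normalizer (SS 𝒦 : Set H) := by
    have h3 : ∀ g ∈ (S : Subgroup H), ∀ x ∈ SS 𝒦, g * x * g⁻¹ ∈ SS 𝒦 := by
      intro g hg x hx
      refine SS_cj_le (𝒦 := 𝒦) (𝒦' := 𝒦) (fun M hM => ?_) hx
      rw [h𝒦] at hM ⊢
      obtain ⟨hMO, K, hK, hKS, hz⟩ := hM
      refine ⟨w.conj M hMO g, cj g K, w.conj K hK g, ?_, ?_⟩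
      · intro x hx
        rw [mem_cj] at hx
        have h4 := (S : Subgroup H).mul_mem ((S : Subgroup H).mul_mem hg (hKS hx)) ((S : Subgroup H).inv_mem hg)
        have h5 : g * (g⁻¹ * x * g) * g⁻¹ = x := by group
        rwa [h5] at h4
      · rw [w.zcj hMO, w.zcj hK, hz]
    intro g hg
    rw [mem_normalizer_iff]
    intro x
    refine ⟨h3 g hg x, fun hx => ?_⟩
    have h4 := h3 g⁻¹ ((S : Subgroup H).inv_mem hg) _ hx
    have h5 : g⁻¹ * (g * x * g⁻¹) * g⁻¹⁻¹ = x := by group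
    rwa [h5] at h4
  have h3 : IsPGroup 2 ((S : Subgroup H) ⊔ SS 𝒦 : Subgroup H) := hS2.to_sup_of_normal_right' h1 h2
  have h4 : (S : Subgroup H) ⊔ SS 𝒦 = (S : Subgroup H) := S.is_maximal' h3 le_sup_left
  have h5 : SS 𝒦 ≤ (S : Subgroup H) := by rw [← h4]; exact le_sup_right
  refine le_trans (SS_le fun M hM => le_SS ?_) h5
  rw [h𝒦]
  exact ⟨hM.1, K, hK, hKS, hM.2⟩

theorem RR_le (t : TW Om S N E s c) (hK : K ∈ Om) (hKS : K ≤ (S : Subgroup H)) : RR Om (zz K) ≤ (S : Subgroup H) :=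
  t.w.RR_le_sylow S hK hKS

theorem two_center (t : TW Om S N E s c) (hL : IsComponent L) : IsPGroup 2 (center L) :=
  isPGroup_center_component t.core hL

/-- `N ∩ L = Z × O(N ∩ L)`, `Z` central in `L` -/
theorem split (t : TW Om S N E s c) (hL : IsComponent L) {m : H} (hm : m ∈ N ⊓ L) :
    ∃ z ∈ E ⊓ L, ∃ o ∈ OO (N ⊓ L), m = z * o := by
  refine split_central ((Lib.Cores.pCore_isPGroup 2).to_le (inf_le_left.trans t.E2)) ?_ ?_ hm
  · intro z hz m hm
    exact (comp_pCore hL (t.E2 hz.1) hm.2).symm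
  · have h1 : (E ⊓ L).relIndex (N ⊓ L) ∣ E.relIndex N := by
      have h2 : (E ⊓ L).relIndex (N ⊓ L) = E.relIndex (N ⊓ L) := by
        rw [← inf_relIndex_right E (N ⊓ L)]
        congr 1
        ext x
        simp only [mem_inf]
        exact ⟨fun h => ⟨h.1, t.EN h.1, h.2⟩, fun h => ⟨h.1, h.2.2⟩⟩
      rw [h2]
      have h3 : (E.subgroupOf N).Normal := t.nE.comap _
      rw [← relIndex_subgroupOf (H := E) (inf_le_left : N ⊓ L ≤ N)]
      exact relIndex_dvd_index_of_normal _ _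
    exact Odd.of_dvd_nat t.rel h1

/-- `[v, c] ∈ O(C_L(s))` for `v ∈ C_L(s)` of odd order -/
theorem com_mem (t : TW Om S N E s c) (hL : IsComponent L) (hcL : c ∈ normalizer (L : Set H)) {v : H} (hv : v ∈ L)
    (hvs : v * s = s * v) (hvo : Odd (orderOf v)) : v * c * v⁻¹ * c⁻¹ ∈ OO (L ⊓ centralizer {s}) := by
  have hvC : v ∈ centralizer ({s} : Set H) := mem_centralizer_singleton_iff.2 hvs
  have hvN : v ∈ normalizer (N : Set H) := t.nN hvC
  -- `e := c v c⁻¹ v⁻¹`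
  have he : c * v * c⁻¹ * v⁻¹ ∈ N ⊓ L := by
    constructor
    · have h1 := (mem_normalizer_iff.1 hvN c⁻¹).1 (N.inv_mem t.cN)
      have h2 : c * v * c⁻¹ * v⁻¹ = c * (v * c⁻¹ * v⁻¹) := by group
      rw [h2]
      exact N.mul_mem t.cN h1
    · exact L.mul_mem ((mem_normalizer_iff.1 hcL v).1 hv) (L.inv_mem hv)
  obtain ⟨z, hz, o, ho, h1⟩ := t.split hL he
  have hvn : v ∈ normalizer (OO (N ⊓ L) : Set H) := by
    rw [mem_normalizer_iff_cj, ← OO_cj, cj_inf, mem_normalizer_iff_cj.1 hvN, mem_normalizer_iff_cj.1 (le_normalizer hv)]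
  -- `c v c⁻¹ = z (o v)`
  have h2 : c * v * c⁻¹ = z * (o * v) := by
    rw [← mul_assoc, ← h1]; group
  have hzc : Commute z (o * v) := by
    have h3 := comp_pCore hL (t.E2 hz.1) (L.mul_mem (OO_le _ ho).2 hv)
    exact h3.symm
  have hpow : ∀ k : ℕ, (o * v) ^ k * (v ^ k)⁻¹ ∈ OO (N ⊓ L) := by
    intro k
    induction k with
    | zero => rw [pow_zero, pow_zero, inv_one, mul_one]; exact one_mem _
    | succ k ih =>
      have h3 : (o * v) ^ (k + 1) * (v ^ (k + 1))⁻¹ = o * (v * ((o * v) ^ k * (v ^ k)⁻¹) * v⁻¹) := by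
        rw [pow_succ' (o * v), pow_succ' v, mul_inv_rev]
        have h4 : (v ^ k)⁻¹ * v⁻¹ = v⁻¹ * (v ^ k)⁻¹ := by
          rw [← mul_inv_rev, ← mul_inv_rev, ← pow_succ', ← pow_succ]
        calc o * v * (o * v) ^ k * ((v ^ k)⁻¹ * v⁻¹) = o * (v * ((o * v) ^ k * (v ^ k)⁻¹) * v⁻¹) := by
              simp only [mul_assoc]
          _ = _ := rfl
      rw [h3]
      exact mul_mem ho ((mem_normalizer_iff.1 hvn _).1 ih)
  have h3 : z ^ orderOf v ∈ OO (N ⊓ L) := by
    have h4 : (c * v * c⁻¹) ^ orderOf v = 1 := by rw [conj_pow, pow_orderOf_eq_one]; group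
    rw [h2, hzc.mul_pow] at h4
    have h5 := hpow (orderOf v)
    rw [pow_orderOf_eq_one, inv_one, mul_one] at h5
    have h6 : z ^ orderOf v = ((o * v) ^ orderOf v)⁻¹ := eq_inv_of_mul_eq_one_left h4
    rw [h6]
    exact inv_mem h5
  have hz2 : IsPGroup 2 (zpowers z) := by
    refine (Lib.Cores.pCore_isPGroup (G := H) 2).to_le ?_
    rw [zpowers_le]
    exact t.E2 hz.1
  have h4 : z = 1 := by
    obtain ⟨n, hn⟩ := hz2 ⟨z, mem_zpowers z⟩
    have hn' : z ^ 2 ^ n = 1 := congrArg Subtype.val hn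
    have h5 : Odd (orderOf (z ^ orderOf v)) := by
      rw [← Subgroup.orderOf_mk _ h3]
      have h6 := odd_OO (N ⊓ L)
      rw [← Nat.not_even_iff_odd, even_iff_two_dvd]
      exact fun h7 => h6 (h7.trans (orderOf_dvd_natCard _))
    have h6 : z ^ orderOf v = 1 := eq_one_of_two_odd (n := n) (by
      rw [← pow_mul, mul_comm, pow_mul, hn', one_pow]) h5
    have h7 : Odd (orderOf z) := Odd.of_dvd_nat hvo (orderOf_dvd_of_pow_eq_one h6)
    exact eq_one_of_two_odd hn' h7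
  rw [h4, one_mul] at h1
  have h5 : OO (N ⊓ L) ≤ OO (L ⊓ centralizer {s}) := by
    refine le_OO (le_inf ((OO_le _).trans inf_le_right) (((OO_le _).trans inf_le_left).trans t.Ns)) ?_ (odd_OO _)
    rintro y ⟨hyL, hys⟩
    rw [mem_normalizer_iff_cj, ← OO_cj, cj_inf, mem_normalizer_iff_cj.1 (t.nN hys),
      mem_normalizer_iff_cj.1 (le_normalizer hyL)]
  have h6 : v * c * v⁻¹ * c⁻¹ = (c * v * c⁻¹ * v⁻¹)⁻¹ := by group
  rw [h6, h1]
  exact inv_mem (h5 ho)

/-- **THEOREM FIX**: `c` centralises the `p`-elements of `C_L(s)` -/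
theorem comm_p (t : TW Om S N E s c) (hL : IsComponent L) (hcL : c ∈ normalizer (L : Set H))
    (hsL : s ∈ normalizer (L : Set H)) {p : ℕ} [Fact p.Prime] (hp : p ≠ 2) (hF : CT.FixP p L) {v : H} (hv : v ∈ L)
    (hvs : v * s = s * v) (hvp : IsPGroup p (zpowers v)) : v * c = c * v := by
  obtain ⟨k, hk⟩ := hvp ⟨v, mem_zpowers v⟩
  have hk' : v ^ p ^ k = 1 := congrArg Subtype.val hk
  have hpo : Odd p := (Fact.out : p.Prime).odd_of_ne_two hp
  have hvo : Odd (orderOf v) := Odd.of_dvd_nat (hpo.pow (n := k)) (orderOf_dvd_of_pow_eq_one hk')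
  have h3 := t.com_mem hL hcL hv hvs hvo
  obtain ⟨h1, h2⟩ := hF s t.s2 hsL
  obtain ⟨e, he⟩ : ∃ e, e = v * c * v⁻¹ * c⁻¹ := ⟨_, rfl⟩
  rw [← he] at h3
  have hve := h2 v hv hvs hvp e h3
  have h4 : c * v * c⁻¹ = e⁻¹ * v := by rw [he]; group
  have h5 : (e⁻¹ * v) ^ p ^ k = 1 := by
    rw [← h4, conj_pow, hk']; group
  have h6 : Commute e⁻¹ v := ((show Commute v e from hve).symm).inv_left
  rw [h6.mul_pow, hk', mul_one, inv_pow, inv_eq_one] at h5
  have h7 : orderOf e ∣ p ^ k := orderOf_dvd_of_pow_eq_one h5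
  have h8 : orderOf e ∣ Nat.card (OO (L ⊓ centralizer {s})) := by
    rw [← Subgroup.orderOf_mk e h3]; exact orderOf_dvd_natCard _
  have h9 : Nat.Coprime (p ^ k) (Nat.card (OO (L ⊓ centralizer {s}))) :=
    Nat.Coprime.pow_left k (((Nat.Prime.coprime_iff_not_dvd Fact.out).2 h1))
  have h10 : orderOf e = 1 := Nat.eq_one_of_dvd_coprimes h9 h7 h8
  rw [orderOf_eq_one_iff, he, mul_inv_eq_one, mul_inv_eq_iff_eq_mul] at h10
  exact h10

end TW

end Cfsg.Agent.Cit.Nil.LO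
end

-- part: Cit/Nil/LO/TW_mg
section

end

-- part: Cit/Nil/LO/ThreeRee
section
set_option linter.all false
open scoped Cfsg.Agent.FastGrp

/-!
# S1309, node (n2) THREE PROPAGATION: components `²G₂(q)`

* `inner_of_inv` : an automorphism of order 1 or 2 is the conjugation by an element `w`, `w * w = 1`;
* `ree_fix` : an automorphism of order 1 or 2 of `²G₂(q)` fixes an element of odd order;
* `TW.cps` : the components of `H` as a `Cps`;
* `TW.z_norm` : the involutions of the members normalise every component;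
* `ree_cent` : the involutions of the members in `S` centralise the components `²G₂(q)`.
-/

set_option autoImplicit false
set_option linter.unusedSectionVars false
set_option linter.style.haveILetI false

namespace Cfsg.Agent.Cit.Nil.LO

open Subgroup Cfsg Cit RG
open Cfsg.Agent.Omega.Lie.OutT Cfsg.Agent.Omega.Lie.OutT.Small

section aut

variable {L : Type*} [Group L]

/-- automorphisms of order 1 or 2 are conjugations by elements with `w * w = 1` -/
theorem inner_of_inv [Finite L] [IsSimpleGroup L] (hL : ¬ IsMulCommutative L)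
    (h : ∀ S : Sylow 2 L, Nat.card (S : Subgroup L) = 8 ∧ ∀ s ∈ S, s * s = 1) {a : MulAut L}
    (ha : a * a = 1) : ∃ w : L, w * w = 1 ∧ a = MulAut.conj w := by
  have : Fact (Nat.Prime 2) := ⟨Nat.prime_two⟩
  have h4 : a ^ 2 ^ 1 = 1 := by rw [pow_one, pow_two, ha]
  have hp : IsPGroup 2 (zpowers a) := by
    rintro ⟨_, m, rfl⟩
    refine ⟨1, Subtype.ext ?_⟩
    change (a ^ m) ^ 2 ^ 1 = 1
    rw [← zpow_natCast, zpow_comm, zpow_natCast, h4, one_zpow]
  obtain ⟨S, hS⟩ := Cfsg.Agent.Omega.Lie.OutT.Small.exists_sylow hp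
  obtain ⟨h8, hexp⟩ := h S
  have hinv : ∀ s ∈ S, s⁻¹ = s := fun s hs => inv_eq_of_mul_eq_one_left (hexp s hs)
  have hab : ∀ a ∈ S, ∀ b ∈ S, a * b = b * a := by
    intro a ha b hb
    have h1 := hinv _ ((S : Subgroup L).mul_mem ha hb)
    rw [mul_inv_rev, hinv a ha, hinv b hb] at h1
    exact h1.symm
  have h2 : 2 ∣ Nat.card L := by
    refine Dvd.dvd.trans ?_ (S : Subgroup L).card_subgroup_dvd_card
    rw [h8]; norm_num
  have haS : ∀ s ∈ S, a s ∈ S := hS a (mem_zpowers a)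
  have haS' : ∀ s ∈ S, a s = s := triv_on hL S h8 hexp haS (fun s _ => DFunLike.congr_fun ha s)
  obtain ⟨w, rfl⟩ := inner_of_cent hL h2 S hab (k := 1) h4 haS'
  refine ⟨w, ?_, rfl⟩
  have hinj := conj_inj hL
  apply hinj
  rw [map_mul, ha, map_one]

/-- the transvection of order 3 -/
theorem exists_three {F : Type*} [Field F] [Fintype F] {m : ℕ} (hF : Fintype.card F = 3 ^ (2 * m + 1)) :
    ∃ y : Matrix.ProjectiveSpecialLinearGroup (Fin 2) F, y ≠ 1 ∧ y ^ 3 = 1 := by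
  haveI := Cfsg.Agent.S1157.charP_three hF
  let T : Matrix.SpecialLinearGroup (Fin 2) F := ⟨!![1, 1; 0, 1], by simp [Matrix.det_fin_two]⟩
  have hT2 : T ^ 3 = 1 := by
    have h3 : (3 : F) = 0 := by exact_mod_cast CharP.cast_eq_zero F 3
    apply Subtype.ext
    rw [Matrix.SpecialLinearGroup.coe_pow]
    have h1 : (T : Matrix (Fin 2) (Fin 2) F) = !![1, 1; 0, 1] := rfl
    rw [h1, pow_succ, pow_two, Matrix.SpecialLinearGroup.coe_one]
    ext i j
    fin_cases i <;> fin_cases j <;> simp [Matrix.mul_apply, Fin.sum_univ_two]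
    linear_combination h3
  refine ⟨QuotientGroup.mk T, ?_, ?_⟩
  · intro h
    have h1 : T ∈ center (Matrix.SpecialLinearGroup (Fin 2) F) := (QuotientGroup.eq_one_iff T).1 h
    rw [Matrix.SpecialLinearGroup.mem_center_iff] at h1
    obtain ⟨r, -, hr⟩ := h1
    have h2 := congrFun (congrFun hr 0) 1
    have h3 : (T : Matrix (Fin 2) (Fin 2) F) 0 1 = 1 := rfl
    rw [h3] at h2
    simp at h2
  · rw [← QuotientGroup.mk_pow, hT2, QuotientGroup.mk_one]

/-- the Sylow 2-subgroups of `²G₂(q)` -/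
theorem ree_data (hL : Cfsg.Lie.IsoRee L) : Finite L ∧ IsSimpleGroup L ∧ ¬ IsMulCommutative L ∧
    ∀ S : Sylow 2 L, Nat.card (S : Subgroup L) = 8 ∧ ∀ s ∈ S, s * s = 1 := by
  obtain ⟨F, _, _, m, hm, hF, ⟨e⟩⟩ := hL
  obtain ⟨hs, hc⟩ := Cfsg.Agent.S1073.result hm hF
  obtain ⟨u, huH, hu1, hu2⟩ := Cfsg.Agent.S1157.exists_involution hF
  obtain ⟨-, hS⟩ := Cfsg.Agent.S1152.result hF u huH hu1 hu2
  have hfin : Finite ↥(Cfsg.Lie.twistedG2 F (3 ^ m)) := inferInstance
  have : Finite L := Finite.of_equiv _ e.symm.toEquiv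
  have : IsSimpleGroup L := e.isSimpleGroup
  refine ⟨‹_›, ‹_›, fun hcL => hc
    ⟨⟨fun x y => e.symm.injective (by rw [map_mul, map_mul]; exact hcL.is_comm.comm _ _)⟩⟩, fun S => ?_⟩
  have hfac : Fact (Nat.Prime 2) := ⟨Nat.prime_two⟩
  obtain ⟨h8, hx⟩ := hS (S.mapSurjective (f := e.toMonoidHom) e.surjective)
  constructor
  · rw [← h8]
    exact Nat.card_congr ((S : Subgroup L).equivMapOfInjective e.toMonoidHom e.injective).toEquiv
  · intro s hs'
    apply e.injective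
    rw [map_mul, map_one]
    exact hx _ ⟨s, hs', rfl⟩

/-- **automorphisms of order 1 or 2 of `²G₂(q)` fix elements of order 3** -/
theorem ree_fix (hL : Cfsg.Lie.IsoRee L) {α : MulAut L} (hα : α * α = 1) : ∃ y : L, y ≠ 1 ∧ Odd (orderOf y) ∧ α y = y := by
  obtain ⟨_, _, hnc, hSL⟩ := ree_data hL
  obtain ⟨F, _, _, m, hm, hF, ⟨e⟩⟩ := hL
  obtain ⟨u, huH, hu1, hu2⟩ := Cfsg.Agent.S1157.exists_involution hF
  obtain ⟨⟨ε⟩, hS⟩ := Cfsg.Agent.S1152.result hF u huH hu1 hu2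
  have hfin : Finite ↥(Cfsg.Lie.twistedG2 F (3 ^ m)) := inferInstance
  haveI := Cfsg.Agent.S1157.charP_three hF
  have hcd := Cfsg.Agent.LieRecognition.ReeCent.centData hu1 hu2 ε Cfsg.Agent.LieRecognition.ReePSL.klein
  have hconj : ∀ v : ↥(Cfsg.Lie.twistedG2 F (3 ^ m)), v ≠ 1 → v * v = 1 → ∃ c, c * u * c⁻¹ = v :=
    fun v hv1 hv2 => Cfsg.Agent.LieRecognition.ReeInv.isConj_involution hcd Cfsg.Agent.LieRecognition.ReePSL.klein
      (Cfsg.Agent.S1116.result hF hm) hS hv1 hv2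
  obtain ⟨w, hw, rfl⟩ := inner_of_inv hnc hSL hα
  obtain ⟨y, hy1, hy3⟩ := exists_three hF
  -- an element of order 3 which commutes with `u`
  obtain ⟨x, hx⟩ : ∃ x, x = ((ε.symm (1, y) : centralizer {u}) : ↥(Cfsg.Lie.twistedG2 F (3 ^ m))) := ⟨_, rfl⟩
  have hxu : x * u = u * x := by rw [hx]; exact mem_centralizer_singleton_iff.1 (ε.symm (1, y)).2
  have hx1 : x ≠ 1 := by
    intro h
    rw [hx] at h
    have h1 : ε.symm (1, y) = 1 := Subtype.ext h
    rw [map_eq_one_iff _ ε.symm.injective] at h1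
    exact hy1 (Prod.ext_iff.1 h1).2
  have hx3 : x ^ 3 = 1 := by
    have h1 : ε.symm (1, y) ^ 3 = 1 := by
      rw [← map_pow, Prod.pow_mk, one_pow, hy3]
      exact map_one _
    rw [hx]
    exact congrArg Subtype.val h1
  obtain ⟨g, hg⟩ : ∃ g : ↥(Cfsg.Lie.twistedG2 F (3 ^ m)), e w * (g * x * g⁻¹) = (g * x * g⁻¹) * e w := by
    by_cases h1 : e w = 1
    · exact ⟨1, by rw [h1, one_mul, mul_one]⟩
    · obtain ⟨g, hg⟩ := hconj (e w) h1 (by rw [← map_mul, hw, map_one])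
      refine ⟨g, ?_⟩
      rw [← hg]
      calc g * u * g⁻¹ * (g * x * g⁻¹) = g * (u * x) * g⁻¹ := by group
        _ = g * (x * u) * g⁻¹ := by rw [hxu]
        _ = _ := by group
  refine ⟨e.symm (g * x * g⁻¹), ?_, ?_, ?_⟩
  · intro h
    rw [map_eq_one_iff _ e.symm.injective, conj_eq_one_iff] at h
    exact hx1 h
  · rw [MulEquiv.orderOf_eq, orderOf_conj]
    exact Odd.of_dvd_nat (by decide : Odd 3) (orderOf_dvd_of_pow_eq_one hx3)
  · obtain ⟨v, hv⟩ : ∃ v, v = e.symm (g * x * g⁻¹) := ⟨_, rfl⟩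
    have hv' : e v = g * x * g⁻¹ := by rw [hv, e.apply_symm_apply]
    rw [← hv, MulAut.conj_apply, mul_inv_eq_iff_eq_mul]
    apply e.injective
    rw [map_mul, map_mul, hv']
    exact hg

end aut

section grp

variable {H : Type*} [Group H] [Finite H] {Om : Set (Subgroup H)} {S : Sylow 2 H} {N E L K : Subgroup H} {s c z : H}

/-- the components of a core-free group -/
theorem cps_components (hc : pPrimeCore 2 H = ⊥) : Cps {L : Subgroup H | IsComponent L} ⊤ := by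
  have hcm : ∀ L ∈ {L : Subgroup H | IsComponent L}, ∀ M ∈ {L : Subgroup H | IsComponent L}, L ≠ M →
      ∀ x ∈ L, ∀ y ∈ M, x * y = y * x := by
    intro L hL M hM hne x hx y hy
    have h1 := SignalizersComponents.Components.component_le_centralizer_of_ne hL hM hne
    exact ((mem_centralizer_iff.1 (h1 hx)) y hy).symm
  have hcj : ∀ L ∈ {L : Subgroup H | IsComponent L}, ∀ g ∈ (⊤ : Subgroup H), cj g L ∈ {L : Subgroup H | IsComponent L} :=
    fun L hL g _ => SignalizersComponents.Components.isComponent_conj g hL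
  refine ⟨fun L hL => hL.2, hcm, hcj, ?_⟩
  intro x hx hxc ho
  obtain ⟨E, hE⟩ : ∃ E : Subgroup H, E = SS {L : Subgroup H | IsComponent L} := ⟨_, rfl⟩
  rw [← hE] at hx hxc
  have hEn : ∀ g, ∀ y ∈ E, g * y * g⁻¹ ∈ E := by
    intro g y hy
    rw [hE] at hy ⊢
    exact SS_cj_le (fun L hL => hcj L hL g (mem_top g)) hy
  obtain ⟨Z, hZ⟩ : ∃ Z : Subgroup H, Z = E ⊓ centralizer (E : Set H) := ⟨_, rfl⟩
  have hmZ : ∀ y, y ∈ Z ↔ y ∈ E ∧ ∀ e ∈ E, y * e = e * y := by
    intro y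
    rw [hZ, mem_inf, mem_centralizer_iff]
    exact ⟨fun h => ⟨h.1, fun e he => (h.2 e he).symm⟩, fun h => ⟨h.1, fun e he => (h.2 e he).symm⟩⟩
  have hxZ : x ∈ Z := (hmZ x).2 ⟨hx, hxc⟩
  have hZn : ∀ g, g ∈ normalizer (Z : Set H) := by
    have h1 : ∀ g, ∀ y ∈ Z, g * y * g⁻¹ ∈ Z := by
      intro g y hy
      rw [hmZ] at hy ⊢
      refine ⟨hEn g y hy.1, fun e he => ?_⟩
      have h2 := hy.2 _ (hEn g⁻¹ e he)
      rw [inv_inv] at h2
      calc g * y * g⁻¹ * e = g * (y * (g⁻¹ * e * g)) * g⁻¹ := by group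
        _ = g * (g⁻¹ * e * g * y) * g⁻¹ := by rw [h2]
        _ = _ := by group
    intro g
    rw [mem_normalizer_iff]
    refine fun y => ⟨h1 g y, fun hy => ?_⟩
    have h2 := h1 g⁻¹ _ hy
    have h3 : g⁻¹ * (g * y * g⁻¹) * g⁻¹⁻¹ = y := by group
    rwa [h3] at h2
  have h1 : zpowers x ≤ OO Z := by
    refine le_OO (by rw [zpowers_le]; exact hxZ) ?_ ?_
    · intro y hy
      rw [mem_normalizer_iff]
      intro u
      have hyE := ((hmZ y).1 hy).1
      have hcomm : ∀ v ∈ zpowers x, y * v * y⁻¹ = v := by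
        rintro _ ⟨n, rfl⟩
        have h2 := hxc y hyE
        have h3 : Commute y (x ^ n) := (show Commute x y from h2).symm.zpow_right n
        rw [mul_inv_eq_iff_eq_mul]
        exact h3
      refine ⟨fun hu => by rw [hcomm u hu]; exact hu, fun hu => ?_⟩
      have h4 := hcomm _ hu
      have h5 : y * u * y⁻¹ = u := by
        have h6 : y⁻¹ * (y * (y * u * y⁻¹) * y⁻¹) * y = y⁻¹ * (y * u * y⁻¹) * y := by rw [h4]
        have h7 : y⁻¹ * (y * (y * u * y⁻¹) * y⁻¹) * y = y * u * y⁻¹ := by group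
        have h8 : y⁻¹ * (y * u * y⁻¹) * y = u := by group
        rw [h7, h8] at h6
        exact h6
      rwa [h5] at hu
    · rw [Nat.card_zpowers]
      intro h2
      exact (Nat.not_even_iff_odd.2 ho) (even_iff_two_dvd.2 h2)
  have h2 : (OO Z).Normal := by
    rw [← normalizer_eq_top_iff, eq_top_iff]
    intro g _
    rw [mem_normalizer_iff_cj, ← OO_cj, mem_normalizer_iff_cj.1 (hZn g)]
  have h3 : OO Z ≤ pPrimeCore 2 H :=
    Lib.Cores.le_pPrimeCore h2 ((Nat.Prime.coprime_iff_not_dvd Nat.prime_two).2 (odd_OO Z)).symm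
  rw [hc, le_bot_iff] at h3
  rw [h3, le_bot_iff, zpowers_eq_bot] at h1
  exact h1

/-- the involutions of the members normalise every component -/
theorem zz_norm (w : WR Om) (hc : pPrimeCore 2 H = ⊥) (hL : IsComponent L) (hK : K ∈ Om) : cj (zz K) L = L :=
  (cps_components hc).norm w ⟨hK, rfl⟩ le_top hL

/-- **the involutions of the members centralise the components `²G₂(q)`** -/
theorem ree_cent_of (w : WR Om) (hc : pPrimeCore 2 H = ⊥) (hL : IsComponent L)
    (hRee : Cfsg.Lie.IsoRee (↥L ⧸ center ↥L)) (hK : K ∈ Om) : Cen L (zz K) := by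
  by_contra hn
  have C := cps_components hc
  have hKz : K ∈ Ov Om (zz K) := ⟨hK, rfl⟩
  have hz : zz K ∈ RG.ZZ Om := ⟨K, hK, rfl⟩
  have hp : ⁅L, L⁆ = L := SignalizersComponents.Components.component_commutator_self hL
  have hzN : zz K ∈ normalizer (L : Set H) := mem_normalizer_iff_cj.2 (zz_norm w hc hL hK)
  obtain ⟨_, _, hnc, hSL⟩ := ree_data hRee
  obtain ⟨ψ, hψ⟩ : ∃ ψ : normalizer (L : Set H) →* MulAut (L ⧸ center L),
      ∀ (x : normalizer (L : Set H)) (l : L), ψ x (l : L ⧸ center L) = (cjL x l : L ⧸ center L) :=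
    ⟨(quoAut L).comp L.normalizerMonoidHom, fun x l => rfl⟩
  -- an automorphism trivial on `L / Z(L)`
  have htriv : ∀ x : normalizer (L : Set H), ψ x = 1 → ∀ l ∈ L, (x : H) * l = l * x := by
    intro x h
    apply cent_of_mod hp
    intro l hl
    have h1 := hψ x ⟨l, hl⟩
    rw [h, MulAut.one_apply, QuotientGroup.eq] at h1
    refine ⟨l⁻¹ * ((x : H) * l * (x : H)⁻¹), ?_, ?_, by group⟩
    · exact L.mul_mem (L.inv_mem hl) (cjL x ⟨l, hl⟩).2
    · intro m hm
      have h3 := mem_center_iff.1 h1 ⟨m, hm⟩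
      exact (congrArg Subtype.val h3).symm
  have hzz : (⟨zz K, hzN⟩ : normalizer (L : Set H)) * ⟨zz K, hzN⟩ = 1 := Subtype.ext (w.zz_sq hz)
  -- an element of odd order of `C_L(z)`
  have hx : ∃ x ∈ L, x ≠ 1 ∧ Odd (orderOf x) ∧ zz K * x = x * zz K := by
    obtain ⟨y, hy1, hyo, hy⟩ := ree_fix hRee (α := ψ ⟨zz K, hzN⟩) (by rw [← map_mul, hzz, map_one])
    obtain ⟨l0, hl0⟩ := QuotientGroup.mk_surjective y
    have hZ : IsPGroup 2 (center L) := isPGroup_center_component hc hL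
    obtain ⟨l, hl, ho⟩ := exists_odd_lift hZ l0 hyo (by rw [hl0, pow_orderOf_eq_one])
    rw [hl0] at hl
    have h1 := hψ ⟨zz K, hzN⟩ l
    rw [hl, hy, ← hl, QuotientGroup.eq] at h1
    obtain ⟨ζ, hζ⟩ : ∃ ζ, ζ = l⁻¹ * cjL ⟨zz K, hzN⟩ l := ⟨_, rfl⟩
    rw [← hζ] at h1
    have hcm : l * ζ = ζ * l := mem_center_iff.1 h1 l
    have hcj : cjL ⟨zz K, hzN⟩ l = l * ζ := by rw [hζ]; group
    have h3 : Odd (orderOf (cjL ⟨zz K, hzN⟩ l)) := by
      have : orderOf (cjL ⟨zz K, hzN⟩ l) = orderOf l := by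
        rw [← Subgroup.orderOf_coe, ← Subgroup.orderOf_coe]
        have : ((cjL ⟨zz K, hzN⟩ l : L) : H) = MulAut.conj (zz K) (l : H) := rfl
        rw [this, MulEquiv.orderOf_eq]
      rw [this]; exact ho
    have h4 : Odd (orderOf ζ) := by
      have hcomm : l⁻¹ * cjL ⟨zz K, hzN⟩ l = cjL ⟨zz K, hzN⟩ l * l⁻¹ := by
        rw [hcj, ← mul_assoc, inv_mul_cancel, one_mul, hcm, mul_inv_cancel_right]
      rw [hζ]
      exact ltwo_odd_mul hcomm (odd_inv ho) h3
    obtain ⟨k, hk⟩ := hZ ⟨ζ, h1⟩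
    have h5 : ζ = 1 := eq_one_of_odd_two h4 (congrArg Subtype.val hk)
    rw [h5, mul_one] at hcj
    have h6 : zz K * l * (zz K)⁻¹ = l := congrArg Subtype.val hcj
    rw [mul_inv_eq_iff_eq_mul] at h6
    refine ⟨l, l.2, ?_, by rw [Subgroup.orderOf_coe]; exact ho, h6⟩
    intro h7
    apply hy1
    rw [← hl, show l = 1 from Subtype.ext h7]
    rfl
  -- the members over `z` normalise `L`
  have hnorm : ∀ g ∈ RR Om (zz K), cj g L = L := by
    intro g hg
    by_contra hne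
    obtain ⟨x, hxL, hx1, hxo, hxz⟩ := hx
    have hcomm := C.comm L hL (cj g L) (C.conj L hL g (mem_top g)) (fun h => hne h.symm) x hxL _ (conj_mem_cj (g := g) hxL)
    have h1 := odd_fix' w hz hxz.symm hg hxo hcomm
    apply hx1
    refine C.cen_odd hL hxL ?_ hxo
    intro y hy
    have h2 := C.comm L hL (cj g L) (C.conj L hL g (mem_top g)) (fun h => hne h.symm) y hy _ (conj_mem_cj (g := g) hxL)
    rw [h1] at h2
    exact h2.symm
  obtain ⟨a, ha, haa⟩ := w.exists_four hK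
  have haN : a ∈ normalizer (L : Set H) := mem_normalizer_iff_cj.2 (hnorm a (WR.le_RR hKz ha))
  have h1 : ψ ⟨a, haN⟩ * ψ ⟨a, haN⟩ = ψ ⟨zz K, hzN⟩ := by
    rw [← map_mul]
    congr 1
    exact Subtype.ext haa
  have h2 : ψ ⟨zz K, hzN⟩ = 1 := by
    rw [← h1]
    apply sq_eq_one hnc hSL
    rw [h1, ← map_mul, hzz, map_one]
  exact hn (htriv _ h2)

/-- **981's literal** -/
theorem ree_cent (t : TW Om S N E s c) (hL : IsComponent L) (hRee : Cfsg.Lie.IsoRee (↥L ⧸ center ↥L)) :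
    ∀ K ∈ Om, K ≤ (S : Subgroup H) → ∀ x ∈ L, zz K * x = x * zz K :=
  fun _ hK _ => ree_cent_of t.w t.core hL hRee hK

end grp

end Cfsg.Agent.Cit.Nil.LO
end
end
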