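import Mathlib
import Cfsg.Agent.FastGrp
import Cfsg.Agent.Prune
set_option linter.all false
prune_inst 0x7f00000000000000000000000000000000000000000000000000000000000000000000000000000000000000000000000000000000000000000000000000000000000000000000000000000000000000003fffffffffffffffffffffffffffbeffbdffffffff
open scoped Cfsg.Agent.FastGrp

/-!
# Nonsingular biadditive maps and isometries (S1309, section 7 of LieOdd, `SU_{2n+1}`)

`S : V × V → A` biadditive, `S x y = 0` only if `x = 0` or `y = 0`; `α`, `γ` commuting isometries, `α² = -1`, `γ` of odd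
order; `β` injective with `β α = - α β`, `β γ = γ β`. Then `γ = 1`: the ring generated by `α`, `γ` is a field, the ring
`𝔽_p[γ]` contains a square root of `-1` if `γ ≠ 1`.

* `add_form` : in additive language;
* `grp_form` : for sections `P / N` of a group, `α`, `β`, `γ` conjugations.
-/

set_option autoImplicit false
set_option linter.unusedSectionVars false

namespace Cfsg.Agent.LOC.NdField

section add

variable {V A : Type*} [AddCommGroup V] [AddCommGroup A] [Finite V] {S : V →+ V →+ A}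
  {α γ β : AddMonoid.End V}

theorem isSquare_mul_of_not {K : Type*} [Field K] [Finite K] {a b : K} (ha : ¬ IsSquare a) (hb : ¬ IsSquare b) :
    IsSquare (a * b) := by
  classical
  have : Fintype K := Fintype.ofFinite K
  have ha0 : a ≠ 0 := fun h0 => ha (by rw [h0]; exact IsSquare.zero)
  have hb0 : b ≠ 0 := fun h0 => hb (by rw [h0]; exact IsSquare.zero)
  rw [← quadraticChar_one_iff_isSquare (mul_ne_zero ha0 hb0), map_mul,
    quadraticChar_neg_one_iff_not_isSquare.2 ha, quadraticChar_neg_one_iff_not_isSquare.2 hb]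
  norm_num

theorem comm_closure {s : Set (AddMonoid.End V)} (hs : ∀ x ∈ s, ∀ y ∈ s, x * y = y * x) {ρ σ : AddMonoid.End V}
    (hρ : ρ ∈ Subring.closure s) (hσ : σ ∈ Subring.closure s) : ρ * σ = σ * ρ := by
  have h1 : s ⊆ Subring.centralizer (Subring.closure s : Set (AddMonoid.End V)) := by
    intro x hx
    have h2 : Subring.closure s ≤ Subring.centralizer {x} := by
      rw [Subring.closure_le]
      intro y hy
      show y ∈ Subring.centralizer {x}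
      rw [Subring.mem_centralizer_iff]
      intro z hz
      rw [Set.mem_singleton_iff.1 hz]
      exact hs x hx y hy
    show x ∈ Subring.centralizer _
    rw [Subring.mem_centralizer_iff]
    intro y hy
    have h3 := h2 hy
    rw [Subring.mem_centralizer_iff] at h3
    exact (h3 x rfl).symm
  have h2 := (Subring.closure_le.2 h1) hσ
  rw [Subring.mem_centralizer_iff] at h2
  exact h2 ρ hρ

theorem add_form (h0 : ∀ x y, S x y = 0 → x = 0 ∨ y = 0) (hα : ∀ x, α (α x) = -x)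
    (hαγ : ∀ x, α (γ x) = γ (α x)) (hβα : ∀ x, β (α x) = -α (β x)) (hβγ : ∀ x, β (γ x) = γ (β x))
    (hβ : ∀ x, β x = 0 → x = 0) (hSα : ∀ x y, S (α x) (α y) = S x y) (hSγ : ∀ x y, S (γ x) (γ y) = S x y)
    {n : ℕ} (hn : Odd n) (hγ : γ ^ n = 1) (h2 : ∀ x : V, x + x = 0 → x = 0) : γ = 1 := by
  by_contra hne
  obtain ⟨x₀, hx₀⟩ : ∃ x : V, x ≠ 0 := by
    by_contra hcon
    push Not at hcon
    apply hne
    ext x
    rw [hcon x, map_zero, map_zero]
  have hα' : α * α = -1 := by ext x; exact hα x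
  have hαγ' : α * γ = γ * α := by ext x; exact hαγ x
  set R : Subring (AddMonoid.End V) := Subring.closure {α, γ} with hR
  have hcomm : ∀ {ρ σ : AddMonoid.End V}, ρ ∈ R → σ ∈ R → ρ * σ = σ * ρ := by
    intro ρ σ hρ hσ
    refine comm_closure (s := {α, γ}) ?_ hρ hσ
    rintro x (rfl | rfl) y (rfl | rfl)
    · rfl
    · exact hαγ'
    · exact hαγ'.symm
    · rfl
  have hαR : α ∈ R := Subring.subset_closure (by simp)
  have hγR : γ ∈ R := Subring.subset_closure (by simp)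
  obtain ⟨m, hm⟩ : ∃ m, n = m + 1 := ⟨n - 1, by have := hn.pos; omega⟩
  have hγm : γ * γ ^ m = 1 := by rw [← pow_succ', ← hm, hγ]
  have hγm' : ∀ x, γ ((γ ^ m) x) = x := fun x => DFunLike.congr_fun hγm x
  have a1 : ∀ x y, S (γ x) y = S x ((γ ^ m) y) := by
    intro x y
    nth_rewrite 1 [← hγm' y]
    exact hSγ _ _
  have a2 : ∀ x y, S ((γ ^ m) x) y = S x (γ y) := by
    intro x y
    rw [← hSγ, hγm']
  have a3 : ∀ x y, S (α x) y = S x (-(α y)) := by
    intro x y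
    have h3 : y = α (-(α y)) := by rw [map_neg, hα, neg_neg]
    nth_rewrite 1 [h3]
    exact hSα _ _
  -- adjoints
  have adj : ∀ ρ ∈ R, ∃ σ ∈ R, ∀ x y, S (ρ x) y = S x (σ y) := by
    intro ρ hρ
    induction hρ using Subring.closure_induction with
    | mem x hx =>
      rcases hx with rfl | rfl
      · exact ⟨-x, neg_mem hαR, fun u v => by rw [a3]; rfl⟩
      · exact ⟨x ^ m, pow_mem hγR m, a1⟩
    | zero => exact ⟨0, zero_mem _, fun x y => by simp⟩
    | one => exact ⟨1, one_mem _, fun x y => rfl⟩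
    | add ρ₁ ρ₂ _ _ h1 h2 =>
      obtain ⟨σ₁, hσ₁, h1⟩ := h1
      obtain ⟨σ₂, hσ₂, h2⟩ := h2
      refine ⟨σ₁ + σ₂, add_mem hσ₁ hσ₂, fun x y => ?_⟩
      show S (ρ₁ x + ρ₂ x) y = S x (σ₁ y + σ₂ y)
      rw [map_add, map_add, AddMonoidHom.add_apply, h1, h2]
    | neg ρ₁ _ h1 =>
      obtain ⟨σ₁, hσ₁, h1⟩ := h1
      refine ⟨-σ₁, neg_mem hσ₁, fun x y => ?_⟩
      show S (-(ρ₁ x)) y = S x (-(σ₁ y))
      rw [map_neg, map_neg, AddMonoidHom.neg_apply, h1]
    | mul ρ₁ ρ₂ _ _ h1 h2 =>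
      obtain ⟨σ₁, hσ₁, h1⟩ := h1
      obtain ⟨σ₂, hσ₂, h2⟩ := h2
      refine ⟨σ₂ * σ₁, mul_mem hσ₂ hσ₁, fun x y => ?_⟩
      show S (ρ₁ (ρ₂ x)) y = S x (σ₂ (σ₁ y))
      rw [h1, h2]
  -- no zero divisors
  have dom : ∀ ρ ∈ R, ∀ x, ρ x = 0 → x ≠ 0 → ρ = 0 := by
    intro ρ hρ x hx hx0
    obtain ⟨σ, hσ, h1⟩ := adj ρ hρ
    have h3 : ∀ y, σ y = 0 := by
      intro y
      have h4 := h1 x y
      rw [hx, map_zero, AddMonoidHom.zero_apply] at h4
      exact (h0 _ _ h4.symm).resolve_left hx0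
    ext u
    have h4 := h1 u x
    rw [h3, map_zero] at h4
    exact (h0 _ _ h4).resolve_right hx0
  have dom2 : ∀ ρ ∈ R, ∀ σ ∈ R, ρ * σ = 0 → ρ = 0 ∨ σ = 0 := by
    intro ρ hρ σ hσ h1
    by_contra hcon
    push Not at hcon
    have h3 : ∃ x, σ x ≠ 0 := by
      by_contra h4
      push Not at h4
      exact hcon.2 (by ext x; exact h4 x)
    obtain ⟨x, hx⟩ := h3
    exact hcon.1 (dom ρ hρ _ (DFunLike.congr_fun h1 x) hx)
  -- squares
  have sq : ∀ ρ ∈ R, ∀ σ ∈ R, ρ * ρ = σ * σ → ρ = σ ∨ ρ = -σ := by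
    intro ρ hρ σ hσ h1
    have h3 : (ρ - σ) * (ρ + σ) = 0 := by
      rw [sub_mul, mul_add, mul_add, h1, hcomm hρ hσ]
      abel
    rcases dom2 _ (sub_mem hρ hσ) _ (add_mem hρ hσ) h3 with h4 | h4
    · exact Or.inl (sub_eq_zero.1 h4)
    · exact Or.inr (eq_neg_of_add_eq_zero_left h4)
  set R₁ : Subring (AddMonoid.End V) := Subring.closure {γ} with hR₁
  have hle : R₁ ≤ R := Subring.closure_mono (by simp)
  have hγ₁ : γ ∈ R₁ := Subring.subset_closure rfl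
  have hβc : ∀ ρ ∈ R₁, ∀ x, β (ρ x) = ρ (β x) := by
    have h3 : R₁ ≤ Subring.centralizer {β} := by
      rw [hR₁, Subring.closure_le]
      intro y hy
      rw [Set.mem_singleton_iff.1 hy]
      show γ ∈ Subring.centralizer {β}
      rw [Subring.mem_centralizer_iff]
      intro z hz
      rw [Set.mem_singleton_iff.1 hz]
      ext x
      exact hβγ x
    intro ρ hρ x
    have h4 := h3 hρ
    rw [Subring.mem_centralizer_iff] at h4
    exact DFunLike.congr_fun (h4 β rfl) x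
  -- `α ε` does not commute with `β`
  have non : ∀ ε ∈ R₁, ε ≠ 0 → ∀ ρ ∈ R₁, α * ε ≠ ρ := by
    intro ε hε hε0 ρ hρ h3
    have h4 : ∀ x, α (ε (β x)) = 0 := by
      intro x
      apply h2
      have h5 := hβc ρ hρ x
      rw [← h3] at h5
      change β (α (ε x)) = α (ε (β x)) at h5
      rw [hβα, hβc ε hε] at h5
      nth_rewrite 1 [← h5]
      exact neg_add_cancel _
    have h5 : ∀ x, ε (β x) = 0 := by
      intro x
      have := hα (ε (β x))
      rw [h4, map_zero] at this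
      exact neg_eq_zero.1 this.symm
    have h6 : β x₀ ≠ 0 := fun h6 => hx₀ (hβ _ h6)
    exact hε0 (dom ε (hle hε) _ (h5 x₀) h6)
  have oneS : (1 : AddMonoid.End V) ≠ 0 := by
    intro h3
    exact hx₀ (DFunLike.congr_fun h3 x₀)
  -- symmetric elements
  let R₀ : Subring (AddMonoid.End V) :=
    { carrier := {ρ | ρ ∈ R₁ ∧ ∀ x y, S (ρ x) y = S x (ρ y)}
      zero_mem' := ⟨zero_mem _, fun x y => by simp⟩
      one_mem' := ⟨one_mem _, fun x y => rfl⟩
      add_mem' := by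
        rintro ρ σ ⟨h1, h2⟩ ⟨h3, h4⟩
        refine ⟨add_mem h1 h3, fun x y => ?_⟩
        show S (ρ x + σ x) y = S x (ρ y + σ y)
        rw [map_add, map_add, AddMonoidHom.add_apply, h2, h4]
      neg_mem' := by
        rintro ρ ⟨h1, h2⟩
        refine ⟨neg_mem h1, fun x y => ?_⟩
        show S (-(ρ x)) y = S x (-(ρ y))
        rw [map_neg, map_neg, AddMonoidHom.neg_apply, h2]
      mul_mem' := by
        rintro ρ σ ⟨h1, h2⟩ ⟨h3, h4⟩
        refine ⟨mul_mem h1 h3, fun x y => ?_⟩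
        show S (ρ (σ x)) y = S x (ρ (σ y))
        rw [h2, h4]
        have h5 : σ (ρ y) = ρ (σ y) := DFunLike.congr_fun (hcomm (hle h3) (hle h1)) y
        rw [h5] }
  have hR₀ : ∀ ρ : R₀, (ρ : AddMonoid.End V) ∈ R := fun ρ => hle ρ.2.1
  let iC : CommRing R₀ := { (inferInstance : Ring R₀) with
    mul_comm := fun a b => Subtype.ext (hcomm (hR₀ a) (hR₀ b)) }
  have iN : Nontrivial R₀ := ⟨0, 1, fun h3 => oneS (congrArg Subtype.val h3).symm⟩
  have iZ : NoZeroDivisors R₀ := ⟨fun {a b} hab => by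
    rcases dom2 _ (hR₀ a) _ (hR₀ b) (congrArg Subtype.val hab) with h3 | h3
    · exact Or.inl (Subtype.ext h3)
    · exact Or.inr (Subtype.ext h3)⟩
  have iD : IsDomain R₀ := NoZeroDivisors.to_isDomain R₀
  have iF : Finite (AddMonoid.End V) := DFunLike.finite (AddMonoid.End V)
  have iF' : Finite R₀ := inferInstance
  have hFld : IsField R₀ := Finite.isField_of_domain R₀
  let iK : Field R₀ := hFld.toField
  -- `δ`
  set δ := γ - γ ^ m with hδ
  have hδR₁ : δ ∈ R₁ := sub_mem hγ₁ (pow_mem hγ₁ m)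
  have hδs : ∀ x y, S (δ x) y = -S x (δ y) := by
    intro x y
    rw [hδ]
    show S (γ x - (γ ^ m) x) y = -S x (γ y - (γ ^ m) y)
    rw [map_sub, map_sub, AddMonoidHom.sub_apply, a1, a2, neg_sub]
  have hδ0 : δ ≠ 0 := by
    intro h3
    apply hne
    have h4 : γ = γ ^ m := sub_eq_zero.1 h3
    have h5 : γ ^ 2 = 1 := by
      rw [pow_two]
      nth_rewrite 2 [h4]
      exact hγm
    obtain ⟨k, hk⟩ := hn
    rw [hk, pow_succ, pow_mul, h5, one_pow, one_mul] at hγ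
    exact hγ
  have hδ2 : δ * δ ∈ R₀ := by
    refine ⟨mul_mem hδR₁ hδR₁, fun x y => ?_⟩
    show S (δ (δ x)) y = S x (δ (δ y))
    rw [hδs, hδs, neg_neg]
  by_cases hs : IsSquare (-1 : R₀)
  · obtain ⟨i, hi⟩ := hs
    have hi' : (i : AddMonoid.End V) * i = -1 := (congrArg Subtype.val hi).symm
    rcases sq α hαR i (hR₀ i) (by rw [hα', hi']) with h3 | h3
    · exact non 1 (one_mem _) oneS i i.2.1 (by rw [mul_one, h3])
    · exact non 1 (one_mem _) oneS (-i) (neg_mem i.2.1) (by rw [mul_one, h3])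
  · have hd : ¬ IsSquare (⟨δ * δ, hδ2⟩ : R₀) := by
      rintro ⟨c, hc⟩
      have hc' : δ * δ = c * c := congrArg Subtype.val hc
      have hmem : δ ∈ R₀ := by
        rcases sq δ (hle hδR₁) c (hR₀ c) hc' with h3 | h3
        · rw [h3]; exact c.2
        · rw [h3]; exact neg_mem c.2
      have h3 : ∀ y, δ y = 0 := by
        intro y
        apply h2
        have h4 := hmem.2 x₀ y
        rw [hδs] at h4
        have h5 : S x₀ (δ y + δ y) = 0 := by
          rw [map_add]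
          nth_rewrite 1 [← h4]
          exact neg_add_cancel _
        exact (h0 _ _ h5).resolve_left hx₀
      exact hδ0 (by ext y; exact h3 y)
    obtain ⟨c, hc⟩ := isSquare_mul_of_not hs hd
    have hc' : -1 * (δ * δ) = (c : AddMonoid.End V) * c := congrArg Subtype.val hc
    have hαδ : (α * δ) * (α * δ) = c * c := by
      have h3 : δ * α = α * δ := hcomm (hle hδR₁) hαR
      rw [mul_assoc, ← mul_assoc δ, h3, mul_assoc α δ, ← mul_assoc α α, hα', hc']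
    rcases sq _ (mul_mem hαR (hle hδR₁)) c (hR₀ c) hαδ with h3 | h3
    · exact non δ hδR₁ hδ0 c c.2.1 h3
    · exact non δ hδR₁ hδ0 (-c) (neg_mem c.2.1) h3

end add

section grp

variable {Y : Type*} [Group Y] {p : ℕ}

/-- **The form lemma for a section `P / N`.** -/
theorem grp_form [Fact p.Prime] (hp2 : p ≠ 2) {P N A : Subgroup Y} [Finite P] (hPp : IsPGroup p P)
    (hPN : ∀ x ∈ P, ∀ y ∈ P, (x * y)⁻¹ * (y * x) ∈ N) (hNP : N ≤ P) (hNc : ∀ n ∈ N, ∀ x ∈ P, x * n * x⁻¹ ∈ N)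
    (hA : ∀ a ∈ A, ∀ b ∈ A, a * b = b * a) (b : Y → Y → Y)
    (hb : ∀ x ∈ P, ∀ y ∈ P, b x y ∈ A) (h1 : ∀ x ∈ P, ∀ y ∈ P, ∀ z ∈ P, b (x * y) z = b x z * b y z)
    (h2 : ∀ x ∈ P, ∀ y ∈ P, ∀ z ∈ P, b x (y * z) = b x y * b x z)
    (hN1 : ∀ x ∈ N, ∀ y ∈ P, b x y = 1) (hN2 : ∀ x ∈ P, ∀ y ∈ N, b x y = 1)
    (h0 : ∀ x ∈ P, ∀ y ∈ P, b x y = 1 → x ∈ N ∨ y ∈ N) {a g k : Y}
    (naP : ∀ x ∈ P, a * x * a⁻¹ ∈ P) (naP' : ∀ x ∈ P, a⁻¹ * x * a ∈ P) (naN : ∀ x ∈ N, a * x * a⁻¹ ∈ N)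
    (ngP : ∀ x ∈ P, g * x * g⁻¹ ∈ P) (ngN : ∀ x ∈ N, g * x * g⁻¹ ∈ N)
    (nkP : ∀ x ∈ P, k * x * k⁻¹ ∈ P) (nkN : ∀ x ∈ N, k * x * k⁻¹ ∈ N)
    (kinj : ∀ x ∈ P, k * x * k⁻¹ ∈ N → x ∈ N)
    (ha2 : ∀ x ∈ P, x * (a * (a * x * a⁻¹) * a⁻¹) ∈ N) (hag : a * g = g * a) (hka : k * a * k⁻¹ = a⁻¹)
    (hkg : k * g = g * k) (hg : Odd (orderOf g))
    (hSa : ∀ x ∈ P, ∀ y ∈ P, b (a * x * a⁻¹) (a * y * a⁻¹) = b x y)
    (hSg : ∀ x ∈ P, ∀ y ∈ P, b (g * x * g⁻¹) (g * y * g⁻¹) = b x y) : ∀ x ∈ P, x⁻¹ * (g * x * g⁻¹) ∈ N := by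
  let N' : Subgroup P := N.subgroupOf P
  have hN'n : N'.Normal := ⟨fun n hn g => by
    rw [Subgroup.mem_subgroupOf] at hn ⊢
    exact hNc _ hn _ g.2⟩
  let iA : CommGroup A := { (inferInstance : Group A) with
    mul_comm := fun a b => Subtype.ext (hA a.1 a.2 b.1 b.2) }
  let iP : CommGroup (P ⧸ N') := { (inferInstance : Group (P ⧸ N')) with
    mul_comm := by
      intro a b
      obtain ⟨a, rfl⟩ := QuotientGroup.mk_surjective a
      obtain ⟨b, rfl⟩ := QuotientGroup.mk_surjective b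
      rw [← QuotientGroup.mk_mul, ← QuotientGroup.mk_mul, QuotientGroup.eq, Subgroup.mem_subgroupOf]
      exact hPN _ a.2 _ b.2 }
  have key : ∀ x ∈ P, ∀ y ∈ P, ∀ x' ∈ P, ∀ y' ∈ P, x⁻¹ * x' ∈ N → y⁻¹ * y' ∈ N → b x y = b x' y' := by
    intro x hx y hy x' hx' y' hy' h3 h4
    have e1 : x' = x * (x⁻¹ * x') := by group
    have e2 : y' = y * (y⁻¹ * y') := by group
    rw [e1, e2, h1 _ hx _ (hNP h3) _ (mul_mem hy (hNP h4)), h2 _ hx _ hy _ (hNP h4), hN2 _ hx _ h4,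
      hN1 _ h3 _ (mul_mem hy (hNP h4)), mul_one, mul_one]
  let f : P ⧸ N' → P ⧸ N' → A := fun x y =>
    ⟨b (x.out : P).1 (y.out : P).1, hb _ (x.out : P).2 _ (y.out : P).2⟩
  have hf : ∀ x y : P, f (x : P ⧸ N') (y : P ⧸ N') = ⟨b x.1 y.1, hb _ x.2 _ y.2⟩ := by
    intro x y
    have h3 : ((x : P ⧸ N').out : P)⁻¹ * x ∈ N' := by
      rw [← QuotientGroup.eq, QuotientGroup.out_eq']
    have h4 : ((y : P ⧸ N').out : P)⁻¹ * y ∈ N' := by
      rw [← QuotientGroup.eq, QuotientGroup.out_eq']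
    have h5 := key _ ((x : P ⧸ N').out : P).2 _ ((y : P ⧸ N').out : P).2 _ x.2 _ y.2
      (Subgroup.mem_subgroupOf.1 h3) (Subgroup.mem_subgroupOf.1 h4)
    exact Subtype.ext h5
  have f1 : ∀ x y z : P ⧸ N', f (x * y) z = f x z * f y z := by
    intro x y z
    obtain ⟨x, rfl⟩ := QuotientGroup.mk_surjective x
    obtain ⟨y, rfl⟩ := QuotientGroup.mk_surjective y
    obtain ⟨z, rfl⟩ := QuotientGroup.mk_surjective z
    have e1 : f ((x : P ⧸ N') * (y : P ⧸ N')) (z : P ⧸ N') = f ((x * y : P) : P ⧸ N') (z : P ⧸ N') := rfl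
    rw [e1, hf, hf, hf]
    exact Subtype.ext (h1 _ x.2 _ y.2 _ z.2)
  have f2 : ∀ x y z : P ⧸ N', f x (y * z) = f x y * f x z := by
    intro x y z
    obtain ⟨x, rfl⟩ := QuotientGroup.mk_surjective x
    obtain ⟨y, rfl⟩ := QuotientGroup.mk_surjective y
    obtain ⟨z, rfl⟩ := QuotientGroup.mk_surjective z
    have e1 : f (x : P ⧸ N') ((y : P ⧸ N') * (z : P ⧸ N')) = f (x : P ⧸ N') ((y * z : P) : P ⧸ N') := rfl
    rw [e1, hf, hf, hf]
    exact Subtype.ext (h2 _ x.2 _ y.2 _ z.2)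
  let S : Additive (P ⧸ N') →+ Additive (P ⧸ N') →+ Additive A :=
    AddMonoidHom.mk' (fun x => AddMonoidHom.mk' (fun y => Additive.ofMul (f x.toMul y.toMul))
      (fun y z => f2 _ _ _)) (fun x y => AddMonoidHom.ext fun z => f1 _ _ _)
  have hS : ∀ x y : P, S (Additive.ofMul (x : P ⧸ N')) (Additive.ofMul (y : P ⧸ N')) =
      Additive.ofMul (⟨b x.1 y.1, hb _ x.2 _ y.2⟩ : A) := fun x y => congrArg Additive.ofMul (hf x y)
  -- conjugations
  let cj : ∀ c : Y, (∀ x ∈ P, c * x * c⁻¹ ∈ P) → (P →* P) := fun c hc =>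
    MonoidHom.mk' (fun x => ⟨c * x.1 * c⁻¹, hc _ x.2⟩) (fun x y => Subtype.ext (by
      show c * (x.1 * y.1) * c⁻¹ = c * x.1 * c⁻¹ * (c * y.1 * c⁻¹)
      group))
  let cq : ∀ (c : Y) (hc : ∀ x ∈ P, c * x * c⁻¹ ∈ P), (∀ x ∈ N, c * x * c⁻¹ ∈ N) →
      AddMonoid.End (Additive (P ⧸ N')) := fun c hc hn =>
    MonoidHom.toAdditive (QuotientGroup.map N' N' (cj c hc) (fun x hx => by
      rw [Subgroup.mem_comap, Subgroup.mem_subgroupOf]
      exact hn _ (Subgroup.mem_subgroupOf.1 hx)))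
  have hcq : ∀ c hc hn (x : P), cq c hc hn (Additive.ofMul (x : P ⧸ N')) =
      Additive.ofMul (((⟨c * x.1 * c⁻¹, hc _ x.2⟩ : P) : P ⧸ N')) := fun c hc hn x => rfl
  have qa := hcq a naP naN
  have qg := hcq g ngP ngN
  have qk := hcq k nkP nkN
  have hsur : ∀ v : Additive (P ⧸ N'), ∃ x : P, v = Additive.ofMul (x : P ⧸ N') := by
    intro v
    obtain ⟨x, hx⟩ := QuotientGroup.mk_surjective v.toMul
    exact ⟨x, by rw [hx]; rfl⟩
  have heq : ∀ x y : P, (Additive.ofMul (x : P ⧸ N') = Additive.ofMul (y : P ⧸ N')) ↔ x.1⁻¹ * y.1 ∈ N := by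
    intro x y
    rw [Additive.ofMul.injective.eq_iff, QuotientGroup.eq, Subgroup.mem_subgroupOf]
    rfl
  have hneg : ∀ x : P, -(Additive.ofMul (x : P ⧸ N')) = Additive.ofMul ((x⁻¹ : P) : P ⧸ N') := fun x => rfl
  have hzero : ∀ x : P, Additive.ofMul (x : P ⧸ N') = 0 ↔ x.1 ∈ N := by
    intro x
    have h3 : (0 : Additive (P ⧸ N')) = Additive.ofMul ((1 : P) : P ⧸ N') := rfl
    rw [h3, heq]
    show x.1⁻¹ * 1 ∈ N ↔ x.1 ∈ N
    rw [mul_one, inv_mem_iff]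
  set n := orderOf g with hnd
  have hpow : ∀ m : ℕ, ∀ x : P, ∃ y : P, y.1 = g ^ m * x.1 * (g ^ m)⁻¹ ∧
      ((cq g ngP ngN) ^ m) (Additive.ofMul (x : P ⧸ N')) = Additive.ofMul (y : P ⧸ N') := by
    intro m
    induction m with
    | zero => exact fun x => ⟨x, by rw [pow_zero]; group, rfl⟩
    | succ m ih =>
      intro x
      obtain ⟨y, hy, e⟩ := ih ⟨g * x.1 * g⁻¹, ngP _ x.2⟩
      refine ⟨y, ?_, ?_⟩
      · rw [hy]
        show g ^ m * (g * x.1 * g⁻¹) * (g ^ m)⁻¹ = _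
        rw [pow_succ]; group
      · rw [pow_succ]
        show ((cq g ngP ngN) ^ m) (cq g ngP ngN (Additive.ofMul (x : P ⧸ N'))) = _
        rw [qg, e]
  have main := add_form (S := S) (α := cq a naP naN) (γ := cq g ngP ngN) (β := cq k nkP nkN) (n := n)
    (fun x y hxy => by
      obtain ⟨x, rfl⟩ := hsur x
      obtain ⟨y, rfl⟩ := hsur y
      rw [hS] at hxy
      have h3 : b x.1 y.1 = 1 := congrArg Subtype.val (Additive.ofMul.injective hxy)
      rcases h0 _ x.2 _ y.2 h3 with h4 | h4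
      · exact Or.inl ((hzero x).2 h4)
      · exact Or.inr ((hzero y).2 h4))
    (fun x => by
      obtain ⟨x, rfl⟩ := hsur x
      rw [qa, qa, hneg, heq]
      have h3 := inv_mem (ha2 _ x.2)
      rw [mul_inv_rev] at h3
      exact h3)
    (fun x => by
      obtain ⟨x, rfl⟩ := hsur x
      rw [qg, qa, qa, qg, heq]
      have h3 : (a * (g * x.1 * g⁻¹) * a⁻¹)⁻¹ * (g * (a * x.1 * a⁻¹) * g⁻¹) = 1 := by
        rw [inv_mul_eq_one]
        calc a * (g * x.1 * g⁻¹) * a⁻¹ = (a * g) * x.1 * (a * g)⁻¹ := by group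
          _ = (g * a) * x.1 * (g * a)⁻¹ := by rw [hag]
          _ = _ := by group
      show (a * (g * x.1 * g⁻¹) * a⁻¹)⁻¹ * (g * (a * x.1 * a⁻¹) * g⁻¹) ∈ N
      rw [h3]
      exact one_mem _)
    (fun x => by
      obtain ⟨x, rfl⟩ := hsur x
      rw [qa, qk, qk, qa, hneg, heq]
      have hy := nkP _ x.2
      have h3 := ha2 _ (naP' _ hy)
      have h4 : a⁻¹ * (k * x.1 * k⁻¹) * a * (a * (a * (a⁻¹ * (k * x.1 * k⁻¹) * a) * a⁻¹) * a⁻¹) =
          (k * (a * x.1 * a⁻¹) * k⁻¹) * (a * (k * x.1 * k⁻¹) * a⁻¹) := by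
        have h5 : k * (a * x.1 * a⁻¹) * k⁻¹ = (k * a * k⁻¹) * (k * x.1 * k⁻¹) * (k * a * k⁻¹)⁻¹ := by group
        rw [h5, hka]; group
      rw [h4] at h3
      have h6 := inv_mem h3
      rw [mul_inv_rev] at h6
      have h7 : ∀ u v : Y, u⁻¹ * v⁻¹ ∈ N → u ∈ P → v ∈ P → v⁻¹ * u⁻¹ ∈ N := by
        intro u v hu hu' hv
        have h8 := hNc _ hu _ hu'
        have h9 : u * (u⁻¹ * v⁻¹) * u⁻¹ = v⁻¹ * u⁻¹ := by group
        rwa [h9] at h8
      exact h7 _ _ h6 (naP _ hy) (nkP _ (naP _ x.2)))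
    (fun x => by
      obtain ⟨x, rfl⟩ := hsur x
      rw [qg, qk, qk, qg, heq]
      have h3 : (k * (g * x.1 * g⁻¹) * k⁻¹)⁻¹ * (g * (k * x.1 * k⁻¹) * g⁻¹) = 1 := by
        rw [inv_mul_eq_one]
        calc k * (g * x.1 * g⁻¹) * k⁻¹ = (k * g) * x.1 * (k * g)⁻¹ := by group
          _ = (g * k) * x.1 * (g * k)⁻¹ := by rw [hkg]
          _ = _ := by group
      show (k * (g * x.1 * g⁻¹) * k⁻¹)⁻¹ * (g * (k * x.1 * k⁻¹) * g⁻¹) ∈ N
      rw [h3]
      exact one_mem _)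
    (fun x hx => by
      obtain ⟨x, rfl⟩ := hsur x
      rw [qk, hzero] at hx
      exact (hzero x).2 (kinj _ x.2 hx))
    (fun x y => by
      obtain ⟨x, rfl⟩ := hsur x
      obtain ⟨y, rfl⟩ := hsur y
      rw [qa, qa, hS, hS]
      exact congrArg Additive.ofMul (Subtype.ext (hSa _ x.2 _ y.2)))
    (fun x y => by
      obtain ⟨x, rfl⟩ := hsur x
      obtain ⟨y, rfl⟩ := hsur y
      rw [qg, qg, hS, hS]
      exact congrArg Additive.ofMul (Subtype.ext (hSg _ x.2 _ y.2)))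
    hg (by
      refine AddMonoidHom.ext fun v => ?_
      obtain ⟨x, rfl⟩ := hsur v
      obtain ⟨y, hy, e⟩ := hpow n x
      have h3 : y = x := Subtype.ext (by rw [hy, hnd, pow_orderOf_eq_one]; group)
      refine Eq.trans e ?_
      rw [h3]
      rfl)
    (fun v hv => by
      obtain ⟨x, rfl⟩ := hsur v
      have h3 : Additive.ofMul (x : P ⧸ N') + Additive.ofMul (x : P ⧸ N') = Additive.ofMul ((x * x : P) : P ⧸ N') :=
        rfl
      rw [h3, hzero] at hv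
      rw [hzero]
      obtain ⟨m, hm⟩ := hPp x
      have hm' : x.1 ^ p ^ m = 1 := congrArg Subtype.val hm
      obtain ⟨l, hl⟩ : Odd (p ^ m) := ((Fact.out : p.Prime).odd_of_ne_two hp2).pow
      have h7 : (x.1 * x.1) ^ (l + 1) = x.1 := by
        rw [← pow_two, ← pow_mul]
        have : 2 * (l + 1) = p ^ m + 1 := by omega
        rw [this, pow_succ, hm', one_mul]
      rw [← h7]
      exact pow_mem hv _)
  intro x hx
  have h3 := DFunLike.congr_fun main (Additive.ofMul ((⟨x, hx⟩ : P) : P ⧸ N'))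
  rw [qg] at h3
  exact (heq _ _).1 h3.symm

end grp

end Cfsg.Agent.LOC.NdField
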