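import Cfsg.Agent.Cit.Nil.LO.MainQ_m3
import Cfsg.Agent.Cit.Nil.CompR.TPm_m3
import Cfsg.Agent.OddHalf.NI3.Bad.OutPow
import Cfsg.Agent.UGT.ThEP.KFacts_m3
import Cfsg.Agent.Cit.Nil.LO.FormQ_m3
import Cfsg.Agent.Cit.Nil.LO.ThreeRee
import Cfsg.Agent.Cit.Nil.Three.Lem_m3
import Cfsg.Agent.UGT.End_m3
import Cfsg.Agent.Cit.Nil.LO.HeQ_m3
import Cfsg.Agent.Cit.Nil.LO.Wt_m3
import Cfsg.Agent.Cit.Nil.Comp.ProdEnd_m3
import Cfsg.Agent.Cit.Nil.CompR.QuoM_m3
import Cfsg.Agent.Cit.Nil.CompR.SecRot_m3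
import Cfsg.Agent.Cit.Nil.CompR.BThLift_m3
import Cfsg.Agent.Cit.Nil.RG.Closed
import Cfsg.Agent.Cit.Nil.RTwoM.ELay_m3
import Mathlib
import Cfsg.Agent.Cit.Nil.RTwoM.L1.End_m3
import Cfsg.Agent.Cit.Nil.LO.NdField
import Cfsg.Agent.Cit.Nil.Comp.MThreeAbs
import Cfsg.Agent.Cit.Nil.RFour.Gen_m3
import Cfsg.Agent.FastGrp
import Cfsg.Agent.Prune
set_option linter.all false

section
prune_inst 0x7ffcf8fbaff8bddeffff7fffafdedffdf9b9ffffafdff9cb7fe069ff3fdf6b0ccfe7fbaf0ff050fe1ed7e2b414b87b53f9ffc67fea6bdc7ffffd5ff45ffbee1ff7ffbd08519798340ffc6ffffbf07f8e7f3fffffffffffffffffffffffffffbeffffffffffff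

-- part: Cit/Nil/LO/MainTwo
section
prune_inst 0x201040007022100000000002000020604000050200430800c14008000809200000040e00b2f012120010ac8460088060038800000238000000000800411c008000024200827c0d00000000008800000000000000000000000000000000000000000000000
set_option linter.all false
open scoped Cfsg.Agent.FastGrp

/-!
# (n1), piece (E), for two commuting members over the same involution (helper818)

As `MainQ.lean`, but `zz K = zz K'`.

* `slMain2`, `psl_mem2` : `L₂(q)`; `excOutQ2` : `G₂(q)`, `³D₄(q)`; `out2_of_card_one` : charts of rank one;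
* `ChartOut2` : **SOCKET** (piece (C) for `Out2`); `kl_chart_q2`; `triv_q`, `false_of_lie_q2`;
* `false_of_lie_orth` : members over arbitrary involutions.
-/

set_option autoImplicit false
set_option linter.dupNamespace false

open Subgroup Cfsg
open Cfsg.Agent.OddHalf.NI (LieBig)
open Cfsg.Agent.OddHalf.NI.FTwo (SL)
open Cfsg.Agent.UGT.Iface (IsL2)
open Cfsg.Agent.LOC.ChartDefs (Out QK Triv)
open Cfsg.Agent.LOC.OutTwo (Out2 inn_pair frame2)

namespace Cfsg.Agent.Cit.Nil.LO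

universe u

open RG
open Cfsg.Agent.Lib.SL2Mat (conjGL)
open Cfsg.Agent.LFourA.FieldInv (conjGL_smul gl_det_ne)

/-! ### `L₂(q)` -/

section psl

section gl

variable {F : Type*} [Field F]

/-- commuting elements of `PGL(2,F)` with the same square, an involution, are equal or inverse -/
theorem glMain2 (h2 : (2 : F) ≠ 0) {g g' : GL (Fin 2) F} (hc : conjGL g * conjGL g' = conjGL g' * conjGL g)
    (h1 : conjGL (g * g) ≠ 1) (h4 : conjGL (g * g) * conjGL (g * g) = 1)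
    (he : conjGL (g * g) = conjGL (g' * g')) : conjGL g' = conjGL g ∨ conjGL g' = (conjGL g)⁻¹ := by
  have hn : ¬ ∃ d : F, (g * g).1 = d • (1 : Matrix (Fin 2) (Fin 2) F) := fun h => h1 (conjGL_eq_one_iff.2 h)
  have h4' := h4
  rw [← map_mul, conjGL_eq_one_iff] at h4'
  obtain ⟨c, hc4⟩ := h4'
  rw [Units.val_mul] at hc4
  have ht := trace_zero hc4 hn
  -- `g'²` is a multiple of `g²`
  have hpr : ∃ d : F, (g' * g').1 = d • (g * g).1 := by
    have h3 : conjGL (g' * g' * (g * g)⁻¹) = 1 := by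
      rw [map_mul, map_inv, he, mul_inv_cancel]
    obtain ⟨d, hd⟩ := conjGL_eq_one_iff.1 h3
    refine ⟨d, ?_⟩
    have h5 : (g' * g' * (g * g)⁻¹).1 * (g * g).1 = (g' * g').1 := by
      rw [← Units.val_mul, inv_mul_cancel_right]
    rw [hd, Matrix.smul_mul, Matrix.one_mul] at h5
    exact h5.symm
  obtain ⟨d, hd⟩ := hpr
  have hd0 : d ≠ 0 := by
    rintro rfl
    rw [zero_smul] at hd
    have h5 := gl_det_ne (g' * g')
    rw [hd, Matrix.det_zero] at h5
    exact h5 rfl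
  have hcom' : g'.1 * (g * g).1 = (g * g).1 * g'.1 := by
    have h3 : g'.1 * (g' * g').1 = (g' * g').1 * g'.1 := by
      rw [Units.val_mul, Matrix.mul_assoc]
    rw [hd, Matrix.mul_smul, Matrix.smul_mul] at h3
    exact smul_right_injective _ hd0 h3
  have hcomg : g.1 * (g * g).1 = (g * g).1 * g.1 := by
    rw [Units.val_mul, Matrix.mul_assoc]
  have hPN : (g * g').1 * (g * g).1 = (g * g).1 * (g * g').1 := by
    rw [Units.val_mul g g', Matrix.mul_assoc, hcom', ← Matrix.mul_assoc, hcomg, Matrix.mul_assoc]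
  have hP1 : conjGL (g * g' * (g * g')) = 1 := by
    rw [map_mul, map_mul]
    calc conjGL g * conjGL g' * (conjGL g * conjGL g') = conjGL g * (conjGL g' * conjGL g) * conjGL g' := by group
      _ = conjGL (g * g) * conjGL (g' * g') := by rw [← hc, map_mul, map_mul]; group
      _ = 1 := by rw [← he, h4]
  obtain ⟨k, hk⟩ := conjGL_eq_one_iff.1 hP1
  by_cases hs : ∃ d : F, (g * g').1 = d • (1 : Matrix (Fin 2) (Fin 2) F)
  · right
    have h5 := conjGL_eq_one_iff.2 hs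
    rw [map_mul] at h5
    exact eq_inv_of_mul_eq_one_right h5
  · left
    rw [Units.val_mul (g * g')] at hk
    have hP := trace_zero hk hs
    obtain ⟨v, hv⟩ := prop_of_comm h2 ht hP (by
      intro h0
      apply hn
      exact ⟨0, by rw [h0, zero_smul]⟩) hPN.symm
    have h5 : conjGL (g * g') = conjGL (g * g) := MulEquiv.ext fun x => conjGL_smul hv x
    rw [map_mul, map_mul] at h5
    exact mul_left_cancel h5

end gl

variable {F : Type*} [Field F] [Fintype F]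

/-- **no two commuting quaternion groups of automorphisms of `SL(2,F)` with the same involution** -/
theorem slMain2 (hF : Odd (Fintype.card F)) {z a b a' b' : MulAut (Matrix.SpecialLinearGroup (Fin 2) F)} (h : QP z a b) (h' : QP z a' b')
    (haa : a * a' = a' * a) (hab : a * b' = b' * a) (hba : b * a' = a' * b) (hbb : b * b' = b' * b) : z = 1 := by
  by_contra hz
  have h2 : (2 : F) ≠ 0 := TwoFusion.QuatCoverSL.two_ne_zero_of_odd hF
  obtain ⟨g, hg, hgz⟩ := exists_root h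
  obtain ⟨g', hg', hgz'⟩ := exists_root h'
  have c1 : ∀ x : MulAut (Matrix.SpecialLinearGroup (Fin 2) F), x * a' = a' * x → x * b' = b' * x → x * conjGL g' = conjGL g' * x := by
    intro x hx hx'
    rcases hg' with h1 | h1 | h1 <;> rw [h1]
    · exact hx
    · exact hx'
    · rw [← mul_assoc, hx, mul_assoc, hx', mul_assoc]
  have c2 : conjGL g * conjGL g' = conjGL g' * conjGL g := by
    apply c1
    · rcases hg with h1 | h1 | h1 <;> rw [h1]
      · exact haa
      · exact hba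
      · rw [mul_assoc, hba, ← mul_assoc, haa, mul_assoc]
    · rcases hg with h1 | h1 | h1 <;> rw [h1]
      · exact hab
      · exact hbb
      · rw [mul_assoc, hbb, ← mul_assoc, hab, mul_assoc]
  have e1 : conjGL (g * g) = z := by rw [map_mul, hgz]
  have e2 : conjGL (g' * g') = z := by rw [map_mul, hgz']
  have key := glMain2 h2 c2 (by rw [e1]; exact hz) (by rw [e1]; exact h.zz) (by rw [e1, e2])
  have ca : a * conjGL g = conjGL g * a := by
    have h3 := c1 a haa hab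
    rcases key with h5 | h5 <;> rw [h5] at h3
    · exact h3
    · calc a * conjGL g = conjGL g * ((conjGL g)⁻¹ * a) * conjGL g := by group
        _ = conjGL g * (a * (conjGL g)⁻¹) * conjGL g := by rw [h3]
        _ = conjGL g * a := by group
  have cb : b * conjGL g = conjGL g * b := by
    have h3 := c1 b hba hbb
    rcases key with h5 | h5 <;> rw [h5] at h3
    · exact h3
    · calc b * conjGL g = conjGL g * ((conjGL g)⁻¹ * b) * conjGL g := by group
        _ = conjGL g * (b * (conjGL g)⁻¹) * conjGL g := by rw [h3]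
        _ = conjGL g * b := by group
  have cc : b * a = a * b := by
    rcases hg with h1 | h1 | h1
    · rw [h1] at cb; exact cb
    · rw [h1] at ca; exact ca.symm
    · rw [h1] at ca
      have h5 : a * (a * b) = a * (b * a) := by rw [ca]; group
      exact (mul_left_cancel h5).symm
  apply hz
  have h5 := h.ba
  rw [cc, mul_inv_cancel_right] at h5
  rw [← h.aa]
  exact mul_eq_one_iff_eq_inv.2 h5

theorem pslMain2 (hF : Odd (Fintype.card F)) {z a b a' b' : MulAut (Matrix.ProjectiveSpecialLinearGroup (Fin 2) F)}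
    (h : QP z a b) (h' : QP z a' b') (haa : a * a' = a' * a) (hab : a * b' = b' * a) (hba : b * a' = a' * b)
    (hbb : b * b' = b' * b) : z = 1 := by
  obtain ⟨f, hf⟩ := exists_lift_psl hF
  apply hf
  rw [map_one]
  refine slMain2 hF (h.map f) (h'.map f) ?_ ?_ ?_ ?_
  · rw [← map_mul, haa, map_mul]
  · rw [← map_mul, hab, map_mul]
  · rw [← map_mul, hba, map_mul]
  · rw [← map_mul, hbb, map_mul]

/-- **`L₂(q)`** : two commuting quaternion groups with the same involution `z`: `z` centralises `L` -/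
theorem psl_mem2 {H : Type*} [Group H] {L : Subgroup H} {z a b a' b' : H} (hF : Odd (Fintype.card F)) (hN : L.Normal)
    (e : L ≃* Matrix.ProjectiveSpecialLinearGroup (Fin 2) F)
    (h : QP z a b) (h' : QP z a' b') (haa : a * a' = a' * a) (hab : a * b' = b' * a) (hba : b * a' = a' * b)
    (hbb : b * b' = b' * b) : z ∈ centralizer (L : Set H) := by
  by_contra hz
  let f : MulAut L →* MulAut (Matrix.ProjectiveSpecialLinearGroup (Fin 2) F) := (MulAut.congr e).toMonoidHom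
  have hf : Function.Injective f := (MulAut.congr e).injective
  let φ : H →* MulAut (Matrix.ProjectiveSpecialLinearGroup (Fin 2) F) := f.comp MulAut.conjNormal
  refine conj_ne_one f hf hz (pslMain2 hF (h.map φ) (h'.map φ) ?_ ?_ ?_ ?_)
  · rw [← map_mul, haa, map_mul]
  · rw [← map_mul, hab, map_mul]
  · rw [← map_mul, hba, map_mul]
  · rw [← map_mul, hbb, map_mul]

end psl

/-! ### The involutions centralising a member act as `1` or `zz` -/

section inn

variable {H : Type*} [Group H] {L : Subgroup H}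

theorem cent_of_aut (hL : L.Normal) {x : H} (hx : (MulAut.conjNormal x : MulAut ↥L) = 1) : ∀ l ∈ L, x * l = l * x := by
  intro l hl
  have h1 := congrArg Subtype.val (DFunLike.congr_fun hx (⟨l, hl⟩ : ↥L))
  rw [MulAut.conjNormal_apply, MulAut.one_apply] at h1
  have h2 : x * l * x⁻¹ = l := h1
  rwa [mul_inv_eq_iff_eq_mul] at h2

end inn

section exc

variable {H : Type u} [Group H] [Finite H] {L : Subgroup H} {F : Type} [Field F] [Fintype F] {t : H}
  {J : Subgroup H}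

/-- a Sylow 2-subgroup containing `E_z` -/
theorem exists_sylow_RR {Om : Set (Subgroup H)} (w : NQ Om) (z : H) :
    ∃ S : Sylow 2 H, RR Om z ≤ (S : Subgroup H) := w.RR_two.exists_le_sylow

/-- `G₂(q)`, `³D₄(q)` -/
theorem excOutQ2 (f : Front L F t J) (hL : L.Normal) {p : ℕ} (hp : p.Prime) (hp2 : p ≠ 2) (iso : IsG2D4 p ↥L)
    {Om : Set (Subgroup H)} (w : NQ Om) {z : H} {K K' : Subgroup H} (hK : K ∈ Ov Om z) (hK' : K' ∈ Ov Om z)
    (hc : ∀ a ∈ K, ∀ b ∈ K', a * b = b * a) : ∀ l ∈ L, z * l = l * z := by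
  have hz : z ∈ RG.ZZ Om := ⟨K, hK⟩
  obtain ⟨S, hzS⟩ := exists_sylow_RR w z
  have hS : IsPGroup 2 (S : Subgroup H) := S.isPGroup'
  obtain ⟨P, hP⟩ : ∃ P, P ∈ OmS (cls J) (S : Subgroup H) := by
    by_contra hcon
    push Not at hcon
    exact not_comm_all f.hyp S (self_mem_cls J) fun P' hP' => absurd hP' (hcon P')
  have inn := (HexBase.facts_of_iso HexFactBMain.h4_all HexFactBMain.h5_all (X := ↥L) ⟨p, hp, hp2, iso⟩
    (mem_of_front f hP.1)).1.inn
  set v : ↥L := ⟨zz P, f.le P hP.1 (f.hyp.zz_mem hP.1)⟩ with hv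
  have key : ∀ x : H, x * x = 1 → (∀ a ∈ P, x * a = a * x) →
      (MulAut.conjNormal x : MulAut ↥L) = 1 ∨ (MulAut.conjNormal x : MulAut ↥L) = MulAut.conjNormal (zz P) := by
    intro x hx hxP
    rcases inn (MulAut.conjNormal x) (by rw [← map_mul, hx, map_one]) (fun y hy => by
      apply Subtype.ext
      rw [MulAut.conjNormal_apply]
      have h1 : x * (y : H) = y * x := hxP _ hy
      rw [h1, mul_inv_cancel_right]) with h | h
    · exact Or.inl h
    · right
      rw [h]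
      refine MulEquiv.ext fun y => Subtype.ext ?_
      rw [MulAut.conjNormal_apply, MulAut.conj_apply]
      rfl
  obtain ⟨K₁, h1, q1⟩ := exists_qk w hK
  obtain ⟨K₁', h1', q1'⟩ := exists_qk w hK'
  refine cent_of_aut hL (inn_pair (MulAut.conjNormal (H := L)) (f.hyp.zz_mem hP.1) key q1 q1'
    (fun a ha b hb => hc a (h1 ha) b (h1' hb)) (fun k hk a ha => ?_) (fun k hk a ha => ?_))
  · exact slq_centralizer w f.hyp f.sls hz hS hzS hP k (WR.le_RR hK (h1 hk)) a ha
  · exact slq_centralizer w f.hyp f.sls hz hS hzS hP k (WR.le_RR hK' (h1' hk)) a ha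

/-- **charts of rank one** -/
theorem out2_of_card_one (hI : CoreOne.IdentStmt.{u}) (f : Front L F t J) (hL : L.Normal) (hs : IsSimpleGroup ↥L)
    {p : ℕ} (c : Nodes.Chart.Chart (cls J) p L) (h1 : Fintype.card c.I = 1) {R : Set (c.I → ℤ)}
    (hM : LOC.ChartDefs.MaxF c.cls R) : Out2 c.cls R := by
  obtain ⟨x, hx⟩ := c.Rne
  obtain ⟨r, hr, -⟩ := hM.max x hx
  have hrR := hM.sub r hr
  have hrR' := hM.neg r hr
  set N : Subgroup H := c.Z r ⊔ c.Z (-r) with hN
  have hNO : N ∈ cls J := c.om r hrR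
  have hNL : N ≤ L := f.le N hNO
  have hmem := subgroupOf_mem_restr hNO hNL
  have hf := TypeC1.fact_of_card_one hI f hs c h1 _ hmem
  have hz0 : ((zz (N.subgroupOf L) : ↥L) : H) ∈ N := (f.hyp.restr L).zz_mem hmem
  have cent : ∀ (K : Subgroup H), Cfsg.Agent.LOC.ChartDefs.Cen c.cls R K → ∀ k ∈ K, ∀ a ∈ N, k * a = a * k := by
    intro K hc k hk a ha
    have h2 : N ≤ centralizer {k} := by
      refine sup_le ?_ ?_
      · exact fun a ha => mem_centralizer_singleton_iff.2 (hc.comm r hr a ha k hk).symm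
      · exact fun a ha => mem_centralizer_singleton_iff.2 (hc.comm _ hrR' a ha k hk).symm
    exact (mem_centralizer_singleton_iff.1 (h2 ha)).symm
  intro K K' e hK hK' hc hc' hKK l hl
  have hlL : l ∈ L := by rw [← c.gen]; exact hl
  refine cent_of_aut hL (inn_pair (MulAut.conjNormal (H := L)) hz0 (fun x hx hxN => ?_) hK hK' hKK
    (cent K hc) (cent K' hc')) l hlL
  rcases hf.inn (MulAut.conjNormal x) (by rw [← map_mul, hx, map_one]) (fun a ha => by
      apply Subtype.ext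
      rw [MulAut.conjNormal_apply, hxN a ha]
      group) with h2 | h2
  · exact Or.inl h2
  · right
    rw [h2]
    refine MulEquiv.ext fun y => Subtype.ext ?_
    rw [MulAut.conjNormal_apply, MulAut.conj_apply]
    rfl

end exc

/-! ### (KL), same involution -/

section chart

variable {H : Type*} [Group H] [Finite H]

/-- **(KL), chart case**, two members over the same involution -/
theorem kl_chart_q2 {L : Subgroup H} {F : Type} [Field F] [Fintype F] {t : H} {J : Subgroup H} (f : Front L F t J)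
    (hL : L.Normal) {p : ℕ} (C : Nodes.Chart.Chart (cls J) p L) (hout : ∀ R, LOC.ChartDefs.MaxF C.cls R → Out2 C.cls R)
    {Om : Set (Subgroup H)} (w : NQ Om) {z : H} {K K' : Subgroup H} (hK : K ∈ Ov Om z) (hK' : K' ∈ Ov Om z)
    (hc : ∀ a ∈ K, ∀ b ∈ K', a * b = b * a) : ∀ l ∈ L, z * l = l * z := by
  have hz : z ∈ RG.ZZ Om := ⟨K, hK⟩
  obtain ⟨S, hzS⟩ := exists_sylow_RR w z
  have hS : IsPGroup 2 (S : Subgroup H) := S.isPGroup'
  have hn : ∀ g : H, g ∈ normalizer (L : Set H) := fun g => by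
    rw [normalizer_eq_top_iff.2 hL]; exact mem_top g
  obtain ⟨K₁, h1, q1⟩ := exists_qk w hK
  obtain ⟨K₁', h1', q1'⟩ := exists_qk w hK'
  refine frame2 C f.hyp.conj hout (κ := {P // P ∈ OmS (cls J) (S : Subgroup H)}) (fun P => P.1)
    (fun P => P.2.1) (fun P => f.le _ P.2.1) (fun P P' hPP => ?_) (fun P hP _ hcon => ?_) q1 q1'
    (fun a ha b hb => hc a (h1 ha) b (h1' hb))
    (fun k _ => hn k) (fun k _ => hn k) (fun P a ha k hk => ?_) (fun P a ha k hk => ?_)
  · exact sl_comm f.hyp f.sls hS P.2 P'.2 fun h => hPP (Subtype.ext h)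
  · exact not_comm_all f.hyp S hP fun P' hP' => hcon ⟨P', hP'⟩
  · exact slq_centralizer w f.hyp f.sls hz hS hzS P.2 k (WR.le_RR hK (h1 hk)) a ha
  · exact slq_centralizer w f.hyp f.sls hz hS hzS P.2 k (WR.le_RR hK' (h1' hk)) a ha

end chart

/-- **SOCKET**: the output `Out2` for all maximal frames of the charts of `L` -/
def ChartOut2 : Prop :=
  ∀ (H : Type u) [Group H] [Finite H] (L : Subgroup H) (F : Type) [Field F] [Fintype F] (t : H) (J : Subgroup H),
    Front L F t J → L.Normal → IsSimpleGroup ↥L → ¬ IsMulCommutative ↥L →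
    ∀ (p : ℕ) (c : Nodes.Chart.Chart (cls J) p L) (τ : Nodes.Chart.Ty), c.IsTy τ → KindOk τ →
      (Fintype.card c.I ≤ 2 → IsLieTypeChar p ↥L) → CharP F p →
      (∀ r ∈ c.R, Nonempty (Matrix.SpecialLinearGroup (Fin 2) F ≃* ↥(c.Z r ⊔ c.Z (-r)))) →
      ((∀ r ∈ c.R, c.Z r = c.X r) ∨ ∃ n, τ = .C n) → ∀ R, LOC.ChartDefs.MaxF c.cls R → Out2 c.cls R

section main

variable {G : Type u} [Group G] [Finite G]

/-- **(KL) for groups with `F*(G)` simple**, same involution -/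
theorem triv_q2 (hT : TStmt.{u}) (hC : ChartOut2.{u}) {L : Subgroup G} (hL : L.Normal)
    (hs : IsSimpleGroup ↥L) (hna : ¬ IsMulCommutative ↥L) (hCL : centralizer (L : Set G) = ⊥)
    {Om : Set (Subgroup G)} (w : NQ Om) {z : G} {K K' : Subgroup G} (hK : K ∈ Ov Om z) (hK' : K' ∈ Ov Om z)
    (hc : ∀ a ∈ K, ∀ b ∈ K', a * b = b * a)
    (hLie : ∃ p : ℕ, p.Prime ∧ p ≠ 2 ∧ IsLieTypeChar p ↥L) {v : G} (hv : v * v = 1)
    (hO : OO (centralizer ({v} : Set G)) ≠ ⊥) : ∀ l ∈ L, z * l = l * z := by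
  obtain ⟨K₁, h1, q1⟩ := exists_qk w hK
  obtain ⟨K₁', h1', q1'⟩ := exists_qk w hK'
  obtain ⟨a, ha, b, hb, hq⟩ := exists_qp q1
  obtain ⟨a', ha', b', hb', hq'⟩ := exists_qp q1'
  have mem : ∀ x : G, x ∈ centralizer (L : Set G) → ∀ l ∈ L, x * l = l * x :=
    fun x hx l hl => (mem_centralizer_iff.1 hx l hl).symm
  by_cases hL2 : IsL2 ↥L
  · obtain ⟨F, i1, i2, ho, -, ⟨e⟩⟩ := hL2
    exact mem _ (psl_mem2 ho hL e hq hq' (hc a (h1 ha) a' (h1' ha')) (hc a (h1 ha) b' (h1' hb'))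
      (hc b (h1 hb) a' (h1' ha')) (hc b (h1 hb) b' (h1' hb')))
  by_cases hRee : Lie.IsoRee ↥L
  · exact mem z (ree_mem hL hRee hq)
  obtain ⟨F, i1, i2, t, J, f⟩ := exists_front_of_core hT hL hs hna hCL hv hO hLie hL2 hRee
  refine f.elim ?_ ?_
  · intro p c τ hτ ok small hch sl zx
    exact kl_chart_q2 f hL c (hC G L F t J f hL hs hna p c τ hτ ok
      (fun h => OddHalf.Known.isLieTypeChar_congr (quoEquiv hs hna) (small h)) hch sl zx) w hK hK' hc
  · intro p hp hp2 iso zzc three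
    exact excOutQ2 f hL hp hp2 (isG2D4_simple hs hna iso) w hK hK' hc

/-- **(n1), the Lie type case**, orthogonal members over arbitrary involutions -/
theorem false_of_lie_orth (hT : TStmt.{u}) (hC : ChartOut.{u}) (hC2 : ChartOut2.{u}) {L : Subgroup G} (hL : L.Normal)
    (hs : IsSimpleGroup ↥L) (hna : ¬ IsMulCommutative ↥L) (hCL : centralizer (L : Set G) = ⊥)
    {Om : Set (Subgroup G)} (w : NQ Om) {K K' : Subgroup G} (hK : K ∈ Om) (hK' : K' ∈ Om)
    (hc : ∀ a ∈ K, ∀ b ∈ K', a * b = b * a)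
    (hLie : ∃ p : ℕ, p.Prime ∧ p ≠ 2 ∧ IsLieTypeChar p ↥L) {v : G} (hv : v * v = 1)
    (hO : OO (centralizer ({v} : Set G)) ≠ ⊥) : False := by
  by_cases hne : zz K = zz K'
  · have h1 := triv_q2 hT hC2 hL hs hna hCL w (z := zz K) ⟨hK, rfl⟩ ⟨hK', hne.symm⟩ hc hLie hv hO
    have h2 : zz K ∈ centralizer (L : Set G) := mem_centralizer_iff.2 fun l hl => (h1 l hl).symm
    rw [hCL, mem_bot] at h2
    exact w.hyp.zz_ne hK h2
  · exact false_of_lie_q hT hC hL hs hna hCL w (z := zz K) (u := zz K') ⟨hK, rfl⟩ ⟨hK', rfl⟩ hne hc hLie hv hO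

end main

end Cfsg.Agent.Cit.Nil.LO
end

-- part: Cit/Nil/LO/ThreeTypes
section
prune_inst 0x7000000022100000000502100020044000050000230801d9200c020006330000000f00c8a01c020010a20400000040018800500010000000000000011c0080002a52060240a100200000003005180c00000000000000000000000000041000000000000
set_option linter.all false
open scoped Cfsg.Agent.FastGrp

/-!
# S1309 (n2), THREE PROPAGATION: the components of type `A_n`, `He`, `L₃(4)` (helper822)

* `exists_pairM`, `QM.pair` : the pair `(σ, D)` of automorphisms of `L / Z(L)`: `σ` induced by `s`, `D` of odd order,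
  centralised by `σ`, normalised by `C(σ)`, containing the automorphism `γ` induced by `c`.
* `TW.pair` : the same in the world `TW`.
* `TW.inner_sp` : `L / Z(L) ≃ A_n, He, L₃(4)`: `c` is inner on `L`.
-/

set_option autoImplicit false
set_option linter.style.haveILetI false
set_option linter.unusedSectionVars false

namespace Cfsg.Agent.Cit.Nil.LO

open Subgroup Cfsg Cit RG
open Cfsg.Agent.OddHalf.NI.Ex (fix mem_fix bar bar_mk bar_mul bar_one eq_one_of_bar)
open Cfsg.Agent.OddHalf.NI3 (Sn)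
open Cfsg.Agent.OddHalf.NI3.Bad.Unb (IsUnb genFit_eq conj_mul_eq)
open Cfsg.Agent.SignalizersComponents

universe u

section simple

variable {X : Type u} [Group X]

/-- **The pair.** -/
theorem exists_pairM [Finite X] (hZ : center X = ⊥) {α β : MulAut X} (hα : α * α = 1) (hα1 : α ≠ 1)
    (hβ : Odd (orderOf β)) (hβ1 : β ≠ 1) (hc : α * β = β * α)
    (F M : Subgroup X) (hFn : ∀ x, α x = x → ∀ f ∈ F, x * f * x⁻¹ ∈ F) (hFβ : ∀ f ∈ F, β f ∈ F)
    (hFα : ∀ f ∈ F, α f = f) (hFx : ∀ x, α x = x → x * (β x)⁻¹ ∈ F) (hMF : M ≤ F)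
    (hMn : ∀ f ∈ F, ∀ m ∈ M, f * m * f⁻¹ ∈ M) (hMβ : ∀ m ∈ M, β m ∈ M) (hMo : ¬ 2 ∣ Nat.card M)
    (hβM : ∀ f ∈ F, f * (β f)⁻¹ ∈ M) :
    ∃ D : Subgroup (MulAut X), UGT.U2.FOne.FixAut.Hyp α D ∧ β ∈ D := by
  haveI : Fact (Nat.Prime 2) := ⟨Nat.prime_two⟩
  have hinj : Function.Injective (MulAut.conj : X →* MulAut X) := by
    rw [injective_iff_map_eq_one]
    intro x hx
    rw [← mem_bot, ← hZ, mem_center_iff]
    intro y
    have h1 := DFunLike.congr_fun hx y
    rw [MulAut.conj_apply, MulAut.one_apply, mul_inv_eq_iff_eq_mul] at h1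
    exact h1.symm
  set I : Subgroup (MulAut X) := (MulAut.conj : X →* MulAut X).range with hI
  have hIn : I.Normal := by
    refine ⟨?_⟩
    rintro _ ⟨x, rfl⟩ g
    exact ⟨g x, by rw [conj_mul_eq, mul_inv_cancel_right]⟩
  set K : Subgroup (MulAut X) := closure {α, β} with hK
  have hKc : ∀ k ∈ K, k * α = α * k := by
    intro k hk
    have h1 : K ≤ centralizer ({α} : Set (MulAut X)) := by
      rw [hK, closure_le]
      rintro k (rfl | rfl)
      · exact mem_centralizer_singleton_iff.2 rfl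
      · exact mem_centralizer_singleton_iff.2 hc.symm
    exact mem_centralizer_singleton_iff.1 (h1 hk)
  have hKb : ∀ k ∈ K, k * β = β * k := by
    intro k hk
    have h1 : K ≤ centralizer ({β} : Set (MulAut X)) := by
      rw [hK, closure_le]
      rintro k (rfl | rfl)
      · exact mem_centralizer_singleton_iff.2 hc
      · exact mem_centralizer_singleton_iff.2 rfl
    exact mem_centralizer_singleton_iff.1 (h1 hk)
  -- `K` leaves `F` invariant
  have hKF : ∀ k ∈ K, ∀ f ∈ F, k f ∈ F := by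
    intro k hk
    refine closure_induction (p := fun k _ => ∀ f ∈ F, k f ∈ F) ?_ ?_ ?_ ?_ hk
    · rintro k (rfl | rfl) f hf
      · rw [hFα f hf]; exact hf
      · exact hFβ f hf
    · intro f hf; rw [MulAut.one_apply]; exact hf
    · intro k k' _ _ h1 h2 f hf
      rw [MulAut.mul_apply]; exact h1 _ (h2 f hf)
    · intro k _ h1 f hf
      have h2 : ∀ n : ℕ, ∀ f ∈ F, (k ^ n) f ∈ F := by
        intro n
        induction n with
        | zero => intro f hf; rw [pow_zero, MulAut.one_apply]; exact hf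
        | succ n ih => intro f hf; rw [pow_succ, MulAut.mul_apply]; exact ih _ (h1 f hf)
      have h3 : k⁻¹ = k ^ (orderOf k - 1) := by
        rw [inv_eq_iff_mul_eq_one, ← pow_succ', Nat.sub_add_cancel (orderOf_pos k), pow_orderOf_eq_one]
      rw [h3]
      exact h2 _ f hf
  set A : Subgroup (MulAut X) := I ⊔ K with hA
  have hIA : I ≤ A := le_sup_left
  have hβA : β ∈ A := (le_sup_right : K ≤ A) (subset_closure (Or.inr rfl))
  -- the elements of `C_A(α)`
  have hdec : ∀ c ∈ centralizer ({α} : Set (MulAut X)) ⊓ A, ∃ x : X, α x = x ∧ ∃ k ∈ K, c = MulAut.conj x * k := by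
    intro c hc0
    have hc1 := (mem_inf.1 hc0).1
    have hc2 : c ∈ I ⊔ K := (mem_inf.1 hc0).2
    obtain ⟨_, ⟨x, rfl⟩, k, hk, rfl⟩ := (Subgroup.mem_sup_of_normal_left).1 hc2
    refine ⟨x, ?_, k, hk, rfl⟩
    apply hinj
    rw [mem_centralizer_singleton_iff] at hc1
    have h1 : MulAut.conj x * α * k = MulAut.conj (α x) * α * k := by
      calc MulAut.conj x * α * k = MulAut.conj x * k * α := by rw [mul_assoc, ← hKc k hk, mul_assoc]
        _ = α * (MulAut.conj x * k) := hc1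
        _ = MulAut.conj (α x) * α * k := by rw [← mul_assoc, conj_mul_eq]
    exact (mul_right_cancel (mul_right_cancel h1)).symm
  -- the subnormal chain
  set N : Subgroup (MulAut X) := F.map (MulAut.conj : X →* MulAut X) with hN
  set W : Subgroup (MulAut X) := N ⊔ zpowers β with hW
  set D₀ : Subgroup (MulAut X) := M.map (MulAut.conj : X →* MulAut X) with hD₀
  set D : Subgroup (MulAut X) := D₀ ⊔ zpowers β with hD
  have hWC : W ≤ centralizer ({α} : Set (MulAut X)) ⊓ A := by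
    refine sup_le ?_ ?_
    · rintro _ ⟨f, hf, rfl⟩
      refine mem_inf.2 ⟨?_, hIA ⟨f, rfl⟩⟩
      rw [mem_centralizer_singleton_iff]
      show MulAut.conj f * α = α * MulAut.conj f
      rw [conj_mul_eq, hFα f hf]
    · rw [zpowers_le]
      exact ⟨mem_centralizer_singleton_iff.2 hc.symm, hβA⟩
  have hDW : D ≤ W := sup_le_sup_right (Subgroup.map_mono hMF) _
  -- a subgroup mapped into itself is normalised
  have hnorm : ∀ (Y : Subgroup (MulAut X)) (c : MulAut X), (∀ y ∈ Y, c * y * c⁻¹ ∈ Y) → c ∈ normalizer (Y : Set (MulAut X)) := by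
    intro Y c h1
    rw [Cit.mem_normalizer_iff_cj]
    have h2 : Cit.cj c Y ≤ Y := by
      rw [Cit.cj_def, map_le_iff_le_comap]
      exact h1
    exact Subgroup.eq_of_le_of_card_ge h2 (Cit.card_cj c Y).ge
  have hβD₀ : β ∈ normalizer (D₀ : Set (MulAut X)) := by
    apply hnorm
    rintro _ ⟨m, hm, rfl⟩
    refine ⟨β m, hMβ m hm, ?_⟩
    rw [conj_mul_eq, mul_inv_cancel_right]
  have hDodd : ¬ 2 ∣ Nat.card D := by
    refine LB.odd_sup ?_ ?_ ?_
    · rw [hD₀, Subgroup.card_map_of_injective hinj]; exact hMo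
    · rw [Nat.card_zpowers]; exact hβ.not_two_dvd_nat
    · rw [zpowers_le]; exact hβD₀
  have s1 : Sn D W := by
    refine Sn.of_normal hDW (sup_le ?_ ?_)
    · rintro _ ⟨f, hf, rfl⟩
      apply hnorm
      intro y hy
      have h2 : D ≤ D.comap (MulAut.conj (MulAut.conj f : MulAut X)).toMonoidHom := by
        refine sup_le ?_ ?_
        · rintro _ ⟨m, hm, rfl⟩
          rw [mem_comap]
          refine mem_sup_left ⟨f * m * f⁻¹, hMn f hf m hm, ?_⟩
          rw [map_mul, map_mul, map_inv]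
          rfl
        · rw [zpowers_le, mem_comap]
          have h1 : (MulAut.conj (MulAut.conj f : MulAut X)).toMonoidHom β = MulAut.conj (f * (β f)⁻¹) * β := by
            show MulAut.conj f * β * (MulAut.conj f)⁻¹ = _
            have h2 : β * (MulAut.conj f)⁻¹ = (MulAut.conj (β f))⁻¹ * β := by
              rw [eq_inv_mul_iff_mul_eq, ← mul_assoc, ← conj_mul_eq, mul_inv_cancel_right]
            rw [mul_assoc, h2, map_mul, map_inv, mul_assoc]
          rw [h1]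
          exact mul_mem (mem_sup_left ⟨_, hβM f hf, rfl⟩) (mem_sup_right (mem_zpowers β))
      exact h2 hy
    · rw [zpowers_le]
      exact le_normalizer (mem_sup_right (mem_zpowers β))
  have s2 : Sn W (centralizer ({α} : Set (MulAut X)) ⊓ A) := by
    refine Sn.of_normal hWC ?_
    intro c hc'
    apply hnorm
    obtain ⟨x, hx, k, hk, rfl⟩ := hdec c hc'
    have key : W ≤ W.comap (MulAut.conj (MulAut.conj x * k)).toMonoidHom := by
      refine sup_le ?_ ?_
      · rintro _ ⟨f, hf, rfl⟩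
        rw [mem_comap]
        have h1 : (MulAut.conj (MulAut.conj x * k)).toMonoidHom (MulAut.conj f) = MulAut.conj (x * k f * x⁻¹) := by
          show MulAut.conj x * k * MulAut.conj f * (MulAut.conj x * k)⁻¹ = _
          rw [mul_assoc (MulAut.conj x), conj_mul_eq, map_mul, map_mul, map_inv]
          group
        rw [h1]
        exact mem_sup_left ⟨_, hFn x hx _ (hKF k hk f hf), rfl⟩
      · rw [zpowers_le, mem_comap]
        have h1 : (MulAut.conj (MulAut.conj x * k)).toMonoidHom β = MulAut.conj (x * (β x)⁻¹) * β := by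
          show MulAut.conj x * k * β * (MulAut.conj x * k)⁻¹ = _
          have h2 : β * (MulAut.conj x)⁻¹ = (MulAut.conj (β x))⁻¹ * β := by
            rw [eq_inv_mul_iff_mul_eq, ← mul_assoc, ← conj_mul_eq, mul_inv_cancel_right]
          rw [mul_assoc (MulAut.conj x), hKb k hk, mul_inv_rev, map_mul, map_inv]
          calc MulAut.conj x * (β * k) * (k⁻¹ * (MulAut.conj x)⁻¹) = MulAut.conj x * (β * (MulAut.conj x)⁻¹) := by group
            _ = MulAut.conj x * (MulAut.conj (β x))⁻¹ * β := by rw [h2]; group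
        rw [h1]
        exact mul_mem (mem_sup_left ⟨_, hFx x hx, rfl⟩) (mem_sup_right (mem_zpowers β))
    intro y hy
    exact key hy
  have s3 := s1.trans s2
  set CA : Subgroup (MulAut X) := centralizer ({α} : Set (MulAut X)) ⊓ A with hCA
  -- `D ≤ O(C_A(α))`
  have hDO : D ≤ OO CA := by
    have h3 := CompBasic.subnormal_coprime_le_pPrimeCore (p := 2) s3.2 ?_
    · intro d hd
      exact ⟨⟨d, s3.1 hd⟩, h3 (mem_subgroupOf.2 hd), rfl⟩
    · rw [Nat.card_congr (subgroupOfEquivOfLe s3.1).toEquiv]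
      exact (Nat.coprime_two_right).2 (Nat.odd_iff.2 (by omega))
  refine ⟨OO CA, ⟨hα, hα1, ?_, ?_, ?_, ?_⟩, hDO (mem_sup_right (mem_zpowers β))⟩
  · intro d hd
    exact mem_centralizer_singleton_iff.1 ((OO_le CA).trans inf_le_left hd)
  · intro v hv d hd
    have h1 : (MulAut.conj v : MulAut X) ∈ CA := by
      refine mem_inf.2 ⟨?_, hIA ⟨v, rfl⟩⟩
      rw [mem_centralizer_singleton_iff, conj_mul_eq, hv]
    exact (mem_normalizer_iff.1 (le_normalizer_OO CA h1) d).1 hd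
  · have h1 := odd_OO CA
    exact Nat.odd_iff.2 (by omega)
  · intro h
    apply hβ1
    rw [← mem_bot, ← h]
    exact hDO (mem_sup_right (mem_zpowers β))

end simple

section quasi

variable {L : Type u} [Group L] [Finite L]

/-- `α` an involution, `β` of odd order, `[fix α, β]` in the subgroup `M` whose 2-elements are central -/
structure QM (α β : MulAut L) (M : Subgroup L) : Prop where
  hα : α * α = 1
  hα1 : α ≠ 1
  hβ : Odd (orderOf β)
  hβ1 : β ≠ 1
  hc : α * β = β * α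
  hz : ∀ x ∈ center L, β x = x
  hMn : ∀ f, α f = f → ∀ m ∈ M, f * m * f⁻¹ ∈ M
  hMβ : ∀ m ∈ M, β m ∈ M
  hMα : ∀ m ∈ M, α m = m
  hM2 : ∀ m ∈ M, (∃ k : ℕ, m ^ 2 ^ k = 1) → m ∈ center L
  hM : ∀ f, α f = f → f * (β f)⁻¹ ∈ M

/-- **The pair on `L / Z(L)`.** -/
theorem QM.pair (hq : IsQuasisimple L) {α β : MulAut L} {M : Subgroup L} (h : QM α β M) :
    ∃ D : Subgroup (MulAut (L ⧸ center L)), UGT.U2.FOne.FixAut.Hyp (bar α) D ∧ bar β ∈ D := by
  haveI : Fact (Nat.Prime 2) := ⟨Nat.prime_two⟩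
  obtain ⟨hα, hα1, hβ, hβ1, hc, hz, hMn, hMβ, hMα, hM2, hM⟩ := h
  have hp : commutator L = ⊤ := hq.1.commutator_eq_top
  have hmk : ∀ x y : L, (x : L ⧸ center L) = (y : L ⧸ center L) → ∃ ζ ∈ center L, x * ζ = y := by
    intro x y h
    exact ⟨x⁻¹ * y, QuotientGroup.eq.1 h, by group⟩
  have key : ∀ l ζ : L, ζ ∈ center L → α l = l * ζ → ∀ f, α f = f → α (l * f * l⁻¹) = l * f * l⁻¹ := by
    intro l ζ hζ hl f hf'
    rw [map_mul, map_mul, map_inv, hl, hf']
    have h1 : ζ * f = f * ζ := (mem_center_iff.1 hζ f).symm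
    calc l * ζ * f * (l * ζ)⁻¹ = l * (ζ * f) * ζ⁻¹ * l⁻¹ := by group
      _ = l * f * l⁻¹ := by rw [h1]; group
  have hαβ : ∀ f, α f = f → α (β f) = β f := by
    intro f hf
    have h3 : α (β f) = β (α f) := DFunLike.congr_fun hc f
    rw [h3, hf]
  have hbp : ∀ n : ℕ, bar (β ^ n) = bar β ^ n := by
    intro n
    induction n with
    | zero => rw [pow_zero, pow_zero, bar_one]
    | succ n ih => rw [pow_succ, pow_succ, bar_mul, ih]
  have hs := hq.2
  have hna := OddHalf.Soft.quo_na hq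
  have hZ : center (L ⧸ center L) = ⊥ := by
    rcases hs.eq_bot_or_eq_top_of_normal (center (L ⧸ center L)) inferInstance with h | h
    · exact h
    · exfalso
      apply hna
      refine ⟨⟨fun a b => ?_⟩⟩
      exact mem_center_iff.mp (h ▸ mem_top b : b ∈ center (L ⧸ center L)) a
  refine exists_pairM hZ (α := bar α) (β := bar β) ?_ ?_ ?_ ?_ ?_
    ((fix α).map (QuotientGroup.mk' (center L))) (M.map (QuotientGroup.mk' (center L))) ?_ ?_ ?_ ?_ ?_ ?_ ?_ ?_ ?_
  · rw [← bar_mul, hα, bar_one]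
  · exact fun h => hα1 (eq_one_of_bar hp h)
  · refine Odd.of_dvd_nat hβ (orderOf_dvd_of_pow_eq_one ?_)
    rw [← hbp, pow_orderOf_eq_one, bar_one]
  · exact fun h => hβ1 (eq_one_of_bar hp h)
  · rw [← bar_mul, ← bar_mul, hc]
  · intro x hx
    obtain ⟨l, rfl⟩ := QuotientGroup.mk_surjective x
    rintro _ ⟨f, hf', rfl⟩
    rw [bar_mk] at hx
    obtain ⟨ζ, hζ, h1⟩ := hmk _ _ hx.symm
    exact ⟨l * f * l⁻¹, key l ζ hζ h1.symm f hf', rfl⟩
  · rintro _ ⟨f, hf', rfl⟩
    exact ⟨β f, hαβ f hf', rfl⟩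
  · rintro _ ⟨f, hf', rfl⟩
    show bar α (f : L ⧸ center L) = (f : L ⧸ center L)
    rw [bar_mk, show α f = f from hf']
  · intro x hx
    obtain ⟨l, rfl⟩ := QuotientGroup.mk_surjective x
    rw [bar_mk] at hx
    obtain ⟨ζ, hζ, h1⟩ := hmk _ _ hx.symm
    refine ⟨l * (β l)⁻¹, ?_, rfl⟩
    show α (l * (β l)⁻¹) = l * (β l)⁻¹
    have h2 : α (β l) = β l * ζ := by
      have h3 : α (β l) = β (α l) := DFunLike.congr_fun hc l
      rw [h3, ← h1, map_mul, hz ζ hζ]
    rw [map_mul, map_inv, h2, ← h1]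
    have h4 : ζ * (β l)⁻¹ = (β l)⁻¹ * ζ := (mem_center_iff.1 hζ _).symm
    calc l * ζ * (β l * ζ)⁻¹ = l * (ζ * ζ⁻¹) * (β l)⁻¹ := by group
      _ = l * (β l)⁻¹ := by group
  · exact Subgroup.map_mono fun m hm => hMα m hm
  · rintro _ ⟨f, hf', rfl⟩ _ ⟨m, hm, rfl⟩
    refine ⟨f * m * f⁻¹, hMn f hf' m hm, ?_⟩
    rw [map_mul, map_mul, map_inv]
  · rintro _ ⟨m, hm, rfl⟩
    exact ⟨β m, hMβ m hm, rfl⟩
  · intro h2
    obtain ⟨y, hy⟩ := exists_prime_orderOf_dvd_card' 2 h2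
    obtain ⟨m, hm, hmy⟩ := y.2
    have hy1 : (y : L ⧸ center L) ^ 2 = 1 := by
      have h3 := pow_orderOf_eq_one y
      rw [hy] at h3
      exact congrArg Subtype.val h3
    have hy2 : (y : L ⧸ center L) ≠ 1 := by
      intro h3
      have h4 : orderOf (y : L ⧸ center L) = 2 := by rw [Subgroup.orderOf_coe, hy]
      rw [h3, orderOf_one] at h4
      omega
    obtain ⟨k, r, hr, hkr⟩ := Nat.exists_eq_two_pow_mul_odd (n := orderOf m) (orderOf_pos m).ne'
    have h5 : m ^ r ∈ center L := by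
      refine hM2 _ (pow_mem hm r) ⟨k, ?_⟩
      rw [← pow_mul, mul_comm, ← hkr, pow_orderOf_eq_one]
    have h6 : (y : L ⧸ center L) ^ r = 1 := by
      rw [← hmy, ← map_pow]
      exact (QuotientGroup.eq_one_iff _).2 h5
    apply hy2
    obtain ⟨j, hj⟩ := hr
    rw [hj, pow_succ, pow_mul, hy1, one_pow, one_mul] at h6
    exact h6
  · rintro _ ⟨f, hf', rfl⟩
    refine ⟨f * (β f)⁻¹, hM f hf', ?_⟩
    rfl

/-- an automorphism inner on `L / Z(L)` is inner -/
theorem inner_of_bar (hp : commutator L = ⊤) {β : MulAut L} {y : L ⧸ center L} (h : bar β = MulAut.conj y) :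
    ∃ l : L, β = MulAut.conj l := by
  obtain ⟨l, rfl⟩ := QuotientGroup.mk_surjective y
  have h1 : bar (MulAut.conj l) = MulAut.conj (l : L ⧸ center L) := by
    ext x
    obtain ⟨x, rfl⟩ := QuotientGroup.mk_surjective x
    rw [bar_mk]
    rfl
  refine ⟨l, ?_⟩
  have h2 : bar ((MulAut.conj l)⁻¹ * β) = 1 := by
    have h3 : bar (MulAut.conj l * ((MulAut.conj l)⁻¹ * β)) = bar (MulAut.conj l) * bar ((MulAut.conj l)⁻¹ * β) :=
      bar_mul _ _
    rw [mul_inv_cancel_left, h, ← h1] at h3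
    exact (mul_eq_left.1 h3.symm)
  exact (inv_mul_eq_one.1 (eq_one_of_bar hp h2)).symm

/-- an element of odd order whose square is in a subgroup -/
theorem mem_of_sq_odd {G : Type*} [Group G] {N : Subgroup G} {x : G} (ho : Odd (orderOf x)) (h : x * x ∈ N) : x ∈ N := by
  obtain ⟨k, hk⟩ := ho
  have h1 : x = (x * x) ^ (k + 1) := by
    rw [← pow_two, ← pow_mul]
    have h2 : 2 * (k + 1) = orderOf x + 1 := by omega
    rw [h2, pow_succ, pow_orderOf_eq_one, one_mul]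
  rw [h1]
  exact pow_mem h _

/-- the automorphisms of odd order are inner -/
def OddInn (X : Type*) [Group X] : Prop := ∀ φ : MulAut X, Odd (orderOf φ) → ∃ y : X, φ = MulAut.conj y

theorem OddInn.congr {X Y : Type*} [Group X] [Group Y] (e : X ≃* Y) (h : OddInn Y) : OddInn X := by
  intro φ ho
  obtain ⟨y, hy⟩ := h (MulAut.congr e φ) (by rwa [MulEquiv.orderOf_eq])
  refine ⟨e.symm y, ?_⟩
  apply (MulAut.congr e).injective
  rw [hy]
  ext x
  change y * x * y⁻¹ = e (e.symm y * e.symm x * (e.symm y)⁻¹)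
  simp

theorem oddInn_of_sq {X : Type*} [Group X] (h : ∀ φ : MulAut X, φ * φ ∈ (MulAut.conj : X →* MulAut X).range) :
    OddInn X := by
  intro φ ho
  obtain ⟨y, hy⟩ := mem_of_sq_odd ho (h φ)
  exact ⟨y, hy.symm⟩

theorem oddInn_alt {n : ℕ} (hn : 7 ≤ n) : OddInn ↥(alternatingGroup (Fin n)) :=
  oddInn_of_sq fun φ => OddHalf.NI3.Bad.OutPow.sq_alt hn φ

theorem oddInn_he {X : Type*} [Group X] (h : Cfsg.Spor.IsoHe X) : OddInn X :=
  oddInn_of_sq fun φ => KFacts.He.Outer.sq_inner h φ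

end quasi

section group

variable {G : Type u} [Group G] [Finite G] {L : Subgroup G} {s c : G}

/-- from `MulAut L` to the group -/
theorem inner_of_actL (hcL : cj c L = L) {l : L} (h : actL hcL = MulAut.conj l) :
    ∃ l ∈ L, ∀ x ∈ L, c * x * c⁻¹ = l * x * l⁻¹ := by
  refine ⟨l, l.2, fun x hx => ?_⟩
  have h1 := congrArg Subtype.val (DFunLike.congr_fun h ⟨x, hx⟩)
  exact h1

/-- `c` centralises `L`, or `s` does not centralise `L`, and `QM` -/
theorem comp_cases {N : Subgroup G} (hq : IsQuasisimple L) (hsL : cj s L = L) (hcL : cj c L = L)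
    (hss : s * s = 1) (hcs : c * s = s * c) (hc : Odd (orderOf c)) (hcZ : ∀ x ∈ L, Cen L x → c * x = x * c)
    (hcN : c ∈ N) (hNs : ∀ n ∈ N, n * s = s * n)
    (hN : ∀ y ∈ L, y * s = s * y → ∀ n ∈ N, y * n * y⁻¹ ∈ N)
    (hNc : ∀ u ∈ N, u ∈ L → (∃ k : ℕ, u ^ 2 ^ k = 1) → Cen L u) :
    Cen L c ∨ (¬ Cen L s ∧ ∃ M : Subgroup L, QM (actL hsL) (actL hcL) M) := by
  haveI : Fact (Nat.Prime 2) := ⟨Nat.prime_two⟩
  have hcom : ∀ x ∈ L, c * x * c⁻¹ ∈ L := by
    intro x hx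
    have h1 := conj_mem_cj (g := c) hx
    rwa [hcL] at h1
  by_cases hs : Cen L s
  · left
    have hNL : ∀ y ∈ L, ∀ n ∈ N, y * n * y⁻¹ ∈ N := fun y hy n hn => hN y hy (hs y hy).symm n hn
    have hn : ((N ⊓ L).subgroupOf L).Normal := by
      rw [normal_subgroupOf_iff_le_normalizer inf_le_right]
      intro y hy
      rw [mem_normalizer_iff]
      intro n
      constructor
      · rintro ⟨h1, h2⟩
        exact ⟨hNL y hy n h1, L.mul_mem (L.mul_mem hy h2) (L.inv_mem hy)⟩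
      · rintro ⟨h1, h2⟩
        have h3 := hNL _ (inv_mem hy) _ h1
        have h4 := L.mul_mem (L.mul_mem (L.inv_mem hy) h2) hy
        have e : y⁻¹ * (y * n * y⁻¹) * y = n := by group
        rw [inv_inv, e] at h3
        rw [e] at h4
        exact ⟨h3, h4⟩
    rcases SignalizersComponents.LayerBasic.quasisimple_normal hq _ hn with h1 | h1
    · exfalso
      rw [subgroupOf_eq_top] at h1
      obtain ⟨S₀, hS₀⟩ := Cit.Hyp.exists_syl L
      refine syl_not_central hq le_rfl hS₀ fun x hx => ?_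
      rw [mem_centralizer_iff]
      intro y hy
      obtain ⟨k, hk⟩ := hS₀.2.1 ⟨x, hx⟩
      exact (hNc x (h1 (hS₀.1 hx)).1 (hS₀.1 hx) ⟨k, congrArg Subtype.val hk⟩ y hy).symm
    · refine Cen_of_mod hq hcL fun x hx => ?_
      have h2 : c * x * c⁻¹ * x⁻¹ ∈ N ⊓ L := by
        refine ⟨?_, L.mul_mem (hcom x hx) (L.inv_mem hx)⟩
        have h3 : c * x * c⁻¹ * x⁻¹ = c * (x * c⁻¹ * x⁻¹) := by group
        rw [h3]
        exact mul_mem hcN (hNL x hx _ (inv_mem hcN))
      intro y hy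
      have h3 : (⟨c * x * c⁻¹ * x⁻¹, h2.2⟩ : L) ∈ center L := h1 (by rw [mem_subgroupOf]; exact h2)
      exact (congrArg Subtype.val (mem_center_iff.1 h3 ⟨y, hy⟩)).symm
  by_cases hcc : Cen L c
  · exact Or.inl hcc
  right
  refine ⟨hs, ?_⟩
  have hpow : ∀ n : ℕ, ∀ x : L, (((actL hcL) ^ n) x : G) = c ^ n * x * (c ^ n)⁻¹ := by
    intro n
    induction n with
    | zero => intro x; rw [pow_zero, pow_zero, MulAut.one_apply]; group
    | succ n ih => intro x; rw [pow_succ, MulAut.mul_apply, ih, actL_apply, pow_succ]; group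
  refine ⟨(N ⊓ L ⊓ centralizer {s}).subgroupOf L, ?_, (fun h => hs (Cen_of_actL hsL h)), ?_,
    (fun h => hcc (Cen_of_actL hcL h)), ?_, ?_, ?_, ?_, ?_, ?_, ?_⟩
  · ext x
    change s * (s * x * s⁻¹) * s⁻¹ = (x : G)
    calc s * (s * x * s⁻¹) * s⁻¹ = (s * s) * x * (s * s)⁻¹ := by group
      _ = x := by rw [hss]; group
  · refine Odd.of_dvd_nat hc (orderOf_dvd_of_pow_eq_one ?_)
    ext x
    rw [hpow, pow_orderOf_eq_one, MulAut.one_apply]
    group
  · ext x
    change s * (c * x * c⁻¹) * s⁻¹ = c * (s * x * s⁻¹) * c⁻¹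
    calc s * (c * x * c⁻¹) * s⁻¹ = (s * c) * x * (s * c)⁻¹ := by group
      _ = _ := by rw [← hcs]; group
  · intro x hx
    apply Subtype.ext
    rw [actL_apply, hcZ x x.2 fun y hy => (congrArg Subtype.val (mem_center_iff.1 hx ⟨y, hy⟩)).symm,
      mul_inv_cancel_right]
  · intro f hf m hm
    rw [mem_subgroupOf, mem_inf, mem_inf, mem_centralizer_singleton_iff] at hm ⊢
    have hf' : s * f * s⁻¹ = (f : G) := congrArg Subtype.val hf
    have hfs : (f : G) * s = s * f := (mul_inv_eq_iff_eq_mul.1 hf').symm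
    refine ⟨⟨hN f f.2 hfs m hm.1.1, (f * m * f⁻¹ : L).2⟩, ?_⟩
    change (f : G) * m * (f : G)⁻¹ * s = s * ((f : G) * m * (f : G)⁻¹)
    have h1 : (f : G)⁻¹ * s = s * (f : G)⁻¹ := by
      rw [inv_mul_eq_iff_eq_mul, ← mul_assoc, hfs, mul_inv_cancel_right]
    calc (f : G) * m * (f : G)⁻¹ * s = f * m * ((f : G)⁻¹ * s) := by group
      _ = f * (m * s) * (f : G)⁻¹ := by rw [h1]; group
      _ = (f * s) * m * (f : G)⁻¹ := by rw [hm.2]; group
      _ = _ := by rw [hfs]; group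
  · intro m hm
    rw [mem_subgroupOf, mem_inf, mem_inf, mem_centralizer_singleton_iff] at hm ⊢
    refine ⟨⟨?_, (actL hcL m).2⟩, ?_⟩
    · change c * m * c⁻¹ ∈ N
      exact mul_mem (mul_mem hcN hm.1.1) (inv_mem hcN)
    · change c * m * c⁻¹ * s = s * (c * m * c⁻¹)
      exact hNs _ (mul_mem (mul_mem hcN hm.1.1) (inv_mem hcN))
  · intro m hm
    rw [mem_subgroupOf, mem_inf, mem_inf, mem_centralizer_singleton_iff] at hm
    apply Subtype.ext
    rw [actL_apply, ← hm.2, mul_inv_cancel_right]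
  · rintro m hm ⟨k, hk⟩
    rw [mem_subgroupOf, mem_inf, mem_inf] at hm
    rw [mem_center_iff]
    intro y
    exact Subtype.ext (hNc m hm.1.1 m.2 ⟨k, congrArg Subtype.val hk⟩ y y.2).symm
  · intro f hf
    have hf' : s * f * s⁻¹ = (f : G) := congrArg Subtype.val hf
    have hfs : (f : G) * s = s * f := (mul_inv_eq_iff_eq_mul.1 hf').symm
    rw [mem_subgroupOf, mem_inf, mem_inf, mem_centralizer_singleton_iff]
    have h1 : ((f * (actL hcL f)⁻¹ : L) : G) = f * c * (f : G)⁻¹ * c⁻¹ := by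
      change (f : G) * (c * f * c⁻¹)⁻¹ = _
      group
    have h2 : (f : G) * c * (f : G)⁻¹ * c⁻¹ ∈ N := mul_mem (hN f f.2 hfs c hcN) (inv_mem hcN)
    refine ⟨⟨by rw [h1]; exact h2, (f * (actL hcL f)⁻¹ : L).2⟩, ?_⟩
    rw [h1]
    exact hNs _ h2

theorem inner_of_oddInn (hq : IsQuasisimple L) (h : OddInn (↥L ⧸ center ↥L)) (hcL : cj c L = L)
    (ho : Odd (orderOf (actL hcL))) : ∃ l ∈ L, ∀ x ∈ L, c * x * c⁻¹ = l * x * l⁻¹ := by
  have hbp : ∀ n : ℕ, bar ((actL hcL) ^ n) = bar (actL hcL) ^ n := by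
    intro n
    induction n with
    | zero => rw [pow_zero, pow_zero, bar_one]
    | succ n ih => rw [pow_succ, pow_succ, bar_mul, ih]
  obtain ⟨y, hy⟩ := h (bar (actL hcL)) (Odd.of_dvd_nat ho (orderOf_dvd_of_pow_eq_one (by
    rw [← hbp, pow_orderOf_eq_one, bar_one])))
  obtain ⟨l, hl⟩ := inner_of_bar hq.1.commutator_eq_top hy
  exact inner_of_actL hcL hl

end group

namespace TW

variable {H : Type u} [Group H] [Finite H] {Om : Set (Subgroup H)} {S : Sylow 2 H} {N L K : Subgroup H} {s c a : H}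

/-- `c` centralises `L`, or `s` does not centralise `L`, and `QM` -/
theorem qm (t : TW Om S N (RR Om a) s c) (ha : ∀ x : H, a * x = x * a) (hL : IsComponent L) :
    Cen L c ∨ (¬ Cen L s ∧ ∃ M : Subgroup L, QM (actL (mem_normalizer_iff_cj.1 (t.s_norm hL)))
      (actL (mem_normalizer_iff_cj.1 (t.c_norm ha hL))) M) := by
  have hNc : ∀ u ∈ N, u ∈ L → (∃ k : ℕ, u ^ 2 ^ k = 1) → Cen L u := by
    intro u hu huL hk
    rcases t.two_mem ha hu (mem_SS_of hL huL) hk with h1 | h1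
    · rw [h1]; exact fun y _ => by rw [one_mul, mul_one]
    · rw [h1]; exact fun x _ => ha x
  refine comp_cases (N := N) hL.2 (mem_normalizer_iff_cj.1 (t.s_norm hL))
    (mem_normalizer_iff_cj.1 (t.c_norm ha hL)) t.s2 (mem_centralizer_singleton_iff.1 (t.Ns t.cN)) t.odd
    (fun x hx hc => t.cZ ha hL hx hc) t.cN (fun n hn => mem_centralizer_singleton_iff.1 (t.Ns hn)) ?_ hNc
  intro y _ hys n hn
  exact (mem_normalizer_iff.1 (t.nN (mem_centralizer_singleton_iff.2 hys)) n).1 hn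

/-- **The pair `(σ, D)`, `γ ∈ D`, in the world `TW`.** -/
theorem pair (t : TW Om S N (RR Om a) s c) (ha : ∀ x : H, a * x = x * a) (hL : IsComponent L) :
    Cen L c ∨ (¬ Cen L s ∧ ∃ D : Subgroup (MulAut (↥L ⧸ center ↥L)),
      UGT.U2.FOne.FixAut.Hyp (bar (actL (mem_normalizer_iff_cj.1 (t.s_norm hL)))) D ∧
        bar (actL (mem_normalizer_iff_cj.1 (t.c_norm ha hL))) ∈ D) := by
  rcases t.qm ha hL with h | ⟨h, M, hM⟩
  · exact Or.inl h
  · exact Or.inr ⟨h, hM.pair hL.2⟩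

/-- **`A_n`, `L₃(4)`, `He`** : `c` is inner on `L`. -/
theorem inner_sp (t : TW Om S N (RR Om a) s c) (ha : ∀ x : H, a * x = x * a) (hL : IsComponent L)
    (hty : (∃ n : ℕ, Odd n ∧ 7 ≤ n ∧ Nonempty ((↥L ⧸ center ↥L) ≃* ↥(alternatingGroup (Fin n)))) ∨
      (∃ (F : Type) (_ : Field F) (_ : Fintype F), Fintype.card F = 4 ∧
        Nonempty ((↥L ⧸ center ↥L) ≃* Matrix.ProjectiveSpecialLinearGroup (Fin 3) F)) ∨
      Spor.IsoHe (↥L ⧸ center ↥L)) :
    ∃ l ∈ L, ∀ x ∈ L, c * x * c⁻¹ = l * x * l⁻¹ := by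
  have hcL := mem_normalizer_iff_cj.1 (t.c_norm ha hL)
  rcases t.qm ha hL with h | ⟨-, M, hM⟩
  · refine ⟨1, one_mem _, fun x hx => ?_⟩
    rw [h x hx, mul_inv_cancel_right]
    group
  rcases hty with ⟨n, -, hn, ⟨e⟩⟩ | ⟨F, i1, i2, hF, e⟩ | hHe
  · exact inner_of_oddInn hL.2 ((oddInn_alt hn).congr e) hcL hM.hβ
  · obtain ⟨D, hD, hγ⟩ := hM.pair hL.2
    have h1 : UGT.LTF.Defs.OddC (bar (actL (mem_normalizer_iff_cj.1 (t.s_norm hL)))) D :=
      ⟨hD.odd, hD.comm, hD.norm⟩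
    have hft := UGT.FL34.KF.kf34 (↥L ⧸ center ↥L) ⟨F, i1, i2, hF, e⟩ _ hD.sq D h1 hD.nt
    obtain ⟨y, hy, -, -⟩ := hft.core D h1 _ hγ
    obtain ⟨l, hl⟩ := inner_of_bar hL.2.1.commutator_eq_top hy
    exact inner_of_actL hcL hl
  · exact inner_of_oddInn hL.2 (oddInn_he hHe) hcL hM.hβ

end TW

end Cfsg.Agent.Cit.Nil.LO
end

-- part: Cit/Nil/LO/Prop
section
set_option linter.all false
open scoped Cfsg.Agent.FastGrp

/-!
# S1309, node (n2) THREE PROPAGATION: the assembly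

* `Sock` : the remaining piece (section 7 of LieOdd);
* `TW.inner` : in the world `TW` the element `c` acts on every component `L` of `H = C(a)` as an element of `L`.
-/

set_option autoImplicit false
set_option linter.style.haveILetI false
set_option linter.unusedSectionVars false

namespace Cfsg.Agent.Cit.Nil.LO

open Subgroup Cfsg Cit RG
open Cfsg.Agent.OddHalf.NI3.Bad.Unb (IsUnb)
open Cfsg.Agent.OddHalf.Iface (LieOdd)
open Cfsg.Agent.UGT.Iface (IsL2)

universe u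

/-- **the remaining piece** -/
structure Sock : Prop where
  /-- section 7 of LieOdd -/
  seven : ∀ (H : Type u) [Group H] [Finite H] (Om : Set (Subgroup H)) (S : Sylow 2 H) (N L : Subgroup H) (s c a : H),
    TW Om S N (RR Om a) s c → (∀ x : H, a * x = x * a) → IsComponent L → ¬ Cen L s → LieOdd (↥L ⧸ center ↥L) →
    ¬ IsL2 (↥L ⧸ center ↥L) → ¬ Lie.IsoRee (↥L ⧸ center ↥L) → Cen L c

theorem inner_of_cen {H : Type*} [Group H] {L : Subgroup H} {c : H} (h : Cen L c) :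
    ∃ l ∈ L, ∀ x ∈ L, c * x * c⁻¹ = l * x * l⁻¹ :=
  ⟨1, one_mem L, fun x hx => by rw [h x hx, mul_inv_cancel_right, one_mul, inv_one, mul_one]⟩

/-- **the odd element `c` is inner on every component** -/
theorem TW.inner (h1311 : P11.{u}) (hs : Sock.{u}) {H : Type u} [Group H] [Finite H] {Om : Set (Subgroup H)}
    {S : Sylow 2 H} {N L : Subgroup H} {s c a : H} (t : TW Om S N (RR Om a) s c) (ha : ∀ x : H, a * x = x * a)
    (hL : IsComponent L) : ∃ l ∈ L, ∀ x ∈ L, c * x * c⁻¹ = l * x * l⁻¹ := by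
  rcases TW.unb h1311 t ha hL with h | ⟨hn, hU⟩
  · exact inner_of_cen h
  rcases hU with hLie | hU
  · by_cases hRee : Lie.IsoRee (↥L ⧸ center ↥L)
    · exfalso
      obtain ⟨K, hK, hKS, h1, -⟩ := t.exists_w hL hn
      exact h1 (ree_cent t hL hRee K hK hKS)
    by_cases hL2 : IsL2 (↥L ⧸ center ↥L)
    · obtain ⟨F, i1, i2, ho, h5, ⟨e⟩⟩ := hL2
      obtain ⟨K, hK, hKS, h1, h2⟩ := t.exists_w hL hn
      have hw1 : ∃ m ∈ L, zz K * m ≠ m * zz K := by
        by_contra hcon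
        push Not at hcon
        exact h1 hcon
      obtain ⟨l, hl, -, h3, -⟩ := ltwo_inner t.w (eq_of_qs hL.2) (t.two_center hL) e ho (by omega) (w := zz K)
        ⟨K, hK, rfl⟩ (mem_normalizer_iff_cj.2 (t.zz_norm hL hK)) hw1 (fun K' _ k _ => by
          by_cases h4 : cj k L = L
          · exact Or.inl (mem_normalizer_iff_cj.2 h4)
          · right
            intro x hx y hy
            exact Comp.comm_of_ne hL (Comp.isComponent_cj hL k) (Ne.symm h4) hx (conj_mem_cj hy)) t.odd (t.c_norm ha hL)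
        (h2 _ (t.w.zm hK))
      exact ⟨l, hl, h3⟩
    · exact inner_of_cen (hs.seven H Om S N L s c a t ha hL hn hLie hL2 hRee)
  · exact t.inner_sp ha hL hU

end Cfsg.Agent.Cit.Nil.LO
end

-- part: Cit/Nil/CVT/KLOf
section
set_option linter.all false
open scoped Cfsg.Agent.FastGrp

/-!
# (6b)(CV): THEOREM KL in the simple case (helper818)

`false_of_core` : `F*(G)` simple, members are 2-groups, `K`, `L` different commuting members, an involution `t` with
`O(C(t)) ≠ 1` : impossible.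
`kl` : the same in the world `CVW (cls K) U`, `FSimp F` (socket KLStmt of helper542).

Inputs: `TStmt` (S1310), `ChartOut`, `ChartOut2` (piece (C)), S1311.
-/

set_option autoImplicit false
set_option linter.style.haveILetI false

namespace Cfsg.Agent.Cit.Nil.CVT.KLOf

open Subgroup Cfsg Cit Tau CV CV1
open Cfsg.Agent.Cit.Nil.ROne (FSimp)
open Cfsg.Agent.Cit.Nil.LO (ChartOut ChartOut2 NQ)

universe u

/-- **(KL)**, `F*(G)` simple -/
theorem false_of_core (hT : TStmt.{u}) (hC : ChartOut.{u}) (hC2 : ChartOut2.{u}) {G : Type u} [Group G] [Finite G]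
    (fs : AssemblyNil.FS G) (h1311 : AssemblyNil.St1311 G) {Om : Set (Subgroup G)} (w : NQ Om) {K L : Subgroup G}
    (hK : K ∈ Om) (hL : L ∈ Om) (hc : ∀ x ∈ K, ∀ y ∈ L, x * y = y * x)
    {t : G} (ht : orderOf t = 2) (hO : centralizerPPrimeCore 2 t ≠ ⊥) : False := by
  rcases h1311 t ht hO with h | ⟨n, -, hn, ⟨e⟩⟩ | h | h
  · exact LO.false_of_lie_orth hT hC hC2 (Lib.GenFitting.genFitting_normal (G := G)) fs.simple fs.na
      (End.centralizer_fstar fs.simple fs.na) w hK hL hc h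
      (by rw [← pow_two, ← ht]; exact pow_orderOf_eq_one t) hO
  · exact LO.AltG.alt_false' w.hyp hK fs.simple fs.na hn e
  · exact LO.LThreeQ.lthree_false w.hyp w.two hK fs h
  · exact LO.HeQ.he_false_q w hK fs h

/-- `F` is `F*(G)` -/
theorem fstar_eq {G : Type u} [Group G] [Finite G] {F : Subgroup G} (f : FSimp F) :
    generalizedFittingSubgroup G = F :=
  FixBN.BTheorem.genFitting_eq f.nor f.sim
    (fun hc => f.na fun x hx y hy => congrArg Subtype.val (hc.is_comm.comm (⟨x, hx⟩ : F) ⟨y, hy⟩)) f.cen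

theorem fs_of {G : Type u} [Group G] [Finite G] {F : Subgroup G} (f : FSimp F) (h2 : 2 ∣ Nat.card F) :
    AssemblyNil.FS G := by
  have h := fstar_eq f
  refine ⟨?_, ?_, ?_⟩ <;> rw [h]
  · exact f.sim
  · exact fun hc => f.na fun x hx y hy => congrArg Subtype.val (hc.is_comm.comm (⟨x, hx⟩ : F) ⟨y, hy⟩)
  · exact h2

/-- **KLStmt** (helper542) -/
theorem kl (hT : TStmt.{u}) (hC : ChartOut.{u}) (hC2 : ChartOut2.{u})
    (h1311 : ∀ (G : Type u) [Group G] [Finite G], AssemblyNil.FS G → AssemblyNil.St1311 G) :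
    ∀ (G : Type u) [Group G] [Finite G] (K : Subgroup G) (U : Subgroup G → Subgroup G) (F : Subgroup G),
      CVW (cls K) U → FSimp F → 2 ∣ Nat.card F → (∃ t : G, orderOf t = 2 ∧ centralizerPPrimeCore 2 t ≠ ⊥) →
      ∀ L ∈ cls K, ¬ Orth K L := by
  intro G _ _ K U F w f h2 ht L hL hKL
  obtain ⟨t, ht, hO⟩ := ht
  have fs := fs_of f h2
  exact false_of_core hT hC hC2 fs (h1311 G fs) ⟨w.hyp, w.two⟩ (self_mem_cls K) hL hKL.2 ht hO

end Cfsg.Agent.Cit.Nil.CVT.KLOf
end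

-- part: Cit/Nil/LO/CoreTwo
section
set_option linter.all false
open scoped Cfsg.Agent.FastGrp

/-!
# Cores: two different members over one involution (helper818)

`core_eq_bot_of_comm` : `F*(G)` simple, members 2-groups, two commuting members: `O(C(t)) = 1` for all involutions `t`.
`core_eq_bot_of_two` : the same with two different members over the same involution.
`cfa_of_two` : `r ≥ 2`, `|K| = 8`, in the form `CFA` (`Cit/Nil/RTwo/SMain.lean`), from `FSimp F`.
-/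

set_option autoImplicit false
set_option linter.style.haveILetI false

namespace Cfsg.Agent.Cit.Nil.LO

open Subgroup Cfsg Cit
open Cfsg.Agent.Cit.Nil.ROne (FSimp)

universe u

/-- two commuting members -/
theorem core_eq_bot_of_comm (hT : TStmt.{u}) (hC : ChartOut.{u}) (hC2 : ChartOut2.{u}) {G : Type u} [Group G]
    [Finite G] (fs : AssemblyNil.FS G) (h1311 : AssemblyNil.St1311 G) {Om : Set (Subgroup G)} (w : NQ Om)
    {K L : Subgroup G} (hK : K ∈ Om) (hL : L ∈ Om) (hc : ∀ x ∈ K, ∀ y ∈ L, x * y = y * x) :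
    ∀ t : G, orderOf t = 2 → centralizerPPrimeCore 2 t = ⊥ := by
  intro t ht
  by_contra h
  exact CVT.KLOf.false_of_core hT hC hC2 fs h1311 w hK hL hc ht h

/-- two members over the same involution, 2-groups, commute -/
theorem NQ.comm_of_zz {G : Type*} [Group G] [Finite G] {Om : Set (Subgroup G)} (w : NQ Om) {K L : Subgroup G}
    (hK : K ∈ Om) (hL : L ∈ Om) (hne : K ≠ L) (hz : zz K = zz L) : ∀ x ∈ K, ∀ y ∈ L, x * y = y * x := by
  intro k hk l hl
  rcases w.hyp.h2 K hK L hL hz with h1 | h1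
  · exact absurd h1 hne
  rw [OO_eq_bot_of_two (w.two K hK), bot_inf_eq, le_bot_iff, Subgroup.commutator_eq_bot_iff_le_centralizer] at h1
  exact (mem_centralizer_iff.1 (h1 hk) l hl).symm

/-- members of order 8 -/
theorem NQ.of_card {G : Type*} [Group G] [Finite G] {Om : Set (Subgroup G)} (h : Hyp Om)
    (card : ∀ K ∈ Om, Nat.card K = 8) : NQ Om where
  hyp := h
  two K hK := IsPGroup.of_card (p := 2) (n := 3) (by rw [card K hK]; norm_num)

/-- **`CFA G`, from two commuting members** (`f : FSimp F`) -/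
theorem cfa_of_comm (hT : TStmt.{u}) (hC : ChartOut.{u}) (hC2 : ChartOut2.{u})
    (h1311 : ∀ (G : Type u) [Group G] [Finite G], AssemblyNil.FS G → AssemblyNil.St1311 G) {G : Type u} [Group G]
    [Finite G] {F : Subgroup G} (f : FSimp F) (h2 : 2 ∣ Nat.card F) {Om : Set (Subgroup G)} (w : NQ Om)
    {K L : Subgroup G} (hK : K ∈ Om) (hL : L ∈ Om) (hc : ∀ x ∈ K, ∀ y ∈ L, x * y = y * x) :
    ∀ j : G, j * j = 1 → j ≠ 1 → OO (centralizer {j}) = ⊥ := by
  intro j hj hj1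
  haveI : Fact (Nat.Prime 2) := ⟨Nat.prime_two⟩
  have fs := CVT.KLOf.fs_of f h2
  exact core_eq_bot_of_comm hT hC hC2 fs (h1311 G fs) w hK hL hc j
    (orderOf_eq_prime (by rw [pow_two]; exact hj) hj1)

/-- **`CFA G`, `r ≥ 2`, `|K| = 8`** -/
theorem cfa_of_two (hT : TStmt.{u}) (hC : ChartOut.{u}) (hC2 : ChartOut2.{u})
    (h1311 : ∀ (G : Type u) [Group G] [Finite G], AssemblyNil.FS G → AssemblyNil.St1311 G) {G : Type u} [Group G]
    [Finite G] {F : Subgroup G} (f : FSimp F) (h2 : 2 ∣ Nat.card F) {Om : Set (Subgroup G)} (h : Hyp Om)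
    (card : ∀ K ∈ Om, Nat.card K = 8) {K L : Subgroup G} (hK : K ∈ Om) (hL : L ∈ Om) (hne : K ≠ L)
    (hz : zz K = zz L) : ∀ j : G, j * j = 1 → j ≠ 1 → OO (centralizer {j}) = ⊥ :=
  cfa_of_comm hT hC hC2 h1311 f h2 (NQ.of_card h card) hK hL ((NQ.of_card h card).comm_of_zz hK hL hne hz)

end Cfsg.Agent.Cit.Nil.LO
end

-- part: Cit/Nil/CompR/MThreeSec
section
set_option linter.all false
open scoped Cfsg.Agent.FastGrp

/-!
# S1309 (n6), `r = 2`, `AllOne`, (M3): the sections of the block worlds (helper386, over helper981's `MThreeG`)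

* `Bz Ω z` : the members over the C-partners of `z`; `im_eq` : its images are `img f (OmB Ω z)`;
* **`BlkC.sec`** : `Sec Ω z (Bz Ω z)`;
* **`false_of_tri3`** : `AllOne` with a 3-clique is impossible.
-/

set_option autoImplicit false
set_option linter.style.haveILetI false
set_option linter.unusedSectionVars false

namespace Cfsg.Agent.Cit.Nil.CompR

open Subgroup Cfsg Cfsg.Agent.Cit
open Cfsg.Agent.Cit.Nil.ROne (CP FSimp)
open RG (WR Ov RR)
open RTwoM.Quo (QM QT)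
open RFour.M3 (SecH)

universe u

/-- the members over the C-partners of `z` -/
def Bz {G : Type*} [Group G] (Ω : Set (Subgroup G)) (z : G) : Set (Subgroup G) := {L | L ∈ Ω ∧ RG.CP Ω z (zz L)}

namespace BlkC

variable {G : Type u} [Group G] [Finite G] {Ω : Set (Subgroup G)} {K L M : Subgroup G} {z u v x y g s a b c : G}
  {A B : Subgroup ↥(centralizer ({z} : Set G))}

variable (β : BlkC Ω z)

include β

theorem sub_mem (hL : L ∈ Bz Ω z) : L ≤ centralizer {z} ∧ L.subgroupOf (centralizer {z}) ∈ OmB Ω z ∧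
    (L.subgroupOf (centralizer {z})).map (centralizer {z}).subtype = L :=
  ⟨le_of_cp β.wr0 β.hz hL.1 hL.2, mem_OmB β.wr0 β.hz hL.1 hL.2,
    map_subgroupOf_eq_of_le (le_of_cp β.wr0 β.hz hL.1 hL.2)⟩

theorem im_eq {H : Type*} [Group H] (f : ↥(centralizer ({z} : Set G)) →* H) :
    RFour.M3.Im (centralizer {z}) (Bz Ω z) f = img f (OmB Ω z) := by
  ext P
  constructor
  · rintro ⟨L, hL, rfl⟩
    exact ⟨_, (β.sub_mem hL).2.1, rfl⟩
  · rintro ⟨A, hA, rfl⟩
    exact ⟨A.map (centralizer {z}).subtype, ⟨hA.1, hA.2⟩, by rw [← OmB_eq A]⟩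

/-- the section as `SecH` -/
theorem secH {H : Type*} [Group H] {f : ↥(centralizer ({z} : Set G)) →* H} (hf : f.ker = NC (OmB Ω z))
    (w4 : RFour.W4 (img f (OmB Ω z)))
    (nc : ∀ z', RFour.InZ (img f (OmB Ω z)) z' → ∃ t t', RFour.TI (img f (OmB Ω z)) z' t ∧
      RFour.TI (img f (OmB Ω z)) z' t' ∧ t * t' ≠ t' * t) :
    SecH (centralizer ({z} : Set G)) (Bz Ω z) f where
  le L hL := (β.sub_mem hL).1
  conj L hL g hg := by
    refine ⟨β.wr0.conj L hL.1 g, ?_⟩
    rw [β.wr0.zcj hL.1]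
    have h1 := β.wr0.CP_cj hL.2 g
    rwa [mem_centralizer_singleton_iff.1 hg, mul_inv_cancel_right] at h1
  ker g hg x hx := by
    have h1 : g ∈ NC (OmB Ω z) := by rw [← hf]; exact hg
    have h2 : sSup (Bz Ω z) ≤ centralizer {(g : G)} := by
      refine sSup_le fun L hL l hl => ?_
      rw [mem_centralizer_singleton_iff]
      exact (congrArg Subtype.val (mem_NC.1 h1 _ (β.sub_mem hL).2.1 ⟨l, (β.sub_mem hL).1 hl⟩ hl)).symm
    exact (mem_centralizer_singleton_iff.1 (h2 hx)).symm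
  ker' g hg := by
    rw [← MonoidHom.mem_ker, hf, mem_NC]
    intro A hA a ha
    apply Subtype.ext
    have h1 : A.map (centralizer {z}).subtype ∈ Bz Ω z := ⟨hA.1, hA.2⟩
    have h2 : A.map (centralizer {z}).subtype ≤ sSup (Bz Ω z) := le_sSup h1
    exact hg _ (h2 ⟨a, ha, rfl⟩)
  inf L hL x hx hfx := β.bq.inf_NC (β.sub_mem hL).2.1 hx (by rw [← hf]; exact hfx)
  inj L hL L' hL' h := by
    have h1 := β.bq.map_inj hf (β.sub_mem hL).2.1 (β.sub_mem hL').2.1 h
    rw [← (β.sub_mem hL).2.2, ← (β.sub_mem hL').2.2, h1]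
  zz L hL x hx := by
    rw [β.bq.zz_map hf (β.sub_mem hL).2.1]
    congr 1
    apply Subtype.ext
    rw [zzB β.t0.hyp (β.sub_mem hL).2.1, (β.sub_mem hL).2.2, hx]
  zc L hL := β.wr0.zm hL.1
  w4 := by rw [β.im_eq]; exact w4
  nc z' hz' := by
    rw [β.im_eq] at hz' ⊢
    exact nc z' hz'

/-- **the section of `C(z)`** -/
theorem sec (i : RTwo.LIn.{u}) (hev : ∀ (G : Type u) [Group G] [Finite G], Comp.EvQ G) (tri : Tri (RG.ZZ Ω) (RR Ω))
    (h2 : ∀ u ∈ RG.ZZ Ω, (Ov Ω u).ncard = 2) (c3 : ∀ L ∈ Ω, Nil.C3 L) : M3.Sec Ω z (Bz Ω z) where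
  sub L hL := hL.1
  sec := by
    haveI hn : (NC (OmB Ω z)).Normal := ⟨fun n hn g => NC_conj β.wr hn g⟩
    obtain ⟨f, hf⟩ : ∃ f : ↥(centralizer ({z} : Set G)) →* ↥(centralizer ({z} : Set G)) ⧸ NC (OmB Ω z),
        f = QuotientGroup.mk' _ := ⟨_, rfl⟩
    have hs : Function.Surjective f := by rw [hf]; exact QuotientGroup.mk'_surjective _
    have hk : f.ker = NC (OmB Ω z) := by rw [hf]; exact QuotientGroup.ker_mk' _
    refine ⟨_, inferInstance, inferInstance, f, ?_⟩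
    have w4 := β.w4 hs hk tri h2
    obtain ⟨A, hA⟩ := β.exists_OmB
    obtain ⟨X, fs, -, h2X⟩ := (β.qt hs hk).fsimp hev
    haveI := fs.sim
    obtain ⟨-, nc⟩ := RFour.M3.world w4 fs h2X (K := A.map f) ⟨A, hA, rfl⟩ (β.c3_tri_img hk hA (c3 _ hA.1))
      (fun S A h1 h2 h3 => i.gold _ S A h1 h2 h3) (i.bend _)
    exact β.secH hk w4 nc
  cen L hL K hK l hl k hk := (hL.2.2 K ⟨hK.1, hK.2⟩ L ⟨hL.1, rfl⟩ k hk l hl).symm

end BlkC

/-- **`AllOne` with a 3-clique is impossible** -/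
theorem false_of_tri3 {G : Type u} [Group G] [Finite G] {Ω : Set (Subgroup G)} (i : RTwo.LIn.{u})
    (hev : ∀ (G : Type u) [Group G] [Finite G], Comp.EvQ G) (h : RTwoM.WM Ω) (blk : ∀ z ∈ RG.ZZ Ω, BlkC Ω z)
    (h2 : ∀ u ∈ RG.ZZ Ω, (Ov Ω u).ncard = 2) (c3 : ∀ L ∈ Ω, Nil.C3 L) (hn : ¬ No3 (RG.ZZ Ω) (RR Ω)) (hne : (RG.ZZ Ω).Nonempty)
    (core : ∀ t, orderOf t = 2 → Cfsg.pPrimeCore 2 ↥(centralizer ({t} : Set G)) = ⊥)
    (n3 : ∀ t ∈ RG.ZZ Ω, ∀ L ∈ restr Ω (centralizer ({t} : Set G)), ¬ IndDefs.Three L) : False := by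
  obtain ⟨z, hz⟩ := hne
  have β := blk z hz
  have tri := tri_of β.gw β.ao hn
  obtain ⟨a, ha, hca⟩ := β.ex
  have hca' : CP (RR Ω) z a := (cp_iff_wr β.wr0).2 hca
  obtain ⟨hb, t2, t3⟩ := tri z hz a ha hca'
  obtain ⟨b, hbe⟩ : ∃ b, b = z * a := ⟨_, rfl⟩
  rw [← hbe] at hb t2 t3
  have zzc := β.gw.comm_of_cp hz ha hca'
  have hzab : z * a * b = 1 := by
    rw [hbe]
    calc z * a * (z * a) = z * (a * z) * a := by group
      _ = z * (z * a) * a := by rw [zzc]
      _ = (z * z) * (a * a) := by group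
      _ = 1 := by rw [β.gw.sq z hz, β.gw.sq a ha, one_mul]
  have cm : ∀ {x y : G}, CP (RR Ω) x y → M3.Cm Ω x y := fun hc K hK L hL k hk l hl =>
    ((cp_iff_wr β.wr0).1 hc).2 K hK L hL k hk l hl
  have mem : ∀ {x y : G}, CP (RR Ω) x y → ∀ L, RTwoM.Mem Ω y L → L ∈ Bz Ω x := fun hc L hL =>
    ⟨hL.1, by rw [hL.2]; exact (cp_iff_wr β.wr0).1 hc⟩
  exact M3.false_of_tri h hzab hz ha hb (cm hca') (cm t2) (cm t3) (β.sec i hev tri h2 c3)
    ((blk a ha).sec i hev tri h2 c3) ((blk b hb).sec i hev tri h2 c3) (mem hca') (mem t2) (mem hca'.symm) (mem t3)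
    (mem t2.symm) (mem t3.symm) core n3

end Cfsg.Agent.Cit.Nil.CompR
end

-- part: Cit/Nil/RI/FBlk
section
prune_inst 0x107005004422100000000502100020444000050200630801f9600c02004e330180050f00f8e01e120110aa34200a806003980059421000002a008a00411c0080042a72c68248b10021000040f807180c00000000000000000000000000041000000000000
set_option linter.all false
open scoped Cfsg.Agent.FastGrp

/-!
# S1309, (6b), (C3), `r = 4`, type I pairs exist, any `m`, no NIL: blocks

Every `z ∈ Z` has a type I neighbour; blocks = connected components of the type I graph.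

* `stab h u` : the stabiliser of the block of `u`; `exists_rep_of_two` : a 2-subgroup of it fixes some `v` in the
  block and lies in a 2-subgroup of it together with a member over `v`;
* `norm_blk` (B1) : `z ∈ Z` normalises the block of `u`: `z` is in the block of `u` or a C-partner;
* **`f1b`** (B2, helper449's proof) : `(u, x u x⁻¹)` is never a C-pair (`x, u ∈ Z`);
* **`two`** (B3) : elements of `Z` in a 2-group are in the same block or a C-pair;
* `YY_le` : first step of (B4).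
-/

set_option autoImplicit false
set_option linter.style.haveILetI false
set_option linter.unusedSectionVars false

namespace Cfsg.Agent.Cit.Nil.RI

open Subgroup Cfsg Cfsg.Agent.Cit

open RG (WR CP Ov)

variable {G : Type*} [Group G] [Finite G] {Om : Set (Subgroup G)} {K L M N P : Subgroup G} {a c d s t u v x y z g p k : G}

namespace FBlk

/-- a member and its conjugate by an element of a 2-group containing it: equal involutions or a C-pair -/
theorem cp_of_mem (h : WM Om) (hK : Mem Om u K) (hP : IsPGroup 2 P) (hKP : K ≤ P) (hp : p ∈ P)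
    (hne : p * u * p⁻¹ ≠ u) : CP Om u (p * u * p⁻¹) := by
  have hKp : cj p K ≤ P := by
    rintro _ ⟨k, hk, rfl⟩
    exact mul_mem (mul_mem hp (hKP hk)) (inv_mem hp)
  have hK' : Mem Om (p * u * p⁻¹) (cj p K) := hK.cj h p
  have hKK : K ≠ cj p K := by
    intro h1
    rw [← h1] at hK'
    exact hne (hK'.2.symm.trans hK.2)
  have h1 := h.wr.pg K hK.1 (cj p K) hK'.1 _ hP hKP hKp hKK
  exact h.wr.CP_of_cen (K := K) hK (fun k hk => (h1 k hk _ (hK'.zmem h)).symm) hne.symm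

/-- the stabiliser of the block -/
def stab (h : WM Om) (u : G) : Subgroup G where
  carrier := {g | Blk Om u (g * u * g⁻¹)}
  mul_mem' := by
    intro g g' (h2 : Blk Om u (g * u * g⁻¹)) (h3 : Blk Om u (g' * u * g'⁻¹))
    have h4 := h3.conj h g
    have h5 : g * (g' * u * g'⁻¹) * g⁻¹ = g * g' * u * (g * g')⁻¹ := by group
    rw [h5] at h4
    exact h2.trans h4
  one_mem' := by
    change Blk Om u (1 * u * 1⁻¹)
    rw [one_mul, inv_one, mul_one]
    exact Blk.refl u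
  inv_mem' := by
    intro g (h2 : Blk Om u (g * u * g⁻¹))
    have h4 := h2.conj h g⁻¹
    have h5 : g⁻¹ * (g * u * g⁻¹) * g⁻¹⁻¹ = u := by group
    rw [h5] at h4
    exact h4.symm h

theorem mem_stab {h : WM Om} : g ∈ stab h u ↔ Blk Om u (g * u * g⁻¹) := Iff.rfl

theorem stab_of_comm {h : WM Om} (hg : g * u = u * g) : g ∈ stab h u := by
  rw [mem_stab, hg, mul_inv_cancel_right]
  exact Blk.refl u

/-- the stabiliser of the block of `u` moves every element of the block inside the block -/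
theorem stab_blk {h : WM Om} (hg : g ∈ stab h u) (hb : Blk Om u v) : Blk Om u (g * v * g⁻¹) :=
  Blk.trans hg (hb.conj h g)

theorem stab_eq (h : WM Om) (hb : Blk Om u v) : stab h u = stab h v := by
  ext g
  constructor
  · intro hg
    exact (hb.symm h).trans (stab_blk hg hb)
  · intro hg
    exact hb.trans (stab_blk hg (hb.symm h))

/-- a 2-subgroup of the stabiliser of a block fixes some `v` in the block, together with a member -/
theorem exists_rep_of_two (h : WM Om) (hu : InZ Om u) (hP : IsPGroup 2 P) (hn : P ≤ stab h u) :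
    ∃ (v : G) (L T : Subgroup G), Blk Om u v ∧ Mem Om v L ∧ IsPGroup 2 T ∧ P ≤ T ∧ L ≤ T ∧ T ≤ stab h u ∧ ∀ g ∈ T, g * v = v * g := by
  haveI : Fact (Nat.Prime 2) := ⟨Nat.prime_two⟩
  obtain ⟨K, hK⟩ := hu
  have hKH : K ≤ stab h u := fun k hk => stab_of_comm (hK.comm_z h hk)
  obtain ⟨T, hT⟩ := (hP.comap_subtype (K := stab h u)).exists_le_sylow
  obtain ⟨m, hm⟩ := exists_le_cj T ((h.isPGroup hK.1).comap_subtype (K := stab h u))
  have hT2 : IsPGroup 2 ((T : Subgroup (stab h u)).map (stab h u).subtype) := T.isPGroup'.map _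
  have hPT : P ≤ (T : Subgroup (stab h u)).map (stab h u).subtype := fun y hy =>
    ⟨⟨y, hn hy⟩, hT (mem_subgroupOf.2 hy), rfl⟩
  have hKm : cj (m : G)⁻¹ K ≤ (T : Subgroup (stab h u)).map (stab h u).subtype := by
    intro y hy
    rw [mem_cj, inv_inv] at hy
    have h2 : (⟨(m : G) * y * (m : G)⁻¹, hKH hy⟩ : stab h u) ∈ cj m (T : Subgroup (stab h u)) :=
      hm (mem_subgroupOf.2 hy)
    rw [mem_cj] at h2
    have h3 := mem_map_of_mem (stab h u).subtype h2
    have h4 : (stab h u).subtype (m⁻¹ * (⟨(m : G) * y * (m : G)⁻¹, hKH hy⟩ : stab h u) * m) = y := by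
      change (m : G)⁻¹ * ((m : G) * y * (m : G)⁻¹) * (m : G) = y
      group
    rwa [h4] at h3
  have hTs : (T : Subgroup (stab h u)).map (stab h u).subtype ≤ stab h u := map_subtype_le _
  obtain ⟨v, hv⟩ : ∃ v, v = (m : G)⁻¹ * u * (m : G)⁻¹⁻¹ := ⟨_, rfl⟩
  have hKv : Mem Om v (cj (m : G)⁻¹ K) := by rw [hv]; exact hK.cj h _
  have hbv : Blk Om u v := by rw [hv]; exact (stab h u).inv_mem m.2
  refine ⟨v, _, _, hbv, hKv, hT2, hPT, hKm, hTs, fun g hg => ?_⟩
  by_contra hne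
  have h2 : g * v * g⁻¹ ≠ v := fun h3 => hne (mul_inv_eq_iff_eq_mul.1 h3)
  have h3 := cp_of_mem h hKv hT2 hKm hg h2
  refine not_cp_blk h (hKv.inZ.conj h g) ?_ h3
  have h4 := hTs hg
  rw [stab_eq h hbv] at h4
  exact h4

variable (h : WM Om) (hT : ∀ z, InZ Om z → ∃ t, TI Om z t)

include h hT

/-- **(B1)** -/
theorem norm_blk (hz : InZ Om z) (hu : InZ Om u) (hb : Blk Om u (z * u * z⁻¹)) : Blk Om u z ∨ CP Om u z := by
  have hz2 : IsPGroup 2 (zpowers z) := by
    refine IsPGroup.of_card (n := 1) ?_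
    rw [Nat.card_zpowers, pow_one]
    exact hz.orderOf h
  have hzle : zpowers z ≤ stab h u := by
    rw [zpowers_le]
    exact hb
  obtain ⟨v, L, T, h1, h2, -, h3, -, -, h4⟩ := exists_rep_of_two h hu hz2 hzle
  have h5 := h4 z (h3 (mem_zpowers z))
  rcases cases h hT h2.inZ hz h5.symm with h6 | h6
  · exact Or.inr (cp_blk h hz h6 (h1.symm h))
  · exact Or.inl (h1.trans h6)

/-! ### (B2) -/

/-- (B2), first step: the roles of `x` and `u` are symmetric -/
theorem cp_swap (hx : InZ Om x) (hu : InZ Om u) (hc : CP Om u (x * u * x⁻¹)) : CP Om x (u * x * u⁻¹) := by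
  have hxi := hx.inv h
  have hui := hu.inv h
  have hc1 : u * (x * u * x⁻¹) = (x * u * x⁻¹) * u := cp_comm h hu (hu.conj h x) hc
  have e1 : x * (u * x * u⁻¹) = (u * x * u⁻¹) * x := by
    rw [hui]
    rw [hxi] at hc1
    calc x * (u * x * u) = (x * u * x) * u := by group
      _ = u * (x * u * x) := hc1.symm
      _ = (u * x * u) * x := by group
  rcases cases h hT hx (hx.conj h u) e1 with h1 | h1
  · exact h1
  exfalso
  rcases norm_blk h hT hu hx h1 with h2 | h2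
  · -- `u` in the block of `x`
    refine not_cp_blk h (hu.conj h x) ?_ hc
    have h3 := h2.conj h x
    rw [mul_inv_cancel_right] at h3
    exact (h2.symm h).trans h3
  · have h3 := cp_comm h hx hu h2
    rw [h3, mul_inv_cancel_right] at hc
    exact hc.1 rfl

/-- **(B2)** (F1 for blocks; proof by helper449) -/
theorem f1b (hx : InZ Om x) (hu : InZ Om u) : ¬ CP Om u (x * u * x⁻¹) := by
  intro hc
  have hxi := hx.inv h
  have hui := hu.inv h
  have hcx := cp_swap h hT hx hu hc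
  obtain ⟨x', hx'⟩ := hT x hx
  -- `x' ` in the block of `x`
  have key : ∀ y, Blk Om x y → CP Om u (y * u * y⁻¹) := by
    intro y hb
    have hy := hb.inZ hx
    have h1 : CP Om y (u * x * u⁻¹) := cp_blk h (hx.conj h u) hcx hb
    have h2 : CP Om (u * y * u⁻¹) y := cp_blk h hy h1.symm (hb.conj h u)
    have h3 := cp_swap h hT hu hy h2.symm
    exact h3
  have hx'' := hx'.mul_right h
  have k1 := hc
  have k2 := key x' hx'.blk
  have k3 := key (x * x') hx''.blk
  have e2 : (u * x * u⁻¹) * x' = x' * (u * x * u⁻¹) :=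
    (cp_comm h hx'.inT (hx.conj h u) (cp_blk h (hx.conj h u) hcx hx'.blk)).symm
  have e3 : u * (x * u * x⁻¹) = (u * x * u⁻¹) * x := by rw [hui, hxi]; group
  have e4 : x' * (u * (x * u * x⁻¹)) * x'⁻¹ = u * (x * u * x⁻¹) := by
    rw [e3]
    calc x' * (u * x * u⁻¹ * x) * x'⁻¹ = (x' * (u * x * u⁻¹)) * x * x'⁻¹ := by group
      _ = (u * x * u⁻¹) * (x' * x) * x'⁻¹ := by rw [← e2]; group
      _ = (u * x * u⁻¹) * (x * x') * x'⁻¹ := by rw [hx'.comm]
      _ = _ := by group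
  have e5 : (x' * u * x'⁻¹) * ((x * x') * u * (x * x')⁻¹) = u * (x * u * x⁻¹) := by
    rw [← e4, hx'.comm]; group
  obtain ⟨v, hv⟩ := hT u hu
  obtain ⟨L, hL⟩ := hv.inT
  refine (hv.symm h).nc hL fun l hl => ?_
  have c1 : l * (x * u * x⁻¹) = (x * u * x⁻¹) * l :=
    cp_RZ h (cp_of_ti h (hu.conj h x) k1 hv) (hL.le_RZ hl) (z_mem_RZ (hu.conj h x) h)
  have c2 : l * (x' * u * x'⁻¹) = (x' * u * x'⁻¹) * l :=
    cp_RZ h (cp_of_ti h (hu.conj h x') k2 hv) (hL.le_RZ hl) (z_mem_RZ (hu.conj h x') h)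
  have c3 : l * ((x * x') * u * (x * x')⁻¹) = ((x * x') * u * (x * x')⁻¹) * l :=
    cp_RZ h (cp_of_ti h (hu.conj h _) k3 hv) (hL.le_RZ hl) (z_mem_RZ (hu.conj h _) h)
  have c4 : l * (u * (x * u * x⁻¹)) = (u * (x * u * x⁻¹)) * l := by
    rw [← e5, ← mul_assoc, c2, mul_assoc, c3, ← mul_assoc]
  have c5 : (u * l) * (x * u * x⁻¹) = (l * u) * (x * u * x⁻¹) := by
    calc (u * l) * (x * u * x⁻¹) = u * (l * (x * u * x⁻¹)) := by group
      _ = (u * (x * u * x⁻¹)) * l := by rw [c1]; group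
      _ = l * (u * (x * u * x⁻¹)) := c4.symm
      _ = _ := by group
  exact mul_right_cancel c5

/-! ### (B3) -/

theorem rel_of_pow (n : ℕ) : ∀ z u, InZ Om z → InZ Om u → (z * u) ^ (2 ^ n) = 1 → Blk Om z u ∨ CP Om z u := by
  induction n with
  | zero =>
    intro z u hz hu h1
    rw [pow_zero, pow_one] at h1
    left
    rw [← hu.inv h, ← eq_inv_of_mul_eq_one_left h1]
    exact Blk.refl z
  | succ n ih =>
    intro z u hz hu h1
    have hui := hu.inv h
    have h2 : (z * (u * z * u⁻¹)) ^ (2 ^ n) = 1 := by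
      rw [hui]
      rw [pow_succ', pow_mul] at h1
      rw [← h1]
      congr 1
      rw [pow_two]
      group
    rcases ih z (u * z * u⁻¹) hz (hz.conj h u) h2 with h3 | h3
    · exact norm_blk h hT hu hz h3
    · exact (f1b h hT hu hz h3).elim

/-- **(B3)** -/
theorem two (hP : IsPGroup 2 P) (hx : x ∈ P) (hu : u ∈ P) (hxZ : InZ Om x) (huZ : InZ Om u) :
    Blk Om x u ∨ CP Om x u := by
  obtain ⟨n, hn⟩ := hP ⟨x * u, mul_mem hx hu⟩
  refine rel_of_pow h hT n x u hxZ huZ ?_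
  have h1 := congrArg (Subgroup.subtype P) hn
  simpa using h1

/-- literally the field `f1` of `CompFour.TB` -/
theorem f1b' : ∀ x u, InZ Om x → InZ Om u → ¬ CP Om u (x * u * x⁻¹) := fun _ _ hx hu => f1b h hT hx hu

/-- literally the field `two` of `CompFour.TB` -/
theorem two' : ∀ P : Subgroup G, IsPGroup 2 P → ∀ x ∈ P, ∀ u ∈ P, InZ Om x → InZ Om u → Blk Om x u ∨ CP Om x u :=
  fun _ hP _ hx _ hu hxZ huZ => two h hT hP hx hu hxZ huZ

/-! ### (B4) -/

end FBlk

end Cfsg.Agent.Cit.Nil.RI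
end

-- part: Cit/Nil/LO/SevA
section
prune_inst 0x10704100542210000000050210000004000005020063000139600402010e130080400f0048601c100010aa0400000060039800100218000020000000411c0080002a52068248a100210000003007180c00000000000000000000000000041000000000000
set_option linter.all false
open scoped Cfsg.Agent.FastGrp

/-!
# Lie odd, simply laced charts: section 7 (S1309, (n2)), the chart part

`alt_data` : `y` a root, `⟨y, r⟩ = 1`, `y` orthogonal to the elements `≠ ± r` of `F`, `M = X y ⊔ X (r - y) ⊔ X r`: the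
hypotheses of `alt_grp`, `alt_cent` for `M`, `N = X r`;
`sev_cls`, `sev` : the output `Sev` of section 7.
-/

set_option autoImplicit false
set_option linter.unusedSectionVars false
set_option linter.dupNamespace false

namespace Cfsg.Agent.LOC.SevA

open CoxeterSystem Cfsg.Agent.ChevalleyStructure.CoxeterGeom Cfsg.Agent.Tits.Roots Cfsg.Agent.Tits.Core
  Cfsg.Agent.Tits.RootComb Cfsg.Agent.Nodes.Comb Cfsg.Agent.Nodes.Reps Cfsg.Agent.Nodes.BNOf
  Cfsg.Agent.Nodes.RGDLib Cfsg.Agent.Nodes.PosPair Cfsg.Agent.Nodes.Chart Cfsg.Agent.Nodes.ClsNorm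
  Cfsg.Agent.Nodes.ChartLoc
  Cfsg.Agent.Nodes.Coroot Cfsg.Agent.Nodes.SimplyLaced Cfsg.Agent.Nodes.KindBase Cfsg.Agent.Nodes.OppDec
  Cfsg.Agent.LOC.ChartDefs Cfsg.Agent.LOC.Wt Cfsg.Agent.LOC.FormGrp
open Cfsg.Agent.LOC.SL Cfsg.Agent.LOC.Simply Cfsg.Agent.LOC.SevDef Cfsg.Agent.LOC.Phi
open scoped commutatorElement

variable {I W Y : Type*} [Fintype I] [DecidableEq I] [Group W] [Fintype W] [Group Y] {M : CoxeterMatrix I}
  {cs : CoxeterSystem M W} {A : I → I → ℤ} {h : IsCartan M A} {p : ℕ} {T : Subgroup Y} {n : I → Y}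
  {X : (I → ℤ) → Subgroup Y} {R : Set (I → ℤ)} {Z : (I → ℤ) → Subgroup Y} {z : (I → ℤ) → Y}
  {C : Cls cs h p T n X R Z z} {F : Set (I → ℤ)}


variable [Finite Y] [Fact p.Prime] (S : SLC C)
include S

/-- the hypotheses of `alt_grp` -/
structure AD {G : Type*} [Group G] (M N : Subgroup G) : Prop where
  le : N ≤ M
  cen : ∀ c ∈ N, ∀ m ∈ M, c * m = m * c
  comm : ∀ u ∈ M, ∀ v ∈ M, ⁅u, v⁆ ∈ N
  odd : Odd (Nat.card M)
  card : Nat.card M = Nat.card N * Nat.card N * Nat.card N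
  nd : ∀ u ∈ M, u ∉ N → ∀ c ∈ N, ∃ v ∈ M, ⁅u, v⁆ = c

theorem alt_data (hF : MaxF C F) {y r : I → ℤ}
    (hy : IsRoot cs h y) (hr : r ∈ F) (h1 : cpr cs h y r = 1) :
    AD (X y ⊔ X (r - y) ⊔ X r) (X r) := by
  have hrr := C.root r (hF.sub r hr)
  obtain ⟨hyr, a1, a2, a3, a4, a5⟩ := S.vroots hy hrr h1
  have hts : IsRoot cs h (r - y) := by
    have := hyr.neg
    rwa [neg_sub] at this
  have c1 : cpr cs h y (r - y) = -1 := by
    rw [cpr_symm cs h S.h4 S.h6 hy hts, cpr_sub cs h r y hy, a5, cpr_self cs h hy]; ring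
  have c1' : cpr cs h (r - y) y = -1 := by rw [cpr_symm cs h S.h4 S.h6 hts hy, c1]
  have d3 : cpr cs h (r - y) r = 1 := by rw [cpr_sub cs h r y hrr, h1, cpr_self cs h hrr]; ring
  have er : y + (r - y) = r := by abel
  have er' : r - y + y = r := by abel
  -- commutations
  have my : ∀ a ∈ X r, ∀ b ∈ X y, a * b = b * a := S.cm hrr hy (by omega)
  have mts : ∀ a ∈ X r, ∀ b ∈ X (r - y), a * b = b * a :=
    fun a ha b hb => (S.cm hts hrr (by omega) b hb a ha).symm
  have mr : ∀ a ∈ X r, ∀ b ∈ X r, a * b = b * a := S.cm hrr hrr (by rw [cpr_self cs h hrr]; decide)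
  have yab := S.cm hy hy (by rw [cpr_self cs h hy]; decide)
  have tab := S.cm hts hts (by rw [cpr_self cs h hts]; decide)
  have hcen : ∀ c ∈ X r, ∀ m ∈ X y ⊔ X (r - y) ⊔ X r, c * m = m * c := fun c hc =>
    sup_comm_of (sup_comm_of (my c hc) (mts c hc)) (mr c hc)
  have hcen' : ∀ c ∈ X r, ∀ m ∈ X y ⊔ X (r - y) ⊔ X r, m * c = c * m := fun c hc m hm => (hcen c hc m hm).symm
  have hV : X y ⊔ X (r - y) ⊔ X r ≤ VV cs h X r := by
    have key : ∀ {x : I → ℤ}, IsRoot cs h x → 0 < cpr cs h x r → X x ≤ VV cs h X r := fun {x} hx h5 =>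
      RGD.le_Sup (X := X) (S := {y | IsRoot cs h y ∧ 0 < form cs h y r}) ⟨hx, (cpr_pos_iff cs h x hrr).1 h5⟩
    exact sup_le (sup_le (key hy (by omega)) (key hts (by omega))) (key hrr (by rw [cpr_self cs h hrr]; decide))
  have hcomm : ∀ u ∈ X y ⊔ X (r - y) ⊔ X r, ∀ v ∈ X y ⊔ X (r - y) ⊔ X r, ⁅u, v⁆ ∈ X r := by
    intro u hu v hv
    rw [← S.ZX r hrr]
    exact commutator_VV_le C S.odd (S.all r hrr) (Subgroup.commutator_mem_commutator (hV hu) (hV hv))
  have hodd : Odd (Nat.card (X y ⊔ X (r - y) ⊔ X r : Subgroup Y)) :=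
    (odd_card_VV C S.odd r).of_dvd_nat (Subgroup.card_dvd_of_le hV)
  -- elements
  have hel : ∀ m ∈ X y ⊔ X (r - y) ⊔ X r, ∃ a ∈ X y, ∃ c ∈ X r, ∃ b ∈ X (r - y), m = a * c * b := by
    intro m hm
    have e1 : X y ⊔ X (r - y) ⊔ X r = (X y ⊔ X r) ⊔ X (r - y) := by
      rw [sup_assoc, sup_assoc, _root_.sup_comm (X (r - y))]
    rw [e1] at hm
    obtain ⟨g, hg, b, hb, rfl⟩ := exists_mul_of_nor (P := X y ⊔ X r) (Q := X (r - y)) (by
      intro q hq x hx
      obtain ⟨a, ha, c, hc', rfl⟩ := Nodes.MuSq.exists_mul_of_sup (fun a ha b hb => (my b hb a ha).symm) hx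
      have e2 : q * (a * c) * q⁻¹ = ⁅q, a⁆ * a * (q * c * q⁻¹) := by
        rw [commutatorElement_def]; group
      have e3 : q * c * q⁻¹ = c := by rw [← mts c hc' q hq]; group
      rw [e2, e3]
      have h5 := comm_mem C.rgd S.h4 S.h6 hts hy c1' hq ha
      rw [er'] at h5
      exact mul_mem (mul_mem ((le_sup_right : X r ≤ _) h5) ((le_sup_left : X y ≤ _) ha))
        ((le_sup_right : X r ≤ _) hc')) hm
    obtain ⟨a, ha, c, hc', rfl⟩ := Nodes.MuSq.exists_mul_of_sup (fun a ha b hb => (my b hb a ha).symm) hg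
    exact ⟨a, ha, c, hc', b, hb, rfl⟩
  have hcard : Nat.card (X y ⊔ X (r - y) ⊔ X r : Subgroup Y) =
      Nat.card (X r) * Nat.card (X r) * Nat.card (X r) := by
    have k1 : Nat.card (X y ⊔ X r : Subgroup Y) = Nat.card (X y) * Nat.card (X r) :=
      Nodes.CardSup.card_mul_of_disjoint le_sup_left le_sup_right
        (fun g hg => Nodes.MuSq.exists_mul_of_sup (fun a ha b hb => (my b hb a ha).symm) hg)
        (X_inf_X C.rgd hy hrr (ne_of_cpr hrr (by omega)))
    have k2 : Nat.card (X y ⊔ X (r - y) ⊔ X r : Subgroup Y) =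
        Nat.card (X y ⊔ X r : Subgroup Y) * Nat.card (X (r - y)) := by
      refine Nodes.CardSup.card_mul_of_disjoint (sup_le (le_sup_of_le_left le_sup_left) le_sup_right)
        (le_sup_of_le_left le_sup_right) (fun g hg => ?_) ?_
      · obtain ⟨a, ha, c, hc', b, hb, rfl⟩ := hel g hg
        exact ⟨a * c, mul_mem ((le_sup_left : X y ≤ _) ha) ((le_sup_right : X r ≤ _) hc'), b, hb, rfl⟩
      · rw [Subgroup.eq_bot_iff_forall]
        rintro g ⟨hg1, hg2⟩
        obtain ⟨a, ha, c, hc', rfl⟩ := Nodes.MuSq.exists_mul_of_sup (fun a ha b hb => (my b hb a ha).symm) hg1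
        have ha1 : a = 1 := S.eq_one hy hts c1 ha (by
          intro v hv
          have e1 : (a * c) * v = v * (a * c) := tab _ hg2 v hv
          have e2 : c * v = v * c := mts c hc' v hv
          have e3 : a * v * c = v * a * c := by
            calc a * v * c = a * (c * v) := by rw [e2]; group
              _ = v * a * c := by rw [← mul_assoc, e1]; group
          exact mul_right_cancel e3)
        rw [ha1, one_mul] at hg2 ⊢
        have h5 : c ∈ X r ⊓ X (r - y) := ⟨hc', hg2⟩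
        rw [X_inf_X C.rgd hrr hts (ne_of_cpr hts (by
          rw [cpr_symm cs h S.h4 S.h6 hrr hts, d3]; decide)), Subgroup.mem_bot] at h5
        exact h5
    rw [k2, k1, S.card_eq hy hrr h1, S.card_eq hts hrr d3]
  refine ⟨le_sup_right, hcen, hcomm, hodd, hcard, ?_⟩
  intro u hu huN q hq
  obtain ⟨a, ha, c, hc', b, hb, rfl⟩ := hel u hu
  have hc1 : ∀ v, v ∈ X y ⊔ X (r - y) ⊔ X r → ⁅c, v⁆ = 1 := fun v hv => by
    rw [commutatorElement_eq_one_iff_mul_comm]
    exact hcen c hc' v hv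
  by_cases ha1 : a = 1
  · have hb1 : b ≠ 1 := by
      rintro rfl
      exact huN (by rw [ha1, one_mul, mul_one]; exact hc')
    obtain ⟨v, hv, hve⟩ := nd C.rgd S.h4 S.h6 hts hy c1' hb hb1 (w := q) (by rwa [er'])
    have hvM : v ∈ X y ⊔ X (r - y) ⊔ X r := (le_sup_left : X y ⊔ X (r - y) ≤ _) ((le_sup_left : X y ≤ _) hv)
    refine ⟨v, hvM, ?_⟩
    rw [ha1, one_mul, comm_mul_left (by rw [hve]; exact mr q hq c hc'), hve, hc1 v hvM, mul_one]
  · obtain ⟨v, hv, hve⟩ := nd C.rgd S.h4 S.h6 hy hts c1 ha ha1 (w := q) (by rwa [er])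
    have hvM : v ∈ X y ⊔ X (r - y) ⊔ X r :=
      (le_sup_left : X y ⊔ X (r - y) ≤ _) ((le_sup_right : X (r - y) ≤ _) hv)
    refine ⟨v, hvM, ?_⟩
    have hb1 : ⁅b, v⁆ = 1 := by
      rw [commutatorElement_eq_one_iff_mul_comm]
      exact tab b hb v hv
    have e1 : ⁅a * c, v⁆ = q := by
      rw [comm_mul_left (by rw [hc1 v hvM]; group), hc1 v hvM, one_mul, hve]
    rw [comm_mul_left (by rw [hb1]; group), hb1, one_mul, e1]

/-! ### The exponent -/

theorem exists_p {y r : I → ℤ} (hy : IsRoot cs h y) (hrr : IsRoot cs h r) (h1 : cpr cs h y r = 1) :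
    ∀ c ∈ X y, c ^ p = 1 := by
  have hyr := two_form_cpr cs h y hrr
  rw [h1, one_mul] at hyr
  have hee := form_self_eq cs h S.h4 S.h6 hy hrr (by rw [h1]; decide)
  have hpos := form_pos cs h hrr.ne_zero
  have e1 : y ≠ r := by
    rintro rfl
    rw [cpr_self cs h hy] at h1
    exact absurd h1 (by decide)
  have e2 : y ≠ -r := by
    rintro rfl
    rw [cpr_neg cs h r hrr, cpr_self cs h hrr] at h1
    exact absurd h1 (by decide)
  have hrsub := isRoot_sub S.h4 S.h6 hy hrr h1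
  have H : Tor.TH C r y := by
    refine ⟨S.all r hrr, hy, hyr, by omega, fun w hw => ?_, fun w hw => ?_, (S.ZX r hrr).symm,
      (S.ZX _ hrr.neg).symm⟩
    · have h3 := (btwn_cases S.h4 S.h6 hrr.neg hy (fun e => e2 e.symm) (fun e => e1 (neg_injective e.symm)) hw).2
      rw [h3, form_add_left, form_neg_left]
      omega
    · have h3 := (btwn_cases S.h4 S.h6 hrr hrsub (fun e => ?_) (fun e => ?_) hw).2
      · rw [h3, form_add_left, form_sub_left]
        omega
      · have := congrArg (fun t => form cs h t r) e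
        simp only [form_sub_left] at this
        omega
      · have := congrArg (fun t => form cs h t r) e
        simp only [form_neg_left, form_sub_left] at this
        omega
  have hcard : Nat.card (X y) = Nat.card (Z r) := by
    rw [S.ZX r hrr]
    exact S.card_eq hy hrr h1
  -- an element of order `p`
  obtain ⟨w, hw⟩ := Subgroup.ne_bot_iff_exists_ne_one.1 (Nodes.Bruhat.X_ne_bot C.rgd hy)
  have hpg : IsPGroup p (X y) := C.rgd.pgrp' hy
  have hdvd : p ∣ Nat.card (X y) := by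
    have hnt : Nontrivial (X y) := ⟨⟨w, 1, hw⟩⟩
    obtain ⟨k, hk, hk'⟩ := (hpg.nontrivial_iff_card).1 hnt
    rw [hk']
    exact dvd_pow_self p hk.ne'
  obtain ⟨x, hx⟩ := exists_prime_orderOf_dvd_card' p hdvd
  have hx1 : (x : Y) ≠ 1 := by
    intro e
    have : x = 1 := Subtype.ext e
    rw [this, orderOf_one] at hx
    exact (Fact.out : p.Prime).one_lt.ne hx
  have hxp : (x : Y) ^ p = 1 := by
    have := pow_orderOf_eq_one x
    rw [hx] at this
    exact congrArg Subtype.val this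
  intro c hc
  by_cases hc1 : c = 1
  · rw [hc1, one_pow]
  obtain ⟨t, -, rfl⟩ := H.trans hcard x.2 hx1 hc hc1
  rw [conj_pow, hxp]
  group

/-! ### Section 7 -/

theorem sev_cls (hF : MaxF C F)
    (irr : ∀ J : Set I, J.Nonempty → J ≠ Set.univ → ∃ a ∈ J, ∃ b, b ∉ J ∧ M a b ≠ 2)
    (nb : ∀ x, IsRoot cs h x → ∃ y, IsRoot cs h y ∧ cpr cs h x y = 1) : Sev C F := by
  intro K e g hK hc hgo hgn hgK hgX hnt
  refine triv_of_fx C fun y hy => ?_
  obtain ⟨a1, a2⟩ := act_of_not_triv S hF hK hc irr hnt hy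
  by_cases hone : OneF cs h F y
  swap
  · intro v hv
    refine hgX y hy v hv ?_
    have := a2 hone v hv
    calc e * v = e * v * e⁻¹ * e := by group
      _ = v * e := by rw [this]
  obtain ⟨r, hr, hr1, hr0⟩ := hone
  have hrr := C.root r (hF.sub r hr)
  have hD := alt_data S hF hy hr hr1
  have hgr : ∀ s ∈ F, ∀ a ∈ Z s, g * a = a * g := by
    intro s hs a ha
    have hss := C.root s (hF.sub s hs)
    exact hgX s hss a (by rw [← S.ZX s hss]; exact ha) (hc.comm s hs a ha e hK.mem)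
  have hcg : Cen C F (Subgroup.zpowers g) := by
    refine ⟨fun s hs a ha k hk => ?_, fun k hk => ?_⟩
    · have h1 : Subgroup.zpowers g ≤ Subgroup.centralizer {a} := by
        rw [Subgroup.zpowers_le, Subgroup.mem_centralizer_singleton_iff]
        exact hgr s hs a ha
      exact Subgroup.mem_centralizer_singleton_iff.1 (h1 hk)
    · exact (Subgroup.zpowers_le.2 hgn) hk
  have hM := mm_one S.h4 S.h6 hF S.all hy hr hr1 hr0 (X := X)
  have hN := wt_nor C S.hT hF.sub hr ((cpr_pos_iff cs h y hrr).1 (by omega)) hc (X := X)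
  have hN' := wt_nor C S.hT hF.sub hr ((cpr_pos_iff cs h y hrr).1 (by omega)) hcg (X := X)
  rw [hM] at hN hN'
  -- `e` inverts `M / X r`
  have hyr := isRoot_sub S.h4 S.h6 hy hrr hr1
  have hts : IsRoot cs h (r - y) := by
    have := hyr.neg
    rwa [neg_sub] at this
  have hone' : OneF cs h F (r - y) := by
    refine ⟨r, hr, ?_, fun t ht n1 n2 => ?_⟩
    · rw [cpr_sub cs h r y hrr, cpr_self cs h hrr, hr1]; ring
    · have htt := C.root t (hF.sub t ht)
      rw [cpr_sub cs h r y htt, hr0 t ht n1 n2, sub_zero]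
      exact (cpr_zero_iff cs h r htt).2 (hF.orth r hr t ht n1 n2)
  have hi1 := a1 ⟨r, hr, hr1, hr0⟩
  have hi2 := (act_of_not_triv S hF hK hc irr hnt hts).1 hone'
  have hcenr : ∀ c ∈ X r, e * c = c * e := fun c hc' => hc.comm r hr c (by rw [S.ZX r hrr]; exact hc') e hK.mem
  have hinv : ∀ m ∈ X y ⊔ X (r - y) ⊔ X r, e * m * e⁻¹ * m ∈ X r := by
    -- the set of these elements is a subgroup
    let Q : Subgroup Y :=
      { carrier := {m | m ∈ X y ⊔ X (r - y) ⊔ X r ∧ e * m * e⁻¹ * m ∈ X r}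
        one_mem' := ⟨one_mem _, by rw [mul_one, mul_one, mul_inv_cancel]; exact one_mem _⟩
        mul_mem' := by
          rintro m m' ⟨hm, h1⟩ ⟨hm', h1'⟩
          refine ⟨mul_mem hm hm', ?_⟩
          have hem : e * m * e⁻¹ ∈ X y ⊔ X (r - y) ⊔ X r := conj_mem (hN hK.mem) hm
          have hem' : e * m' * e⁻¹ ∈ X y ⊔ X (r - y) ⊔ X r := conj_mem (hN hK.mem) hm'
          -- `e m m' e⁻¹ m m' = (e m e⁻¹) (e m' e⁻¹) m m'`
          have e1 : e * (m * m') * e⁻¹ * (m * m') =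
              (e * m * e⁻¹ * m) * (m⁻¹ * (⁅e * m' * e⁻¹, m⁆ * m * (e * m' * e⁻¹ * m'))) := by
            rw [commutatorElement_def]; group
          have e2 : m⁻¹ * (⁅e * m' * e⁻¹, m⁆ * m * (e * m' * e⁻¹ * m')) =
              ⁅e * m' * e⁻¹, m⁆ * (e * m' * e⁻¹ * m') := by
            have h2 := hD.comm _ hem' m hm
            rw [hD.cen _ h2 m hm]; group
          rw [e1, e2]
          exact mul_mem h1 (mul_mem (hD.comm _ hem' m hm) h1')
        inv_mem' := by
          rintro m ⟨hm, h1⟩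
          refine ⟨inv_mem hm, ?_⟩
          have hem : e * m * e⁻¹ ∈ X y ⊔ X (r - y) ⊔ X r := conj_mem (hN hK.mem) hm
          have e1 : e * m⁻¹ * e⁻¹ * m⁻¹ = (m * (e * m * e⁻¹ * m) * m⁻¹)⁻¹ := by group
          rw [e1]
          refine inv_mem ?_
          rw [← hD.cen _ h1 m hm, mul_inv_cancel_right]
          exact h1 }
    have hle : X y ⊔ X (r - y) ⊔ X r ≤ Q := by
      refine sup_le (sup_le ?_ ?_) ?_
      · intro m hm
        refine ⟨(le_sup_of_le_left le_sup_left : X y ≤ X y ⊔ X (r - y) ⊔ X r) hm, ?_⟩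
        rw [hi1 m hm, inv_mul_cancel]
        exact one_mem _
      · intro m hm
        refine ⟨(le_sup_of_le_left le_sup_right : X (r - y) ≤ X y ⊔ X (r - y) ⊔ X r) hm, ?_⟩
        rw [hi2 m hm, inv_mul_cancel]
        exact one_mem _
      · intro m hm
        refine ⟨(le_sup_right : X r ≤ X y ⊔ X (r - y) ⊔ X r) hm, ?_⟩
        rw [hcenr m hm, mul_inv_cancel_right]
        exact mul_mem hm hm
    intro m hm
    exact (hle hm).2
  obtain ⟨y', hy', hy1'⟩ := nb r hrr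
  have key := AltX.alt_cent S.odd (exists_p S hrr hy' hy1') hD.le hD.cen hD.comm hD.odd hD.card hD.nd hK hN
    (fun k hk c hc' => hc.comm r hr c (by rw [S.ZX r hrr]; exact hc') k hk) hinv hgo
    (hN' (Subgroup.mem_zpowers g)) (fun c hc' => hgr r hr c (by rw [S.ZX r hrr]; exact hc')) hgK
  intro v hv
  exact key v ((le_sup_of_le_left le_sup_left : X y ≤ X y ⊔ X (r - y) ⊔ X r) hv)

/-! ### Charts -/

section chart

variable {G : Type*} [Group G] [Finite G] {Om : Set (Subgroup G)} {q : ℕ} {L : Subgroup G}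

omit S in
/-- **Section 7 for the simply laced types.** -/
theorem sev (c : Chart Om q L) {τ : Ty} (hτ : c.IsTy τ) (hs : Simply τ) (F : Set (c.I → ℤ))
    (hF : MaxF c.cls F) : Sev c.cls F := by
  have : Fact q.Prime := ⟨c.prime⟩
  obtain ⟨f1, f2, f3⟩ := simply_facts τ hs
  obtain ⟨e, he, hR⟩ := hτ
  have hsym : ∀ i j, c.A i j = c.A j i := by
    intro i j
    have := τ.len_rel (e i) (e j)
    rw [f1, f1, mul_one, mul_one] at this
    rw [he, he, this]
  have hne : ∀ {i j : c.I} {m : ℕ}, m ≠ 1 → c.M i j = m → i ≠ j := by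
    rintro i j m hm h0 rfl
    exact hm (h0.symm.trans (c.M.diagonal i))
  have h4 : ∀ i j, c.M i j ≠ 4 := by
    intro i j h0
    have h1 := hsym i j
    rcases c.h.rel i j (hne (by decide) h0) with ⟨a, -⟩ | ⟨a, -⟩ | ⟨-, ⟨a, b⟩ | ⟨a, b⟩⟩ | ⟨a, -⟩ <;> omega
  have h6 : ∀ i j, c.M i j ≠ 6 := by
    intro i j h0
    have h1 := hsym i j
    rcases c.h.rel i j (hne (by decide) h0) with ⟨a, -⟩ | ⟨a, -⟩ | ⟨a, -⟩ | ⟨-, ⟨a, b⟩ | ⟨a, b⟩⟩ <;> omega
  have h2 : ∃ i j : c.I, i ≠ j := by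
    refine ⟨e.symm ⟨0, by omega⟩, e.symm ⟨1, by omega⟩, fun h0 => ?_⟩
    have := e.symm.injective h0
    simp at this
  refine sev_cls (slc c.cls h4 h6 c.odd c.irr h2 (fun i => (hR i).2 (f2 _)) ?_) hF c.irr
    fun x hx => exists_nb h4 h6 c.irr h2 hx
  rw [c.gen]
  exact c.T_le

end chart

end Cfsg.Agent.LOC.SevA
end

-- part: Cit/Nil/LO/SevCn
section
prune_inst 0x7000001022100000000500100000040000000200000000f8600c02014232000004080028a00c1200008c002000002003980010023800000000000000040000002802068048a000000000000004000000000000000000000000000000041000000000000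
set_option linter.all false
open scoped Cfsg.Agent.FastGrp

/-!
# S1309, section 7 of LieOdd: charts of type `C n`, `n ≥ 2`

* `plane_g` : a plane `Pl r y`; `a`, `g` isometries of the nonsingular form `sg` on `X q / Z q`;
* `no_three`, `exists_scalar` : some `k ∈ K` of order 4 acts on `X y` as `± 1`;
* `sev` : the output.
-/

set_option autoImplicit false
set_option linter.unusedSectionVars false
set_option linter.dupNamespace false

namespace Cfsg.Agent.LOC.SevCn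

open CoxeterSystem Cfsg.Agent.ChevalleyStructure.CoxeterGeom Cfsg.Agent.Tits.Roots Cfsg.Agent.Tits.Core
  Cfsg.Agent.Tits.RootComb Cfsg.Agent.Nodes.Comb Cfsg.Agent.Nodes.SubComb Cfsg.Agent.Nodes.Reps
  Cfsg.Agent.Nodes.Coroot Cfsg.Agent.Nodes.PosPair Cfsg.Agent.Nodes.BNOf Cfsg.Agent.Nodes.RGDLib
  Cfsg.Agent.Nodes.Chart Cfsg.Agent.Nodes.ClsNorm Cfsg.Agent.Nodes.ChartLoc Cfsg.Agent.Nodes.ChartFrame
  Cfsg.Agent.Nodes.Bruhat Cfsg.Agent.Nodes.CenVV Cfsg.Agent.LOC.ChartDefs Cfsg.Agent.LOC.LemS Cfsg.Agent.LOC.Wt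
  Cfsg.Agent.LOC.ShortAll Cfsg.Agent.LOC.CnNd Cfsg.Agent.LOC.StdChart Cfsg.Agent.LOC.TypeCn
open Cfsg.Agent.Cit.ParabSL2 Cfsg.Agent.Lib.SL2Mat Cfsg.Agent.LOC.BetaTor
open scoped commutatorElement

variable {I W Y : Type*} [Fintype I] [DecidableEq I] [Group W] [Fintype W] [Group Y] {M : CoxeterMatrix I}
  {cs : CoxeterSystem M W} {A : I → I → ℤ} {h : IsCartan M A} {p : ℕ} {T : Subgroup Y} {n : I → Y}
  {X : (I → ℤ) → Subgroup Y} {R : Set (I → ℤ)} {Z : (I → ℤ) → Subgroup Y} {z : (I → ℤ) → Y}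
  {r y : I → ℤ}

/-! ### The plane -/

section plane

variable (P : Pl cs h R r y) (C : Cls cs h p T n X R Z z)

include P C

theorem exists_uk' {u : Y} (hu : u ∈ X y) (hu1 : u ≠ 1) :
    ∃ k, UK X Z r y u k ∧ ∀ x ∈ X (r - (2 : ℤ) • y), k * x * k⁻¹ ∈ Z r → x ∈ Z (r - (2 : ℤ) • y) := by
  obtain ⟨w, k, hk, hw, H⟩ := P.conj C hu hu1
  have h3 := Nodes.ClsNorm.conj_Z C hk (P.memq C)
  rw [P.rep_q C hw] at h3
  refine ⟨k, ⟨hu, hu1, fun x hx => (H x hx).1, fun x hx => ?_, fun x hx => ?_⟩, fun x _ hx => ?_⟩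
  · rw [← h3]
    exact conj_mem_cj.2 hx
  · obtain ⟨-, c, hc, e⟩ := H x hx
    have : cc u k x = c := by
      unfold cc
      rw [e]; group
    rwa [this]
  · rw [← h3] at hx
    exact conj_mem_cj.1 hx

variable {u k : Y} (D : UK X Z r y u k)

include D

/-- an element centralising `u` and `X w` is an isometry -/
theorem sg_cj {a : Y} (hau : a * u = u * a) (haw : ∀ c ∈ X (r - y), a * c = c * a)
    (nq : ∀ x ∈ X (r - (2 : ℤ) • y), a * x * a⁻¹ ∈ X (r - (2 : ℤ) • y)) (nr : ∀ x ∈ X r, a * x * a⁻¹ ∈ X r) {x x' : Y}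
    (hx : x ∈ X (r - (2 : ℤ) • y)) (hx' : x' ∈ X (r - (2 : ℤ) • y)) :
    sg k (a * x * a⁻¹) (a * x' * a⁻¹) = sg k x x' := by
  have hc := D.c x hx
  have e1 : u * (a * x * a⁻¹) * u⁻¹ = (a * x * a⁻¹) * cc u k x * (a * (k * x * k⁻¹) * a⁻¹) := by
    have h1 := haw _ hc
    calc u * (a * x * a⁻¹) * u⁻¹ = (u * a) * x * (u * a)⁻¹ := by group
      _ = (a * u) * x * (a * u)⁻¹ := by rw [hau]
      _ = a * (u * x * u⁻¹) * a⁻¹ := by group
      _ = a * (x * cc u k x * (k * x * k⁻¹)) * a⁻¹ := by rw [cc_eq u k x]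
      _ = (a * x * a⁻¹) * (a * cc u k x) * a⁻¹ * (a * (k * x * k⁻¹) * a⁻¹) := by group
      _ = (a * x * a⁻¹) * (cc u k x * a) * a⁻¹ * (a * (k * x * k⁻¹) * a⁻¹) := by rw [h1]
      _ = _ := by group
  have e2 := (cc_of_eq P C D (nq x hx) hc (nr _ (D.d x hx)) e1).2
  have hs := haw _ (sg_mem P C D hx hx')
  have e3 : sg k (a * x * a⁻¹) (a * x' * a⁻¹) = a * sg k x x' * a⁻¹ := by
    unfold sg
    rw [e2]
    simp only [commutatorElement_def]; group
  rw [e3, hs]; group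

variable [Finite Y] [Fact p.Prime] (hp2 : p ≠ 2)

include hp2

/-- **nonsingularity** -/
theorem sg_one (hexp : ∀ x ∈ Z r, x ^ p = 1)
    (hk : ∀ x ∈ X (r - (2 : ℤ) • y), k * x * k⁻¹ ∈ Z r → x ∈ Z (r - (2 : ℤ) • y)) {x x' : Y}
    (hx : x ∈ X (r - (2 : ℤ) • y)) (hx' : x' ∈ X (r - (2 : ℤ) • y)) (h0 : sg k x x' = 1) :
    x ∈ Z (r - (2 : ℤ) • y) ∨ x' ∈ Z (r - (2 : ℤ) • y) := by
  by_contra hcon
  push Not at hcon
  unfold sg at h0
  rw [commutatorElement_eq_one_iff_mul_comm] at h0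
  refine hcon.1 (hk x hx (nd P C hp2 hexp hx' hcon.2 (D.d x hx) ?_))
  rw [← mul_inv_rev x', ← mul_inv_rev _ x'] at h0
  exact inv_injective h0

omit D in
omit k u in
theorem plane_g (hexp : ∀ x ∈ Z r, x ^ p = 1) {e a b g : Y}
    (heq : ∀ x ∈ X (r - (2 : ℤ) • y), e * x * e⁻¹ = z (r - (2 : ℤ) • y) * x * z (r - (2 : ℤ) • y))
    (haa : a * a = e) (hay : ∀ c ∈ X y, a * c = c * a) (haw : ∀ c ∈ X (r - y), a * c = c * a)
    (haq : ∀ x ∈ X (r - (2 : ℤ) • y), a * x * a⁻¹ ∈ X (r - (2 : ℤ) • y))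
    (haq' : ∀ x ∈ X (r - (2 : ℤ) • y), a⁻¹ * x * a ∈ X (r - (2 : ℤ) • y))
    (har : ∀ x ∈ X r, a * x * a⁻¹ ∈ X r) (haZ : ∀ x ∈ Z (r - (2 : ℤ) • y), a * x = x * a)
    (hbq : ∀ x ∈ X (r - (2 : ℤ) • y), b * x * b⁻¹ ∈ X (r - (2 : ℤ) • y))
    (hbZ : ∀ x ∈ Z (r - (2 : ℤ) • y), b * x = x * b) (hba : b * a * b⁻¹ = a⁻¹) (hbg : b * g = g * b)
    (hgy : ∀ c ∈ X y, g * c = c * g) (hgw : ∀ c ∈ X (r - y), g * c = c * g)
    (hgq : ∀ x ∈ X (r - (2 : ℤ) • y), g * x * g⁻¹ ∈ X (r - (2 : ℤ) • y))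
    (hgr : ∀ x ∈ X r, g * x * g⁻¹ ∈ X r) (hgZ : ∀ x ∈ Z (r - (2 : ℤ) • y), g * x = x * g) (hag : a * g = g * a)
    (hg : Odd (orderOf g)) : ∀ x ∈ X (r - (2 : ℤ) • y), g * x = x * g := by
  obtain ⟨u, hu, hu1⟩ : ∃ u ∈ X y, u ≠ 1 := by
    by_contra hcon
    push Not at hcon
    exact Nodes.StdConn.X_ne_bot C P.root ((Subgroup.eq_bot_iff_forall _).2 hcon)
  obtain ⟨k, D, hk⟩ := exists_uk' P C hu hu1
  have hq := P.memq C
  have hle := C.le _ hq
  have hZc : ∀ n ∈ Z (r - (2 : ℤ) • y), ∀ x ∈ X (r - (2 : ℤ) • y), x * n = n * x := fun n hn x hx =>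
    C.cent _ hq _ P.rootq (P.swap C).L.pos.le _ hx _ hn
  have cjZ : ∀ {c : Y}, (∀ x ∈ Z (r - (2 : ℤ) • y), c * x = x * c) → ∀ x ∈ Z (r - (2 : ℤ) • y), c * x * c⁻¹ = x := by
    intro c hc x hx
    rw [hc x hx]; group
  have key := NdField.grp_form (p := p) hp2 (P := X (r - (2 : ℤ) • y)) (N := Z (r - (2 : ℤ) • y))
    (A := X (r - y)) (C.rgd.pgrp' P.rootq)
    (fun x hx x' hx' => by
      have h1 : (x * x')⁻¹ * (x' * x) = ⁅x'⁻¹, x⁻¹⁆ := by rw [commutatorElement_def]; group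
      rw [h1]
      exact commutator_VV_le C hp2 hq (Subgroup.commutator_mem_commutator
        ((P.swap C).X_r_le (inv_mem hx')) ((P.swap C).X_r_le (inv_mem hx)))) hle
    (fun n hn x hx => by
      rw [hZc n hn x hx, mul_inv_cancel_right]
      exact hn)
    (fun a ha b hb => P.abw C ha hb) (sg k)
    (fun x hx x' hx' => sg_mem P C D hx hx') (fun x hx x' hx' v hv => sg_left P C D hx hx' hv)
    (fun v hv x hx x' hx' => sg_right P C D hx hx' hv) (fun x hx v hv => sg_Zl P C D hx hv)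
    (fun x hx v hv => sg_Zr P C D hx hv) (fun x hx x' hx' h0 => sg_one P C D hp2 hexp hk hx hx' h0)
    (a := a) (g := g) (k := b) haq haq' (fun x hx => by rw [cjZ haZ x hx]; exact hx) hgq
    (fun x hx => by rw [cjZ hgZ x hx]; exact hx) hbq (fun x hx => by rw [cjZ hbZ x hx]; exact hx)
    (fun x _ hx => by
      have h1 : b⁻¹ * (b * x * b⁻¹) * b = b * x * b⁻¹ := by
        rw [mul_assoc, ← hbZ _ hx]; group
      have h2 : x = b * x * b⁻¹ := by
        rw [← h1]; group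
      rw [h2]; exact hx)
    (fun x hx => by
      have h1 : a * (a * x * a⁻¹) * a⁻¹ = z (r - (2 : ℤ) • y) * x * z (r - (2 : ℤ) • y) := by
        rw [← heq x hx, ← haa]; group
      rw [h1]
      have h2 := C.z_inv_self _ hq x hx
      have h3 := hZc _ h2 x hx
      have h4 : x * (z (r - (2 : ℤ) • y) * x * z (r - (2 : ℤ) • y)) =
          z (r - (2 : ℤ) • y) * x * z (r - (2 : ℤ) • y) * x := by
        calc x * (z (r - (2 : ℤ) • y) * x * z (r - (2 : ℤ) • y)) =
            x * (z (r - (2 : ℤ) • y) * x * z (r - (2 : ℤ) • y) * x) * x⁻¹ := by group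
          _ = z (r - (2 : ℤ) • y) * x * z (r - (2 : ℤ) • y) * x * x * x⁻¹ := by rw [h3]
          _ = _ := by group
      rw [h4]; exact h2)
    hag hba hbg hg (fun x hx x' hx' => sg_cj P C D (hay u hu) haw haq har hx hx')
    (fun x hx x' hx' => sg_cj P C D (hgy u hu) hgw hgq hgr hx hx')
  intro x hx
  have hζ := key x hx
  set ζ := x⁻¹ * (g * x * g⁻¹) with hζd
  have e1 : g * x * g⁻¹ = x * ζ := by rw [hζd]; group
  have hη := C.z_inv_self _ hq x hx
  set η := z (r - (2 : ℤ) • y) * x * z (r - (2 : ℤ) • y) * x with hηd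
  have e2 : e * x * e⁻¹ = η * x⁻¹ := by rw [heq x hx, hηd]; group
  have hge : g * e = e * g := by
    rw [← haa, ← mul_assoc, ← hag, mul_assoc, ← hag, mul_assoc]
  have heζ : e * ζ * e⁻¹ = ζ := by
    have h1 := cjZ haZ ζ hζ
    rw [← haa]
    calc a * a * ζ * (a * a)⁻¹ = a * (a * ζ * a⁻¹) * a⁻¹ := by group
      _ = ζ := by rw [h1, h1]
  have hgη := cjZ hgZ η hη
  have e3 : ζ * ζ = 1 := by
    have h1 : g * (e * x * e⁻¹) * g⁻¹ = e * (g * x * g⁻¹) * e⁻¹ := by
      calc g * (e * x * e⁻¹) * g⁻¹ = (g * e) * x * (g * e)⁻¹ := by group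
        _ = (e * g) * x * (e * g)⁻¹ := by rw [hge]
        _ = _ := by group
    have h2 : g * (e * x * e⁻¹) * g⁻¹ = η * (ζ⁻¹ * x⁻¹) := by
      rw [e2]
      calc g * (η * x⁻¹) * g⁻¹ = (g * η * g⁻¹) * (g * x * g⁻¹)⁻¹ := by group
        _ = η * (x * ζ)⁻¹ := by rw [hgη, e1]
        _ = _ := by group
    have h3 : e * (g * x * g⁻¹) * e⁻¹ = η * x⁻¹ * ζ := by
      rw [e1]
      calc e * (x * ζ) * e⁻¹ = (e * x * e⁻¹) * (e * ζ * e⁻¹) := by group
        _ = η * x⁻¹ * ζ := by rw [e2, heζ]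
    rw [h2, h3] at h1
    have h4 : ζ⁻¹ * x⁻¹ = x⁻¹ * ζ := by
      have := mul_left_cancel (h1.trans (mul_assoc _ _ _))
      exact this
    have h5 := hZc ζ hζ x⁻¹ (inv_mem hx)
    rw [h5] at h4
    have h6 := mul_right_cancel h4
    nth_rewrite 1 [← h6]
    exact inv_mul_cancel ζ
  have e4 : ζ = 1 := eq_one_of_sq hp2 (C.rgd.pgrp' P.rootq) (hle hζ) e3
  rw [e4, mul_one] at e1
  calc g * x = (g * x * g⁻¹) * g := by group
    _ = x * g := by rw [e1]

end plane

/-! ### The characters of `K` on `X y` -/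

section char

/-- a ternary quadratic form over a finite field is isotropic -/
theorem ternary {𝔽 : Type*} [Field 𝔽] [Fintype 𝔽] (hodd : Odd (Fintype.card 𝔽)) {β₁ β₂ β₃ : 𝔽} (h1 : β₁ ≠ 0)
    (h2 : β₂ ≠ 0) : ∃ a b : 𝔽, a ^ 2 * β₁ + b ^ 2 * β₂ + β₃ = 0 := by
  obtain ⟨a, b, hab⟩ := FiniteField.exists_root_sum_quadratic (R := 𝔽)
    (f := Polynomial.C β₁ * Polynomial.X ^ 2 + Polynomial.C 0 * Polynomial.X + Polynomial.C β₃)
    (g := Polynomial.C β₂ * Polynomial.X ^ 2 + Polynomial.C 0 * Polynomial.X + Polynomial.C 0)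
    (Polynomial.degree_quadratic h1) (Polynomial.degree_quadratic h2) (Nat.odd_iff.1 hodd)
  refine ⟨a, b, ?_⟩
  simp only [Polynomial.eval_add, Polynomial.eval_mul, Polynomial.eval_C, Polynomial.eval_pow, Polynomial.eval_X] at hab
  linear_combination hab

variable (P : Pl cs h R r y) (C : Cls cs h p T n X R Z z) {𝔽 : Type*} [Field 𝔽]
  {er : Matrix.SpecialLinearGroup (Fin 2) 𝔽 ≃* ↥(Z r ⊔ Z (-r))} {K : Subgroup Y} {e ζ : Y}

include P C

/-- `⟨Z r, Z (-r)⟩` centralises `Z q` -/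
theorem J_comm {g a : Y} (hg : g ∈ Z r ⊔ Z (-r)) (ha : a ∈ Z (r - (2 : ℤ) • y)) : g * a = a * g := by
  have hq := P.memq C
  have h1 : Z r ⊔ Z (-r) ≤ Subgroup.centralizer (Z (r - (2 : ℤ) • y) : Set Y) := by
    refine sup_le (fun b hb => ?_) (fun b hb => ?_)
    · rw [Subgroup.mem_centralizer_iff]
      intro c hc
      exact (C.cent _ hq r P.L.root (by rw [P.frq]) b (C.le r P.mem hb) c hc).symm
    · rw [Subgroup.mem_centralizer_iff]
      intro c hc
      exact (C.cent _ hq (-r) P.L.root.neg (by rw [form_neg_left, P.frq, neg_zero]) b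
        (C.le _ (neg_mem C P.mem) hb) c hc).symm
  exact (Subgroup.mem_centralizer_iff.1 (h1 hg) a ha).symm

/-- scaling by the torus of `⟨Z r, Z (-r)⟩` -/
theorem scal (hζ : ζ ∈ Z (r - (2 : ℤ) • y)) (hTT : ∀ t ∈ TT er, ∀ u ∈ X y, t * u * t⁻¹ ∈ X y)
    (hKr : ∀ k ∈ K, ∀ a ∈ Z r ⊔ Z (-r), k * a = a * k) {v : Y} (hv : v ∈ X y) {β : 𝔽}
    (hβ : ⁅v, ⁅ζ⁻¹, v⁆⁆ = (er (up β) : Y)) (l : 𝔽) : ∃ v' ∈ X y, ⁅v', ⁅ζ⁻¹, v'⁆⁆ = (er (up (l ^ 2 * β)) : Y) ∧
      (∀ k ∈ K, k * v * k⁻¹ = v → k * v' * k⁻¹ = v') ∧ ∀ k ∈ K, k * v * k⁻¹ = v⁻¹ → k * v' * k⁻¹ = v'⁻¹ := by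
  by_cases hl : l = 0
  · refine ⟨1, one_mem _, ?_, fun k _ _ => by group, fun k _ _ => by group⟩
    rw [hl, zero_pow two_ne_zero, zero_mul, up_zero, map_one, commutatorElement_one_left]
    rfl
  · have ht : (er (dg l hl) : Y) ∈ TT er := ⟨l, hl, rfl⟩
    have htJ := TT_le er ht
    set t := (er (dg l hl) : Y) with htd
    have htζ := J_comm P C htJ hζ
    refine ⟨t * v * t⁻¹, hTT t ht v hv, ?_, fun k hk h1 => ?_, fun k hk h1 => ?_⟩
    · have e1 : ⁅t * v * t⁻¹, ⁅ζ⁻¹, t * v * t⁻¹⁆⁆ = t * ⁅v, ⁅ζ⁻¹, v⁆⁆ * t⁻¹ := by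
        have h3 : t⁻¹ * ζ⁻¹ * t = ζ⁻¹ := by
          have : t⁻¹ * ζ⁻¹ * t = (t⁻¹ * ζ * t)⁻¹ := by group
          rw [this, mul_assoc, ← htζ]; group
        have h4 : t * ζ⁻¹ * t⁻¹ = ζ⁻¹ := by
          nth_rewrite 1 [← h3]; group
        have h5 : t * ⁅v, ⁅ζ⁻¹, v⁆⁆ * t⁻¹ = ⁅t * v * t⁻¹, ⁅t * ζ⁻¹ * t⁻¹, t * v * t⁻¹⁆⁆ := by
          simp only [commutatorElement_def]; group
        rw [h5, h4]
      rw [e1, hβ, htd, mul_inv_eq_iff_eq_mul, ← Subgroup.coe_mul, ← map_mul, ← Subgroup.coe_mul, ← map_mul, dg_up]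
    · have h3 := hKr k hk t htJ
      calc k * (t * v * t⁻¹) * k⁻¹ = (k * t) * v * (k * t)⁻¹ := by group
        _ = (t * k) * v * (t * k)⁻¹ := by rw [h3]
        _ = t * (k * v * k⁻¹) * t⁻¹ := by group
        _ = t * v * t⁻¹ := by rw [h1]
    · have h3 := hKr k hk t htJ
      calc k * (t * v * t⁻¹) * k⁻¹ = (k * t) * v * (k * t)⁻¹ := by group
        _ = (t * k) * v * (t * k)⁻¹ := by rw [h3]
        _ = t * (k * v * k⁻¹) * t⁻¹ := by group
        _ = t * v⁻¹ * t⁻¹ := by rw [h1]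
        _ = (t * v * t⁻¹)⁻¹ := by group

/-- two eigenvectors with different characters -/
def Opp (K : Subgroup Y) (v v' : Y) : Prop :=
  ∃ k ∈ K, (k * v * k⁻¹ = v ∧ k * v' * k⁻¹ = v'⁻¹) ∨ (k * v * k⁻¹ = v⁻¹ ∧ k * v' * k⁻¹ = v')

omit P C in
theorem Opp.symm {v v' : Y} (o : Opp K v v') : Opp K v' v := by
  obtain ⟨k, hk, h1 | h1⟩ := o
  · exact ⟨k, hk, Or.inr ⟨h1.2, h1.1⟩⟩
  · exact ⟨k, hk, Or.inl ⟨h1.2, h1.1⟩⟩

omit P C in
theorem Opp.mono {v v' w w' : Y} (o : Opp K v v')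
    (h1 : ∀ k ∈ K, k * v * k⁻¹ = v → k * w * k⁻¹ = w) (h2 : ∀ k ∈ K, k * v * k⁻¹ = v⁻¹ → k * w * k⁻¹ = w⁻¹)
    (h3 : ∀ k ∈ K, k * v' * k⁻¹ = v' → k * w' * k⁻¹ = w')
    (h4 : ∀ k ∈ K, k * v' * k⁻¹ = v'⁻¹ → k * w' * k⁻¹ = w'⁻¹) : Opp K w w' := by
  obtain ⟨k, hk, h5 | h5⟩ := o
  · exact ⟨k, hk, Or.inl ⟨h1 k hk h5.1, h4 k hk h5.2⟩⟩
  · exact ⟨k, hk, Or.inr ⟨h2 k hk h5.1, h3 k hk h5.2⟩⟩

variable [Finite Y] [Fact p.Prime] (hp2 : p ≠ 2)

include hp2

/-- different characters are orthogonal -/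
theorem orth_of_opp (hζ : ζ ∈ Z (r - (2 : ℤ) • y)) (hKr : ∀ k ∈ K, ∀ a ∈ Z r, k * a = a * k)
    (hKq : ∀ k ∈ K, ∀ a ∈ Z (r - (2 : ℤ) • y), k * a = a * k) {v v' : Y} (hv : v ∈ X y) (hv' : v' ∈ X y)
    (o : Opp K v v') : ⁅v, ⁅ζ⁻¹, v'⁆⁆ = 1 := by
  -- left inverse
  have hinvl : ∀ {u w : Y}, u ∈ X y → w ∈ X y → ⁅u⁻¹, ⁅ζ⁻¹, w⁆⁆ = ⁅u, ⁅ζ⁻¹, w⁆⁆⁻¹ := by
    intro u w hu hw
    have h1 := P.form_add C hp2 hζ (inv_mem hu) hu hw
    rw [inv_mul_cancel, commutatorElement_one_left] at h1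
    exact eq_inv_of_mul_eq_one_left h1.symm
  have hinvr : ∀ {u w : Y}, u ∈ X y → w ∈ X y → ⁅u, ⁅ζ⁻¹, w⁻¹⁆⁆ = ⁅u, ⁅ζ⁻¹, w⁆⁆⁻¹ := by
    intro u w hu hw
    rw [P.form_symm C hp2 hζ hu (inv_mem hw), hinvl hw hu, P.form_symm C hp2 hζ hw hu]
  have hm := P.form_mem C hp2 hζ hv hv'
  have hinv : ∀ k ∈ K, ⁅k * v * k⁻¹, ⁅ζ⁻¹, k * v' * k⁻¹⁆⁆ = ⁅v, ⁅ζ⁻¹, v'⁆⁆ := by
    intro k hk
    have h1 := hKq k hk ζ hζ
    have h3 : k * ζ⁻¹ * k⁻¹ = ζ⁻¹ := by
      have : k * ζ⁻¹ * k⁻¹ = (k * ζ * k⁻¹)⁻¹ := by group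
      rw [this, h1]; group
    have h4 : k * ⁅v, ⁅ζ⁻¹, v'⁆⁆ * k⁻¹ = ⁅k * v * k⁻¹, ⁅k * ζ⁻¹ * k⁻¹, k * v' * k⁻¹⁆⁆ := by
      simp only [commutatorElement_def]; group
    rw [h3] at h4
    rw [← h4, hKr k hk _ hm]; group
  have hsq : ⁅v, ⁅ζ⁻¹, v'⁆⁆ * ⁅v, ⁅ζ⁻¹, v'⁆⁆ = 1 := by
    obtain ⟨k, hk, ⟨h1, h2⟩ | ⟨h1, h2⟩⟩ := o
    · have h3 := hinv k hk
      rw [h1, h2, hinvr hv hv'] at h3
      nth_rewrite 1 [← h3]
      exact inv_mul_cancel _
    · have h3 := hinv k hk
      rw [h1, h2, hinvl hv hv'] at h3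
      nth_rewrite 1 [← h3]
      exact inv_mul_cancel _
  exact eq_one_of_sq hp2 (C.rgd.pgrp' P.L.root) (C.le _ P.mem hm) hsq

/-- **at most two characters** -/
theorem no_three [Fintype 𝔽] (hodd : Odd (Fintype.card 𝔽)) (hrt : root er = Z r)
    (hTT : ∀ t ∈ TT er, ∀ u ∈ X y, t * u * t⁻¹ ∈ X y)
    (hKJ : ∀ k ∈ K, ∀ a ∈ Z r ⊔ Z (-r), k * a = a * k)
    (hKq : ∀ k ∈ K, ∀ a ∈ Z (r - (2 : ℤ) • y), k * a = a * k) {v₁ v₂ v₃ : Y} (hv₁ : v₁ ∈ X y) (hv₂ : v₂ ∈ X y)
    (hv₃ : v₃ ∈ X y) (hn₁ : v₁ ≠ 1) (hn₂ : v₂ ≠ 1) (hn₃ : v₃ ≠ 1) (o₁ : Opp K v₁ v₂) (o₂ : Opp K v₁ v₃)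
    (o₃ : Opp K v₂ v₃) : False := by
  obtain ⟨ζ, hζ, hζ1⟩ : ∃ a ∈ Z (r - (2 : ℤ) • y), a ≠ 1 := by
    by_contra hcon
    push Not at hcon
    exact C.ne_bot _ (P.memq C) ((Subgroup.eq_bot_iff_forall _).2 hcon)
  have hKr : ∀ k ∈ K, ∀ a ∈ Z r, k * a = a * k := fun k hk a ha => hKJ k hk a (Subgroup.mem_sup_left ha)
  have val : ∀ v ∈ X y, v ≠ 1 → ∃ β : 𝔽, β ≠ 0 ∧ ⁅v, ⁅ζ⁻¹, v⁆⁆ = (er (up β) : Y) := by
    intro v hv hv1
    have h1 := P.form_mem C hp2 hζ hv hv
    rw [← hrt] at h1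
    obtain ⟨β, hβ⟩ := mem_root.1 h1
    refine ⟨β, ?_, hβ.symm⟩
    rintro rfl
    rw [up_zero, map_one] at hβ
    exact hv1 (P.aniso C hp2 hζ hζ1 hv hβ.symm)
  obtain ⟨β₁, hb₁, e₁⟩ := val v₁ hv₁ hn₁
  obtain ⟨β₂, hb₂, e₂⟩ := val v₂ hv₂ hn₂
  obtain ⟨β₃, hb₃, e₃⟩ := val v₃ hv₃ hn₃
  obtain ⟨a, b, hab⟩ := ternary hodd (β₃ := β₃) hb₁ hb₂
  obtain ⟨u₁, hu₁, f₁, c₁, d₁⟩ := scal P C hζ hTT hKJ hv₁ e₁ a
  obtain ⟨u₂, hu₂, f₂, c₂, d₂⟩ := scal P C hζ hTT hKJ hv₂ e₂ b
  have q₁ := orth_of_opp P C hp2 hζ hKr hKq hu₁ hu₂ (o₁.mono c₁ d₁ c₂ d₂)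
  have q₂ := orth_of_opp P C hp2 hζ hKr hKq hu₁ hv₃ (o₂.mono c₁ d₁ (fun _ _ h => h) (fun _ _ h => h))
  have q₃ := orth_of_opp P C hp2 hζ hKr hKq hu₂ hv₃ (o₃.mono c₂ d₂ (fun _ _ h => h) (fun _ _ h => h))
  have sy : ∀ {u w : Y}, u ∈ X y → w ∈ X y → ⁅u, ⁅ζ⁻¹, w⁆⁆ = ⁅w, ⁅ζ⁻¹, u⁆⁆ := fun hu hw => P.form_symm C hp2 hζ hu hw
  have hu₁₂ := mul_mem hu₁ hu₂
  have hv : u₁ * u₂ * v₃ ∈ X y := mul_mem hu₁₂ hv₃
  have bv : ∀ w ∈ X y, ⁅u₁ * u₂ * v₃, ⁅ζ⁻¹, w⁆⁆ = ⁅u₁, ⁅ζ⁻¹, w⁆⁆ * ⁅u₂, ⁅ζ⁻¹, w⁆⁆ * ⁅v₃, ⁅ζ⁻¹, w⁆⁆ := by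
    intro w hw
    rw [P.form_add C hp2 hζ hu₁₂ hv₃ hw, P.form_add C hp2 hζ hu₁ hu₂ hw]
  have b1 : ⁅u₁ * u₂ * v₃, ⁅ζ⁻¹, u₁⁆⁆ = (er (up (a ^ 2 * β₁)) : Y) := by
    rw [bv _ hu₁, f₁, sy hu₂ hu₁, q₁, sy hv₃ hu₁, q₂, mul_one, mul_one]
  have b2 : ⁅u₁ * u₂ * v₃, ⁅ζ⁻¹, u₂⁆⁆ = (er (up (b ^ 2 * β₂)) : Y) := by
    rw [bv _ hu₂, f₂, q₁, sy hv₃ hu₂, q₃, mul_one, one_mul]
  have b3 : ⁅u₁ * u₂ * v₃, ⁅ζ⁻¹, v₃⁆⁆ = (er (up β₃) : Y) := by
    rw [bv _ hv₃, e₃, q₂, q₃, one_mul, one_mul]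
  have b4 : ⁅u₁ * u₂ * v₃, ⁅ζ⁻¹, u₁ * u₂ * v₃⁆⁆ = 1 := by
    rw [bv _ hv, sy hu₁ hv, sy hu₂ hv, sy hv₃ hv, b1, b2, b3, ← Subgroup.coe_mul, ← map_mul, ← Subgroup.coe_mul,
      ← map_mul, up_mul, up_mul, hab, up_zero, map_one]
    rfl
  have h1 := P.aniso C hp2 hζ hζ1 hv b4
  rw [h1, commutatorElement_one_left] at b3
  have h2 : up β₃ = 1 := by
    apply er.injective
    rw [map_one]
    exact Subtype.ext b3.symm
  have h3 := congrArg (fun x => ent x 0 1) h2
  simp only [up_01] at h3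
  have h4 : ent (1 : Matrix.SpecialLinearGroup (Fin 2) 𝔽) 0 1 = 0 := by simp [ent]
  rw [h4] at h3
  exact hb₃ h3

/-- `± v` -/
def ps (s : Bool) (v : Y) : Y := bif s then v else v⁻¹

omit P C hp2 in
theorem three {a b c d : Prop} (h1 : a ∨ b) (h2 : c ∨ d) (h3 : a ∨ c) (h4 : b ∨ d) (h5 : a ∨ d) (h6 : b ∨ c) :
    (a ∧ b ∧ c) ∨ (a ∧ b ∧ d) ∨ (a ∧ c ∧ d) ∨ (b ∧ c ∧ d) := by
  itauto

/-- **an element of order 4 of `K` acts on `X y` as `± 1`** -/
theorem exists_scalar [Fintype 𝔽] (hodd : Odd (Fintype.card 𝔽)) (hrt : root er = Z r)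
    (hTT : ∀ t ∈ TT er, ∀ u ∈ X y, t * u * t⁻¹ ∈ X y)
    (hKJ : ∀ k ∈ K, ∀ a ∈ Z r ⊔ Z (-r), k * a = a * k)
    (hKq : ∀ k ∈ K, ∀ a ∈ Z (r - (2 : ℤ) • y), k * a = a * k) (hK : QK K e)
    (hn : ∀ k ∈ K, ∀ u ∈ X y, k * u * k⁻¹ ∈ X y) (he : ∀ u ∈ X y, e * u = u * e) :
    ∃ k ∈ K, ∃ b ∈ K, k * k = e ∧ b * k * b⁻¹ = k⁻¹ ∧
      ((∀ u ∈ X y, k * u * k⁻¹ = u) ∨ ∀ u ∈ X y, k * u * k⁻¹ = u⁻¹) := by
  obtain ⟨a, ha, b, hb, haa, hbb, hab⟩ := hK.com
  have he2 := hK.sq
  have hei := hK.inv_e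
  have hea := hK.cen a ha
  have heb := hK.cen b hb
  have hai : a⁻¹ = e * a := by
    rw [inv_eq_iff_mul_eq_one, ← mul_assoc, hea, mul_assoc, haa, he2]
  have hbi : b⁻¹ = e * b := by
    rw [inv_eq_iff_mul_eq_one, ← mul_assoc, heb, mul_assoc, hbb, he2]
  have hba : b * a = e * (a * b) := by rw [hab, ← mul_assoc, he2, one_mul]
  -- `c = a b`
  obtain ⟨c, hc⟩ : ∃ c, c = a * b := ⟨_, rfl⟩
  have hcK : c ∈ K := by rw [hc]; exact mul_mem ha hb
  have hcc : c * c = e := by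
    calc c * c = a * (b * a) * b := by rw [hc]; group
      _ = a * (e * (a * b)) * b := by rw [hba]
      _ = (a * e) * a * b * b := by group
      _ = e * (a * a) * (b * b) := by rw [hea]; group
      _ = e := by rw [haa, hbb, he2, one_mul]
  have hac : a * c = e * b := by rw [hc, ← mul_assoc, haa]
  have hca : c * a = b := by
    calc c * a = a * (b * a) := by rw [hc]; group
      _ = (a * e) * a * b := by rw [hba]; group
      _ = e * (a * a) * b := by rw [hea]; group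
      _ = b := by rw [haa, he2, one_mul]
  have hce := hK.cen c hcK
  have hci : c⁻¹ = e * c := by
    rw [inv_eq_iff_mul_eq_one, ← mul_assoc, hce, mul_assoc, hcc, he2]
  have i1 : b * a * b⁻¹ = a⁻¹ := by rw [hba, hai]; group
  have i2 : a * b * a⁻¹ = b⁻¹ := by rw [hab, hbi]; group
  have i3 : a * c * a⁻¹ = c⁻¹ := by
    have h1 : a * c = e * (c * a) := by rw [hac, hca]
    rw [h1, hci]; group
  by_contra hcon
  push Not at hcon
  obtain ⟨na1, na2⟩ := hcon a ha b hb haa i1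
  obtain ⟨nb1, nb2⟩ := hcon b hb a ha hbb i2
  obtain ⟨nc1, nc2⟩ := hcon c hcK a ha hcc i3
  have ce : ∀ u ∈ X y, e * u * e⁻¹ = u := fun u hu => by rw [he u hu]; group
  have hab' : ∀ u ∈ X y, ∀ v ∈ X y, u * v = v * u := fun u hu v hv => P.aby C hu hv
  -- squares act trivially
  have sq : ∀ k, k * k = e → ∀ u ∈ X y, k * (k * u * k⁻¹) * k⁻¹ = u := by
    intro k hk u hu
    calc k * (k * u * k⁻¹) * k⁻¹ = (k * k) * u * (k * k)⁻¹ := by group
      _ = u := by rw [hk, ce u hu]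
  have pt : ∀ k ∈ K, k * k = e → (∃ u ∈ X y, k * u * k⁻¹ ≠ u⁻¹) →
      ∃ v ∈ X y, v ≠ 1 ∧ k * v * k⁻¹ = ps true v := by
    rintro k hk hkk ⟨u, hu, hne⟩
    have hu' := hn k hk u hu
    refine ⟨u * (k * u * k⁻¹), mul_mem hu hu', fun h0 => hne (eq_inv_of_mul_eq_one_right h0), ?_⟩
    show k * (u * (k * u * k⁻¹)) * k⁻¹ = u * (k * u * k⁻¹)
    calc k * (u * (k * u * k⁻¹)) * k⁻¹ = (k * u * k⁻¹) * (k * (k * u * k⁻¹) * k⁻¹) := by group
      _ = (k * u * k⁻¹) * u := by rw [sq k hkk u hu]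
      _ = _ := hab' _ hu' _ hu
  have pf : ∀ k ∈ K, k * k = e → (∃ u ∈ X y, k * u * k⁻¹ ≠ u) →
      ∃ v ∈ X y, v ≠ 1 ∧ k * v * k⁻¹ = ps false v := by
    rintro k hk hkk ⟨u, hu, hne⟩
    have hu' := hn k hk u hu
    refine ⟨u⁻¹ * (k * u * k⁻¹), mul_mem (inv_mem hu) hu', fun h0 => hne (inv_mul_eq_one.1 h0).symm, ?_⟩
    show k * (u⁻¹ * (k * u * k⁻¹)) * k⁻¹ = (u⁻¹ * (k * u * k⁻¹))⁻¹
    calc k * (u⁻¹ * (k * u * k⁻¹)) * k⁻¹ = (k * u * k⁻¹)⁻¹ * (k * (k * u * k⁻¹) * k⁻¹) := by group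
      _ = (k * u * k⁻¹)⁻¹ * u := by rw [sq k hkk u hu]
      _ = _ := by group
  have psm : ∀ k ∈ K, ∀ v ∈ X y, ∀ w ∈ X y, ∀ t, k * v * k⁻¹ = ps t v → k * w * k⁻¹ = ps t w →
      k * (v * w) * k⁻¹ = ps t (v * w) := by
    intro k hk v hv w hw t h1 h2
    have h3 : k * (v * w) * k⁻¹ = (k * v * k⁻¹) * (k * w * k⁻¹) := by group
    rw [h3, h1, h2]
    cases t
    · show v⁻¹ * w⁻¹ = (v * w)⁻¹
      rw [← mul_inv_rev, hab' w hw v hv]
    · rfl
  have psc : ∀ k ∈ K, ∀ v ∈ X y, ∀ t, k * ps t v * k⁻¹ = ps t (k * v * k⁻¹) := by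
    intro k hk v hv t
    cases t
    · show k * v⁻¹ * k⁻¹ = (k * v * k⁻¹)⁻¹
      group
    · rfl
  -- refine an eigenvector
  have rf : ∀ k ∈ K, k * k = e → ∀ k' ∈ K, (k * k' = e * (k' * k) ∨ k * k' = k' * k) → ∀ v ∈ X y, v ≠ 1 → ∀ t,
      k' * v * k'⁻¹ = ps t v → ∃ s, ∃ v' ∈ X y, v' ≠ 1 ∧ k * v' * k⁻¹ = ps s v' ∧ k' * v' * k'⁻¹ = ps t v' := by
    intro k hk hkk k' hk' hcm v hv hv1 t ht
    have hv' := hn k hk v hv
    by_cases h1 : v * (k * v * k⁻¹) = 1
    · refine ⟨false, v, hv, hv1, ?_, ht⟩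
      show k * v * k⁻¹ = v⁻¹
      exact eq_inv_of_mul_eq_one_right h1
    · refine ⟨true, v * (k * v * k⁻¹), mul_mem hv hv', h1, ?_, ?_⟩
      · show k * (v * (k * v * k⁻¹)) * k⁻¹ = v * (k * v * k⁻¹)
        calc k * (v * (k * v * k⁻¹)) * k⁻¹ = (k * v * k⁻¹) * (k * (k * v * k⁻¹) * k⁻¹) := by group
          _ = (k * v * k⁻¹) * v := by rw [sq k hkk v hv]
          _ = _ := hab' _ hv' _ hv
      · refine psm k' hk' v hv _ hv' t ht ?_
        have h2 : k' * (k * v * k⁻¹) * k'⁻¹ = k * (k' * v * k'⁻¹) * k⁻¹ := by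
          have h3 : k * (k' * v * k'⁻¹) * k⁻¹ = (k * k') * v * (k * k')⁻¹ := by group
          have h4 : k' * (k * v * k⁻¹) * k'⁻¹ = (k' * k) * v * (k' * k)⁻¹ := by group
          rw [h3, h4]
          rcases hcm with h5 | h5
          · rw [h5]
            have h6 : e * (k' * k) * v * (e * (k' * k))⁻¹ = e * ((k' * k) * v * (k' * k)⁻¹) * e⁻¹ := by group
            rw [h6, ce _ (hn _ (mul_mem hk' hk) v hv)]
          · rw [h5]
        rw [h2, ht, psc k hk v hv]
  -- the four characters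
  let E : Bool → Bool → Prop := fun s t => ∃ v ∈ X y, v ≠ 1 ∧ a * v * a⁻¹ = ps s v ∧ b * v * b⁻¹ = ps t v
  have hA : ∀ s, ∃ t, E s t := by
    intro s
    have h1 : ∃ v ∈ X y, v ≠ 1 ∧ a * v * a⁻¹ = ps s v := by
      cases s
      · exact pf a ha haa na1
      · exact pt a ha haa na2
    obtain ⟨v, hv, hv1, h2⟩ := h1
    obtain ⟨t, v', hv', hv1', h3, h4⟩ := rf b hb hbb a ha (Or.inl hba) v hv hv1 s h2
    exact ⟨t, v', hv', hv1', h4, h3⟩
  have hB : ∀ t, ∃ s, E s t := by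
    intro s
    have h1 : ∃ v ∈ X y, v ≠ 1 ∧ b * v * b⁻¹ = ps s v := by
      cases s
      · exact pf b hb hbb nb1
      · exact pt b hb hbb nb2
    obtain ⟨v, hv, hv1, h2⟩ := h1
    obtain ⟨t, v', hv', hv1', h3, h4⟩ := rf a ha haa b hb (Or.inl hab) v hv hv1 s h2
    exact ⟨t, v', hv', hv1', h3, h4⟩
  have hC : ∀ t, ∃ s, E s (s == t) := by
    intro t
    have h1 : ∃ v ∈ X y, v ≠ 1 ∧ c * v * c⁻¹ = ps t v := by
      cases t
      · exact pf c hcK hcc nc1
      · exact pt c hcK hcc nc2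
    obtain ⟨v, hv, hv1, h2⟩ := h1
    obtain ⟨s, v', hv', hv1', h3, h4⟩ := rf a ha haa c hcK (Or.inl (by rw [hac, hca])) v hv hv1 t h2
    refine ⟨s, v', hv', hv1', h3, ?_⟩
    have h5 : b * v' * b⁻¹ = a * (c * v' * c⁻¹) * a⁻¹ := by
      have h6 : b = e⁻¹ * (a * c) := by rw [hac]; group
      have h7 : a * (c * v' * c⁻¹) * a⁻¹ = (a * c) * v' * (a * c)⁻¹ := by group
      have h8 := ce _ (hn (a * c) (mul_mem ha hcK) v' hv')
      rw [h7, h6]
      calc e⁻¹ * (a * c) * v' * (e⁻¹ * (a * c))⁻¹ = e⁻¹ * ((a * c) * v' * (a * c)⁻¹) * e := by group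
        _ = e⁻¹ * (e * ((a * c) * v' * (a * c)⁻¹) * e⁻¹) * e := by rw [h8]
        _ = _ := by group
    rw [h5, h4, psc a ha v' hv', h3]
    cases s <;> cases t <;> simp [ps]
  have opp : ∀ s t s' t', ∀ v w : Y, (a * v * a⁻¹ = ps s v ∧ b * v * b⁻¹ = ps t v) →
      (a * w * a⁻¹ = ps s' w ∧ b * w * b⁻¹ = ps t' w) → (s, t) ≠ (s', t') → Opp K v w := by
    intro s t s' t' v w h1 h2 hne
    by_cases h3 : s = s'
    · have h4 : t ≠ t' := fun h4 => hne (by rw [h3, h4])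
      cases t <;> cases t'
      · exact absurd rfl h4
      · exact ⟨b, hb, Or.inr ⟨h1.2, h2.2⟩⟩
      · exact ⟨b, hb, Or.inl ⟨h1.2, h2.2⟩⟩
      · exact absurd rfl h4
    · cases s <;> cases s'
      · exact absurd rfl h3
      · exact ⟨a, ha, Or.inr ⟨h1.1, h2.1⟩⟩
      · exact ⟨a, ha, Or.inl ⟨h1.1, h2.1⟩⟩
      · exact absurd rfl h3
  have fin : ∀ s₁ t₁ s₂ t₂ s₃ t₃, (s₁, t₁) ≠ (s₂, t₂) → (s₁, t₁) ≠ (s₃, t₃) → (s₂, t₂) ≠ (s₃, t₃) →
      E s₁ t₁ → E s₂ t₂ → E s₃ t₃ → False := by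
    rintro s₁ t₁ s₂ t₂ s₃ t₃ g1 g2 g3 ⟨v₁, hv₁, n₁, e₁⟩ ⟨v₂, hv₂, n₂, e₂⟩ ⟨v₃, hv₃, n₃, e₃⟩
    exact no_three P C hp2 hodd hrt hTT hKJ hKq hv₁ hv₂ hv₃ n₁ n₂ n₃ (opp _ _ _ _ _ _ e₁ e₂ g1)
      (opp _ _ _ _ _ _ e₁ e₃ g2) (opp _ _ _ _ _ _ e₂ e₃ g3)
  have d1 : E true true ∨ E true false := by
    obtain ⟨t, ht⟩ := hA true
    cases t
    · exact Or.inr ht
    · exact Or.inl ht
  have d2 : E false true ∨ E false false := by
    obtain ⟨t, ht⟩ := hA false
    cases t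
    · exact Or.inr ht
    · exact Or.inl ht
  have d3 : E true true ∨ E false true := by
    obtain ⟨t, ht⟩ := hB true
    cases t
    · exact Or.inr ht
    · exact Or.inl ht
  have d4 : E true false ∨ E false false := by
    obtain ⟨t, ht⟩ := hB false
    cases t
    · exact Or.inr ht
    · exact Or.inl ht
  have d5 : E true true ∨ E false false := by
    obtain ⟨t, ht⟩ := hC true
    cases t
    · exact Or.inr ht
    · exact Or.inl ht
  have d6 : E true false ∨ E false true := by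
    obtain ⟨t, ht⟩ := hC false
    cases t
    · exact Or.inr ht
    · exact Or.inl ht
  rcases three d1 d2 d3 d4 d5 d6 with ⟨x1, x2, x3⟩ | ⟨x1, x2, x3⟩ | ⟨x1, x2, x3⟩ | ⟨x1, x2, x3⟩
  · exact fin _ _ _ _ _ _ (by decide) (by decide) (by decide) x1 x2 x3
  · exact fin _ _ _ _ _ _ (by decide) (by decide) (by decide) x1 x2 x3
  · exact fin _ _ _ _ _ _ (by decide) (by decide) (by decide) x1 x2 x3
  · exact fin _ _ _ _ _ _ (by decide) (by decide) (by decide) x1 x2 x3

end char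

/-! ### The chart -/

section chart

variable {G : Type*} [Group G] {Om : Set (Subgroup G)} {p : ℕ} {L : Subgroup G} [Finite G]

variable (c : Chart Om p L) {n : ℕ} (hn : 2 ≤ n) (hτ : c.IsTy (.C n)) {𝔽 : Type*} [Field 𝔽] [Fintype 𝔽]
  [CharP 𝔽 p] (sl : ∀ J ∈ Om, Nonempty (Matrix.SpecialLinearGroup (Fin 2) 𝔽 ≃* J))

include hn hτ sl

theorem hexp_of : ∀ r ∈ c.R, ∀ x ∈ c.Z r, x ^ p = 1 := by
  have : Fact p.Prime := ⟨c.prime⟩
  intro r hr
  obtain ⟨e⟩ := sl _ (c.om r hr)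
  exact (Cit.DTwoChart.card_exp_Z c.cls c.odd hr e).2.1

/-- the isometry `a` -/
structure AK (c : Chart Om p L) (K : Subgroup G) (e : G) (r y : c.I → ℤ) (a b k : G) : Prop where
  hk : k ∈ K
  hb : b ∈ K
  or : a = k ∨ a = k * c.z r
  sq : a * a = e
  inv : b * a * b⁻¹ = a⁻¹
  cy : ∀ u ∈ c.X y, a * u = u * a
  cw : ∀ u ∈ c.X (r - y), a * u = u * a
  nq : ∀ x ∈ c.X (r - (2 : ℤ) • y), a * x * a⁻¹ ∈ c.X (r - (2 : ℤ) • y)
  nq' : ∀ x ∈ c.X (r - (2 : ℤ) • y), a⁻¹ * x * a ∈ c.X (r - (2 : ℤ) • y)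
  nr : ∀ x ∈ c.X r, a * x * a⁻¹ ∈ c.X r
  nr' : ∀ x ∈ c.X r, a⁻¹ * x * a ∈ c.X r
  cZ : ∀ x ∈ c.Z (r - (2 : ℤ) • y), a * x = x * a

theorem exists_a (hne : ∀ r ∈ c.R, ∃ t ∈ c.X r, t ∉ c.Z r) {F : Set (c.I → ℤ)} (hF : MaxF c.cls F)
    {K : Subgroup G} {e : G} (hK : QK K e) (hcen : Cen c.cls F K) (hnt : ¬ Triv c.cls e)
    {r y : c.I → ℤ} (P : Pl c.cs c.h c.R r y) (hyR : y ∉ c.R) : ∃ a b k, AK c K e r y a b k := by
  have : Fact p.Prime := ⟨c.prime⟩
  have C := c.cls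
  have hexp := hexp_of c hn hτ sl
  have S := std_of_isTy c hτ (Or.inl ⟨n, rfl⟩)
  have ns : ∀ x, IsRoot c.cs c.h x → ∃ r ∈ F, form c.cs c.h x r ≠ 0 := fun x hx => ns_C c hτ hF hx
  have hT : c.T ≤ G1 c.cs c.h c.X := c.T_le.trans_eq c.gen.symm
  have hFR := F_eq_C c hτ hF
  obtain ⟨hsh, hlo⟩ := act_e c hn hτ hexp hne hF hK hcen hnt
  have hodd : Odd (Fintype.card 𝔽) := by
    refine Nat.odd_iff.2 (FiniteField.odd_card_of_char_ne_two ?_)
    rw [ringChar.eq 𝔽 p]
    exact c.odd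
  have hwR : r - y ∉ c.R := by
    intro h0
    have h1 := S.same P.mem h0
    have h2 := (CnNd.flip P).h2
    have h3 := (S.lg _ h0).pos
    omega
  have hq := P.memq c.cls
  -- `K` and the root groups
  have hKZ : ∀ s ∈ c.R, ∀ k ∈ K, ∀ a ∈ c.Z s, k * a = a * k := fun s hs k hk a ha =>
    hcen.comm s (by rw [hFR]; exact hs) a ha k hk
  have hKJ : ∀ s ∈ c.R, ∀ k ∈ K, ∀ a ∈ c.Z s ⊔ c.Z (-s), k * a = a * k := by
    intro s hs k hk a ha
    have h3 : c.Z s ⊔ c.Z (-s) ≤ Subgroup.centralizer {k} := by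
      refine sup_le (fun a ha => ?_) (fun a ha => ?_)
      · rw [Subgroup.mem_centralizer_singleton_iff]; exact (hKZ s hs k hk a ha).symm
      · rw [Subgroup.mem_centralizer_singleton_iff]; exact (hKZ (-s) (neg_mem c.cls hs) k hk a ha).symm
    have h4 := h3 ha
    rw [Subgroup.mem_centralizer_singleton_iff] at h4
    exact h4.symm
  have nor : ∀ K' : Subgroup G, Cen c.cls F K' → ∀ s ∈ c.R, ∀ k ∈ K', ∀ x ∈ c.X s, k * x * k⁻¹ ∈ c.X s := by
    intro K' hc s hs k hk x hx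
    have hsF : s ∈ F := by rw [hFR]; exact hs
    rw [← MM_eq_C c hτ hF hsF] at hx ⊢
    exact wt_inv c.cls hT hF.sub hsF (S.lg s hs).pos hc hk hx
  have hKy : ∀ k ∈ K, ∀ u ∈ c.X y, k * u * k⁻¹ ∈ c.X y := by
    intro k hk u hu
    rw [← MM_eq (X := c.X) S hF ns P.root hyR] at hu ⊢
    exact wt_inv c.cls hT hF.sub (by rw [hFR]; exact P.mem) (by rw [P.fyr]; exact P.pos) hcen hk hu
  have hKw : ∀ k ∈ K, ∀ u ∈ c.X (r - y), k * u * k⁻¹ ∈ c.X (r - y) := by
    intro k hk u hu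
    rw [← MM_eq (X := c.X) S hF ns P.rootw hwR] at hu ⊢
    exact wt_inv c.cls hT hF.sub (by rw [hFR]; exact P.mem) (by rw [P.fwr]; exact P.pos) hcen hk hu
  -- coordinates
  obtain ⟨er₀⟩ := sl _ (c.om r P.mem)
  obtain ⟨er, hcr⟩ := exists_crd c.cls c.odd P.mem er₀
  have hfyq : form c.cs c.h y (-(r - (2 : ℤ) • y)) = form c.cs c.h y y := by rw [form_neg_right, P.fyq, neg_neg]
  have two : Beta.Two c.cs c.h c.R F r (-(r - (2 : ℤ) • y)) y :=
    { sub := hF.sub
      neg := hF.neg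
      orth := hF.orth
      hr := by rw [hFR]; exact P.mem
      hs := by rw [hFR]; exact neg_mem c.cls hq
      hy := P.root
      yr := by rw [P.fyr]; exact P.pos
      ys := by rw [hfyq]; exact P.pos
      rs := by rw [form_neg_right, P.frq, neg_zero]
      oth := fun t ht h1 h2 h3 h4 => by
        have hrF : r ∈ F := by rw [hFR]; exact P.mem
        have hqF : r - (2 : ℤ) • y ∈ F := by rw [hFR]; exact hq
        have k1 := hF.orth r hrF t ht h1 h2
        have k2 := hF.orth _ hqF t ht (fun h0 => h4 (by rw [h0, neg_neg])) (fun h0 => h3 h0)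
        rw [form_sub_left, form_smul_left, k1] at k2
        omega }
  have hTT : ∀ t ∈ TT er, ∀ u ∈ c.X y, t * u * t⁻¹ ∈ c.X y := by
    intro t ht u hu
    rw [← MM_eq (X := c.X) S hF ns P.root hyR] at hu ⊢
    exact TT_conj_mem c.cls two hcr ht hu
  obtain ⟨k, hk, b, hb, hkk, hbk, hsc⟩ := exists_scalar P c.cls c.odd hodd hcr.rt hTT (hKJ r P.mem)
    (hKZ _ hq) hK hKy (hsh y P.root hyR)
  -- the same on `X (r - y)`
  have hsw : ∀ s : Bool, (∀ u ∈ c.X y, k * u * k⁻¹ = ps s u) → ∀ u ∈ c.X (r - y), k * u * k⁻¹ = ps s u := by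
    intro s h1
    obtain ⟨β, hβ, hβ1⟩ : ∃ β ∈ c.Z (-(r - (2 : ℤ) • y)), β ≠ 1 := by
      by_contra hcon
      push Not at hcon
      exact c.cls.ne_bot _ (neg_mem c.cls hq) ((Subgroup.eq_bot_iff_forall _).2 hcon)
    obtain ⟨a, ha, d, hd, w, hm, hw⟩ := Nodes.Perp.exists_refl_KK c.cls c.prime c.odd hq hβ hβ1
    have hmJ : a * β * d ∈ c.Z (r - (2 : ℤ) • y) ⊔ c.Z (-(r - (2 : ℤ) • y)) :=
      mul_mem (mul_mem (Subgroup.mem_sup_left ha) (Subgroup.mem_sup_right hβ)) (Subgroup.mem_sup_left hd)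
    set m := a * β * d with hmd
    have hkm := hKJ _ hq k hk m hmJ
    have hwy : rep c.cs c.h w y = r - y := by
      have h2 : cpr c.cs c.h y (r - (2 : ℤ) • y) = -1 := by
        apply cpr_eq_of_form c.cs c.h P.rootq
        have h3 := P.form_pt 1 (-2) 1 (-2)
        have e2 : (1 : ℤ) • r + (-2 : ℤ) • y = r - (2 : ℤ) • y := by module
        rw [e2] at h3
        rw [P.fyq, h3]; ring
      rw [hw, h2]; module
    intro u hu
    have h3 : m⁻¹ * u * m ∈ c.X y := by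
      have h4 := c.cls.rgd.conj_mem' hm P.rootw hu
      rwa [← hwy, rep_inv_apply] at h4
    have h4 := h1 _ h3
    have h5 : k * u * k⁻¹ = m * (k * (m⁻¹ * u * m) * k⁻¹) * m⁻¹ := by
      have h6 : k * u * k⁻¹ = (k * m) * (m⁻¹ * u * m) * (k * m)⁻¹ := by group
      rw [h6, hkm]; group
    rw [h5, h4]
    cases s
    · show m * (m⁻¹ * u * m)⁻¹ * m⁻¹ = u⁻¹
      group
    · show m * (m⁻¹ * u * m) * m⁻¹ = u
      group
  have hzr2 := c.cls.z_sq r P.mem
  have hzri := Nodes.ZRel.z_inv' c.cls P.mem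
  have hkz : k * c.z r = c.z r * k := hKJ r P.mem k hk _ (c.cls.z_mem r P.mem)
  have hbz : b * c.z r = c.z r * b := hKJ r P.mem b hb _ (c.cls.z_mem r P.mem)
  have hkinv : ∀ s ∈ c.R, ∀ x ∈ c.X s, k⁻¹ * x * k ∈ c.X s := by
    intro s hs x hx
    have := nor K hcen s hs k⁻¹ (inv_mem hk) x hx
    rwa [inv_inv] at this
  have hof : ∀ {u v : G}, k * u * k⁻¹ = v → k * u = v * k := fun h0 => by rw [← h0]; group
  rcases hsc with h1 | h1
  · have h2 := hsw true h1
    exact ⟨k, b, k, hk, hb, Or.inl rfl, hkk, hbk, fun u hu => hof (h1 u hu), fun u hu => hof (h2 u hu),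
      nor K hcen _ hq k hk, hkinv _ hq, nor K hcen _ P.mem k hk, hkinv _ P.mem, hKZ _ hq k hk⟩
  · have h2 := hsw false h1
    -- `a = k z r`
    have hzy : ∀ x, IsRoot c.cs c.h x → x ≠ r → x ≠ -r → form c.cs c.h x r ≠ 0 → (∀ u ∈ c.X x, k * u * k⁻¹ = u⁻¹) →
        ∀ u ∈ c.X x, k * c.z r * u = u * (k * c.z r) := by
      intro x hx hx1 hx2 hx3 hx4 u hu
      have h3 := c.cls.z_inv r P.mem x hx hx1 hx2 hx3 u hu
      have h4 : c.z r * u = u⁻¹ * c.z r := by
        rw [← h3]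
        calc c.z r * u = c.z r * u * (c.z r * c.z r) := by rw [hzr2, mul_one]
          _ = c.z r * u * c.z r * c.z r := by group
      have h5 : k * u⁻¹ = u * k := by
        have h6 := hx4 u hu
        have h7 : k * u⁻¹ * k⁻¹ = u := by
          have : k * u⁻¹ * k⁻¹ = (k * u * k⁻¹)⁻¹ := by group
          rw [this, h6, inv_inv]
        calc k * u⁻¹ = (k * u⁻¹ * k⁻¹) * k := by group
          _ = u * k := by rw [h7]
      rw [mul_assoc, h4, ← mul_assoc, h5, mul_assoc]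
    have nyr := P.ne (x := y) (x' := r) 0 1 1 0 (by module) (by module) (by omega)
    have nynr := P.ne (x := y) (x' := -r) 0 1 (-1) 0 (by module) (by module) (by omega)
    have nwr := P.ne (x := r - y) (x' := r) 1 (-1) 1 0 (by module) (by module) (by omega)
    have nwnr := P.ne (x := r - y) (x' := -r) 1 (-1) (-1) 0 (by module) (by module) (by omega)
    have hpos := P.pos
    have hzX : ∀ s, IsRoot c.cs c.h s → ∀ x ∈ c.X s, c.z r * x * c.z r ∈ c.X s := by
      intro s hs x hx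
      have h3 := c.cls.rgd.tor s hs _ (c.cls.z_torus r P.mem)
      rw [← h3]
      have h4 : c.z r * x * c.z r = c.z r * x * (c.z r)⁻¹ := by rw [hzri]
      rw [h4]
      exact conj_mem_cj.2 hx
    have hcjk : ∀ x, k * c.z r * x * (k * c.z r)⁻¹ = k * (c.z r * x * c.z r) * k⁻¹ := by
      intro x
      rw [mul_inv_rev, hzri]; group
    have hcjk' : ∀ x, (k * c.z r)⁻¹ * x * (k * c.z r) = k⁻¹ * (c.z r * x * c.z r) * k := by
      intro x
      rw [hkz, mul_inv_rev, hzri]; group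
    refine ⟨k * c.z r, b, k, hk, hb, Or.inr rfl, ?_, ?_, hzy y P.root nyr nynr (by rw [P.fyr]; omega) h1,
      hzy _ P.rootw nwr nwnr (by rw [P.fwr]; omega) h2, fun x hx => ?_, fun x hx => ?_, fun x hx => ?_,
      fun x hx => ?_, fun x hx => ?_⟩
    · calc k * c.z r * (k * c.z r) = k * (c.z r * k) * c.z r := by group
        _ = k * k * (c.z r * c.z r) := by rw [← hkz]; group
        _ = e := by rw [hkk, hzr2, mul_one]
    · calc b * (k * c.z r) * b⁻¹ = b * k * (c.z r * b⁻¹) := by group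
        _ = b * k * b⁻¹ * (b * c.z r) * b⁻¹ := by group
        _ = k⁻¹ * (c.z r * b) * b⁻¹ := by rw [hbk, hbz]
        _ = (c.z r * k)⁻¹ := by
            rw [mul_inv_rev, hzri]; group
        _ = (k * c.z r)⁻¹ := by rw [hkz]
    · rw [hcjk]
      exact nor K hcen _ hq k hk _ (hzX _ P.rootq x hx)
    · rw [hcjk']
      exact hkinv _ hq _ (hzX _ P.rootq x hx)
    · rw [hcjk]
      exact nor K hcen _ P.mem k hk _ (hzX _ P.L.root x hx)
    · rw [hcjk']
      exact hkinv _ P.mem _ (hzX _ P.L.root x hx)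
    · have h3 := J_comm P c.cls (c.cls.z_mem r P.mem) hx
      rw [mul_assoc, h3, ← mul_assoc, hKZ _ hq k hk x hx, mul_assoc]

/-- elements normalising `L` and centralising the `Z s` normalise the long root groups -/
theorem nor_X {F : Set (c.I → ℤ)} (hF : MaxF c.cls F) {K' : Subgroup G} (hc : Cen c.cls F K') {s : c.I → ℤ}
    (hs : s ∈ c.R) {k x : G} (hk : k ∈ K') (hx : x ∈ c.X s) : k * x * k⁻¹ ∈ c.X s := by
  have : Fact p.Prime := ⟨c.prime⟩
  have S := std_of_isTy c hτ (Or.inl ⟨n, rfl⟩)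
  have hT : c.T ≤ G1 c.cs c.h c.X := c.T_le.trans_eq c.gen.symm
  have hsF : s ∈ F := by rw [F_eq_C c hτ hF]; exact hs
  rw [← MM_eq_C c hτ hF hsF] at hx ⊢
  exact wt_inv c.cls hT hF.sub hsF (S.lg s hs).pos hc hk hx

theorem plane_sev (hne : ∀ r ∈ c.R, ∃ t ∈ c.X r, t ∉ c.Z r) {F : Set (c.I → ℤ)} (hF : MaxF c.cls F)
    {K : Subgroup G} {e g : G} (hK : QK K e) (hcen : Cen c.cls F K) (hg : Odd (orderOf g))
    (hgn : g ∈ Subgroup.normalizer (G1 c.cs c.h c.X : Set G)) (hgK : ∀ k ∈ K, g * k = k * g)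
    (hgX : ∀ y, IsRoot c.cs c.h y → ∀ a ∈ c.X y, e * a = a * e → g * a = a * g) (hnt : ¬ Triv c.cls e)
    {r y : c.I → ℤ} (P : Pl c.cs c.h c.R r y) (hyR : y ∉ c.R) :
    ∀ x ∈ c.X (r - (2 : ℤ) • y), g * x = x * g := by
  have : Fact p.Prime := ⟨c.prime⟩
  have hexp := hexp_of c hn hτ sl
  have S := std_of_isTy c hτ (Or.inl ⟨n, rfl⟩)
  have hFR := F_eq_C c hτ hF
  obtain ⟨hsh, hlo⟩ := act_e c hn hτ hexp hne hF hK hcen hnt
  have hwR : r - y ∉ c.R := by
    intro h0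
    have h1 := S.same P.mem h0
    have h2 := (CnNd.flip P).h2
    have h3 := (S.lg _ h0).pos
    omega
  have hq := P.memq c.cls
  have hKZ : ∀ s ∈ c.R, ∀ k ∈ K, ∀ a ∈ c.Z s, k * a = a * k := fun s hs k hk a ha =>
    hcen.comm s (by rw [hFR]; exact hs) a ha k hk
  -- `g`
  have hgsh : ∀ y, IsRoot c.cs c.h y → y ∉ c.R → ∀ u ∈ c.X y, g * u = u * g := fun y hy hyR u hu =>
    hgX y hy u hu (hsh y hy hyR u hu)
  have hgZ : ∀ s ∈ c.R, ∀ a ∈ c.Z s, g * a = a * g := fun s hs a ha =>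
    hgX s (c.cls.root s hs) a (c.cls.le s hs ha) (hKZ s hs e hK.mem a ha)
  have hgcen : Cen c.cls F (Subgroup.zpowers g) := by
    have hle : ∀ s ∈ c.R, c.Z s ≤ Subgroup.centralizer (Subgroup.zpowers g : Set G) := by
      intro s hs a ha
      rw [Subgroup.mem_centralizer_iff]
      rintro _ ⟨m, rfl⟩
      have h1 : Commute g a := hgZ s hs a ha
      exact (h1.zpow_left m).eq
    refine ⟨fun s hs a ha k hk => ?_, fun k hk => ?_⟩
    · exact Subgroup.mem_centralizer_iff.1 (hle s (hF.sub s hs) ha) k hk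
    · exact (Subgroup.zpowers_le.2 hgn) hk
  have hgq := fun x hx => nor_X c hn hτ sl hF hgcen hq (Subgroup.mem_zpowers g) (x := x) hx
  have hgr := fun x hx => nor_X c hn hτ sl hF hgcen P.mem (Subgroup.mem_zpowers g) (x := x) hx
  have hgJ : ∀ s ∈ c.R, ∀ a ∈ c.Z s ⊔ c.Z (-s), g * a = a * g := by
    intro s hs a ha
    have h3 : c.Z s ⊔ c.Z (-s) ≤ Subgroup.centralizer {g} := by
      refine sup_le (fun a ha => ?_) (fun a ha => ?_)
      · rw [Subgroup.mem_centralizer_singleton_iff]; exact (hgZ s hs a ha).symm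
      · rw [Subgroup.mem_centralizer_singleton_iff]; exact (hgZ (-s) (neg_mem c.cls hs) a ha).symm
    have h4 := h3 ha
    rw [Subgroup.mem_centralizer_singleton_iff] at h4
    exact h4.symm
  have hgz : g * c.z r = c.z r * g := hgJ r P.mem _ (c.cls.z_mem r P.mem)
  obtain ⟨a, b, k, H⟩ := exists_a c hn hτ sl hne hF hK hcen hnt P hyR
  have hgk := hgK k H.hk
  have hag : a * g = g * a := by
    rcases H.or with h1 | h1
    · rw [h1, hgk]
    · rw [h1, mul_assoc, ← hgz, ← mul_assoc, ← hgk, mul_assoc]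
  exact plane_g P c.cls c.odd (hexp r P.mem) (hlo _ hq) H.sq H.cy H.cw H.nq H.nq' H.nr H.cZ
    (fun x hx => nor_X c hn hτ sl hF hcen hq H.hb hx) (hKZ _ hq b H.hb) H.inv (hgK b H.hb).symm
    (hgsh y P.root hyR) (hgsh _ P.rootw hwR) hgq hgr (hgZ _ hq) hag hg

/-- **Section 7 for the charts of type `C n`, `n ≥ 2`.** -/
theorem sev {F : Set (c.I → ℤ)} (hF : MaxF c.cls F) : SevDef.Sev c.cls F := by
  intro K e g hK hcen hg hgn hgK hgX hnt
  by_cases hXZ : ∀ r ∈ c.R, c.Z r = c.X r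
  · exact absurd (triv_C_eq c hτ hXZ hF hK hcen) hnt
  push Not at hXZ
  obtain ⟨r₀, hr₀, hne₀⟩ := hXZ
  have hne := ne_all c hr₀ hne₀
  have hexp := hexp_of c hn hτ sl
  obtain ⟨hsh, -⟩ := act_e c hn hτ hexp hne hF hK hcen hnt
  refine triv_of_X c.cls fun x hx => ?_
  by_cases hxR : x ∈ c.R
  · obtain ⟨y, hyR, P⟩ := exists_pl_of_isTy c hτ (Or.inl ⟨n, hn, rfl⟩) hxR
    have hyR' : -y ∉ c.R := fun h0 => hyR (by
      have := neg_mem c.cls h0
      rwa [neg_neg] at this)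
    have h1 := plane_sev c hn hτ sl hne hF hK hcen hg hgn hgK hgX hnt (P.swap c.cls) hyR'
    have h2 : x - (2 : ℤ) • y - (2 : ℤ) • (-y) = x := by module
    rwa [h2] at h1
  · exact fun u hu => hgX x hx u hu (hsh x hx hxR u hu)

end chart

end Cfsg.Agent.LOC.SevCn

private theorem dce_51536d027d21 : _root_.True := by
  try have : _root_.True := by simp only [_root_.Cfsg.Agent.LOC.SevCn.ps.eq_1]
  exact _root_.True.intro
end

-- part: Cit/Nil/CompR/SecQuo
section
set_option linter.all false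
open scoped Cfsg.Agent.FastGrp

/-!
# S1309 (n6), COMP, `r = 2`, the section of a block: `B / Z(B)` is a world (S)

`B = ⟨Om⟩`, `W2 Om`, `O(B) = 1`, `Om` connected, not nil: `F*(B/Z(B))` is simple, all cores of centralisers of
involutions of `B/Z(B)` are trivial (818's `CVT.KLOf.false_of_core`), and `main_three_top` applies.

* `SecIn` : the inputs;
* `fsimp_quo` : `F*(B/Z(B))` simple;
* `sw_quo` : `SW (img f Om)`.
-/

set_option autoImplicit false
set_option linter.style.haveILetI false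
set_option linter.unusedSectionVars false

namespace Cfsg.Agent.Cit.Nil.CompR

open Subgroup Cfsg Cfsg.Agent.Cit Cfsg.Agent.Cit.Nil.RTwo
open IndDefs (T0 comp Adj NIL)

universe u

/-- the inputs -/
structure SecIn : Prop where
  lin : LIn.{u}
  hev : ∀ (G : Type u) [Group G] [Finite G], Comp.EvQ G
  hT : TStmt.{u}
  hC : LO.ChartOut.{u}
  hC2 : LO.ChartOut2.{u}
  h1311 : ∀ (G : Type u) [Group G] [Finite G], AssemblyNil.FS G → AssemblyNil.St1311 G

variable {G : Type u} [Group G] [Finite G] {Om : Set (Subgroup G)} {K L : Subgroup G} {z t : G}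

/-- `F*(B/Z(B))` is simple -/
theorem fsimp_quo (hev : ∀ (G : Type u) [Group G] [Finite G], Comp.EvQ G) (t0 : T0 Om) (top : sSup Om = ⊤)
    (conn : ∀ K ∈ Om, ∀ L ∈ Om, L ∈ comp Om K) (hK : K ∈ Om) (hN : ¬ NIL K) :
    pCore 2 G = center G ∧ (∀ J ∈ Om, zz J ∉ center G) ∧ ∃ X : Subgroup (G ⧸ center G), ROne.FSimp X ∧
      ∀ J ∈ Om, (QuotientGroup.mk' (center G)) (zz J) ∈ X := by
  haveI : Fact (Nat.Prime 2) := ⟨Nat.prime_two⟩
  obtain ⟨hZ, L, hL, hN, huni, hzL, hz⟩ := Ind.Red.exists_comp t0 top conn (hev G) (hev (G ⧸ center G)) hK hN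
  refine ⟨hZ, hz, ?_⟩
  obtain ⟨f, hfd⟩ : ∃ f : G →* G ⧸ center G, f = QuotientGroup.mk' (center G) := ⟨_, rfl⟩
  rw [← hfd]
  have hf : Function.Surjective f := by rw [hfd]; exact QuotientGroup.mk'_surjective _
  have hfk : f.ker = center G := by rw [hfd]; exact QuotientGroup.ker_mk' _
  have hC : f.ker ≤ center G := hfk.le
  have hCL : centralizer (L : Set G) = center G := Ind.centralizer_eq huni t0.core hZ
  have hperf : Group.IsPerfect L := hL.2.1
  have hCL' : centralizer ((L.map f : Subgroup (G ⧸ center G)) : Set (G ⧸ center G)) = ⊥ := by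
    rw [eq_bot_iff]
    intro w hw
    obtain ⟨g, rfl⟩ := hf w
    obtain ⟨X, hX⟩ : ∃ X : Subgroup G, X = (centralizer ((L.map f : Subgroup (G ⧸ center G)) : Set (G ⧸ center G))).comap f :=
      ⟨_, rfl⟩
    have hgX : g ∈ X := by rw [hX]; exact hw
    have h1 : ⁅X, L⁆ ≤ f.ker := by
      rw [commutator_le]
      intro y hy l hl
      rw [hX, mem_comap, mem_centralizer_iff] at hy
      have h3 := hy (f l) ⟨l, hl, rfl⟩
      rw [MonoidHom.mem_ker, commutatorElement_def, map_mul, map_mul, map_mul, ← h3, map_inv, map_inv]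
      group
    have h3 : ⁅⁅X, L⁆, L⁆ = ⊥ := by
      rw [commutator_eq_bot_iff_le_centralizer]
      intro y hy
      rw [mem_centralizer_iff]
      intro l _
      exact mem_center_iff.1 (hC (h1 hy)) l
    have h4 := SignalizersComponents.Components.commutator_eq_bot_of_commutator_commutator_eq_bot hperf h3
    rw [commutator_eq_bot_iff_le_centralizer, hCL, ← hfk] at h4
    exact MonoidHom.mem_ker.1 (h4 hgX)
  have hLn : (L.map f).Normal := hN.map f hf
  obtain ⟨g, hg⟩ : ∃ g : ↥L →* ↥(L.map f), g = f.subgroupMap L := ⟨_, rfl⟩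
  have hgs : Function.Surjective g := by rw [hg]; exact f.subgroupMap_surjective L
  have hgk : g.ker = center ↥L := by
    ext y
    rw [MonoidHom.mem_ker, mem_center_iff, hg]
    constructor
    · intro h1 w
      have h3 : (y : G) ∈ f.ker := congrArg Subtype.val h1
      exact Subtype.ext (mem_center_iff.1 (hC h3) w)
    · intro h1
      have h3 : (y : G) ∈ centralizer (L : Set G) := by
        rw [mem_centralizer_iff]
        intro w hw
        exact congrArg Subtype.val (h1 ⟨w, hw⟩)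
      rw [hCL, ← hfk] at h3
      exact Subtype.ext (MonoidHom.mem_ker.1 h3)
  have hsimp : IsSimpleGroup ↥(L.map f) := by
    have hs : IsSimpleGroup (↥L ⧸ center ↥L) := hL.2.2
    have e : ↥(L.map f) ≃* ↥L ⧸ center ↥L :=
      ((QuotientGroup.quotientMulEquivOfEq hgk).symm.trans (QuotientGroup.quotientKerEquivOfSurjective g hgs)).symm
    exact e.isSimpleGroup
  refine ⟨L.map f, ⟨hLn, hsimp, ?_, hCL'⟩, fun J hJ => ⟨_, hzL J hJ, rfl⟩⟩
  intro hcm
  have h1 : L.map f ≤ centralizer ((L.map f : Subgroup (G ⧸ center G)) : Set (G ⧸ center G)) := by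
    intro a ha
    rw [mem_centralizer_iff]
    intro b hb
    exact hcm b hb a ha
  rw [hCL', le_bot_iff] at h1
  have h3 : Nontrivial ↥(L.map f) := hsimp.toNontrivial
  rw [h1] at h3
  exact not_nontrivial _ h3

/-- `B/Z(B)` is a world (S) -/
theorem sw_quo (i : SecIn.{u}) (h : W2 Om) (core : pPrimeCore 2 G = ⊥) (top : sSup Om = ⊤)
    (conn : ∀ K ∈ Om, ∀ L ∈ Om, L ∈ comp Om K) (hN : ∀ K ∈ Om, ¬ NIL K)
    (hti : (∃ z t, TI Om z t) → Rot Om)
    (hpr : (TO (img (QuotientGroup.mk' (center G)) Om)) → CF (img (QuotientGroup.mk' (center G)) Om) →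
      Rot (img (QuotientGroup.mk' (center G)) Om))
    (hrot : Rot Om → Rot (img (QuotientGroup.mk' (center G)) Om))
    (hcls : OneCls (img (QuotientGroup.mk' (center G)) Om)) (hne : Om.Nonempty)
    (h3 : ∀ K ∈ Om, ¬ IndDefs.Three K) :
    IsPGroup 2 (center G) ∧ WMap (QuotientGroup.mk' (center G)) Om (img (QuotientGroup.mk' (center G)) Om) ∧
      SW (img (QuotientGroup.mk' (center G)) Om) := by
  haveI : Fact (Nat.Prime 2) := ⟨Nat.prime_two⟩
  obtain ⟨K, hK⟩ := hne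
  have t0 : T0 Om := ⟨h.hyp, h.card, core⟩
  obtain ⟨hZ, hz, X, fX, hzX⟩ := fsimp_quo i.hev t0 top conn hK (hN K hK)
  obtain ⟨f, hfd⟩ : ∃ f : G →* G ⧸ center G, f = QuotientGroup.mk' (center G) := ⟨_, rfl⟩
  rw [← hfd] at hpr hrot hcls hzX ⊢
  have hf : Function.Surjective f := by rw [hfd]; exact QuotientGroup.mk'_surjective _
  have hfk : f.ker = center G := by rw [hfd]; exact QuotientGroup.ker_mk' _
  have m : WMap f Om (img f Om) := WMap.of_central h hf hfk.le (fun J hJ => by rw [hfk]; exact hz J hJ)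
  have h2 : IsPGroup 2 (center G) := by rw [← hZ]; exact Lib.Cores.pCore_isPGroup 2
  refine ⟨h2, m, ?_⟩
  have h8 : Three.H8 Om := ⟨h.hyp, h.card⟩
  have mK : Mem Om (zz K) K := ⟨hK, rfl⟩
  have mK' := m.mem mK
  obtain ⟨L', hL', hne', -⟩ := mK'.other m.w2
  have hord := mK'.inZ.orderOf m.w2
  have hX2 : 2 ∣ Nat.card X := by
    have h5 : orderOf (⟨f (zz K), hzX K hK⟩ : X) = 2 := by rw [← Subgroup.orderOf_coe]; exact hord
    rw [← h5]; exact orderOf_dvd_natCard _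
  have fs := CVT.KLOf.fs_of fX hX2
  have hF : CFA (G ⧸ center G) := by
    intro j hj hj1
    by_contra hO
    exact CVT.KLOf.false_of_core i.hT i.hC i.hC2 fs (i.h1311 _ fs) (Om := img f Om)
      ⟨m.w2.hyp, fun K hK => m.w2.isPGroup hK⟩ mK'.1 hL'.1
      (fun x hx y hy => mK'.comm hL' m.w2 hne' hx hy)
      (orderOf_eq_prime (by rw [pow_two]; exact hj) hj1) hO
  have cf := hF.cf m.w2
  have htop : sSup (img f Om) = ⊤ := by
    rw [eq_top_iff]
    intro w _
    obtain ⟨g, rfl⟩ := hf w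
    have h1 : (⊤ : Subgroup G) ≤ (sSup (img f Om)).comap f := by
      rw [← top]
      refine sSup_le fun K hK => ?_
      rw [← map_le_iff_le_comap]
      exact le_sSup ⟨K, hK, rfl⟩
    exact h1 (mem_top g)
  have hr : Rot (img f Om) := by
    by_cases hT : TO (img f Om)
    · exact hpr hT cf
    · unfold TO at hT
      push Not at hT
      obtain ⟨z', t', hz', ht', hi, hne⟩ := hT
      obtain ⟨z, hz1, rfl⟩ := m.lift_inZ hz'
      obtain ⟨t, ht1, rfl⟩ := m.lift_inZ ht'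
      exact hrot (hti ⟨z, t, m.ti_up hz1 ht1 ⟨hz', ht', hne.symm, (hi.comm_z hz' m.w2).symm, hi⟩⟩)
  rcases main_three_top i.lin m.w2 hcls hr hF ⟨_, mK'.1⟩ fX hX2 htop with h1 | h1
  · exfalso
    obtain ⟨_, ⟨J, hJ, rfl⟩, h4⟩ := h1
    exact h3 J hJ (Ind.three_lift h8 hf hfk.le (by rw [hfk]; exact h2) m.inf hJ h4)
  · exact h1

end Cfsg.Agent.Cit.Nil.CompR
end

-- part: Cit/Nil/CompR/SecQuo_mg
section

end

-- part: Cit/Nil/CompR/MTwoB
section
set_option linter.all false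
open scoped Cfsg.Agent.FastGrp

/-!
# S1309 (n6), COMP, `r = 2`, `AllOne`, (M2): (b1), (b2) of helper386's proof (bb R18 #20410)

`OmB Om z` : the members of `C(z)` over the C-partners of `z`;
`PV Om z f` : `f : C(z) → Y` is the quotient by the centraliser of the members of `OmB Om z`, the image is a world `W2`;

* `PV.not_ithree` : no member has `Three` in `C(z)`: no `IThree` in `Y`;
* `PV.ceX_of_odd` : **(b2)** an element of odd order of `C(z)` centralising `R_a` centralises `X_z`;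
* `b1_of` : **(b1)**.
-/

set_option autoImplicit false
set_option linter.style.haveILetI false
set_option linter.unusedSectionVars false

namespace Cfsg.Agent.Cit.Nil.CompR

open Subgroup Cfsg Cfsg.Agent.Cit
open Cfsg.Agent.Cit.Nil.AN (Ce Cm)
open RTwo (BX IThree)
open RTwoM.Quo (QM)
open RG (RR WR Ov)

variable {G : Type*} [Group G] {Om : Set (Subgroup G)} {z a b t g x y : G}

/-- the quotient world at `z` -/
structure PV {Y : Type*} [Group Y] (Om : Set (Subgroup G)) (z : G) (f : ↥(centralizer ({z} : Set G)) →* Y) :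
    Prop where
  qm : QM (OmB Om z) f
  w2 : RTwo.W2 (img f (OmB Om z))
  inj : ∀ K ∈ OmB Om z, ∀ L ∈ OmB Om z, f (zz K) = f (zz L) → zz K = zz L
  odd : ∀ x ∈ sSup (OmB Om z), f x = 1 → Odd (orderOf x) → x = 1

/-- elements of odd order of `Z(⟨Om⟩)` are trivial -/
theorem odd_of_core {M Y : Type*} [Group M] [Finite M] [Group Y] {O : Set (Subgroup M)} {f : M →* Y}
    (q : QM O f) (core : pPrimeCore 2 M = ⊥) : ∀ x ∈ sSup O, f x = 1 → Odd (orderOf x) → x = 1 := by
  intro x hx hfx ho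
  have hxZ : x ∈ ZB O := by
    refine ⟨hx, mem_centralizer_iff.2 fun y hy => ?_⟩
    have h1 := (q.ker x).1 hfx
    have h2 : sSup O ≤ centralizer {x} := sSup_le fun K hK k hk => mem_centralizer_singleton_iff.2 (h1 K hK k hk).symm
    exact mem_centralizer_singleton_iff.1 (h2 hy)
  have hN : (ZB O).Normal := ⟨fun y hy g => ZB_conj q.hyp g hy⟩
  have h1 : OO (ZB O) = ⊥ := by
    have h2 : (OO (ZB O)).Normal := by
      refine ⟨fun y hy g => ?_⟩
      have h3 : cj g (ZB O) = ZB O := by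
        rw [← mem_normalizer_iff_cj, normalizer_eq_top_iff.2 hN]; exact mem_top g
      rw [← LB.cj_OO_eq h3]
      exact conj_mem_cj hy
    have h3 := Lib.Cores.le_pPrimeCore (p := 2) h2
      ((Nat.Prime.coprime_iff_not_dvd Nat.prime_two).2 (odd_OO _)).symm
    rw [core] at h3
    exact le_bot_iff.1 h3
  have h2 : zpowers x ≤ OO (ZB O) := by
    refine le_OO (zpowers_le.2 hxZ) ?_ ?_
    · intro y hy
      have h3 : ∀ u ∈ zpowers x, y * u * y⁻¹ = u := by
        intro u hu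
        have h4 : u ∈ sSup O := (zpowers_le.2 hx) hu
        rw [ZB_comm hy h4, mul_inv_cancel_right]
      rw [mem_normalizer_iff]
      intro u
      constructor
      · intro hu; rw [h3 u hu]; exact hu
      · intro hu
        have h4 := (zpowers_le.2 hx) hu
        have h5 : u ∈ sSup O := by
          have h6 := (RTwo.sSup_conj_mem q.hyp y⁻¹ h4)
          have h7 : y⁻¹ * (y * u * y⁻¹) * y⁻¹⁻¹ = u := by group
          rwa [h7] at h6
        rw [ZB_comm hy h5, mul_inv_cancel_right] at hu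
        exact hu
    · rw [Nat.card_zpowers]
      intro h3
      exact (Nat.not_even_iff_odd.2 ho) (even_iff_two_dvd.2 h3)
  rw [h1, le_bot_iff, zpowers_eq_bot] at h2
  exact h2

namespace PV

variable [Finite G] {Y : Type*} [Group Y] [Finite Y] {f : ↥(centralizer ({z} : Set G)) →* Y} (P : PV Om z f)

include P

/-- no `Three` in `C(z)`: no `IThree` in `Y` -/
theorem not_ithree (no : ∀ K ∈ restr Om (centralizer {z}), ¬ IndDefs.Three K) : ¬ IThree (img f (OmB Om z)) := by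
  intro h
  obtain ⟨K, hK, h3⟩ := h.lift P.qm P.w2 P.inj P.odd
  exact no K hK.1 h3

omit [Finite Y] P in
theorem mem_ob (hyp : Hyp Om) (hz : z ∈ RG.ZZ Om) {K : Subgroup G} (hK : K ∈ Ov Om b) (hc : RG.CP Om z b) :
    K ≤ centralizer {z} ∧ K.subgroupOf (centralizer {z}) ∈ OmB Om z := by
  obtain ⟨K₀, hK₀⟩ := hz
  have h1 : K ≤ centralizer ({z} : Set G) := by
    intro k hk
    rw [mem_centralizer_singleton_iff]
    exact (hc.2 K₀ hK₀ K hK z (by rw [← hK₀.2]; exact hyp.zz_mem hK₀.1) k hk).symm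
  refine ⟨h1, ?_⟩
  show (K.subgroupOf (centralizer ({z} : Set G))).map _ ∈ Om ∧ RG.CP Om z (zz ((K.subgroupOf (centralizer ({z} : Set G))).map _))
  rw [map_subgroupOf_eq_of_le h1, hK.2]
  exact ⟨hK.1, hc⟩

/-- `f g ∈ CX (f a)` if `g` centralises the members over `a` -/
theorem mem_cx (hyp : Hyp Om) (hz : z ∈ RG.ZZ Om) (ha : a ∈ RG.ZZ Om) (hc : RG.CP Om z a) (haz : a ∈ centralizer ({z} : Set G))
    {g : ↥(centralizer ({z} : Set G))} (hg : Ce (g : G) (RR Om a)) :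
    f g ∈ RTwo.CX (img f (OmB Om z)) (f ⟨a, haz⟩) ∧ RTwo.InZ (img f (OmB Om z)) (f ⟨a, haz⟩) := by
  obtain ⟨K, hK⟩ := ha
  have hK' : K ∈ Ov Om a := hK
  obtain ⟨h1, h2⟩ := mem_ob hyp hz hK' hc
  have e1 : zz (K.subgroupOf (centralizer ({z} : Set G))) = ⟨a, haz⟩ := by
    apply Subtype.ext
    rw [zz_map hyp h2.1, map_subgroupOf_eq_of_le h1]
    exact hK.2
  refine ⟨?_, ⟨_, ⟨_, h2, rfl⟩, by rw [P.qm.zz_map h2, e1]⟩⟩
  rw [RTwo.mem_CX]
  rintro _ ⟨⟨L, hL, rfl⟩, hLz⟩ _ ⟨l, hl, rfl⟩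
  rw [P.qm.zz_map hL, ← e1] at hLz
  have h3 := P.inj L hL _ h2 hLz
  rw [e1] at h3
  have h4 : (L.map (centralizer ({z} : Set G)).subtype) ∈ Ov Om a := by
    refine ⟨hL.1, ?_⟩
    rw [← zz_map hyp hL.1, h3]
  have h5 : g * l = l * g := Subtype.ext (hg _ (WR.le_RR h4 ⟨l, hl, rfl⟩))
  rw [← map_mul, h5, map_mul]

/-- the kernel of `f` centralises `X_z` -/
theorem ceX_of_ker (hyp : Hyp Om) (hz : z ∈ RG.ZZ Om) (w : WR Om) {g : ↥(centralizer ({z} : Set G))} (hg : f g = 1) :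
    CeX (RG.ZZ Om) (RR Om) z g := by
  intro b hb
  have hcp := (cp_iff_wr w).1 hb.2
  intro k hk
  refine RG.SS_comm (𝒦 := Ov Om b) (x := (g : G)) (fun L hL l hl => ?_) hk
  obtain ⟨h1, h2⟩ := mem_ob hyp hz hL hcp
  exact congrArg Subtype.val ((P.qm.ker g).1 hg _ h2 ⟨l, h1 hl⟩ (mem_subgroupOf.2 hl))

/-- **(b2)** -/
theorem ker_of_odd (bx : BX (img f (OmB Om z))) (hyp : Hyp Om) (hz : z ∈ RG.ZZ Om) (ha : a ∈ RG.ZZ Om) (hc : RG.CP Om z a)
    {g : ↥(centralizer ({z} : Set G))} (ho : Odd (orderOf (g : G))) (hg : Ce (g : G) (RR Om a)) : f g = 1 := by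
  have haz : a ∈ centralizer ({z} : Set G) := by
    obtain ⟨K, hK⟩ := ha
    exact (mem_ob hyp hz (b := a) hK hc).1 (by rw [← hK.2]; exact hyp.zz_mem hK.1)
  obtain ⟨h1, h2⟩ := P.mem_cx hyp hz ha hc haz hg
  have h3 := bx.sq _ _ h2 h1
  have h4 : orderOf (f g) ∣ orderOf g := orderOf_map_dvd f g
  have h5 : orderOf (f g) ∣ 2 := orderOf_dvd_of_pow_eq_one (by rw [pow_two]; exact h3)
  rw [orderOf_coe] at ho
  exact orderOf_eq_one_iff.1 (Nat.eq_one_of_dvd_coprimes (Nat.coprime_two_right.2 ho) h4 h5)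

end PV

/-- **(b1)** -/
theorem b1_step [Finite G] {Y Y' : Type*} [Group Y] [Finite Y] [Group Y'] [Finite Y'] (w : WR Om) (hyp : Hyp Om)
    {f : ↥(centralizer ({z} : Set G)) →* Y} {f' : ↥(centralizer ({a} : Set G)) →* Y'} (P : PV Om z f) (P' : PV Om a f')
    (bx : BX (img f (OmB Om z))) (bx' : BX (img f' (OmB Om a))) (hz : z ∈ RG.ZZ Om) (ha : a ∈ RG.ZZ Om) (hc : RG.CP Om z a)
    (ht : t ∈ RG.ZZ Om) (hat : RG.CP Om a t) (htz : t * z = z * t) :
    CeX (RG.ZZ Om) (RR Om) z t ∨ CeX (RG.ZZ Om) (RR Om) z (t * a) := by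
  have hca : RG.CP Om a z := ⟨hc.1.symm, fun K hK L hL k hk l hl => (hc.2 L hL K hK l hl k hk).symm⟩
  have haz : a ∈ centralizer ({z} : Set G) := by
    obtain ⟨K, hK⟩ := ha
    exact (PV.mem_ob hyp hz (b := a) hK hc).1 (by rw [← hK.2]; exact hyp.zz_mem hK.1)
  have htzC : t ∈ centralizer ({z} : Set G) := mem_centralizer_singleton_iff.2 htz
  have hta : Ce t (RR Om a) := by
    intro k hk
    exact (w.CP_RR hat hk (w.RR_mem ht)).symm
  obtain ⟨h1, h2⟩ := P.mem_cx (g := ⟨t, htzC⟩) hyp hz ha hc haz hta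
  have h3 := bx.fix _ _ h2 h1 (by
    intro c' hc' hca' ho'
    obtain ⟨c₀, hc₀, rfl⟩ := RTwo.sSup_img_le hc'
    obtain ⟨s, m, hm, hsm⟩ : ∃ s m : ℕ, Odd m ∧ orderOf c₀ = 2 ^ s * m := by
      obtain ⟨n, m, hm, hnm⟩ := Nat.exists_eq_two_pow_mul_odd (orderOf_pos c₀).ne'
      exact ⟨n, m, hm, hnm⟩
    obtain ⟨c, hce⟩ : ∃ c, c = c₀ ^ 2 ^ s := ⟨_, rfl⟩
    have hcS : c ∈ sSup (OmB Om z) := by rw [hce]; exact pow_mem hc₀ _
    have hco : Odd (orderOf c) := by
      have h1 : c ^ m = 1 := by rw [hce, ← pow_mul, ← hsm, pow_orderOf_eq_one]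
      exact hm.of_dvd_nat (orderOf_dvd_of_pow_eq_one h1)
    have hfc : f c = f c₀ ^ 2 ^ s := by rw [hce, map_pow]
    -- `c` commutes with `a`
    have hcomm : (c : G) * a = a * c := by
      obtain ⟨K, hK⟩ := ha
      obtain ⟨e1, e2⟩ := PV.mem_ob hyp hz (b := a) hK hc
      have e3 : zz (K.subgroupOf (centralizer ({z} : Set G))) = ⟨a, haz⟩ := by
        apply Subtype.ext
        rw [zz_map hyp e2.1, map_subgroupOf_eq_of_le e1]
        exact hK.2
      have e4 : f c * f ⟨a, haz⟩ = f ⟨a, haz⟩ * f c := by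
        rw [hfc]
        exact ((show Commute (f c₀) (f ⟨a, haz⟩) from hca').pow_left _).eq
      have e5 := RTwo.QMcom P.qm P.inj e2 (g := c) (by rw [e3]; exact e4)
      rw [e3] at e5
      exact congrArg Subtype.val e5
    -- `c` centralises `R_z`
    have hcz : Ce (c : G) (RR Om z) := by
      have h1 : sSup (OmB Om z) ≤ (centralizer ((RR Om z : Subgroup G) : Set G)).comap
          (centralizer ({z} : Set G)).subtype := by
        refine sSup_le fun A hA x hx => ?_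
        rw [mem_comap, mem_centralizer_iff]
        intro k hk
        exact w.CP_RR hA.2 hk (WR.le_RR (K := A.map (centralizer ({z} : Set G)).subtype) ⟨hA.1, rfl⟩ ⟨x, hx, rfl⟩)
      intro k hk
      exact (mem_centralizer_iff.1 (h1 hcS) k hk).symm
    have hcaC : (c : G) ∈ centralizer ({a} : Set G) := mem_centralizer_singleton_iff.2 hcomm
    have h4 : f' ⟨c, hcaC⟩ = 1 := P'.ker_of_odd bx' hyp ha hz hca (g := ⟨c, hcaC⟩) (by
      show Odd (orderOf (c : G)); rw [orderOf_coe]; exact hco) hcz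
    have h5 := P'.ceX_of_ker hyp ha w h4 t ⟨ht, (cp_iff_wr w).2 hat⟩ t (w.RR_mem ht)
    -- back
    have h6 : c * (⟨t, htzC⟩ : ↥(centralizer ({z} : Set G))) = ⟨t, htzC⟩ * c := Subtype.ext h5
    refine (Three.comm_of_pow_two ho' (n := s) ?_).eq
    rw [← hfc]
    show f c * f ⟨t, htzC⟩ = f ⟨t, htzC⟩ * f c
    rw [← map_mul, h6, map_mul])
  rcases h3 with h3 | h3
  · left
    exact P.ceX_of_ker hyp hz w h3
  · right
    have h4 : f (⟨t, htzC⟩ * ⟨a, haz⟩) = 1 := by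
      rw [map_mul, h3, ← map_mul]
      have h5 : (⟨a, haz⟩ : ↥(centralizer ({z} : Set G))) * ⟨a, haz⟩ = 1 := Subtype.ext (w.zz_sq ha)
      rw [h5, map_one]
    exact P.ceX_of_ker hyp hz w h4

end Cfsg.Agent.Cit.Nil.CompR
end

-- part: Cit/Nil/RTwo/InnerAw_mg
section

end

-- part: Cit/Nil/LO/CnPair
section
prune_inst 0x700000502210000000050010000004000004020043080038600c02014e32008000060068800c12001088000000002003980010020800000000000000040000002a52068248a100200000003007180c00000000000000000000000000041000000000000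
set_option linter.all false
open scoped Cfsg.Agent.FastGrp

/-!
# Lie odd sections, the chart part: two commuting `Q₈` over the same involution, type `C n` (S1309, (n1), piece (C))

* `abs` : two commuting involutory automorphisms `f`, `g` of an abelian group: `f`, `g` or `f g` is `± 1`, or three of the
  four weights occur (the version with a count);
* `pm` : **LEMMA S**: `g`, `g'` induce commuting involutions on the short root group `X y`, normalise `X (r - y)`, `X r` and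
  centralise `Z (r - 2 y)`: one of `g`, `g'`, `g g'` is `± 1` on `X y`
  [`|X (r - y)| ≤ |Z r|²`, a vector of a weight of `X y` gives a subgroup of order `|Z r|` of `X (r - y)` of this weight];
* `e_cent`, `out2_C` : **`Out2` for the type `C n`, `n ≥ 2`**.
-/

set_option autoImplicit false
set_option linter.unusedSectionVars false
set_option linter.dupNamespace false
set_option linter.style.haveILetI false

namespace Cfsg.Agent.LOC.CnPair

open CoxeterSystem Cfsg.Agent.ChevalleyStructure.CoxeterGeom Cfsg.Agent.Tits.Roots Cfsg.Agent.Tits.Core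
  Cfsg.Agent.Tits.RootComb Cfsg.Agent.Nodes.Comb Cfsg.Agent.Nodes.SubComb Cfsg.Agent.Nodes.Reps
  Cfsg.Agent.Nodes.Coroot Cfsg.Agent.Nodes.PosPair Cfsg.Agent.Nodes.BNOf Cfsg.Agent.Nodes.RGDLib
  Cfsg.Agent.Nodes.Chart Cfsg.Agent.Nodes.ClsNorm Cfsg.Agent.Nodes.ChartLoc Cfsg.Agent.Nodes.ChartFrame
  Cfsg.Agent.Nodes.Bruhat Cfsg.Agent.Nodes.CenVV Cfsg.Agent.LOC.ChartDefs Cfsg.Agent.LOC.LemS Cfsg.Agent.LOC.Wt
  Cfsg.Agent.LOC.ShortAll Cfsg.Agent.LOC.CnNd Cfsg.Agent.LOC.StdChart Cfsg.Agent.LOC.OutTwo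
  Cfsg.Agent.LOC.TypeCn
open scoped commutatorElement

/-! ### Weights -/

section abs

variable {V W : Type*} [AddCommGroup V] [AddCommGroup W]

/-- the sign -/
def sgn {V : Type*} [AddCommGroup V] (b : Bool) (v : V) : V := cond b v (-v)

theorem dbl {v : V} (hV : ∀ v : V, v + v = 0 → v = 0) {u : V} (h : v + v = u + u) : v = u := by
  have h1 : (v - u) + (v - u) = 0 := by
    calc (v - u) + (v - u) = (v + v) - (u + u) := by abel
      _ = 0 := by rw [h, sub_self]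
  exact sub_eq_zero.1 (hV _ h1)

/-- the projection -/
def prj (f g : AddMonoid.End V) (b c : Bool) (v : V) : V := v + sgn b (f v) + sgn c (g v) + sgn b (sgn c (f (g v)))

theorem f_prj {f g : AddMonoid.End V} (hf : ∀ v, f (f v) = v) (b c : Bool) (v : V) :
    f (prj f g b c v) = sgn b (prj f g b c v) := by
  cases b <;> cases c <;> simp only [prj, sgn, cond_true, cond_false, map_add, map_neg, hf] <;> abel

theorem g_prj {f g : AddMonoid.End V} (hg : ∀ v, g (g v) = v) (hfg : ∀ v, f (g v) = g (f v)) (b c : Bool) (v : V) :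
    g (prj f g b c v) = sgn c (prj f g b c v) := by
  have h1 : ∀ v, g (f (g v)) = f v := fun v => by rw [← hfg, hg]
  have h2 : ∀ v, g (f v) = f (g v) := fun v => (hfg v).symm
  cases b <;> cases c <;> simp only [prj, sgn, cond_true, cond_false, map_add, map_neg, hg, h1, h2] <;> abel

/-- vectors of the four weights are independent -/
theorem indep (hW : ∀ w : W, w + w = 0 → w = 0) {f g : AddMonoid.End W} {w : Bool → Bool → W}
    (hf : ∀ b c, f (w b c) = sgn b (w b c)) (hg : ∀ b c, g (w b c) = sgn c (w b c))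
    (h0 : w true true + w true false + w false true + w false false = 0) (b c : Bool) : w b c = 0 := by
  have e1 := congrArg f h0
  simp only [map_add, hf, map_zero, sgn, cond_true, cond_false] at e1
  have e2 : w true true + w true false = 0 := by
    apply hW
    calc _ = (w true true + w true false + w false true + w false false) +
        (w true true + w true false + -w false true + -w false false) := by abel
      _ = 0 := by rw [h0, e1, add_zero]
  have e3 : w false true + w false false = 0 := by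
    calc _ = (w true true + w true false + w false true + w false false) - (w true true + w true false) := by abel
      _ = 0 := by rw [h0, e2, sub_zero]
  have e4 := congrArg g e2
  have e5 := congrArg g e3
  simp only [map_add, hg, map_zero, sgn, cond_true, cond_false] at e4 e5
  have e6 : w true true = 0 := by
    apply hW
    calc _ = (w true true + w true false) + (w true true + -w true false) := by abel
      _ = 0 := by rw [e2, e4, add_zero]
  have e7 : w false true = 0 := by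
    apply hW
    calc _ = (w false true + w false false) + (w false true + -w false false) := by abel
      _ = 0 := by rw [e3, e5, add_zero]
  have e8 : w true false = 0 := by rwa [e6, zero_add] at e2
  have e9 : w false false = 0 := by rwa [e7, zero_add] at e3
  cases b <;> cases c <;> assumption

theorem card_four [Finite W] (hW : ∀ w : W, w + w = 0 → w = 0) {f g : AddMonoid.End W}
    (L : Bool → Bool → AddSubgroup W) (hf : ∀ b c, ∀ w ∈ L b c, f w = sgn b w) (hg : ∀ b c, ∀ w ∈ L b c, g w = sgn c w) :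
    Nat.card (L true true) * Nat.card (L true false) * (Nat.card (L false true) * Nat.card (L false false)) ≤
      Nat.card W := by
  rw [← Nat.card_prod, ← Nat.card_prod, ← Nat.card_prod]
  refine Nat.card_le_card_of_injective (fun x => (x.1.1 : W) + x.1.2 + x.2.1 + x.2.2) ?_
  rintro ⟨⟨x1, x2⟩, x3, x4⟩ ⟨⟨y1, y2⟩, y3, y4⟩ h
  change (x1 : W) + x2 + x3 + x4 = (y1 : W) + y2 + y3 + y4 at h
  set w : Bool → Bool → W := fun b c => cond b (cond c ((x1 - y1 : L true true) : W) ((x2 - y2 : L true false) : W))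
    (cond c ((x3 - y3 : L false true) : W) ((x4 - y4 : L false false) : W)) with hw
  have hmem : ∀ b c, w b c ∈ L b c := by
    intro b c
    cases b <;> cases c
    · exact (x4 - y4).2
    · exact (x3 - y3).2
    · exact (x2 - y2).2
    · exact (x1 - y1).2
  have h1 := indep hW (w := w) (fun b c => hf b c _ (hmem b c)) (fun b c => hg b c _ (hmem b c)) (by
    change ((x1 - y1 : L true true) : W) + ((x2 - y2 : L true false) : W) + ((x3 - y3 : L false true) : W) +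
      ((x4 - y4 : L false false) : W) = 0
    simp only [AddSubgroup.coe_sub]
    calc _ = ((x1 : W) + x2 + x3 + x4) - ((y1 : W) + y2 + y3 + y4) := by abel
      _ = 0 := by rw [h, sub_self])
  have k1 : x1 = y1 := sub_eq_zero.1 (Subtype.ext (h1 true true))
  have k2 : x2 = y2 := sub_eq_zero.1 (Subtype.ext (h1 true false))
  have k3 : x3 = y3 := sub_eq_zero.1 (Subtype.ext (h1 false true))
  have k4 : x4 = y4 := sub_eq_zero.1 (Subtype.ext (h1 false false))
  rw [k1, k2, k3, k4]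

/-- **At most two weights.** -/
theorem abs [Finite W] (hV : ∀ v : V, v + v = 0 → v = 0) (hW : ∀ w : W, w + w = 0 → w = 0)
    {f g : AddMonoid.End V} {f' g' : AddMonoid.End W} (hf : ∀ v, f (f v) = v) (hg : ∀ v, g (g v) = v)
    (hfg : ∀ v, f (g v) = g (f v)) {q : ℕ}
    (H : ∀ v : V, v ≠ 0 → ∀ b c : Bool, f v = sgn b v → g v = sgn c v →
      ∃ L : AddSubgroup W, q ≤ Nat.card L ∧ ∀ w ∈ L, f' w = sgn b w ∧ g' w = sgn c w)
    (hq : Nat.card W < q * q * q) :
    ((∀ v, f v = v) ∨ ∀ v, f v = -v) ∨ ((∀ v, g v = v) ∨ ∀ v, g v = -v) ∨ (∀ v, f (g v) = v) ∨ ∀ v, f (g v) = -v := by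
  have key : ∀ b c, (∀ v : V, prj f g b c v = 0) ∨
      ∃ L : AddSubgroup W, q ≤ Nat.card L ∧ ∀ w ∈ L, f' w = sgn b w ∧ g' w = sgn c w := by
    intro b c
    by_cases h0 : ∀ v : V, prj f g b c v = 0
    · exact Or.inl h0
    · right
      push Not at h0
      obtain ⟨v, hv⟩ := h0
      exact H _ hv b c (f_prj hf b c v) (g_prj hg hfg b c v)
  have hL : ∀ b c, ∃ L : AddSubgroup W, ((∀ v : V, prj f g b c v = 0) ∨ q ≤ Nat.card L) ∧
      ∀ w ∈ L, f' w = sgn b w ∧ g' w = sgn c w := by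
    intro b c
    rcases key b c with h1 | ⟨L, h1, h2⟩
    · refine ⟨⊥, Or.inl h1, fun w hw => ?_⟩
      rw [AddSubgroup.mem_bot] at hw
      subst hw
      constructor <;> [cases b; cases c] <;> simp [sgn]
    · exact ⟨L, Or.inr h1, h2⟩
  choose L hL1 hL2 using hL
  have hc := card_four hW L (fun b c w hw => (hL2 b c w hw).1) (fun b c w hw => (hL2 b c w hw).2)
  have pos : ∀ b c, 1 ≤ Nat.card (L b c) := fun b c => Nat.card_pos
  have two : ∀ {x y : V}, x + x = y + y → x = y := fun {x y} h => dbl hV h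
  -- two weights do not occur
  have tt := hL1 true true
  have tf := hL1 true false
  have ft := hL1 false true
  have ff := hL1 false false
  have p1 := pos true true
  have p2 := pos true false
  have p3 := pos false true
  have p4 := pos false false
  have three : ∀ {a b c d : ℕ}, q ≤ a → q ≤ b → q ≤ c → 1 ≤ d → a * b * c * d ≤ Nat.card W → False := by
    intro a b c d ha hb hc hd h
    have h1 : q * q * q ≤ a * b * c := Nat.mul_le_mul (Nat.mul_le_mul ha hb) hc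
    have h2 : a * b * c * 1 ≤ a * b * c * d := Nat.mul_le_mul_left _ hd
    omega
  have fin : ∀ {x y A B : V}, A = 0 → B = 0 → (x + x) - (y + y) = A + B → x = y := by
    intro x y A B hA hB h
    exact two (sub_eq_zero.1 (by rw [h, hA, hB, add_zero]))
  simp only [prj, sgn, cond_true, cond_false] at tt tf ft ff
  rcases tt with tt | tt
  · rcases tf with tf | tf
    · left; right; intro v
      exact (fin (tt v) (tf v) (by abel : (v + v) - (-f v + -f v) = _) : v = -f v) |> fun h => by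
        rw [← neg_neg (f v), ← h]
    · rcases ft with ft | ft
      · right; left; right; intro v
        have h := fin (x := v) (y := -g v) (tt v) (ft v) (by abel)
        rw [← neg_neg (g v), ← h]
      · rcases ff with ff | ff
        · right; right; right; intro v
          have h := fin (x := v) (y := -f (g v)) (tt v) (ff v) (by abel)
          rw [← neg_neg (f (g v)), ← h]
        · refine (three ff ft tf p1 ?_).elim
          refine le_trans (le_of_eq ?_) hc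
          ring
  · rcases tf with tf | tf
    · rcases ft with ft | ft
      · right; right; left; intro v
        exact (fin (x := v) (y := f (g v)) (tf v) (ft v) (by abel)).symm
      · rcases ff with ff | ff
        · right; left; left; intro v
          exact (fin (x := v) (y := g v) (tf v) (ff v) (by abel)).symm
        · refine (three ff ft tt p2 ?_).elim
          refine le_trans (le_of_eq ?_) hc
          ring
    · rcases ft with ft | ft
      · rcases ff with ff | ff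
        · left; left; intro v
          exact (fin (x := v) (y := f v) (ft v) (ff v) (by abel)).symm
        · refine (three ff tf tt p3 ?_).elim
          refine le_trans (le_of_eq ?_) hc
          ring
      · refine (three tt tf ft p4 ?_).elim
        refine le_trans (le_of_eq ?_) hc
        ring

end abs

/-! ### Lemma S -/

section pl

variable {I W Y : Type*} [Fintype I] [DecidableEq I] [Group W] [Fintype W] [Group Y] {M : CoxeterMatrix I}
  {cs : CoxeterSystem M W} {A : I → I → ℤ} {h : IsCartan M A} {p : ℕ} {T : Subgroup Y} {n : I → Y}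
  {X : (I → ℤ) → Subgroup Y} {R : Set (I → ℤ)} {Z : (I → ℤ) → Subgroup Y} {z : (I → ℤ) → Y}
  {r y : I → ℤ}

/-- `g` normalises `X y`, `X (r - y)`, `X r` and centralises `Z (r - 2 y)` -/
structure Nm (X Z : (I → ℤ) → Subgroup Y) (r y : I → ℤ) (g : Y) : Prop where
  ny : ∀ u ∈ X y, g * u * g⁻¹ ∈ X y
  nw : ∀ u ∈ X (r - y), g * u * g⁻¹ ∈ X (r - y)
  nr : ∀ u ∈ X r, g * u * g⁻¹ ∈ X r
  cq : ∀ x ∈ Z (r - (2 : ℤ) • y), g * x = x * g

variable (P : Pl cs h R r y) (C : Cls cs h p T n X R Z z)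

/-- the weight of `LL u` -/
theorem LL_fix {u k g : Y} (D : UK X Z r y u k) (N : Nm X Z r y g) (hg : g * u * g⁻¹ = u) {c : Y}
    (hc : c ∈ LL P C u k) : g * c * g⁻¹ = c := by
  obtain ⟨x, hx, rfl⟩ := (mem_LL P C D).1 hc
  have hxX := C.le _ (P.memq C) hx
  have h1 := cc_eq u k x
  set c := cc u k x with hcd
  have h2 : u * x * u⁻¹ = x * (g * c * g⁻¹) * (g * (k * x * k⁻¹) * g⁻¹) := by
    have hx' := N.cq x hx
    calc u * x * u⁻¹ = (g * u * g⁻¹) * x * (g * u * g⁻¹)⁻¹ := by rw [hg]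
      _ = g * u * g⁻¹ * (x * g) * u⁻¹ * g⁻¹ := by group
      _ = g * u * g⁻¹ * (g * x) * u⁻¹ * g⁻¹ := by rw [hx']
      _ = g * (u * x * u⁻¹) * g⁻¹ := by group
      _ = (g * x) * c * (k * x * k⁻¹) * g⁻¹ := by rw [h1]; group
      _ = x * (g * c * g⁻¹) * (g * (k * x * k⁻¹) * g⁻¹) := by rw [hx']; group
  exact (cc_of_eq P C D hxX (N.nw _ (D.c x hxX)) (N.nr _ (D.d x hxX)) h2).1.symm

theorem LL_inv [Finite Y] [Fact p.Prime] (hp2 : p ≠ 2) {u k g : Y} (D : UK X Z r y u k) (N : Nm X Z r y g)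
    (hg : g * u * g⁻¹ = u⁻¹) {c : Y} (hc : c ∈ LL P C u k) : g * c * g⁻¹ = c⁻¹ := by
  obtain ⟨x, hx, rfl⟩ := (mem_LL P C D).1 hc
  have hxX := C.le _ (P.memq C) hx
  have h1 := cc_eq u k x
  have hcw := D.c x hxX
  have hdr := D.d x hxX
  set c := cc u k x with hcd
  set d := k * x * k⁻¹ with hdd
  have hc' := N.nw _ hcw
  have hd' := N.nr _ hdr
  set c' := g * c * g⁻¹ with hcd'
  set d' := g * d * g⁻¹ with hdd'
  have h2 : u⁻¹ * x * u = x * c' * d' := by
    have hx' := N.cq x hx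
    calc u⁻¹ * x * u = (g * u * g⁻¹) * x * (g * u * g⁻¹)⁻¹ := by rw [hg]; group
      _ = g * u * g⁻¹ * (x * g) * u⁻¹ * g⁻¹ := by group
      _ = g * u * g⁻¹ * (g * x) * u⁻¹ * g⁻¹ := by rw [hx']
      _ = g * (u * x * u⁻¹) * g⁻¹ := by group
      _ = (g * x) * c * d * g⁻¹ := by rw [h1]; group
      _ = x * c' * d' := by rw [hx', hcd', hdd']; group
  -- `κ = [u, c']`
  have hκ : ⁅u, c'⁆ ∈ Z r := commutator_VV_le C hp2 P.mem
    (Subgroup.commutator_mem_commutator (P.X_y_le (X := X) D.mem) (P.X_w_le (X := X) hc'))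
  have hκr := C.le _ P.mem hκ
  have cd' := P.cyr C.rgd D.mem hd'
  have h3 : (1 : Y) = c * d * ⁅u, c'⁆ * c' * d' := by
    have h4 : x = x * (c * d * ⁅u, c'⁆ * c' * d') := by
      calc x = u * (u⁻¹ * x * u) * u⁻¹ := by group
        _ = u * (x * c' * d') * u⁻¹ := by rw [h2]
        _ = (u * x * u⁻¹) * (u * c' * u⁻¹) * ((u * d') * u⁻¹) := by group
        _ = (x * c * d) * (u * c' * u⁻¹) * ((d' * u) * u⁻¹) := by rw [h1, cd']
        _ = _ := by rw [commutatorElement_def]; group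
    exact (mul_eq_left.1 h4.symm).symm
  have k1 : c' * (d * ⁅u, c'⁆) = (d * ⁅u, c'⁆) * c' := P.cwr C.rgd hc' (mul_mem hdr hκr)
  have h5 : (c * c') * (d * ⁅u, c'⁆ * d') = 1 * 1 := by
    calc (c * c') * (d * ⁅u, c'⁆ * d') = c * (c' * (d * ⁅u, c'⁆)) * d' := by group
      _ = c * ((d * ⁅u, c'⁆) * c') * d' := by rw [k1]
      _ = c * d * ⁅u, c'⁆ * c' * d' := by group
      _ = 1 := h3.symm
      _ = 1 * 1 := (one_mul 1).symm
  have h6 := (uniq P C.rgd (mul_mem hcw hc') (mul_mem (mul_mem hdr hκr) hd') (one_mem _) (one_mem _) h5).1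
  exact eq_inv_of_mul_eq_one_right h6

variable [Finite Y] [Fact p.Prime] (hp2 : p ≠ 2) (hexp : ∀ x ∈ Z r, x ^ p = 1)

include P C hp2 hexp

/-- **LEMMA S.** -/
theorem pm {g g' : Y} (N : Nm X Z r y g) (N' : Nm X Z r y g') (hg : ∀ u ∈ X y, g * (g * u * g⁻¹) * g⁻¹ = u)
    (hg' : ∀ u ∈ X y, g' * (g' * u * g'⁻¹) * g'⁻¹ = u)
    (hgg : ∀ u ∈ X y, g * (g' * u * g'⁻¹) * g⁻¹ = g' * (g * u * g⁻¹) * g'⁻¹) :
    ((∀ u ∈ X y, g * u * g⁻¹ = u) ∨ ∀ u ∈ X y, g * u * g⁻¹ = u⁻¹) ∨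
    ((∀ u ∈ X y, g' * u * g'⁻¹ = u) ∨ ∀ u ∈ X y, g' * u * g'⁻¹ = u⁻¹) ∨
    (∀ u ∈ X y, g * (g' * u * g'⁻¹) * g⁻¹ = u) ∨ ∀ u ∈ X y, g * (g' * u * g'⁻¹) * g⁻¹ = u⁻¹ := by
  letI : AddCommGroup (Additive (X y)) :=
    { (inferInstance : AddGroup (Additive (X y))) with
      add_comm := fun a b => by
        apply Additive.toMul.injective
        apply Subtype.ext
        exact P.aby C (a.toMul : X y).2 (b.toMul : X y).2 }
  letI : AddCommGroup (Additive (X (r - y))) :=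
    { (inferInstance : AddGroup (Additive (X (r - y)))) with
      add_comm := fun a b => by
        apply Additive.toMul.injective
        apply Subtype.ext
        exact P.abw C (a.toMul : X (r - y)).2 (b.toMul : X (r - y)).2 }
  haveI : Finite (Additive (X (r - y))) := inferInstanceAs (Finite (X (r - y)))
  have odd : ∀ {x : I → ℤ}, IsRoot cs h x → ∀ {a : Y}, a ∈ X x → a * a = 1 → a = 1 := fun hx a ha h1 =>
    eq_one_of_sq hp2 (C.rgd.pgrp' hx) ha h1
  have hfix : ∀ {x : I → ℤ} {g : Y} (hg : ∀ u ∈ X x, g * u * g⁻¹ ∈ X x) (v : Additive (X x)),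
      (((Irr.act g hg v).toMul : X x) : Y) = g * ((v.toMul : X x) : Y) * g⁻¹ := fun _ _ => rfl
  have key := abs (V := Additive (X y)) (W := Additive (X (r - y))) (f := Irr.act g N.ny) (g := Irr.act g' N'.ny)
    (f' := Irr.act g N.nw) (g' := Irr.act g' N'.nw) (q := Nat.card (Z r)) ?_ ?_ ?_ ?_ ?_ ?_ ?_
  · rcases key with (k | k) | (k | k) | k | k
    · refine Or.inl (Or.inl fun u hu => ?_)
      exact congrArg (fun v : Additive (X y) => ((v.toMul : X y) : Y)) (k (Additive.ofMul ⟨u, hu⟩))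
    · refine Or.inl (Or.inr fun u hu => ?_)
      exact congrArg (fun v : Additive (X y) => ((v.toMul : X y) : Y)) (k (Additive.ofMul ⟨u, hu⟩))
    · refine Or.inr (Or.inl (Or.inl fun u hu => ?_))
      exact congrArg (fun v : Additive (X y) => ((v.toMul : X y) : Y)) (k (Additive.ofMul ⟨u, hu⟩))
    · refine Or.inr (Or.inl (Or.inr fun u hu => ?_))
      exact congrArg (fun v : Additive (X y) => ((v.toMul : X y) : Y)) (k (Additive.ofMul ⟨u, hu⟩))
    · refine Or.inr (Or.inr (Or.inl fun u hu => ?_))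
      exact congrArg (fun v : Additive (X y) => ((v.toMul : X y) : Y)) (k (Additive.ofMul ⟨u, hu⟩))
    · refine Or.inr (Or.inr (Or.inr fun u hu => ?_))
      exact congrArg (fun v : Additive (X y) => ((v.toMul : X y) : Y)) (k (Additive.ofMul ⟨u, hu⟩))
  · intro v hv
    apply Additive.toMul.injective
    apply Subtype.ext
    exact odd P.root (v.toMul : X y).2 (congrArg (fun v : Additive (X y) => ((v.toMul : X y) : Y)) hv)
  · intro v hv
    apply Additive.toMul.injective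
    apply Subtype.ext
    exact odd P.rootw (v.toMul : X (r - y)).2
      (congrArg (fun v : Additive (X (r - y)) => ((v.toMul : X (r - y)) : Y)) hv)
  · intro v
    apply Additive.toMul.injective
    apply Subtype.ext
    exact hg _ (v.toMul : X y).2
  · intro v
    apply Additive.toMul.injective
    apply Subtype.ext
    exact hg' _ (v.toMul : X y).2
  · intro v
    apply Additive.toMul.injective
    apply Subtype.ext
    exact hgg _ (v.toMul : X y).2
  · intro v hv b c hb hc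
    set u : Y := ((v.toMul : X y) : Y) with hu
    have hu1 : u ≠ 1 := by
      intro h0
      apply hv
      apply Additive.toMul.injective
      exact Subtype.ext h0
    obtain ⟨k, D⟩ := exists_uk P C (v.toMul : X y).2 hu1
    refine ⟨Subgroup.toAddSubgroup ((LL P C u k).subgroupOf (X (r - y))), ?_, ?_⟩
    · have h1 : Nat.card (Subgroup.toAddSubgroup ((LL P C u k).subgroupOf (X (r - y)))) = Nat.card (LL P C u k) :=
        Nat.card_congr (Subgroup.subgroupOfEquivOfLe (LL_le P C D)).toEquiv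
      rw [h1, card_LL P C D, card_Zq P C]
    · intro w hw
      have hw' : ((w.toMul : X (r - y)) : Y) ∈ LL P C u k := hw
      constructor
      · apply Additive.toMul.injective
        apply Subtype.ext
        cases b
        · exact LL_inv P C hp2 D N
            (congrArg (fun v : Additive (X y) => ((v.toMul : X y) : Y)) hb) hw'
        · exact LL_fix P C D N
            (congrArg (fun v : Additive (X y) => ((v.toMul : X y) : Y)) hb) hw'
      · apply Additive.toMul.injective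
        apply Subtype.ext
        cases c
        · exact LL_inv P C hp2 D N'
            (congrArg (fun v : Additive (X y) => ((v.toMul : X y) : Y)) hc) hw'
        · exact LL_fix P C D N'
            (congrArg (fun v : Additive (X y) => ((v.toMul : X y) : Y)) hc) hw'
  · have h1 : Nat.card (Additive (X (r - y))) = Nat.card (X y) := card_w P C
    have h2 := card_y P C hp2 hexp
    have h3 : 1 < Nat.card (Z r) := by
      by_contra hcon
      push Not at hcon
      exact C.ne_bot _ P.mem (Subgroup.eq_bot_of_card_le _ hcon)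
    rw [h1]
    refine lt_of_le_of_lt h2 ?_
    rw [pow_two]
    exact lt_mul_of_one_lt_right (Nat.mul_pos (by omega) (by omega)) h3

/-- an involution which is `± 1` on `X (r - y)` acts on `X r` as `1` or `z r` -/
theorem one_or_z (hne : ∃ t ∈ X (r - (2 : ℤ) • y), t ∉ Z (r - (2 : ℤ) • y)) {g : Y} (hg : g * g = 1)
    (nr : ∀ u ∈ X r, g * u * g⁻¹ ∈ X r) (nq : ∀ u ∈ X (r - (2 : ℤ) • y), g * u * g⁻¹ ∈ X (r - (2 : ℤ) • y))
    (cr : ∀ a ∈ Z r, g * a = a * g) (cz : g * z r = z r * g)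
    (hpm : (∀ u ∈ X (r - y), g * u * g⁻¹ = u) ∨ ∀ u ∈ X (r - y), g * u * g⁻¹ = u⁻¹) :
    (∀ x ∈ X r, g * x * g⁻¹ = x) ∨ ∀ x ∈ X r, g * x * g⁻¹ = z r * x * z r := by
  have hzz := C.z_sq r P.mem
  have hzi : (z r)⁻¹ = z r := inv_eq_of_mul_eq_one_left hzz
  have tor : ∀ {x : I → ℤ}, IsRoot cs h x → ∀ u ∈ X x, z r * u * z r ∈ X x := by
    intro x hx u hu
    have h1 := C.rgd.tor x hx _ (C.z_torus r P.mem)
    rw [← h1]
    have h2 : z r * u * z r = z r * u * (z r)⁻¹ := by rw [hzi]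
    rw [h2]
    exact conj_mem_cj.2 hu
  rcases hpm with h1 | h1
  · rcases dich P C hp2 hexp hne hg nr nq cr (fun a ha => by
      calc g * a = (g * a * g⁻¹) * g := by group
        _ = a * g := by rw [h1 a ha]) cz with h2 | h2
    · left
      intro x hx
      rw [h2 x hx]; group
    · exact Or.inr h2
  · have hgg : (g * z r) * (g * z r) = 1 := by
      calc (g * z r) * (g * z r) = g * (z r * g) * z r := by group
        _ = (g * g) * (z r * z r) := by rw [← cz]; group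
        _ = 1 := by rw [hg, hzz, one_mul]
    have hconj : ∀ x, (g * z r) * x * (g * z r)⁻¹ = g * (z r * x * z r) * g⁻¹ := by
      intro x
      rw [mul_inv_rev, hzi]; group
    have hw0 : r - y ≠ r := P.ne 1 (-1) 1 0 (by module) (by module) (by omega)
    have hw0' : r - y ≠ -r := P.ne 1 (-1) (-1) 0 (by module) (by module) (by omega)
    rcases dich P C hp2 hexp hne hgg (fun x hx => by rw [hconj]; exact nr _ (tor P.L.root x hx))
      (fun x hx => by rw [hconj]; exact nq _ (tor P.rootq x hx))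
      (fun a ha => by rw [mul_assoc, C.z_cent r P.mem a ha, ← mul_assoc, cr a ha, mul_assoc])
      (fun a ha => by
        have h2 : (g * z r) * a * (g * z r)⁻¹ = a := by
          rw [hconj, C.z_inv r P.mem _ P.rootw hw0 hw0' (by rw [P.fwr]; exact P.pos.ne') a ha, h1 _ (inv_mem ha),
            inv_inv]
        calc (g * z r) * a = ((g * z r) * a * (g * z r)⁻¹) * (g * z r) := by group
          _ = a * (g * z r) := by rw [h2])
      (by rw [mul_assoc, ← mul_assoc (z r) g, ← cz, mul_assoc]) with h2 | h2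
    · right
      intro x hx
      have hx' := tor P.L.root x hx
      have h3 := h2 _ hx'
      have h4 : (g * z r) * (z r * x * z r) * (g * z r)⁻¹ = z r * x * z r := by rw [h3]; group
      rw [hconj] at h4
      have h5 : z r * (z r * x * z r) * z r = x := by
        calc z r * (z r * x * z r) * z r = (z r * z r) * x * (z r * z r) := by group
          _ = x := by rw [hzz, one_mul, mul_one]
      rwa [h5] at h4
    · left
      intro x hx
      have hx' := tor P.L.root x hx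
      have h4 := h2 _ hx'
      rw [hconj] at h4
      have h5 : z r * (z r * x * z r) * z r = x := by
        calc z r * (z r * x * z r) * z r = (z r * z r) * x * (z r * z r) := by group
          _ = x := by rw [hzz, one_mul, mul_one]
      rwa [h5] at h4

/-- **`e` centralises `X r`.** -/
theorem e_cent (hne : ∃ t ∈ X (r - (2 : ℤ) • y), t ∉ Z (r - (2 : ℤ) • y)) {A : Subgroup Y}
    (nor : ∀ x, IsRoot cs h x → ∀ g ∈ A, ∀ u ∈ X x, g * u * g⁻¹ ∈ X x)
    (cen : ∀ x ∈ R, ∀ g ∈ A, ∀ u ∈ Z x, g * u = u * g) {K K' : Subgroup Y} {e : Y} (hK : QK K e) (hK' : QK K' e)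
    (hKK : ∀ a ∈ K, ∀ b ∈ K', a * b = b * a) (hA : K ≤ A) (hA' : K' ≤ A)
    (hew : ∀ u ∈ X (r - y), e * u = u * e) : ∀ x ∈ X r, e * x = x * e := by
  have hq := P.memq C
  have cz : ∀ g ∈ A, g * z r = z r * g := by
    intro g hg
    have h3 : Z r ⊔ Z (-r) ≤ Subgroup.centralizer {g} := by
      refine sup_le (fun a ha => ?_) (fun a ha => ?_)
      · rw [Subgroup.mem_centralizer_singleton_iff]; exact (cen r P.mem g hg a ha).symm
      · rw [Subgroup.mem_centralizer_singleton_iff]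
        exact (cen (-r) (Nodes.ClsNorm.neg_mem C P.mem) g hg a ha).symm
    have h4 := h3 (C.z_mem r P.mem)
    rw [Subgroup.mem_centralizer_singleton_iff] at h4
    exact h4.symm
  have hee := hK.sq
  have hei : e⁻¹ = e := inv_eq_of_mul_eq_one_left hee
  -- the conclusion from an involution
  have fin : ∀ x₀ ∈ A, x₀ * x₀ = 1 → ∀ b₀ ∈ A, b₀ * x₀ * b₀⁻¹ = e * x₀ →
      ((∀ u ∈ X (r - y), x₀ * u * x₀⁻¹ = u) ∨ ∀ u ∈ X (r - y), x₀ * u * x₀⁻¹ = u⁻¹) → ∀ x ∈ X r, e * x = x * e := by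
    intro x₀ hx₀ h1 b₀ hb₀ h2 hpm x hx
    have hxi : x₀⁻¹ = x₀ := inv_eq_of_mul_eq_one_left h1
    have he : e = b₀ * x₀ * b₀⁻¹ * x₀⁻¹ := by rw [h2]; group
    have hd := one_or_z P C hp2 hexp hne h1 (nor r P.L.root x₀ hx₀) (nor _ P.rootq x₀ hx₀) (cen r P.mem x₀ hx₀)
      (cz x₀ hx₀) hpm
    have hcon : ∀ v ∈ X r, b₀ * (x₀ * v * x₀⁻¹) * b₀⁻¹ = x₀ * (b₀ * v * b₀⁻¹) * x₀⁻¹ := by
      intro v hv
      have hv' := nor r P.L.root b₀ hb₀ v hv
      rcases hd with hd | hd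
      · rw [hd v hv, hd _ hv']
      · rw [hd v hv, hd _ hv']
        have hc := cz b₀ hb₀
        have hc' : b₀⁻¹ * z r = z r * b₀⁻¹ := by
          calc b₀⁻¹ * z r = b₀⁻¹ * (z r * b₀) * b₀⁻¹ := by group
            _ = b₀⁻¹ * (b₀ * z r) * b₀⁻¹ := by rw [hc]
            _ = z r * b₀⁻¹ := by group
        calc b₀ * (z r * v * z r) * b₀⁻¹ = (b₀ * z r) * v * (z r * b₀⁻¹) := by group
          _ = (z r * b₀) * v * (b₀⁻¹ * z r) := by rw [hc, hc']
          _ = z r * (b₀ * v * b₀⁻¹) * z r := by group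
    have hx1 : x₀⁻¹ * x * x₀ ∈ X r := by
      have := nor r P.L.root x₀⁻¹ (inv_mem hx₀) x hx
      rwa [inv_inv] at this
    have hx2 : b₀⁻¹ * (x₀⁻¹ * x * x₀) * b₀ ∈ X r := by
      have := nor r P.L.root b₀⁻¹ (inv_mem hb₀) _ hx1
      rwa [inv_inv] at this
    have h3 := hcon _ hx2
    have h4 : e * x * e⁻¹ = x := by
      calc e * x * e⁻¹ = b₀ * (x₀ * (b₀⁻¹ * (x₀⁻¹ * x * x₀) * b₀) * x₀⁻¹) * b₀⁻¹ := by
            rw [he]; group
        _ = x₀ * (b₀ * (b₀⁻¹ * (x₀⁻¹ * x * x₀) * b₀) * b₀⁻¹) * x₀⁻¹ := h3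
        _ = x := by group
    calc e * x = (e * x * e⁻¹) * e := by group
      _ = x * e := by rw [h4]
  -- Lemma S for `X (r - y)`
  have hfl : r - (r - y) = y := sub_sub_cancel r y
  have hfq : r - (2 : ℤ) • (r - y) = -(r - (2 : ℤ) • y) := by module
  have nm : ∀ g ∈ A, Nm X Z r (r - y) g := fun g hg =>
    { ny := nor _ P.rootw g hg
      nw := nor _ (by rw [hfl]; exact P.root) g hg
      nr := nor _ P.L.root g hg
      cq := cen _ (by rw [hfq]; exact Nodes.ClsNorm.neg_mem C hq) g hg }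
  have cew : ∀ u ∈ X (r - y), e * u * e⁻¹ = u := fun u hu => by rw [hew u hu]; group
  have S : ∀ g ∈ A, ∀ g' ∈ A, g * g = 1 → g' * g' = 1 → (g * g' = g' * g ∨ g * g' = e * (g' * g)) →
      ((∀ u ∈ X (r - y), g * u * g⁻¹ = u) ∨ ∀ u ∈ X (r - y), g * u * g⁻¹ = u⁻¹) ∨
      ((∀ u ∈ X (r - y), g' * u * g'⁻¹ = u) ∨ ∀ u ∈ X (r - y), g' * u * g'⁻¹ = u⁻¹) ∨
      (∀ u ∈ X (r - y), (g * g') * u * (g * g')⁻¹ = u) ∨ ∀ u ∈ X (r - y), (g * g') * u * (g * g')⁻¹ = u⁻¹ := by
    intro g hg g' hg' h1 h2 h3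
    have hc : ∀ u, g * (g' * u * g'⁻¹) * g⁻¹ = (g * g') * u * (g * g')⁻¹ := fun u => by group
    have hc' : ∀ u, g' * (g * u * g⁻¹) * g'⁻¹ = (g' * g) * u * (g' * g)⁻¹ := fun u => by group
    have h4 := pm (flip P) C hp2 hexp (nm g hg) (nm g' hg')
      (fun u _ => by
        calc g * (g * u * g⁻¹) * g⁻¹ = (g * g) * u * (g * g)⁻¹ := by group
          _ = u := by rw [h1]; group)
      (fun u _ => by
        calc g' * (g' * u * g'⁻¹) * g'⁻¹ = (g' * g') * u * (g' * g')⁻¹ := by group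
          _ = u := by rw [h2]; group)
      (fun u hu => by
        rw [hc, hc']
        rcases h3 with h3 | h3
        · rw [h3]
        · have h5 : (g' * g) * u * (g' * g)⁻¹ ∈ X (r - y) := nor _ P.rootw _ (mul_mem hg' hg) u hu
          rw [h3]
          calc e * (g' * g) * u * (e * (g' * g))⁻¹ = e * ((g' * g) * u * (g' * g)⁻¹) * e⁻¹ := by group
            _ = _ := cew _ h5)
    simpa only [hc] using h4
  obtain ⟨a, ha, b, hb, haa, hbb, hab⟩ := hK.com
  obtain ⟨c, hc, d, hd, hcc, hdd, hcd⟩ := hK'.com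
  have ac := hKK a ha c hc
  have bc := hKK b hb c hc
  have ad := hKK a ha d hd
  have bd := hKK b hb d hd
  have ec : e * c = c * e := by
    rw [← hcc]; group
  have ea : e * a = a * e := by
    rw [← haa]; group
  have eb : e * b = b * e := by
    rw [← hbb]; group
  have sqr : ∀ {x x' : Y}, x * x = e → x' * x' = e → x * x' = x' * x → (x * x') * (x * x') = 1 := by
    intro x x' h1 h2 h3
    calc (x * x') * (x * x') = x * (x' * x) * x' := by group
      _ = (x * x) * (x' * x') := by rw [← h3]; group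
      _ = 1 := by rw [h1, h2, hee]
  -- `b a = e a b`
  have hba : b * a = e * (a * b) := by
    rw [hab, ← mul_assoc, hee, one_mul]
  have hbab : b * a * b⁻¹ = e * a := by rw [hba]; group
  have haba : a * b * a⁻¹ = e * b := by rw [hab]; group
  have hmem : ∀ {x x' : Y}, x ∈ K → x' ∈ K' → x * x' ∈ A := fun h1 h2 => mul_mem (hA h1) (hA' h2)
  have f1 := fin (a * c) (hmem ha hc) (sqr haa hcc ac) b (hA hb) (by
    calc b * (a * c) * b⁻¹ = (b * a) * (c * b⁻¹) := by group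
      _ = (b * a * b⁻¹) * (b * c * b⁻¹) := by group
      _ = e * a * c := by rw [hbab, bc]; group
      _ = e * (a * c) := by group)
  have f2 := fin (b * c) (hmem hb hc) (sqr hbb hcc bc) a (hA ha) (by
    calc a * (b * c) * a⁻¹ = (a * b * a⁻¹) * (a * c * a⁻¹) := by group
      _ = e * b * c := by rw [haba, ac]; group
      _ = e * (b * c) := by group)
  have f3 := fin (a * d) (hmem ha hd) (sqr haa hdd ad) b (hA hb) (by
    calc b * (a * d) * b⁻¹ = (b * a * b⁻¹) * (b * d * b⁻¹) := by group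
      _ = e * a * d := by rw [hbab, bd]; group
      _ = e * (a * d) := by group)
  have habs : (a * b) * (a * b) = e := by
    calc (a * b) * (a * b) = a * (b * a) * b := by group
      _ = a * (e * (a * b)) * b := by rw [hba]
      _ = (a * e) * a * (b * b) := by group
      _ = e * (a * a) * (b * b) := by rw [← ea]; group
      _ = e := by rw [haa, hbb, hee, one_mul]
  have ed : e * d = d * e := by
    rw [← hdd]; group
  have hdc : d * c = e * (c * d) := by
    rw [hcd, ← mul_assoc, hee, one_mul]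
  have hcds : (c * d) * (c * d) = e := by
    calc (c * d) * (c * d) = c * (d * c) * d := by group
      _ = c * (e * (c * d)) * d := by rw [hdc]
      _ = (c * e) * c * (d * d) := by group
      _ = e * (c * c) * (d * d) := by rw [← ec]; group
      _ = e := by rw [hcc, hdd, hee, one_mul]
  have f4 := fin ((a * b) * (c * d)) (hmem (mul_mem ha hb) (mul_mem hc hd))
    (sqr habs hcds (hKK _ (mul_mem ha hb) _ (mul_mem hc hd))) a (hA ha) (by
      have h1 := hKK a ha _ (mul_mem hc hd)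
      calc a * ((a * b) * (c * d)) * a⁻¹ = a * (a * b * a⁻¹) * (a * (c * d) * a⁻¹) := by group
        _ = a * (e * b) * (c * d) := by rw [haba, h1]; group
        _ = (a * e) * b * (c * d) := by group
        _ = e * ((a * b) * (c * d)) := by rw [← ea]; group)
  rcases S (a * c) (hmem ha hc) (b * c) (hmem hb hc) (sqr haa hcc ac) (sqr hbb hcc bc) (Or.inr (by
    calc (a * c) * (b * c) = a * (c * b) * c := by group
      _ = (a * b) * (c * c) := by rw [← bc]; group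
      _ = e * (b * a) * (c * c) := by rw [hab]
      _ = e * (b * (a * c) * c) := by group
      _ = e * (b * (c * a) * c) := by rw [ac]
      _ = e * ((b * c) * (a * c)) := by group)) with h1 | h1 | h1
  · exact f1 h1
  · exact f2 h1
  rcases S (a * c) (hmem ha hc) (a * d) (hmem ha hd) (sqr haa hcc ac) (sqr haa hdd ad) (Or.inr (by
    calc (a * c) * (a * d) = a * (c * a) * d := by group
      _ = (a * a) * (c * d) := by rw [← ac]; group
      _ = (a * a) * (e * (d * c)) := by rw [hcd]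
      _ = e * ((a * a) * (d * c)) := by rw [haa]
      _ = e * (a * (a * d) * c) := by group
      _ = e * (a * (d * a) * c) := by rw [ad]
      _ = e * ((a * d) * (a * c)) := by group)) with h2 | h2 | h2
  · exact f1 h2
  · exact f3 h2
  -- `a b` and `c d` are `± 1`
  have e1 : (a * c) * (b * c) = e * (a * b) := by
    calc (a * c) * (b * c) = a * (c * b) * c := by group
      _ = (a * b) * (c * c) := by rw [← bc]; group
      _ = (a * b) * e := by rw [hcc]
      _ = a * (e * b) := by rw [mul_assoc, ← eb]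
      _ = e * (a * b) := by rw [← mul_assoc, ← ea, mul_assoc]
  have e2 : (a * c) * (a * d) = e * (c * d) := by
    calc (a * c) * (a * d) = a * (c * a) * d := by group
      _ = (a * a) * (c * d) := by rw [← ac]; group
      _ = e * (c * d) := by rw [haa]
  have drop : ∀ g ∈ A, ∀ u ∈ X (r - y), (e * g) * u * (e * g)⁻¹ = g * u * g⁻¹ := by
    intro g hg u hu
    calc (e * g) * u * (e * g)⁻¹ = e * (g * u * g⁻¹) * e⁻¹ := by group
      _ = _ := cew _ (nor _ P.rootw g hg u hu)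
  have habA : a * b ∈ A := hA (mul_mem ha hb)
  have hcdA : c * d ∈ A := hA' (mul_mem hc hd)
  rw [e1] at h1
  rw [e2] at h2
  have h1' : (∀ u ∈ X (r - y), (a * b) * u * (a * b)⁻¹ = u) ∨ ∀ u ∈ X (r - y), (a * b) * u * (a * b)⁻¹ = u⁻¹ := by
    rcases h1 with h1 | h1
    · exact Or.inl fun u hu => by rw [← drop _ habA u hu]; exact h1 u hu
    · exact Or.inr fun u hu => by rw [← drop _ habA u hu]; exact h1 u hu
  have h2' : (∀ u ∈ X (r - y), (c * d) * u * (c * d)⁻¹ = u) ∨ ∀ u ∈ X (r - y), (c * d) * u * (c * d)⁻¹ = u⁻¹ := by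
    rcases h2 with h2 | h2
    · exact Or.inl fun u hu => by rw [← drop _ hcdA u hu]; exact h2 u hu
    · exact Or.inr fun u hu => by rw [← drop _ hcdA u hu]; exact h2 u hu
  apply f4
  have hcj : ∀ u, (a * b) * (c * d) * u * ((a * b) * (c * d))⁻¹ = (a * b) * ((c * d) * u * (c * d)⁻¹) * (a * b)⁻¹ :=
    fun u => by group
  rcases h1' with h1 | h1 <;> rcases h2' with h2 | h2
  · left
    intro u hu
    rw [hcj, h2 u hu, h1 u hu]
  · right
    intro u hu
    rw [hcj, h2 u hu, h1 _ (inv_mem hu)]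
  · right
    intro u hu
    rw [hcj, h2 u hu, h1 u hu]
  · left
    intro u hu
    rw [hcj, h2 u hu, h1 _ (inv_mem hu), inv_inv]

end pl

/-! ### Charts -/

section chart

variable {G : Type*} [Group G] [Finite G] {Om : Set (Subgroup G)} {p : ℕ} {L : Subgroup G}

/-- the type `F₄` -/
theorem out2_F4 (c : Chart Om p L) (hτ : c.IsTy .F4) (hXZ : ∀ r ∈ c.R, c.Z r = c.X r)
    {F : Set (c.I → ℤ)} (hF : MaxF c.cls F) : Out2 c.cls F := by
  have : Fact p.Prime := ⟨c.prime⟩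
  have S := std_of_isTy c hτ (Or.inr rfl)
  have ns : ∀ x, IsRoot c.cs c.h x → ∃ r ∈ F, form c.cs c.h x r ≠ 0 := fun x hx => ns_F4 c hτ hF hx
  have hT : c.T ≤ G1 c.cs c.h c.X := c.T_le.trans_eq c.gen.symm
  refine Out2.of_triv fun K e hK hcen => triv_of_X c.cls fun x hx => ?_
  by_cases hxR : x ∈ c.R
  · obtain ⟨y, hyR, P⟩ := exists_pl_of_isTy c hτ (Or.inr rfl) hxR
    exact long_triv S hF ns c.odd hT hK hcen P hyR (fun r hr => (hXZ r hr).symm)
  · exact short_triv S hF ns c.odd hT hK hcen hx hxR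

/-- the type `C n`, `X = Z` for long roots -/
theorem out2_C_eq (c : Chart Om p L) {n : ℕ} (hτ : c.IsTy (.C n)) (hXZ : ∀ r ∈ c.R, c.Z r = c.X r)
    {F : Set (c.I → ℤ)} (hF : MaxF c.cls F) : Out2 c.cls F := by
  have : Fact p.Prime := ⟨c.prime⟩
  have S := std_of_isTy c hτ (Or.inl ⟨n, rfl⟩)
  have ns : ∀ x, IsRoot c.cs c.h x → ∃ r ∈ F, form c.cs c.h x r ≠ 0 := fun x hx => ns_C c hτ hF hx
  have hT : c.T ≤ G1 c.cs c.h c.X := c.T_le.trans_eq c.gen.symm
  refine Out2.of_triv fun K e hK hcen => triv_of_X c.cls fun x hx => ?_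
  by_cases hxR : x ∈ c.R
  · intro u hu
    rw [← hXZ x hxR] at hu
    exact hcen.comm x (by rw [F_eq_C c hτ hF]; exact hxR) u hu e hK.mem
  · exact short_triv S hF ns c.odd hT hK hcen hx hxR

/-- **`Out2` for the type `C n`, `n ≥ 2`.** -/
theorem out2_C (c : Chart Om p L) {n : ℕ} (hn : 2 ≤ n) (hτ : c.IsTy (.C n))
    (hexp : ∀ r ∈ c.R, ∀ x ∈ c.Z r, x ^ p = 1) {F : Set (c.I → ℤ)} (hF : MaxF c.cls F) : Out2 c.cls F := by
  by_cases hXZ : ∀ r ∈ c.R, c.Z r = c.X r
  · exact out2_C_eq c hτ hXZ hF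
  push Not at hXZ
  obtain ⟨r₀, hr₀, hne₀⟩ := hXZ
  have : Fact p.Prime := ⟨c.prime⟩
  have S := std_of_isTy c hτ (Or.inl ⟨n, rfl⟩)
  have ns : ∀ x, IsRoot c.cs c.h x → ∃ r ∈ F, form c.cs c.h x r ≠ 0 := fun x hx => ns_C c hτ hF hx
  have hT : c.T ≤ G1 c.cs c.h c.X := c.T_le.trans_eq c.gen.symm
  have hFR := F_eq_C c hτ hF
  have hne : ∀ r ∈ c.R, ∃ t ∈ c.X r, t ∉ c.Z r := by
    intro r hr
    by_contra hcon
    push Not at hcon
    have h1 : c.Z r = c.X r := le_antisymm (c.cls.le r hr) hcon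
    obtain ⟨w, hw⟩ := c.trans r hr r₀ hr₀
    obtain ⟨g, hg⟩ := exists_rp c.cs c.cls.rgd.nsys w
    have h2 := Nodes.ClsNorm.conj_Z c.cls hg hr
    have h3 := c.cls.rgd.conj_rp hg (c.cls.root r hr)
    rw [← hw] at h2 h3
    exact hne₀ (by rw [← h2, ← h3, h1])
  intro K K' e hK hK' hc hc' hKK
  have hcc := cen_sup hc hc'
  have nor : ∀ x, IsRoot c.cs c.h x → ∀ g ∈ K ⊔ K', ∀ u ∈ c.X x, g * u * g⁻¹ ∈ c.X x := by
    intro x hx g hg u hu
    by_cases hxR : x ∈ c.R
    · have hxF : x ∈ F := by rw [hFR]; exact hxR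
      rw [← MM_eq_C c hτ hF hxF] at hu ⊢
      exact wt_inv c.cls hT hF.sub hxF (S.lg x hxR).pos hcc hg hu
    · obtain ⟨r, hr, P⟩ := exists_pl S hF ns hx hxR
      rw [← MM_eq (X := c.X) S hF ns hx hxR] at hu ⊢
      exact wt_inv c.cls hT hF.sub hr (by rw [P.fyr]; exact P.pos) hcc hg hu
  have cen : ∀ x ∈ c.R, ∀ g ∈ K ⊔ K', ∀ u ∈ c.Z x, g * u = u * g := by
    intro x hx g hg u hu
    exact hcc.comm x (by rw [hFR]; exact hx) u hu g hg
  refine triv_of_X c.cls fun x hx => ?_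
  by_cases hxR : x ∈ c.R
  · obtain ⟨y, hyR, P⟩ := exists_pl_of_isTy c hτ (Or.inl ⟨n, hn, rfl⟩) hxR
    have hwR : x - y ∉ c.R := by
      intro h0
      have h1 := S.same P.mem h0
      have h2 := (flip P).h2
      have h3 := (S.lg _ h0).pos
      omega
    exact e_cent P c.cls c.odd (hexp x hxR) (hne _ (P.memq c.cls)) nor cen hK hK' hKK le_sup_left le_sup_right
      (short_triv S hF ns c.odd hT hK hc P.rootw hwR)
  · exact short_triv S hF ns c.odd hT hK hc hx hxR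

end chart

end Cfsg.Agent.LOC.CnPair

private theorem dce_85e570ab55ba : _root_.True := by
  try have : _root_.True := by simp only [_root_.Cfsg.Agent.LOC.CnPair.prj.eq_1]
  try have : _root_.True := by simp only [_root_.Cfsg.Agent.LOC.CnPair.sgn.eq_1]
  exact _root_.True.intro
end
end
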