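import Cfsg.Agent.Cit.FamFb_m3
import Cfsg.Agent.Cit.LemmaB
import Cfsg.Agent.GH.QB.ModelG2_m3
import Cfsg.Agent.Cit.OneEndSD_m3
import Cfsg.Agent.Cit.Nil.RG.Tri
import Cfsg.Agent.Cit.CorTwo
import Cfsg.Agent.Cit.OneBasic
import Cfsg.Agent.S0205
import Cfsg.Agent.FastGrp
import Cfsg.Agent.Prune
set_option linter.all false

section
prune_inst 0x7f00000000000000000000000000000000000000000000000000000000000000000000000000000000000000000000000000000000000000000000000000000000000000000000000000000000000000003fffffffffffffffffffffffffffbeffbdffffffff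

-- part: Cit/Nil/LO/Cent
section
set_option linter.all false
open scoped Cfsg.Agent.FastGrp

/-!
# (n1), piece (B): `E_z` centralises the classical `J ∈ Om_c(S)` (helper818)

Blueprint: `blueprints/CIT-6b-LieOdd-helper443.md`, sections 2 and 6.

`CW Om Oc z S` : `Om` a nil family (quaternion groups of order 8, `WR Om`), `z ∈ ZZ Om`, `E_z = RR Om z ≤ S`,
`S` a 2-subgroup, `Oc` a family of quasisimple members without core (`Hyp Oc`), with `(F2)`.

* `CW.norm` : (2.1) `z` normalises `J`;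
* `CW.le_of_comm` : (2.2) `z` centralises `J`, then `E_z` centralises `J`;
* `CW.not_norm` : (2.3); `CW.conj_t` : (2.4);
* `CW.le_centralizer` : `E_z` centralises `J`.
-/

set_option autoImplicit false
set_option linter.style.haveILetI false
set_option linter.unusedSectionVars false

namespace Cfsg.Agent.Cit.Nil.LO

open Subgroup Cfsg Cit RG

variable {G : Type*} [Group G]

/-- **(F2)** : an involution `z` normalising, not centralising `J`: it centralises an element of odd order of `J`, or an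
element of order `2 ^ a`, `a ≥ 2`, and then `z⁻¹ j z = j t` for some `j ∈ J` -/
def FTwo (J : Subgroup G) : Prop := ∀ z ∈ normalizer (J : Set G), z * z = 1 → (¬ ∀ x ∈ J, z * x = x * z) →
  (∃ c ∈ J, c ≠ 1 ∧ Odd (orderOf c) ∧ c * z = z * c) ∨
  (∃ τ ∈ J, ∃ j ∈ J, (∃ a, 2 ≤ a ∧ orderOf τ = 2 ^ a) ∧ τ * z = z * τ ∧ z⁻¹ * j * z = j * zz J)

/-- see the head of the file -/
structure CW (Om Oc : Set (Subgroup G)) (z : G) (S : Subgroup G) : Prop where
  w : WR Om
  h : Hyp Oc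
  qs : ∀ J ∈ Oc, IsQuasisimple J
  oo : ∀ J ∈ Oc, OO J = ⊥
  f2 : ∀ J ∈ Oc, FTwo J
  hz : z ∈ ZZ Om
  hS : IsPGroup 2 S
  hE : RR Om z ≤ S

/-! ### Elements of odd order -/

theorem orderOf_conj (g x : G) : orderOf (g * x * g⁻¹) = orderOf x := (MulAut.conj g).orderOf_eq x

theorem eq_one_of_two_odd {x : G} {n : ℕ} (h2 : x ^ 2 ^ n = 1) (ho : Odd (orderOf x)) : x = 1 := by
  have h1 : orderOf x ∣ 2 ^ n := orderOf_dvd_of_pow_eq_one h2
  have h3 : (orderOf x).Coprime (2 ^ n) := (Nat.coprime_two_right.2 ho).pow_right n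
  exact orderOf_eq_one_iff.1 (Nat.Coprime.eq_one_of_dvd h3 h1)

theorem odd_mul {x y : G} (hc : x * y = y * x) (hx : Odd (orderOf x)) (hy : Odd (orderOf y)) :
    Odd (orderOf (x * y)) :=
  Odd.of_dvd_nat (hx.mul hy) (Commute.orderOf_mul_dvd_mul_orderOf hc)

/-- `x` commutes with `J` -/
def Cen (J : Subgroup G) (x : G) : Prop := ∀ y ∈ J, x * y = y * x

section mem

variable [Finite G] {Oc : Set (Subgroup G)} {J N : Subgroup G} {x : G}

theorem eq_of_qs (hq : IsQuasisimple J) : ⁅J, J⁆ = J := by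
  have h1 := hq.1.commutator_eq_top
  rw [← map_subtype_commutator, h1, ← MonoidHom.range_eq_map, range_subtype]

theorem not_two (hq : IsQuasisimple J) : ¬ IsPGroup 2 J := by
  haveI : Fact (Nat.Prime 2) := ⟨Nat.prime_two⟩
  intro h2
  have h3 : Group.IsNilpotent J := h2.isNilpotent
  exact SignalizersComponents.LayerBasic.quasisimple_not_solvable hq inferInstance

/-- a central element of odd order of `J` -/
theorem cen_odd (ho : OO J = ⊥) (hx : x ∈ J) (hc : Cen J x) (hxo : Odd (orderOf x)) : x = 1 := by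
  have h1 : zpowers x ≤ OO J := by
    refine le_OO (zpowers_le.2 hx) ?_ ?_
    · intro j hj
      rw [mem_normalizer_iff_cj, cj_def, MonoidHom.map_zpowers]
      congr 1
      change j * x * j⁻¹ = x
      rw [← hc j hj, mul_inv_cancel_right]
    · rw [Nat.card_zpowers]
      exact hxo.not_two_dvd_nat
  rw [ho, le_bot_iff, zpowers_eq_bot] at h1
  exact h1

/-- there is a noncentral element of odd order -/
theorem exists_odd_nc (hq : IsQuasisimple J) (ho : OO J = ⊥) : ∃ j ∈ J, Odd (orderOf j) ∧ ¬ Cen J j := by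
  rcases Nat.eq_two_pow_or_exists_odd_prime_and_dvd (Nat.card J) with ⟨k, hk⟩ | ⟨p, hp, hpd, hpo⟩
  · exfalso
    haveI : Fact (Nat.Prime 2) := ⟨Nat.prime_two⟩
    exact not_two hq (IsPGroup.of_card hk)
  · haveI : Fact p.Prime := ⟨hp⟩
    obtain ⟨j, hj⟩ := exists_prime_orderOf_dvd_card' (G := J) p hpd
    have h1 : orderOf (j : G) = p := by rw [Subgroup.orderOf_coe, hj]
    refine ⟨j, j.2, by rw [h1]; exact hpo, fun hc => ?_⟩
    have h2 := cen_odd ho j.2 hc (by rw [h1]; exact hpo)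
    rw [h2, orderOf_one] at h1
    exact hp.one_lt.ne h1

/-- a central 2-element of a member -/
theorem cen_two (h : Hyp Oc) (hJ : J ∈ Oc) (hx : x ∈ J) (hc : Cen J x) {n : ℕ} (h2 : x ^ 2 ^ n = 1) :
    x = 1 ∨ x = zz J := by
  obtain ⟨Q, hQ⟩ := Hyp.exists_syl J
  have h3 : IsPGroup 2 (zpowers x) := by
    haveI : Fact (Nat.Prime 2) := ⟨Nat.prime_two⟩
    obtain ⟨k, -, hk⟩ := (Nat.dvd_prime_pow Nat.prime_two).1 (orderOf_dvd_of_pow_eq_one h2)
    exact IsPGroup.of_card (n := k) (by rw [Nat.card_zpowers, hk])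
  obtain ⟨n, hn, hnQ⟩ := LB.exists_conj_mem hQ hx h3
  rw [← hc n hn, mul_inv_cancel_right] at hnQ
  obtain ⟨c, v, m, g⟩ := h.exists_gq hJ hQ
  exact g.eq_of_cent hnQ fun y hy => hc y (hQ.1 hy)

/-- normal 2-subgroups of `J` are central -/
theorem two_le (hq : IsQuasisimple J) (hN : N ≤ J) (hn : J ≤ normalizer (N : Set G)) (h2 : IsPGroup 2 N) :
    N ≤ centralizer (J : Set G) := by
  have h1 : (N.subgroupOf J).Normal := (normal_subgroupOf_iff_le_normalizer hN).2 hn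
  rcases SignalizersComponents.LayerBasic.quasisimple_normal hq _ h1 with h3 | h3
  · exfalso
    rw [subgroupOf_eq_top] at h3
    exact not_two hq (h2.to_le h3)
  · intro x hx
    rw [mem_centralizer_iff]
    intro y hy
    have h4 : (⟨x, hN hx⟩ : J) ∈ center J := h3 hx
    exact congrArg Subtype.val (mem_center_iff.1 h4 ⟨y, hy⟩)

/-- `zz J` is central -/
theorem cen_zz (h : Hyp Oc) (hJ : J ∈ Oc) : Cen J (zz J) := fun _ hy => (h.comm_zz hJ (le_normalizer hy)).symm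

end mem

namespace CW

variable [Finite G] {Om Oc : Set (Subgroup G)} {z x y g k : G} {S J J' K : Subgroup G}

section

variable (c : CW Om Oc z S)

include c

theorem zz1 : z * z = 1 := c.w.zz_sq c.hz

theorem zne : z ≠ 1 := c.w.zz_ne c.hz

theorem zinv : z⁻¹ = z := c.w.zz_inv c.hz

theorem zS : z ∈ S := c.hE (c.w.RR_mem c.hz)

theorem cen (hg : g ∈ RR Om z) : g * z = z * g := (c.w.RR_cen hg).symm

/-- the commutators with elements of `C(z)` -/
theorem com_mem (hx : x * z = z * x) (hg : g ∈ RR Om z) : x * (g * x⁻¹ * g⁻¹) ∈ RR Om z := by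
  have h1 := mul_mem (c.w.RR_cj' hg hx) (inv_mem hg)
  have h2 : x * g * x⁻¹ * g⁻¹ = x * (g * x⁻¹ * g⁻¹) := by group
  rwa [h2] at h1

theorem eq_one (hx : x ∈ RR Om z) (ho : Odd (orderOf x)) : x = 1 := by
  refine eq_one_of_two_odd (n := 2) ?_ ho
  rw [pow_succ, pow_one, pow_mul, pow_two, pow_two]
  rcases c.w.RR_sq hx with h1 | h1
  · rw [h1, one_mul]
  · rw [h1, c.zz1]

/-- an element `x` of odd order of `C(z)` commuting with `g x g⁻¹` is centralised by `g` -/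
theorem odd_fix (hx : x * z = z * x) (hg : g ∈ RR Om z) (ho : Odd (orderOf x))
    (hc : x * (g * x * g⁻¹) = (g * x * g⁻¹) * x) : g * x * g⁻¹ = x := by
  have h1 := c.com_mem hx hg
  have h2 : g * x⁻¹ * g⁻¹ = (g * x * g⁻¹)⁻¹ := by group
  rw [h2] at h1
  have h3 : x * (g * x * g⁻¹)⁻¹ = (g * x * g⁻¹)⁻¹ * x := (Commute.inv_right (show Commute _ _ from hc)).eq
  have h4 := c.eq_one h1 (odd_mul h3 ho (by rw [orderOf_inv, orderOf_conj]; exact ho))
  exact (mul_inv_eq_one.1 h4).symm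

/-- the group `S` acts on `Om_c(S)` -/
theorem cjJ (hJ : J ∈ OmS Oc S) (hg : g ∈ S) : cj g J ∈ OmS Oc S := cj_mem_OmS' c.h.conj (le_normalizer hg) hJ

/-- different members of `Om_c(S)` commute -/
theorem comm (hJ : J ∈ OmS Oc S) (hJ' : J' ∈ OmS Oc S) (hne : J ≠ J') : ∀ a ∈ J, ∀ b ∈ J', a * b = b * a := by
  have h1 := CoresComm.inf_le_centralizer c.h c.hS hJ hJ' hne (c.oo J hJ.1)
  have h3 := CoresComm.le_normalizer c.h c.hS hJ hJ' hne (c.oo J hJ.1) (c.oo J' hJ'.1)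
  have h5 := CoresComm.le_centralizer_of_quasisimple c.h c.hS hJ' h1 h3 (c.qs J' hJ'.1)
  exact fun a ha b hb => mem_centralizer_iff.1 (h5 hb) a ha

/-- there is an element `g` of `E_z` with `g² = z` -/
theorem exists_four : ∃ g ∈ RR Om z, g * g = z := by
  obtain ⟨K, hK⟩ := c.hz
  obtain ⟨g, hg, hgg⟩ := c.w.exists_four hK.1
  exact ⟨g, WR.le_RR hK hg, by rw [hgg, hK.2]⟩

/-- **(2.1)** -/
theorem norm (hJ : J ∈ OmS Oc S) : cj z J = J := by
  by_contra hne
  obtain ⟨g, hg, hgg⟩ := c.exists_four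
  have hzg : g * z = z * g := c.cen hg
  set J' := cj z J with hJ'
  have mJ' : J' ∈ OmS Oc S := c.cjJ hJ c.zS
  have h1 : cj g J = J ∨ cj g J = J' := by
    by_contra hcon
    push Not at hcon
    obtain ⟨n1, n2⟩ := hcon
    have mg : cj g J ∈ OmS Oc S := c.cjJ hJ (c.hE hg)
    have mg' : cj g J' ∈ OmS Oc S := c.cjJ mJ' (c.hE hg)
    have e1 : cj g J' = cj z (cj g J) := by rw [hJ', ← cj_mul, hzg, cj_mul]
    have n3 : cj g J' ≠ J := by
      intro h2
      apply n2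
      rw [e1] at h2
      have h3 := congrArg (cj z⁻¹) h2
      rw [cj_inv_cj, c.zinv] at h3
      exact h3
    have n4 : cj g J' ≠ J' := by
      intro h2
      apply n1
      rw [e1, hJ', cj_inj] at h2
      exact h2
    obtain ⟨j, hj, hjo, hjn⟩ := exists_odd_nc (c.qs J hJ.1) (c.oo J hJ.1)
    set j' := z * j * z⁻¹ with hj'
    have hjj' : j' ∈ J' := conj_mem_cj hj
    have hcjj : j * j' = j' * j := c.comm hJ mJ' (fun h => hne h.symm) j hj j' hjj'
    have hzj : z * j = j' * z := by rw [hj']; group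
    have hzj' : z * j' = j * z := by
      calc z * j' = (z * z) * j * z⁻¹ := by rw [hj']; group
        _ = j * z := by rw [c.zz1, one_mul, c.zinv]
    have hze : j * j' * z = z * (j * j') := by
      calc j * j' * z = j' * j * z := by rw [hcjj]
        _ = j' * (j * z) := by group
        _ = j' * (z * j') := by rw [hzj']
        _ = (j' * z) * j' := by group
        _ = (z * j) * j' := by rw [hzj]
        _ = z * (j * j') := by group
    have heo : Odd (orderOf (j * j')) := odd_mul hcjj hjo (by rw [hj', orderOf_conj]; exact hjo)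
    have hge : g * (j * j') * g⁻¹ = (g * j * g⁻¹) * (g * j' * g⁻¹) := by group
    -- everything commutes
    have k1 : g * j * g⁻¹ ∈ cj g J := conj_mem_cj hj
    have k2 : g * j' * g⁻¹ ∈ cj g J' := conj_mem_cj hjj'
    have ca : ∀ a ∈ J, a * (g * (j * j') * g⁻¹) = (g * (j * j') * g⁻¹) * a := by
      intro a ha
      have h2 := c.comm hJ mg (fun h => n1 h.symm) a ha _ k1
      have h3 := c.comm hJ mg' (fun h => n3 h.symm) a ha _ k2
      rw [hge]
      exact (Commute.mul_right (show Commute _ _ from h2) (show Commute _ _ from h3)).eq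
    have ca' : ∀ a ∈ J', a * (g * (j * j') * g⁻¹) = (g * (j * j') * g⁻¹) * a := by
      intro a ha
      have h2 := c.comm mJ' mg (fun h => n2 h.symm) a ha _ k1
      have h3 := c.comm mJ' mg' (fun h => n4 h.symm) a ha _ k2
      rw [hge]
      exact (Commute.mul_right (show Commute _ _ from h2) (show Commute _ _ from h3)).eq
    have hcc : (j * j') * (g * (j * j') * g⁻¹) = (g * (j * j') * g⁻¹) * (j * j') :=
      (Commute.mul_left (show Commute _ _ from ca j hj) (show Commute _ _ from ca' j' hjj')).eq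
    have hfix := c.odd_fix hze hg heo hcc
    apply hjn
    intro y hy
    have h2 := ca y hy
    rw [hfix] at h2
    have h3 : y * j' = j' * y := c.comm hJ mJ' (fun h => hne h.symm) y hy j' hjj'
    have h4 : (y * j) * j' = (j * y) * j' := by
      calc (y * j) * j' = y * (j * j') := by group
        _ = j * j' * y := h2
        _ = j * (j' * y) := by group
        _ = j * (y * j') := by rw [h3]
        _ = _ := by group
    exact (mul_right_cancel h4).symm
  rcases h1 with h1 | h1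
  · apply hne
    rw [hJ', ← hgg, cj_mul, h1, h1]
  · rw [hJ', ← hgg, cj_mul, cj_inj] at h1
    apply hne
    rw [hJ', ← hgg, cj_mul, ← h1, ← h1]

/-- **(2.2)** -/
theorem le_of_comm (hJ : J ∈ OmS Oc S) (hc : Cen J z) : ∀ g ∈ RR Om z, Cen J g := by
  have h1 : ∀ g ∈ RR Om z, cj g J = J := by
    intro g hg
    by_contra hne
    obtain ⟨j, hj, hjo, hjn⟩ := exists_odd_nc (c.qs J hJ.1) (c.oo J hJ.1)
    have mg : cj g J ∈ OmS Oc S := c.cjJ hJ (c.hE hg)
    have k1 : g * j * g⁻¹ ∈ cj g J := conj_mem_cj hj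
    have h2 := c.odd_fix (hc j hj).symm hg hjo (c.comm hJ mg (fun h => hne h.symm) j hj _ k1)
    apply hjn
    intro y hy
    have h3 := c.comm hJ mg (fun h => hne h.symm) y hy _ k1
    rw [h2] at h3
    exact h3.symm
  -- `[J, E_z] ≤ J ∩ E_z`
  have h2 : ⁅J, RR Om z⁆ ≤ J ⊓ RR Om z := by
    rw [commutator_le]
    intro j hj g hg
    rw [commutatorElement_def]
    have e : j * g * j⁻¹ * g⁻¹ = j * (g * j⁻¹ * g⁻¹) := by group
    rw [e]
    refine ⟨mul_mem hj ?_, c.com_mem (hc j hj).symm hg⟩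
    rw [← h1 g hg]
    exact conj_mem_cj (inv_mem hj)
  have h3 : J ≤ normalizer ((J ⊓ RR Om z : Subgroup G) : Set G) := by
    intro j hj
    rw [mem_normalizer_iff_cj, cj_inf, mem_normalizer_iff_cj.1 (le_normalizer hj)]
    congr 1
    refine le_antisymm ?_ ?_
    · intro x hx
      rw [mem_cj] at hx
      have h4 := c.w.RR_cj' hx (hc j hj).symm
      have h5 : j * (j⁻¹ * x * j) * j⁻¹ = x := by group
      rwa [h5] at h4
    · intro x hx
      rw [mem_cj]
      have h4 := c.w.RR_cj' hx (hc _ (inv_mem hj)).symm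
      rwa [inv_inv] at h4
  have h4 : J ⊓ RR Om z ≤ centralizer (J : Set G) :=
    two_le (c.qs J hJ.1) inf_le_left h3 ((c.w.RR_two c.hz).to_le inf_le_right)
  have h5 : ⁅⁅J, RR Om z⁆, J⁆ = ⊥ := commutator_eq_bot_iff_le_centralizer.2 (h2.trans h4)
  have h6 : ⁅⁅J, J⁆, RR Om z⁆ = ⊥ := by
    apply commutator_commutator_eq_bot_of_rotate
    · exact h5
    · rw [commutator_comm (RR Om z) J]; exact h5
  rw [eq_of_qs (c.qs J hJ.1), commutator_eq_bot_iff_le_centralizer] at h6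
  intro g hg y hy
  exact mem_centralizer_iff.1 (h6 hy) g hg

/-- the elements of `J ∩ E_z` -/
theorem inf_two (hJ : J ∈ OmS Oc S) (hn : ¬ Cen J z) (hx : x ∈ J) (hxE : x ∈ RR Om z) : x = 1 ∨ x = zz J := by
  have hzJ : z ∉ J := by
    intro h1
    apply hn
    rw [c.h.eq_zz hJ.1 h1 c.zz1 c.zne]
    exact cen_zz c.h hJ.1
  rcases c.w.RR_sq hxE with h1 | h1
  · by_cases h2 : x = 1
    · exact Or.inl h2
    · exact Or.inr (c.h.eq_zz hJ.1 hx h1 h2)
  · exact absurd (h1 ▸ mul_mem hx hx) hzJ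

/-- `x⁻¹ x^g ∈ E_z` for `x ∈ C(z)` -/
theorem com_mem' (hx : x * z = z * x) (hg : g ∈ RR Om z) : x⁻¹ * (g * x * g⁻¹) ∈ RR Om z := by
  have h1 : x⁻¹ * z = z * x⁻¹ := (Commute.inv_left (show Commute _ _ from hx)).eq
  have h2 := c.com_mem h1 hg
  rwa [inv_inv] at h2

/-- `[N_{E_z}(J), C_J(z)] ≤ ⟨t⟩` -/
theorem fix_or (hJ : J ∈ OmS Oc S) (hn : ¬ Cen J z) (hg : g ∈ RR Om z) (hgJ : cj g J = J) (hx : x ∈ J)
    (hxz : x * z = z * x) : g * x * g⁻¹ = x ∨ g * x * g⁻¹ = x * zz J := by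
  have h1 := c.com_mem' hxz hg
  have h2 : x⁻¹ * (g * x * g⁻¹) ∈ J := by
    refine mul_mem (inv_mem hx) ?_
    rw [← hgJ]
    exact conj_mem_cj hx
  rcases c.inf_two hJ hn h2 h1 with h3 | h3
  · left
    rw [inv_mul_eq_one] at h3
    exact h3.symm
  · right
    rw [inv_mul_eq_iff_eq_mul] at h3
    exact h3

/-- **(2.3)** -/
theorem not_norm (hJ : J ∈ OmS Oc S) (hn : ¬ Cen J z) (hK : K ∈ Ov Om z) : ¬ ∀ k ∈ K, cj k J = J := by
  intro hnK
  have hQ : Syl (J ⊓ S) J := syl_inf c.hS hJ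
  have hKE : ∀ k ∈ K, k ∈ RR Om z := fun k hk => WR.le_RR hK hk
  have hKQ : ∀ k ∈ K, cj k (J ⊓ S) = J ⊓ S := by
    intro k hk
    rw [cj_inf, hnK k hk, mem_normalizer_iff_cj.1 (le_normalizer (c.hE (hKE k hk)))]
  have hzJ : z ∈ normalizer (J : Set G) := mem_normalizer_iff_cj.2 (c.norm hJ)
  -- `z` does not centralise the Sylow 2-subgroup
  have hzQ : ¬ ∀ x ∈ J ⊓ S, z * x = x * z := by
    intro h1
    apply hn
    intro y hy
    have h2 := Trivial.comm_mem_OO c.h hJ.1 hQ hzJ (b := 1) (by rw [pow_one, pow_two]; exact c.zz1) h1 y hy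
    rw [c.oo J hJ.1, mem_bot, mul_inv_eq_one, mul_inv_eq_iff_eq_mul] at h2
    exact h2
  obtain ⟨a, ha, haa⟩ := c.w.exists_four hK.1
  obtain ⟨b, hb, hbb, hb1, hb2⟩ := c.w.exists_anti hK.1 ha haa
  obtain ⟨hba, hab⟩ := c.w.anti hK.1 ha hb haa hbb hb1 hb2
  rw [hK.2] at haa hbb hba hab
  have hza : z * a = a * z := (c.cen (hKE a ha)).symm
  have hzb : z * b = b * z := (c.cen (hKE b hb)).symm
  obtain ⟨e, v, n, q⟩ := c.h.exists_gq hJ.1 hQ
  rcases Nat.eq_zero_or_pos n with rfl | hn0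
  · -- `|Q| = 8`
    have hcard := q.card
    obtain ⟨m, ⟨f⟩⟩ := c.h.isGQ hJ.1 hQ
    have hm : m = 0 := by
      haveI : NeZero (2 ^ (m + 1)) := ⟨by positivity⟩
      rw [Nat.card_congr f.toEquiv, Nat.card_eq_fintype_card, QuaternionGroup.card] at hcard
      have h1 : 2 ^ (m + 3) = 2 ^ 3 := by rw [← hcard]; ring
      have := Nat.pow_right_injective (le_refl 2) h1
      omega
    subst hm
    let f' : ↥(J ⊓ S) ≃* ROne.QEight.Q := f
    let ρ : (k : G) → k ∈ K → MulAut ROne.QEight.Q := fun k hk => (f'.symm.trans (WR.actK (hKQ k hk))).trans f'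
    have hρ : ∀ (k : G) (hk : k ∈ K) (x : ↥(J ⊓ S)), ρ k hk (f' x) = f' (WR.actK (hKQ k hk) x) := by
      intro k hk x
      change f' (WR.actK (hKQ k hk) (f'.symm (f' x))) = _
      rw [f'.symm_apply_apply]
    have hsurj : ∀ p : ROne.QEight.Q, ∃ x, p = f' x := fun p => ⟨f'.symm p, (f'.apply_symm_apply p).symm⟩
    have h1 : ρ a ha * ρ a ha = ρ b hb * ρ b hb := by
      refine MulEquiv.ext fun p => ?_
      obtain ⟨x, rfl⟩ := hsurj p
      rw [MulAut.mul_apply, MulAut.mul_apply]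
      simp only [hρ a ha, hρ b hb]
      congr 1
      refine Subtype.ext ?_
      change a * (a * x * a⁻¹) * a⁻¹ = b * (b * x * b⁻¹) * b⁻¹
      calc a * (a * x * a⁻¹) * a⁻¹ = (a * a) * x * (a * a)⁻¹ := by group
        _ = (b * b) * x * (b * b)⁻¹ := by rw [haa, hbb]
        _ = _ := by group
    have h2 : ρ b hb * ρ a ha = ρ a ha * ρ a ha * ρ a ha * ρ b hb := by
      refine MulEquiv.ext fun p => ?_
      obtain ⟨x, rfl⟩ := hsurj p
      rw [MulAut.mul_apply, MulAut.mul_apply, MulAut.mul_apply, MulAut.mul_apply]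
      simp only [hρ a ha, hρ b hb]
      congr 1
      refine Subtype.ext ?_
      change b * (a * x * a⁻¹) * b⁻¹ = a * (a * (a * (b * x * b⁻¹) * a⁻¹) * a⁻¹) * a⁻¹
      calc b * (a * x * a⁻¹) * b⁻¹ = (b * a) * x * (b * a)⁻¹ := by group
        _ = (a * a * (a * b)) * x * (a * a * (a * b))⁻¹ := by rw [hba, haa]
        _ = _ := by group
    have h3 := ROne.QEight.quat _ _ h1 h2
    apply hzQ
    intro x hx
    have h4 := congrArg (fun φ : MulAut ROne.QEight.Q => φ (f' ⟨x, hx⟩)) h3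
    simp only [MulAut.mul_apply, MulAut.one_apply] at h4
    rw [hρ a ha, hρ a ha] at h4
    have h5 : a * (a * x * a⁻¹) * a⁻¹ = x := congrArg Subtype.val (f'.injective h4)
    have h6 : z * x * z⁻¹ = x := by
      rw [← haa]
      calc a * a * x * (a * a)⁻¹ = a * (a * x * a⁻¹) * a⁻¹ := by group
        _ = x := h5
    rwa [mul_inv_eq_iff_eq_mul] at h6
  · -- `|Q| ≥ 16`
    set t := zz J with ht
    have hcc : ∀ k ∈ K, ∃ m : ℤ, k * e * k⁻¹ = e ^ m := by
      intro k hk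
      have h1 : k * e * k⁻¹ ∈ zpowers e :=
        OneFieldHom.mem_zpowers_of_orderOf q hn0.ne' (by
          have := conj_mem_cj (g := k) q.c_mem
          rwa [hKQ k hk] at this) (by rw [orderOf_conj]; exact q.ord)
      obtain ⟨m, hm⟩ := h1
      exact ⟨m, hm.symm⟩
    have hez : e * z = z * e := by
      obtain ⟨m, hm⟩ := hcc a ha
      obtain ⟨m', hm'⟩ := hcc b hb
      have h1 : (a * b) * e * (a * b)⁻¹ = e ^ (m * m') := by
        rw [← OneBasic.conj_zpow_pow hm, ← hm']; group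
      have h2 : (b * a) * e * (b * a)⁻¹ = e ^ (m * m') := by
        rw [mul_comm m m', ← OneBasic.conj_zpow_pow hm', ← hm]; group
      have h3 : (b * a) * e * (b * a)⁻¹ = (a * b) * (z * e * z⁻¹) * (a * b)⁻¹ := by
        have h4 : z * (a * b) = (a * b) * z := by
          rw [← mul_assoc, hza, mul_assoc, hzb, mul_assoc]
        rw [hba, h4]; group
      rw [h2, ← h1] at h3
      have h4 := mul_left_cancel (mul_right_cancel h3)
      rw [eq_mul_inv_iff_mul_eq] at h4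
      exact h4
    have het : e ∈ J := q.c_mem.1
    have hvt : v ∈ J := q.v_mem.1
    have hf : ∀ k ∈ K, k * e * k⁻¹ = e ∨ k * e * k⁻¹ = e * t := fun k hk =>
      c.fix_or hJ hn (hKE k hk) (hnK k hk) het hez
    have hkt : ∀ k ∈ K, k * t * k⁻¹ = t := fun k hk => by
      rw [c.h.comm_zz hJ.1 (mem_normalizer_iff_cj.2 (hnK k hk)), mul_inv_cancel_right]
    obtain ⟨b', hb', hbb', hbe⟩ : ∃ b' ∈ K, b' * b' = z ∧ b' * e * b'⁻¹ = e := by
      rcases hf a ha with h1 | h1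
      · exact ⟨a, ha, haa, h1⟩
      rcases hf b hb with h2 | h2
      · exact ⟨b, hb, hbb, h2⟩
      refine ⟨a * b, mul_mem ha hb, hab, ?_⟩
      calc a * b * e * (a * b)⁻¹ = a * (b * e * b⁻¹) * a⁻¹ := by group
        _ = (a * e * a⁻¹) * (a * t * a⁻¹) := by rw [h2]; group
        _ = e * (t * t) := by rw [h1, hkt a ha, mul_assoc]
        _ = e := by rw [c.h.zz_mul hJ.1, mul_one]
    obtain ⟨y, hy, hyy, hy1, hy2⟩ := c.w.exists_anti hK.1 hb' (by rw [hK.2]; exact hbb')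
    obtain ⟨hyb, -⟩ := c.w.anti hK.1 hb' hy (by rw [hK.2]; exact hbb') hyy hy1 hy2
    rw [hK.2] at hyb
    have hact : ∀ k ∈ K, ∃ i : ℤ, k * v * k⁻¹ = v * e ^ i := by
      intro k hk
      refine q.exists_act (mem_normalizer_iff_cj.2 (hKQ k hk)) ?_
      obtain ⟨m, hm⟩ := hcc k⁻¹ (inv_mem hk)
      rw [inv_inv] at hm
      exact ⟨m, hm.symm⟩
    obtain ⟨j, hj⟩ := hact b' hb'
    obtain ⟨i, hi⟩ := hact y hy
    have hb'k : ∀ l : ℤ, b' * e ^ l * b'⁻¹ = e ^ l := by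
      intro l
      have h1 : b' * e * b'⁻¹ = e ^ (1 : ℤ) := by rw [hbe, zpow_one]
      rw [OneBasic.conj_zpow_pow h1, one_mul]
    have hzk : ∀ l : ℤ, z * e ^ l * z⁻¹ = e ^ l := by
      intro l
      have h1 : z * e * z⁻¹ = e ^ (1 : ℤ) := by rw [← hez, mul_inv_cancel_right, zpow_one]
      rw [OneBasic.conj_zpow_pow h1, one_mul]
    have hzv : z * v * z⁻¹ = v * e ^ (2 * j) := by
      rw [← hbb']
      calc b' * b' * v * (b' * b')⁻¹ = b' * (b' * v * b'⁻¹) * b'⁻¹ := by group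
        _ = b' * (v * e ^ j) * b'⁻¹ := by rw [hj]
        _ = (b' * v * b'⁻¹) * (b' * e ^ j * b'⁻¹) := by group
        _ = v * e ^ (2 * j) := by rw [hj, hb'k, mul_assoc, ← zpow_add, two_mul]
    have h4j : e ^ (4 * j) = 1 := by
      have h1 : z * (z * v * z⁻¹) * z⁻¹ = v := by
        calc z * (z * v * z⁻¹) * z⁻¹ = (z * z) * v * (z * z)⁻¹ := by group
          _ = v := by rw [c.zz1, one_mul, inv_one, mul_one]
      have h2 : z * (z * v * z⁻¹) * z⁻¹ = v * e ^ (4 * j) := by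
        rw [hzv]
        calc z * (v * e ^ (2 * j)) * z⁻¹ = (z * v * z⁻¹) * (z * e ^ (2 * j) * z⁻¹) := by group
          _ = v * e ^ (4 * j) := by
            rw [hzv, hzk, mul_assoc, ← zpow_add]
            congr 2
            ring
      rw [h1] at h2
      exact (left_eq_mul.1 h2)
    have hj2 : Even j := by
      rw [q.zpow_eq_one_iff] at h4j
      have h1 : (2 : ℤ) ^ 3 ∣ 4 * j := (pow_dvd_pow 2 (by omega)).trans h4j
      rw [even_iff_two_dvd]
      omega
    have h2j : e ^ (2 * j) ≠ 1 := by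
      intro h1
      rw [h1, mul_one, mul_inv_eq_iff_eq_mul] at hzv
      apply hzQ
      intro x hx
      rcases q.cov x hx with ⟨l, rfl⟩ | ⟨l, rfl⟩
      · exact ((show Commute z e from hez.symm).pow_right l).eq
      · exact (Commute.mul_right (show Commute z v from hzv) ((show Commute z e from hez.symm).pow_right l)).eq
    have hyj : y * e ^ j * y⁻¹ = e ^ j := by
      rcases hf y hy with h1 | h1
      · have h2 : y * e * y⁻¹ = e ^ (1 : ℤ) := by rw [h1, zpow_one]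
        rw [OneBasic.conj_zpow_pow h2, one_mul]
      · rw [← conj_zpow, h1]
        have h2 : Commute e t := (cen_zz c.h hJ.1 e het).symm
        rw [h2.mul_zpow]
        obtain ⟨l, rfl⟩ := hj2
        have h3 : t ^ (l + l) = 1 := by
          rw [zpow_add, ← (Commute.refl t).mul_zpow, c.h.zz_mul hJ.1, one_zpow]
        rw [h3, mul_one]
    have h1 : (y * b') * v * (y * b')⁻¹ = v * e ^ (i + j) := by
      calc (y * b') * v * (y * b')⁻¹ = y * (b' * v * b'⁻¹) * y⁻¹ := by group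
        _ = y * (v * e ^ j) * y⁻¹ := by rw [hj]
        _ = (y * v * y⁻¹) * (y * e ^ j * y⁻¹) := by group
        _ = v * e ^ (i + j) := by rw [hi, hyj, mul_assoc, ← zpow_add]
    have h2 : (y * b') * v * (y * b')⁻¹ = v * e ^ (2 * j + (j + i)) := by
      rw [hyb]
      calc z * (b' * y) * v * (z * (b' * y))⁻¹ = z * (b' * (y * v * y⁻¹) * b'⁻¹) * z⁻¹ := by group
        _ = z * (b' * (v * e ^ i) * b'⁻¹) * z⁻¹ := by rw [hi]
        _ = z * ((b' * v * b'⁻¹) * (b' * e ^ i * b'⁻¹)) * z⁻¹ := by group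
        _ = z * (v * e ^ (j + i)) * z⁻¹ := by rw [hj, hb'k, mul_assoc v, ← zpow_add]
        _ = (z * v * z⁻¹) * (z * e ^ (j + i) * z⁻¹) := by group
        _ = _ := by rw [hzv, hzk, mul_assoc, ← zpow_add]
    apply h2j
    rw [h1] at h2
    have h3 := mul_left_cancel h2
    rw [zpow_add e (2 * j), add_comm i j] at h3
    exact (right_eq_mul.1 h3)

/-- **(2.4)** -/
theorem conj_t (hJ : J ∈ OmS Oc S) (hn : ¬ Cen J z) (hg : g ∈ RR Om z) (hgg : g * g = z) (hgJ : cj g J ≠ J) :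
    g * zz J * g⁻¹ = zz J ∧ zz J ∈ RR Om z := by
  have hzJ : z ∈ normalizer (J : Set G) := mem_normalizer_iff_cj.2 (c.norm hJ)
  have mg : cj g J ∈ OmS Oc S := c.cjJ hJ (c.hE hg)
  have hcom : ∀ x ∈ J, ∀ y ∈ J, x * (g * y * g⁻¹) = (g * y * g⁻¹) * x := fun x hx y hy =>
    c.comm hJ mg (fun h => hgJ h.symm) x hx _ (conj_mem_cj hy)
  have hcen : ∀ x ∈ J, g * x * g⁻¹ = x → Cen J x := by
    intro x hx h1 y hy
    have h2 := hcom y hy x hx
    rw [h1] at h2
    exact h2.symm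
  have hct := cen_zz c.h hJ.1
  have htt := c.h.zz_mul hJ.1
  have htJ := c.h.zz_mem hJ.1
  rcases c.f2 J hJ.1 z hzJ c.zz1 hn with ⟨s, hs, hs1, hso, hsz⟩ | ⟨τ, hτ, j, hj, ⟨a, ha, hτa⟩, hτz, hjz⟩
  · exfalso
    have h1 := c.odd_fix hsz hg hso (hcom s hs s hs)
    exact hs1 (cen_odd (c.oo J hJ.1) hs (hcen s hs h1) hso)
  set t := zz J with ht
  have htg : g * t * g⁻¹ = t := by
    have hm := c.com_mem' hτz hg
    have hmm : ∀ k : ℕ, (τ⁻¹ * (g * τ * g⁻¹)) ^ k = (τ ^ k)⁻¹ * (g * τ ^ k * g⁻¹) := by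
      intro k
      have h1 : Commute τ⁻¹ (g * τ * g⁻¹) := Commute.inv_left (show Commute _ _ from hcom τ hτ τ hτ)
      rw [h1.mul_pow, inv_pow, conj_pow]
    have h5 : g * τ ^ 4 * g⁻¹ = τ ^ 4 := by
      have h4 : (τ⁻¹ * (g * τ * g⁻¹)) ^ 4 = 1 := by
        have e4 : (τ⁻¹ * (g * τ * g⁻¹)) ^ 4 = (τ⁻¹ * (g * τ * g⁻¹)) * (τ⁻¹ * (g * τ * g⁻¹)) *
            ((τ⁻¹ * (g * τ * g⁻¹)) * (τ⁻¹ * (g * τ * g⁻¹))) := by
          simp only [pow_succ, pow_zero, one_mul, mul_assoc]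
        rw [e4]
        rcases c.w.RR_sq hm with h1 | h1 <;> rw [h1]
        · rw [one_mul]
        · exact c.zz1
      rw [hmm, inv_mul_eq_one] at h4
      exact h4.symm
    have h6 : Cen J (τ ^ 4) := hcen _ (pow_mem hτ 4) h5
    rcases cen_two c.h hJ.1 (pow_mem hτ 4) h6 (n := a) (by
      rw [← pow_mul, mul_comm, pow_mul, ← hτa, pow_orderOf_eq_one, one_pow]) with h7 | h7
    · have h8 : τ ^ 2 = t := by
        have h9 : τ ^ 2 * τ ^ 2 = 1 := by rw [← pow_add]; exact h7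
        refine c.h.eq_zz hJ.1 (pow_mem hτ 2) h9 ?_
        intro h10
        have h11 := Nat.le_of_dvd (by norm_num) (orderOf_dvd_of_pow_eq_one h10)
        rw [hτa] at h11
        have h12 : 2 ^ 2 ≤ 2 ^ a := Nat.pow_le_pow_right (by norm_num) ha
        omega
      have h9 := hmm 2
      rw [h8, pow_two] at h9
      rcases c.w.RR_sq hm with h10 | h10
      · rw [h10] at h9
        exact (inv_mul_eq_one.1 h9.symm).symm
      · exfalso
        apply hn
        rw [h10] at h9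
        intro y hy
        rw [h9]
        have h11 : Commute t⁻¹ y := Commute.inv_left (show Commute _ _ from hct y hy)
        have h12 : Commute (g * t * g⁻¹) y := (show Commute _ _ from hcom y hy t htJ).symm
        exact (h11.mul_left h12).eq
    · rw [ht, ← h7]
      exact h5
  refine ⟨htg, ?_⟩
  have hzj : z * j * z⁻¹ = j * t := by
    rw [c.zinv] at hjz
    rw [c.zinv]
    exact hjz
  have hgz : g * z = z * g := c.cen hg
  have htj : ∀ y ∈ J, t * (g * y * g⁻¹) = (g * y * g⁻¹) * t := fun y hy => hcom t htJ y hy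
  set w := j * (g * j * g⁻¹) with hw
  have hwz : w * z = z * w := by
    have h1 : z * w * z⁻¹ = w := by
      calc z * w * z⁻¹ = (z * j * z⁻¹) * ((z * g) * j * (z * g)⁻¹) := by rw [hw]; group
        _ = (z * j * z⁻¹) * ((g * z) * j * (g * z)⁻¹) := by rw [hgz]
        _ = (z * j * z⁻¹) * (g * (z * j * z⁻¹) * g⁻¹) := by group
        _ = (j * t) * (g * (j * t) * g⁻¹) := by rw [hzj]
        _ = j * (t * (g * j * g⁻¹)) * (g * t * g⁻¹) := by group
        _ = j * ((g * j * g⁻¹) * t) * t := by rw [htj j hj, htg]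
        _ = j * (g * j * g⁻¹) * (t * t) := by group
        _ = w := by rw [htt, mul_one]
    rw [mul_inv_eq_iff_eq_mul] at h1
    exact h1.symm
  have h1 := c.com_mem' hwz hg
  have h2 : g * w * g⁻¹ = w * t := by
    calc g * w * g⁻¹ = (g * j * g⁻¹) * ((g * g) * j * (g * g)⁻¹) := by rw [hw]; group
      _ = (g * j * g⁻¹) * (j * t) := by rw [hgg, hzj]
      _ = ((g * j * g⁻¹) * j) * t := by group
      _ = w * t := by rw [← hcom j hj j hj]
  rw [h2, inv_mul_cancel_left] at h1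
  exact h1

/-- **MAIN** : `E_z` centralises the members of `Om_c(S)` -/
theorem le_centralizer (hJ : J ∈ OmS Oc S) : ∀ g ∈ RR Om z, Cen J g := by
  by_cases hn : Cen J z
  · exact c.le_of_comm hJ hn
  exfalso
  have key : ∀ K ∈ Ov Om z, ∀ k ∈ K, cj k J ≠ J → k * k = z := by
    intro K hK k hk hkJ
    rw [← hK.2]
    refine c.w.sq_eq hK.1 hk ?_ ?_
    · rintro rfl; exact hkJ (cj_one J)
    · rw [hK.2]; rintro rfl; exact hkJ (c.norm hJ)
  have h1 : ∀ K ∈ Ov Om z, ∀ k ∈ K, zz J * k = k * zz J := by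
    intro K hK k hk
    by_cases hkJ : cj k J = J
    · exact (c.h.comm_zz hJ.1 (mem_normalizer_iff_cj.2 hkJ)).symm
    · obtain ⟨h2, -⟩ := c.conj_t hJ hn (WR.le_RR hK hk) (key K hK k hk hkJ) hkJ
      rw [mul_inv_eq_iff_eq_mul] at h2
      exact h2.symm
  obtain ⟨K, hK⟩ := c.hz
  have h2 := c.not_norm hJ hn hK
  push Not at h2
  obtain ⟨k, hk, hkJ⟩ := h2
  obtain ⟨-, h3⟩ := c.conj_t hJ hn (WR.le_RR hK hk) (key K hK k hk hkJ) hkJ
  rcases c.w.RR_center h3 h1 with h4 | h4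
  · exact c.h.zz_ne hJ.1 h4
  · apply hn
    rw [← h4]
    exact cen_zz c.h hJ.1

end

end CW

/-- commuting members over `z ≠ u`: `E_z` and `E_u` commute and lie in a common Sylow 2-subgroup -/
theorem exists_sylow [Finite G] {Om : Set (Subgroup G)} {z u : G} {K : Subgroup G} (w : WR Om) (hK : K ∈ Ov Om z)
    (hu : u ∈ ZZ Om) (hne : z ≠ u) (hc : ∀ k ∈ K, u * k = k * u) :
    (∀ a ∈ RR Om z, ∀ b ∈ RR Om u, a * b = b * a) ∧
      ∃ S : Sylow 2 G, RR Om z ≤ (S : Subgroup G) ∧ RR Om u ≤ (S : Subgroup G) := by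
  haveI : Fact (Nat.Prime 2) := ⟨Nat.prime_two⟩
  have h1 := w.CP_of_cen hK hc hne
  have h2 : ∀ a ∈ RR Om z, ∀ b ∈ RR Om u, a * b = b * a := fun a ha b hb => w.CP_RR h1 ha hb
  refine ⟨h2, ?_⟩
  have h3 : RR Om z ≤ normalizer (RR Om u : Set G) := by
    intro a ha
    rw [mem_normalizer_iff]
    intro b
    constructor
    · intro hb
      rw [h2 a ha b hb, mul_inv_cancel_right]
      exact hb
    · intro hb
      have h4 := h2 a ha _ hb
      have h5 : a * b * a⁻¹ = b := by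
        calc a * b * a⁻¹ = a⁻¹ * (a * (a * b * a⁻¹)) := by group
          _ = a⁻¹ * (a * b * a⁻¹ * a) := by rw [h4]
          _ = b := by group
      rwa [h5] at hb
  have h4 : IsPGroup 2 (RR Om z ⊔ RR Om u : Subgroup G) :=
    (w.RR_two ⟨K, hK⟩).to_sup_of_normal_right' (w.RR_two hu) h3
  obtain ⟨S, hS⟩ := h4.exists_le_sylow
  exact ⟨S, le_sup_left.trans hS, le_sup_right.trans hS⟩

end Cfsg.Agent.Cit.Nil.LO

private theorem dce_1983f4fd88ed : _root_.True := by
  try have : _root_.True := by simp only [_root_.Cfsg.Agent.Cit.Nil.RG.WR.actK.congr_simp]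
  exact _root_.True.intro
end

-- part: Cit/Nil/LO/ThreeComp
section
set_option linter.all false
open scoped Cfsg.Agent.FastGrp

/-!
# S1309 (n2), THREE PROPAGATION: the action on the components (helper822)

`Cps 𝓛 X` : `𝓛` is a set of quasisimple subgroups, pairwise commuting, permuted by `X`, `O(Z(⟨𝓛⟩)) = 1`
(the components of `X = C(a)`, `O(C(a)) = 1`).

* `Cps.norm` : (1) `w ∈ ZZ Om`, `K ≤ X` over `w`: `w` normalises the members of `𝓛`;
* `Cps.le_of_comm` : `w` centralises `L`, then `RR Om w` centralises `L`;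
* `Cps.center_comm` : (3'.0) `RR Om w` centralises `Z(⟨𝓛⟩)`;
* `Cps.exists_x` : (3'.1) a noncentral 2-element of the `E`-orbit of `L`, centralised by the involutions of `E`;
* `Cps.fix` : (3'.2) `c` normalises `L`.
-/

set_option autoImplicit false
set_option linter.style.haveILetI false
set_option linter.unusedSectionVars false

namespace Cfsg.Agent.Cit.Nil.LO

open Subgroup Cfsg Cit RG

variable {G : Type*} [Group G]

/-- see the head of the file -/
structure Cps (𝓛 : Set (Subgroup G)) (X : Subgroup G) : Prop where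
  qs : ∀ L ∈ 𝓛, IsQuasisimple L
  comm : ∀ L ∈ 𝓛, ∀ M ∈ 𝓛, L ≠ M → ∀ x ∈ L, ∀ y ∈ M, x * y = y * x
  conj : ∀ L ∈ 𝓛, ∀ g ∈ X, cj g L ∈ 𝓛
  odd : ∀ x ∈ SS 𝓛, (∀ y ∈ SS 𝓛, x * y = y * x) → Odd (orderOf x) → x = 1

/-! ### Tools -/

/-- a 2-group `Q` acting on a 2-group `A` modulo a subgroup `B ≠ A` -/
theorem exists_fix_mod [Finite G] {A B Q : Subgroup G} (hA : IsPGroup 2 A) (hQ : IsPGroup 2 Q) (hBA : B ≤ A)
    (hne : B ≠ A) (hQA : ∀ g ∈ Q, ∀ x ∈ A, g * x * g⁻¹ ∈ A) (hQB : ∀ g ∈ Q, ∀ x ∈ B, g * x * g⁻¹ ∈ B) :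
    ∃ x ∈ A, x ∉ B ∧ ∀ g ∈ Q, x⁻¹ * (g * x * g⁻¹) ∈ B := by
  classical
  haveI : Fact (Nat.Prime 2) := ⟨Nat.prime_two⟩
  let f : Q → A → A := fun g x => ⟨(g : G) * (x : G) * (g : G)⁻¹, hQA g g.2 x x.2⟩
  have hf : ∀ g : Q, ∀ x y : A, (QuotientGroup.leftRel (B.subgroupOf A)) x y →
      (QuotientGroup.leftRel (B.subgroupOf A)) (f g x) (f g y) := by
    intro g x y hxy
    rw [QuotientGroup.leftRel_apply] at hxy ⊢
    rw [mem_subgroupOf] at hxy ⊢
    have h1 := hQB g g.2 _ hxy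
    have h2 : ((g : G) * ((x⁻¹ * y : A) : G) * (g : G)⁻¹) = (((f g x)⁻¹ * f g y : A) : G) := by
      change (g : G) * ((x : G)⁻¹ * (y : G)) * (g : G)⁻¹ =
        ((g : G) * (x : G) * (g : G)⁻¹)⁻¹ * ((g : G) * (y : G) * (g : G)⁻¹)
      group
    rwa [h2] at h1
  letI : MulAction Q (A ⧸ B.subgroupOf A) :=
    { smul := fun g => Quotient.map' (f g) (hf g)
      one_smul := by
        intro a
        induction a using QuotientGroup.induction_on with
        | H x =>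
          change ((f 1 x : A) : A ⧸ B.subgroupOf A) = x
          congr 1
          exact Subtype.ext (by change (1 : G) * (x : G) * (1 : G)⁻¹ = x; group)
      mul_smul := by
        intro g h a
        induction a using QuotientGroup.induction_on with
        | H x =>
          change ((f (g * h) x : A) : A ⧸ B.subgroupOf A) = (f g (f h x) : A)
          congr 1
          exact Subtype.ext (by
            change ((g : G) * (h : G)) * (x : G) * ((g : G) * (h : G))⁻¹ =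
              (g : G) * ((h : G) * (x : G) * (h : G)⁻¹) * (g : G)⁻¹
            group) }
  have hdvd : 2 ∣ Nat.card (A ⧸ B.subgroupOf A) := by
    obtain ⟨n, hn⟩ := hA.index (B.subgroupOf A)
    have h1 : Nat.card (A ⧸ B.subgroupOf A) = 2 ^ n := hn
    rw [h1]
    rcases Nat.eq_zero_or_pos n with h0 | h0
    · exfalso
      rw [h0, pow_zero, index_eq_one, subgroupOf_eq_top] at hn
      exact hne (le_antisymm hBA hn)
    · exact dvd_pow_self 2 (by omega)
  have h1 : ((1 : A) : A ⧸ B.subgroupOf A) ∈ MulAction.fixedPoints Q (A ⧸ B.subgroupOf A) := by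
    intro g
    change ((f g 1 : A) : A ⧸ B.subgroupOf A) = (1 : A)
    congr 1
    exact Subtype.ext (by change (g : G) * 1 * (g : G)⁻¹ = 1; group)
  obtain ⟨b, hb, hne'⟩ := hQ.exists_fixed_point_of_prime_dvd_card_of_fixed_point _ hdvd h1
  induction b using QuotientGroup.induction_on with
  | H x =>
    refine ⟨x, x.2, fun hx => hne' ?_, fun g hg => ?_⟩
    · exact QuotientGroup.eq.2 (by rw [inv_one, one_mul, mem_subgroupOf]; exact hx)
    · have h2 := hb ⟨g, hg⟩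
      have h3 : ((f ⟨g, hg⟩ x : A) : A ⧸ B.subgroupOf A) = x := h2
      have h4 := QuotientGroup.eq.1 h3.symm
      rw [mem_subgroupOf] at h4
      exact h4

/-- commutators of `Q` centralise `x`, if `Q` acts on `x` modulo an abelian group centralised by `Q` -/
theorem fix_comm {x i j : G} {B Q : Subgroup G} (hB : ∀ g ∈ Q, ∀ b ∈ B, g * b = b * g)
    (hc : ∀ a ∈ B, ∀ b ∈ B, a * b = b * a) (hx : ∀ g ∈ Q, x⁻¹ * (g * x * g⁻¹) ∈ B) (hi : i ∈ Q) (hj : j ∈ Q) :
    (i * j * i⁻¹ * j⁻¹) * x = x * (i * j * i⁻¹ * j⁻¹) := by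
  set p := x⁻¹ * (i * x * i⁻¹) with hp
  set q := x⁻¹ * (j * x * j⁻¹) with hq
  have hpB : p ∈ B := hx i hi
  have hqB : q ∈ B := hx j hj
  have e1 : i * x = x * p * i := by rw [hp]; group
  have e2 : j * x = x * q * j := by rw [hq]; group
  have e3 : i * j * x = x * (p * q) * (i * j) := by
    calc i * j * x = i * (j * x) := by group
      _ = i * (x * q * j) := by rw [e2]
      _ = (i * x) * q * j := by group
      _ = x * p * (i * q) * j := by rw [e1]; group
      _ = x * p * (q * i) * j := by rw [hB i hi q hqB]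
      _ = _ := by group
  have e4 : j * i * x = x * (q * p) * (j * i) := by
    calc j * i * x = j * (i * x) := by group
      _ = j * (x * p * i) := by rw [e1]
      _ = (j * x) * p * i := by group
      _ = x * q * (j * p) * i := by rw [e2]; group
      _ = x * q * (p * j) * i := by rw [hB j hj p hpB]
      _ = _ := by group
  have e5 : i * j * i⁻¹ * j⁻¹ = (i * j) * (j * i)⁻¹ := by group
  rw [e5]
  have hc1 : (j * i)⁻¹ * x = x * (q * p)⁻¹ * (j * i)⁻¹ := by
    have h1 : (j * i) * (x * (q * p)⁻¹) = x * (j * i) := by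
      calc (j * i) * (x * (q * p)⁻¹) = (j * i * x) * (q * p)⁻¹ := by group
        _ = x * (q * p) * ((j * i) * (q * p)⁻¹) := by rw [e4]; group
        _ = x * (q * p) * ((q * p)⁻¹ * (j * i)) := by
            rw [hB (j * i) (mul_mem hj hi) _ (inv_mem (mul_mem hqB hpB))]
        _ = x * (j * i) := by group
    calc (j * i)⁻¹ * x = (j * i)⁻¹ * (x * (j * i)) * (j * i)⁻¹ := by group
      _ = (j * i)⁻¹ * ((j * i) * (x * (q * p)⁻¹)) * (j * i)⁻¹ := by rw [h1]
      _ = _ := by group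
  calc (i * j) * (j * i)⁻¹ * x = (i * j) * ((j * i)⁻¹ * x) := by group
    _ = (i * j) * (x * (q * p)⁻¹ * (j * i)⁻¹) := by rw [hc1]
    _ = (i * j * x) * (q * p)⁻¹ * (j * i)⁻¹ := by group
    _ = x * (p * q) * ((i * j) * (q * p)⁻¹) * (j * i)⁻¹ := by rw [e3]; group
    _ = x * (p * q) * ((q * p)⁻¹ * (i * j)) * (j * i)⁻¹ := by
        rw [hB (i * j) (mul_mem hi hj) _ (inv_mem (mul_mem hqB hpB))]
    _ = x * (q * p) * ((q * p)⁻¹ * (i * j)) * (j * i)⁻¹ := by rw [hc p hpB q hqB]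
    _ = x * ((i * j) * (j * i)⁻¹) := by group

/-- `z_K` is a commutator of elements of `K` -/
theorem exists_zz_comm {Om : Set (Subgroup G)} (h : WR Om) {K : Subgroup G} (hK : K ∈ Om) :
    ∃ i ∈ K, ∃ j ∈ K, zz K = i * j * i⁻¹ * j⁻¹ := by
  obtain ⟨a, ha, haa⟩ := h.exists_four hK
  obtain ⟨b, hb, hbb, h1, h2⟩ := h.exists_anti hK ha haa
  obtain ⟨h4, -⟩ := h.anti hK ha hb haa hbb h1 h2
  refine ⟨b, hb, a, ha, ?_⟩
  calc zz K = zz K * (a * b) * (a * b)⁻¹ := by group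
    _ = b * a * (a * b)⁻¹ := by rw [h4]
    _ = _ := by group

section odd

variable {Om : Set (Subgroup G)} {x g z : G}

/-- the commutators of `RR Om z` with elements of `C(z)` -/
theorem com_mem' (h : WR Om) (hx : x * z = z * x) (hg : g ∈ RR Om z) : x * (g * x⁻¹ * g⁻¹) ∈ RR Om z := by
  have h1 := mul_mem (h.RR_cj' hg hx) (inv_mem hg)
  have h2 : x * g * x⁻¹ * g⁻¹ = x * (g * x⁻¹ * g⁻¹) := by group
  rwa [h2] at h1

theorem eq_one_of_odd' (h : WR Om) (hz : z ∈ ZZ Om) (hx : x ∈ RR Om z) (ho : Odd (orderOf x)) : x = 1 := by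
  refine eq_one_of_two_odd (n := 2) ?_ ho
  rw [pow_succ, pow_one, pow_mul, pow_two, pow_two]
  rcases h.RR_sq hx with h1 | h1
  · rw [h1, one_mul]
  · rw [h1, h.zz_sq hz]

/-- an element `x` of odd order of `C(z)` commuting with `g x g⁻¹` is centralised by `g ∈ RR Om z` -/
theorem odd_fix' (h : WR Om) (hz : z ∈ ZZ Om) (hx : x * z = z * x) (hg : g ∈ RR Om z) (ho : Odd (orderOf x))
    (hc : x * (g * x * g⁻¹) = (g * x * g⁻¹) * x) : g * x * g⁻¹ = x := by
  have h1 := com_mem' h hx hg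
  have h2 : g * x⁻¹ * g⁻¹ = (g * x * g⁻¹)⁻¹ := by group
  rw [h2] at h1
  have h3 : x * (g * x * g⁻¹)⁻¹ = (g * x * g⁻¹)⁻¹ * x := (Commute.inv_right (show Commute _ _ from hc)).eq
  have h4 := eq_one_of_odd' h hz h1 (odd_mul h3 ho (by rw [orderOf_inv, orderOf_conj]; exact ho))
  exact (mul_inv_eq_one.1 h4).symm

end odd

namespace Cps

variable [Finite G] {Om 𝓛 : Set (Subgroup G)} {X L M K : Subgroup G} {w x y g c s a : G}

section basic

variable (C : Cps 𝓛 X)

include C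

/-- an element of `L` central in `L` is central in `⟨𝓛⟩` -/
theorem cen_all (hL : L ∈ 𝓛) (hx : x ∈ L) (hc : Cen L x) : ∀ y ∈ SS 𝓛, x * y = y * x := by
  intro y hy
  refine SS_comm (fun M hM k hk => ?_) hy
  by_cases h1 : M = L
  · rw [h1] at hk; exact hc k hk
  · exact C.comm L hL M hM (fun h => h1 h.symm) x hx k hk

theorem cen_odd (hL : L ∈ 𝓛) (hx : x ∈ L) (hc : Cen L x) (hxo : Odd (orderOf x)) : x = 1 :=
  C.odd x (mem_SS_of hL hx) (C.cen_all hL hx hc) hxo

/-- there is a noncentral element of odd order -/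
theorem exists_odd_nc (hL : L ∈ 𝓛) : ∃ j ∈ L, Odd (orderOf j) ∧ ¬ Cen L j := by
  rcases Nat.eq_two_pow_or_exists_odd_prime_and_dvd (Nat.card L) with ⟨k, hk⟩ | ⟨p, hp, hpd, hpo⟩
  · exfalso
    haveI : Fact (Nat.Prime 2) := ⟨Nat.prime_two⟩
    exact not_two (C.qs L hL) (IsPGroup.of_card hk)
  · haveI : Fact p.Prime := ⟨hp⟩
    obtain ⟨j, hj⟩ := exists_prime_orderOf_dvd_card' (G := L) p hpd
    have h1 : orderOf (j : G) = p := by rw [Subgroup.orderOf_coe, hj]
    refine ⟨j, j.2, by rw [h1]; exact hpo, fun hc => ?_⟩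
    have h2 := C.cen_odd hL j.2 hc (by rw [h1]; exact hpo)
    rw [h2, orderOf_one] at h1
    exact hp.one_lt.ne h1

/-- **(1)** : `w` normalises `L` -/
theorem norm (h : WR Om) (hK : K ∈ Ov Om w) (hKX : K ≤ X) (hL : L ∈ 𝓛) : cj w L = L := by
  by_contra hne
  have hw : w ∈ ZZ Om := WR.Ov_zz hK
  have hwX : w ∈ X := hKX (h.Ov_mem hK)
  obtain ⟨g, hg, hgg⟩ := h.exists_four hK.1
  rw [hK.2] at hgg
  have hgR : g ∈ RR Om w := WR.le_RR hK hg
  have hgX : g ∈ X := hKX hg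
  have hzg : g * w = w * g := (h.Ov_cen hK hg).symm
  have hww : w * w = 1 := h.zz_sq hw
  have hwi : w⁻¹ = w := h.zz_inv hw
  set J' := cj w L with hJ'
  have mJ' : J' ∈ 𝓛 := C.conj L hL w hwX
  have h1 : cj g L = L ∨ cj g L = J' := by
    by_contra hcon
    push Not at hcon
    obtain ⟨n1, n2⟩ := hcon
    have mg : cj g L ∈ 𝓛 := C.conj L hL g hgX
    have mg' : cj g J' ∈ 𝓛 := C.conj J' mJ' g hgX
    have e1 : cj g J' = cj w (cj g L) := by rw [hJ', ← cj_mul, hzg, cj_mul]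
    have n3 : cj g J' ≠ L := by
      intro h2
      apply n2
      rw [e1] at h2
      have h3 := congrArg (cj w⁻¹) h2
      rw [cj_inv_cj, hwi] at h3
      exact h3
    have n4 : cj g J' ≠ J' := by
      intro h2
      apply n1
      rw [e1, hJ', cj_inj] at h2
      exact h2
    obtain ⟨j, hj, hjo, hjn⟩ := C.exists_odd_nc hL
    set j' := w * j * w⁻¹ with hj'
    have hjj' : j' ∈ J' := conj_mem_cj hj
    have hcjj : j * j' = j' * j := C.comm L hL J' mJ' (fun h => hne h.symm) j hj j' hjj'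
    have hzj : w * j = j' * w := by rw [hj']; group
    have hzj' : w * j' = j * w := by
      calc w * j' = (w * w) * j * w⁻¹ := by rw [hj']; group
        _ = j * w := by rw [hww, one_mul, hwi]
    have hze : j * j' * w = w * (j * j') := by
      calc j * j' * w = j' * j * w := by rw [hcjj]
        _ = j' * (j * w) := by group
        _ = j' * (w * j') := by rw [hzj']
        _ = (j' * w) * j' := by group
        _ = (w * j) * j' := by rw [hzj]
        _ = w * (j * j') := by group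
    have heo : Odd (orderOf (j * j')) := odd_mul hcjj hjo (by rw [hj', orderOf_conj]; exact hjo)
    have hge : g * (j * j') * g⁻¹ = (g * j * g⁻¹) * (g * j' * g⁻¹) := by group
    -- everything commutes
    have k1 : g * j * g⁻¹ ∈ cj g L := conj_mem_cj hj
    have k2 : g * j' * g⁻¹ ∈ cj g J' := conj_mem_cj hjj'
    have ca : ∀ a ∈ L, a * (g * (j * j') * g⁻¹) = (g * (j * j') * g⁻¹) * a := by
      intro a ha
      have h2 := C.comm L hL _ mg (fun h => n1 h.symm) a ha _ k1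
      have h3 := C.comm L hL _ mg' (fun h => n3 h.symm) a ha _ k2
      rw [hge]
      exact (Commute.mul_right (show Commute _ _ from h2) (show Commute _ _ from h3)).eq
    have ca' : ∀ a ∈ J', a * (g * (j * j') * g⁻¹) = (g * (j * j') * g⁻¹) * a := by
      intro a ha
      have h2 := C.comm _ mJ' _ mg (fun h => n2 h.symm) a ha _ k1
      have h3 := C.comm _ mJ' _ mg' (fun h => n4 h.symm) a ha _ k2
      rw [hge]
      exact (Commute.mul_right (show Commute _ _ from h2) (show Commute _ _ from h3)).eq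
    have hcc : (j * j') * (g * (j * j') * g⁻¹) = (g * (j * j') * g⁻¹) * (j * j') :=
      (Commute.mul_left (show Commute _ _ from ca j hj) (show Commute _ _ from ca' j' hjj')).eq
    have hfix := odd_fix' h hw hze hgR heo hcc
    apply hjn
    intro y hy
    have h2 := ca y hy
    rw [hfix] at h2
    have h3 : y * j' = j' * y := C.comm L hL _ mJ' (fun h => hne h.symm) y hy j' hjj'
    have h4 : (y * j) * j' = (j * y) * j' := by
      calc (y * j) * j' = y * (j * j') := by group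
        _ = j * j' * y := h2
        _ = j * (j' * y) := by group
        _ = j * (y * j') := by rw [h3]
        _ = _ := by group
    exact (mul_right_cancel h4).symm
  rcases h1 with h1 | h1
  · apply hne
    rw [hJ', ← hgg, cj_mul, h1, h1]
  · rw [hJ', ← hgg, cj_mul, cj_inj] at h1
    apply hne
    rw [hJ', ← hgg, cj_mul, ← h1, ← h1]

/-- `w` centralises `L`: then `RR Om w` centralises `L` -/
theorem le_of_comm (h : WR Om) (hw : w ∈ ZZ Om) (hR : RR Om w ≤ X) (hL : L ∈ 𝓛) (hc : Cen L w) :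
    ∀ g ∈ RR Om w, Cen L g := by
  have h1 : ∀ g ∈ RR Om w, cj g L = L := by
    intro g hg
    by_contra hne
    obtain ⟨j, hj, hjo, hjn⟩ := C.exists_odd_nc hL
    have mg : cj g L ∈ 𝓛 := C.conj L hL g (hR hg)
    have k1 : g * j * g⁻¹ ∈ cj g L := conj_mem_cj hj
    have h2 := odd_fix' h hw (hc j hj).symm hg hjo (C.comm L hL _ mg (fun h => hne h.symm) j hj _ k1)
    apply hjn
    intro y hy
    have h3 := C.comm L hL _ mg (fun h => hne h.symm) y hy _ k1
    rw [h2] at h3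
    exact h3.symm
  -- `[L, E_w] ≤ L ∩ E_w`
  have h2 : ⁅L, RR Om w⁆ ≤ L ⊓ RR Om w := by
    rw [commutator_le]
    intro j hj g hg
    rw [commutatorElement_def]
    have e : j * g * j⁻¹ * g⁻¹ = j * (g * j⁻¹ * g⁻¹) := by group
    rw [e]
    refine ⟨mul_mem hj ?_, com_mem' h (hc j hj).symm hg⟩
    rw [← h1 g hg]
    exact conj_mem_cj (inv_mem hj)
  have h3 : L ≤ normalizer ((L ⊓ RR Om w : Subgroup G) : Set G) := by
    intro j hj
    rw [mem_normalizer_iff_cj, cj_inf, mem_normalizer_iff_cj.1 (le_normalizer hj)]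
    congr 1
    refine le_antisymm ?_ ?_
    · intro x hx
      rw [mem_cj] at hx
      have h4 := h.RR_cj' hx (hc j hj).symm
      have h5 : j * (j⁻¹ * x * j) * j⁻¹ = x := by group
      rwa [h5] at h4
    · intro x hx
      rw [mem_cj]
      have h4 := h.RR_cj' hx (hc _ (inv_mem hj)).symm
      rwa [inv_inv] at h4
  have h4 : L ⊓ RR Om w ≤ centralizer (L : Set G) :=
    two_le (C.qs L hL) inf_le_left h3 ((h.RR_two hw).to_le inf_le_right)
  have h5 : ⁅⁅L, RR Om w⁆, L⁆ = ⊥ := commutator_eq_bot_iff_le_centralizer.2 (h2.trans h4)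
  have h6 : ⁅⁅L, L⁆, RR Om w⁆ = ⊥ := by
    apply commutator_commutator_eq_bot_of_rotate
    · exact h5
    · rw [commutator_comm (RR Om w) L]; exact h5
  rw [eq_of_qs (C.qs L hL), commutator_eq_bot_iff_le_centralizer] at h6
  intro g hg y hy
  exact mem_centralizer_iff.1 (h6 hy) g hg

/-- `⟨𝓛⟩` is invariant under `X` -/
theorem SS_cj (hg : g ∈ X) (hx : x ∈ SS 𝓛) : g * x * g⁻¹ ∈ SS 𝓛 := SS_cj_le (fun L hL => C.conj L hL g hg) hx

/-- the centre of `⟨𝓛⟩` -/
def _root_.Cfsg.Agent.Cit.Nil.LO.ZL (𝓛 : Set (Subgroup G)) : Subgroup G := SS 𝓛 ⊓ centralizer (SS 𝓛 : Set G)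

theorem mem_ZL : x ∈ ZL 𝓛 ↔ x ∈ SS 𝓛 ∧ ∀ y ∈ SS 𝓛, x * y = y * x := by
  rw [ZL, mem_inf, mem_centralizer_iff]
  exact ⟨fun h => ⟨h.1, fun y hy => (h.2 y hy).symm⟩, fun h => ⟨h.1, fun y hy => (h.2 y hy).symm⟩⟩

theorem ZL_comm (hx : x ∈ ZL 𝓛) (hy : y ∈ ZL 𝓛) : x * y = y * x := (C.mem_ZL.1 hx).2 y (C.mem_ZL.1 hy).1

theorem ZL_cj (hg : g ∈ X) (hx : x ∈ ZL 𝓛) : g * x * g⁻¹ ∈ ZL 𝓛 := by
  rw [C.mem_ZL] at hx ⊢
  refine ⟨C.SS_cj hg hx.1, fun y hy => ?_⟩
  have h1 := hx.2 _ (C.SS_cj (inv_mem hg) hy)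
  rw [inv_inv] at h1
  calc g * x * g⁻¹ * y = g * (x * (g⁻¹ * y * g)) * g⁻¹ := by group
    _ = g * (g⁻¹ * y * g * x) * g⁻¹ := by rw [h1]
    _ = y * (g * x * g⁻¹) := by group

theorem ZL_two : IsPGroup 2 (ZL 𝓛) := by
  rintro ⟨x, hx⟩
  obtain ⟨k, m, hm, hkm⟩ := Nat.exists_eq_two_pow_mul_odd (n := orderOf x) (orderOf_pos x).ne'
  refine ⟨k, Subtype.ext ?_⟩
  change x ^ 2 ^ k = 1
  have h1 : x ^ 2 ^ k ∈ ZL 𝓛 := pow_mem hx _
  refine C.odd _ (C.mem_ZL.1 h1).1 (C.mem_ZL.1 h1).2 ?_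
  rw [orderOf_pow, hkm, Nat.gcd_eq_right (Dvd.intro _ rfl), Nat.mul_div_cancel_left _ (by positivity)]
  exact hm

/-- **(3'.0)** : `RR Om w` centralises `Z(⟨𝓛⟩)` -/
theorem center_comm (h : WR Om) (hw : w ∈ ZZ Om) (hR : RR Om w ≤ X) (hx : x ∈ ZL 𝓛) (hg : g ∈ RR Om w) :
    g * x = x * g := by
  by_cases hall : ∀ L ∈ 𝓛, Cen L w
  · exact SS_comm (fun L hL k hk => C.le_of_comm h hw hR hL (hall L hL) g hg k hk) (C.mem_ZL.1 hx).1
  push Not at hall
  obtain ⟨L₀, hL₀, hn₀⟩ := hall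
  have hwZ : w ∉ ZL 𝓛 := fun h1 => hn₀ fun y hy => (C.mem_ZL.1 h1).2 y (mem_SS_of hL₀ hy)
  have hww := h.zz_sq hw
  have hwX : w ∈ X := hR (h.RR_mem hw)
  -- `E_w ∩ Z(⟨𝓛⟩) = 1`
  have h1 : ∀ y ∈ RR Om w, y ∈ ZL 𝓛 → y = 1 := by
    intro y hy hyZ
    by_contra hy1
    have hyw : y ≠ w := fun h2 => hwZ (h2 ▸ hyZ)
    have h2 : ¬ ∀ K ∈ Ov Om w, ∀ k ∈ K, y * k = k * y := by
      intro h3
      rcases h.RR_center hy h3 with h4 | h4
      · exact hy1 h4
      · exact hyw h4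
    push Not at h2
    obtain ⟨K, hK, k, hk, hyk⟩ := h2
    have hkR : k ∈ RR Om w := WR.le_RR hK hk
    rcases h.RR_conj hkR hy with h3 | h3
    · apply hyk
      rw [mul_inv_eq_iff_eq_mul] at h3
      exact h3.symm
    · apply hwZ
      have h4 : w = (k * y * k⁻¹) * y⁻¹ := by rw [h3]; group
      rw [h4]
      exact mul_mem (C.ZL_cj (hR hkR) hyZ) (inv_mem hyZ)
  have h2 : ∀ x ∈ ZL 𝓛, w * x = x * w → ∀ g ∈ RR Om w, g * x = x * g := by
    intro x hx hwx g hg
    have h3 := com_mem' h hwx.symm hg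
    have h4 : x * (g * x⁻¹ * g⁻¹) ∈ ZL 𝓛 := mul_mem hx (C.ZL_cj (hR hg) (inv_mem hx))
    have h5 := h1 _ h3 h4
    calc g * x = (x * (g * x⁻¹ * g⁻¹)) * (g * x) := by rw [h5, one_mul]
      _ = x * g := by group
  -- the subgroup `A₁`
  set A₁ : Subgroup G := ZL 𝓛 ⊓ centralizer {w} with hA₁
  have hmem : ∀ x, x ∈ A₁ ↔ x ∈ ZL 𝓛 ∧ w * x = x * w := by
    intro x
    rw [hA₁, mem_inf, mem_centralizer_singleton_iff]
    exact ⟨fun h => ⟨h.1, h.2.symm⟩, fun h => ⟨h.1, h.2.symm⟩⟩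
  have hfin : A₁ = ZL 𝓛 := by
    by_contra hne
    obtain ⟨x, hx, hxn, hfix⟩ := exists_fix_mod (A := ZL 𝓛) (B := A₁) (Q := RR Om w) C.ZL_two (h.RR_two hw) inf_le_left
      hne (fun g hg x hx => C.ZL_cj (hR hg) hx) (fun g hg x hx => by
        rw [hmem] at hx
        have h3 := h2 x hx.1 hx.2 g hg
        rw [h3, mul_inv_cancel_right, hmem]
        exact hx)
    apply hxn
    rw [hmem]
    refine ⟨hx, ?_⟩
    obtain ⟨K, hK⟩ := hw
    obtain ⟨i, hi, j, hj, hij⟩ := exists_zz_comm h hK.1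
    rw [hK.2] at hij
    have h3 := fix_comm (B := A₁) (Q := RR Om w) (x := x) (i := i) (j := j)
      (fun g hg b hb => h2 b ((hmem b).1 hb).1 ((hmem b).1 hb).2 g hg)
      (fun a ha b hb => C.ZL_comm ((hmem a).1 ha).1 ((hmem b).1 hb).1) hfix (WR.le_RR hK hi) (WR.le_RR hK hj)
    rwa [← hij] at h3
  rw [← hfin, hmem] at hx
  exact h2 x hx.1 hx.2 g hg

end basic

/-- a Sylow 2-subgroup of a group containing a quasisimple group is not central -/
theorem _root_.Cfsg.Agent.Cit.Nil.LO.syl_not_central {L L₀ S₀ : Subgroup G} (hq : IsQuasisimple L) (hL : L ≤ L₀)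
    (hS : Syl S₀ L₀) : ¬ S₀ ≤ centralizer (L₀ : Set G) := by
  intro hc
  haveI : Fact (Nat.Prime 2) := ⟨Nat.prime_two⟩
  set N : Subgroup L₀ := S₀.subgroupOf L₀ with hN
  have hNc : N ≤ center L₀ := by
    intro x hx
    rw [mem_center_iff]
    intro y
    exact Subtype.ext (mem_centralizer_iff.1 (hc hx) y y.2)
  have hNn : N.Normal := by
    refine ⟨fun n hn g => ?_⟩
    have h1 := mem_center_iff.1 (hNc hn) g
    rw [h1, mul_inv_cancel_right]
    exact hn
  haveI hNs : Group.IsSolvable ↥N := by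
    have h2 : IsPGroup 2 N := hS.2.1.comap_subtype
    have h3 : Group.IsNilpotent N := h2.isNilpotent
    infer_instance
  haveI hQs : Group.IsSolvable (↥L₀ ⧸ N) := by
    refine S0205.result (Nat.odd_iff.2 ?_)
    have h1 : ¬ 2 ∣ Nat.card (L₀ ⧸ N) := hS.2.2
    omega
  haveI hs : Group.IsSolvable ↥L₀ := by
    refine Group.isSolvable_of_ker_le_range N.subtype (QuotientGroup.mk' N) ?_
    rw [QuotientGroup.ker_mk', range_subtype]
  have hsL : Group.IsSolvable ↥L := Group.isSolvable_of_isSolvable_injective (inclusion_injective hL)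
  exact SignalizersComponents.Components.quasisimple_not_isSolvable hq hsL

section orbit

variable (C : Cps 𝓛 X) {S : Subgroup G} {𝒦 : Set (Subgroup G)}

include C

/-- **(3'.1)** -/
theorem exists_x (h : WR Om) (hS : IsPGroup 2 S) (h𝒦 : ∀ K ∈ 𝒦, K ∈ Om ∧ K ≤ S)
    (hR : ∀ K ∈ 𝒦, RR Om (zz K) ≤ X) (hL : L ∈ 𝓛) :
    ∃ x ∈ SS {M | ∃ g ∈ SS 𝒦, M = cj g L}, (∃ k : ℕ, x ^ 2 ^ k = 1) ∧ (∀ K ∈ 𝒦, x * zz K = zz K * x) ∧
      ¬ Cen L x := by
  set E := SS 𝒦 with hE
  have hES : E ≤ S := SS_le fun K hK => (h𝒦 K hK).2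
  have hE2 : IsPGroup 2 E := hS.to_le hES
  have hKR : ∀ K ∈ 𝒦, K ≤ RR Om (zz K) := fun K hK => WR.le_RR ⟨(h𝒦 K hK).1, rfl⟩
  have hEX : E ≤ X := SS_le fun K hK => (hKR K hK).trans (hR K hK)
  set orb : Set (Subgroup G) := {M | ∃ g ∈ E, M = cj g L} with horb
  have horb𝓛 : ∀ M ∈ orb, M ∈ 𝓛 := by
    rintro M ⟨g, hg, rfl⟩
    exact C.conj L hL g (hEX hg)
  set L₀ := SS orb with hL₀
  have hLL₀ : L ≤ L₀ := le_SS ⟨1, one_mem _, by rw [cj_one]⟩
  have hEL : ∀ g ∈ E, ∀ x ∈ L₀, g * x * g⁻¹ ∈ L₀ := by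
    intro g hg x hx
    refine SS_cj_le (𝒦 := orb) (fun M hM => ?_) hx
    obtain ⟨k, hk, rfl⟩ := hM
    exact ⟨g * k, mul_mem hg hk, by rw [cj_mul]⟩
  have hEn : E ≤ normalizer (L₀ : Set G) := by
    intro g hg
    rw [mem_normalizer_iff]
    intro x
    refine ⟨hEL g hg x, fun hx => ?_⟩
    have h1 := hEL g⁻¹ (inv_mem hg) _ hx
    have h2 : g⁻¹ * (g * x * g⁻¹) * g⁻¹⁻¹ = x := by group
    rwa [h2] at h1
  obtain ⟨S₀, hS₀, hES₀⟩ := OneBasic.exists_syl_normalized hE2 hEn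
  set B : Subgroup G := S₀ ⊓ centralizer (L₀ : Set G) with hB
  have hBmem : ∀ b, b ∈ B ↔ b ∈ S₀ ∧ ∀ y ∈ L₀, b * y = y * b := by
    intro b
    rw [hB, mem_inf, mem_centralizer_iff]
    exact ⟨fun h => ⟨h.1, fun y hy => (h.2 y hy).symm⟩, fun h => ⟨h.1, fun y hy => (h.2 y hy).symm⟩⟩
  have hne : B ≠ S₀ := by
    intro h1
    refine syl_not_central (C.qs L hL) hLL₀ hS₀ ?_
    rw [← h1]
    exact inf_le_right
  have hL₀𝓛 : L₀ ≤ SS 𝓛 := SS_mono horb𝓛
  have hBZ : ∀ b ∈ B, b ∈ ZL 𝓛 := by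
    intro b hb
    rw [hBmem] at hb
    have hbL := hS₀.1 hb.1
    rw [C.mem_ZL]
    refine ⟨hL₀𝓛 hbL, fun y hy => SS_comm (fun M hM k hk => ?_) hy⟩
    by_cases hMo : M ∈ orb
    · exact hb.2 k (mem_SS_of hMo hk)
    · refine (SS_comm (x := k) (fun N hN n hn => ?_) hbL).symm
      exact C.comm M hM N (horb𝓛 N hN) (fun h1 => hMo (h1 ▸ hN)) k hk n hn
  have hBE : ∀ g ∈ E, ∀ b ∈ B, g * b = b * g := by
    intro g hg b hb
    refine (SS_comm (x := b) (fun K hK k hk => ?_) hg).symm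
    have hz : zz K ∈ ZZ Om := ⟨K, (h𝒦 K hK).1, rfl⟩
    exact (C.center_comm h hz (hR K hK) (hBZ b hb) (hKR K hK hk)).symm
  have hES₀' : ∀ g ∈ E, ∀ x ∈ S₀, g * x * g⁻¹ ∈ S₀ := fun g hg x hx => (mem_normalizer_iff.1 (hES₀ hg) x).1 hx
  obtain ⟨x, hxS, hxB, hfix⟩ := exists_fix_mod (A := S₀) (B := B) (Q := E) hS₀.2.1 hE2 inf_le_left hne hES₀'
    (fun g hg b hb => by rw [hBE g hg b hb, mul_inv_cancel_right]; exact hb)
  have hxL := hS₀.1 hxS
  have hxK : ∀ K ∈ 𝒦, x * zz K = zz K * x := by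
    intro K hK
    obtain ⟨i, hi, j, hj, hij⟩ := exists_zz_comm h (h𝒦 K hK).1
    have h3 := fix_comm (B := B) (Q := E) (x := x) (i := i) (j := j) hBE
      (fun a ha b hb => C.ZL_comm (hBZ a ha) (hBZ b hb)) hfix (mem_SS_of hK hi) (mem_SS_of hK hj)
    rw [← hij] at h3
    exact h3.symm
  -- a conjugate is nontrivial on `L`
  have h4 : ∃ M ∈ orb, ¬ Cen M x := by
    by_contra hcon
    push Not at hcon
    apply hxB
    rw [hBmem]
    exact ⟨hxS, fun y hy => SS_comm (fun M hM k hk => hcon M hM k hk) hy⟩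
  obtain ⟨_, ⟨g, hg, rfl⟩, hn⟩ := h4
  have hgz : ∀ K ∈ 𝒦, zz K * g = g * zz K := by
    intro K hK
    refine SS_comm (fun M hM m hm => ?_) hg
    by_cases h1 : K = M
    · rw [← h1] at hm
      exact (h.cen (h𝒦 K hK).1 hm).symm
    · exact h.pg K (h𝒦 K hK).1 M (h𝒦 M hM).1 S hS (h𝒦 K hK).2 (h𝒦 M hM).2 h1 _ (h.zm (h𝒦 K hK).1) m hm
  refine ⟨g⁻¹ * x * g, ?_, ?_, ?_, ?_⟩
  · have h5 := hEL g⁻¹ (inv_mem hg) x hxL
    rwa [inv_inv] at h5
  · obtain ⟨k, hk⟩ := hS₀.2.1 ⟨x, hxS⟩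
    refine ⟨k, ?_⟩
    have hk' : x ^ 2 ^ k = 1 := congrArg Subtype.val hk
    have h5 : g⁻¹ * x * g = g⁻¹ * x * g⁻¹⁻¹ := by rw [inv_inv]
    rw [h5, conj_pow, hk']
    group
  · intro K hK
    have h5 := hgz K hK
    have h6 := hxK K hK
    calc g⁻¹ * x * g * zz K = g⁻¹ * x * (g * zz K) := by group
      _ = g⁻¹ * (x * zz K) * g := by rw [← h5]; group
      _ = g⁻¹ * (zz K * x) * g := by rw [h6]
      _ = (g⁻¹ * (zz K * g)) * (g⁻¹ * x * g) := by group
      _ = (g⁻¹ * (g * zz K)) * (g⁻¹ * x * g) := by rw [h5]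
      _ = zz K * (g⁻¹ * x * g) := by group
  · intro hc
    apply hn
    intro y hy
    rw [mem_cj] at hy
    have h5 := hc _ hy
    calc x * y = g * (g⁻¹ * x * g * (g⁻¹ * y * g)) * g⁻¹ := by group
      _ = g * (g⁻¹ * y * g * (g⁻¹ * x * g)) * g⁻¹ := by rw [h5]
      _ = y * x := by group

/-- **(3'.2)** : `c` normalises the components -/
theorem fix (h : WR Om) (hS : IsPGroup 2 S) (h𝒦 : ∀ K ∈ 𝒦, K ∈ Om ∧ K ≤ S)
    (hR : ∀ K ∈ 𝒦, RR Om (zz K) ≤ X) {N : Subgroup G} (hc : Odd (orderOf c)) (hcX : c ∈ X)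
    (hcK : ∀ K ∈ 𝒦, ∀ k ∈ K, c * k = k * c)
    (hcN : c ∈ N) (hN : ∀ y ∈ SS 𝓛, y * s = s * y → ∀ n ∈ N, y * n * y⁻¹ ∈ N)
    (hs : ∀ y ∈ SS 𝓛, (∀ K ∈ 𝒦, y * zz K = zz K * y) → y * s = s * y)
    (ha : ∀ L ∈ 𝓛, Cen L a)
    (hN2 : ∀ u ∈ N, u ∈ SS 𝓛 → (∃ k : ℕ, u ^ 2 ^ k = 1) → u = 1 ∨ u = a) (hL : L ∈ 𝓛) : cj c L = L := by
  have hE2 : IsPGroup 2 (SS 𝒦) := hS.to_le (SS_le fun K hK => (h𝒦 K hK).2)
  have hcE : ∀ g ∈ SS 𝒦, c * g = g * c := fun g hg => SS_comm (fun K hK k hk => hcK K hK k hk) hg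
  by_cases horb : ∃ g ∈ SS 𝒦, cj c L = cj g L
  · obtain ⟨g, hg, hgL⟩ := horb
    -- `g⁻¹ c` normalises `L`
    have h1 : cj (g⁻¹ * c) L = L := by rw [cj_mul, hgL, cj_inv_cj]
    have h2 : ∀ n : ℕ, cj ((g⁻¹ * c) ^ n) L = L := by
      intro n
      induction n with
      | zero => rw [pow_zero, cj_one]
      | succ n ih => rw [pow_succ, cj_mul, h1, ih]
    have h3 := h2 (orderOf c)
    have hcg : Commute g⁻¹ c := (Commute.inv_left (show Commute g c from (hcE g hg).symm))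
    rw [hcg.mul_pow, pow_orderOf_eq_one, mul_one] at h3
    -- `g` is a power of `g⁻¹ ^ m`
    obtain ⟨k, hk⟩ := hE2 ⟨g, hg⟩
    have hk' : g ^ 2 ^ k = 1 := congrArg Subtype.val hk
    have hco : Nat.Coprime (orderOf c) (orderOf g⁻¹) := by
      rw [orderOf_inv]
      exact (((Nat.coprime_two_right.2 hc).pow_right k)).coprime_dvd_right (orderOf_dvd_of_pow_eq_one hk')
    obtain ⟨j, hj⟩ := exists_pow_eq_self_of_coprime hco
    have h4 : ∀ n : ℕ, cj ((g⁻¹ ^ orderOf c) ^ n) L = L := by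
      intro n
      induction n with
      | zero => rw [pow_zero, cj_one]
      | succ n ih => rw [pow_succ, cj_mul, h3, ih]
    have h5 := h4 j
    rw [hj] at h5
    rw [hgL]
    have h6 := congrArg (cj g) h5
    rw [cj_cj_inv] at h6
    exact h6.symm
  · exfalso
    push Not at horb
    obtain ⟨x, hx, ⟨k, hk⟩, hxK, hxn⟩ := C.exists_x h hS h𝒦 hR hL
    have hKR : ∀ K ∈ 𝒦, K ≤ RR Om (zz K) := fun K hK => WR.le_RR ⟨(h𝒦 K hK).1, rfl⟩
    have hEX : SS 𝒦 ≤ X := SS_le fun K hK => (hKR K hK).trans (hR K hK)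
    have horb𝓛 : {M | ∃ g ∈ SS 𝒦, M = cj g L} ⊆ 𝓛 := by
      rintro M ⟨g, hg, rfl⟩
      exact C.conj L hL g (hEX hg)
    have hx𝓛 : x ∈ SS 𝓛 := SS_mono horb𝓛 hx
    have hxs := hs x hx𝓛 hxK
    -- `c x c⁻¹` commutes with the orbit
    have h1 : ∀ g ∈ SS 𝒦, ∀ y ∈ cj g L, c * x * c⁻¹ * y = y * (c * x * c⁻¹) := by
      intro g hg y hy
      have h2 : x ∈ (centralizer {y} : Subgroup G).comap (MulAut.conj c).toMonoidHom := by
        refine (SS_le (𝒦 := {M | ∃ g ∈ SS 𝒦, M = cj g L}) fun M hM => ?_) hx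
        obtain ⟨g', hg', rfl⟩ := hM
        intro m hm
        rw [mem_comap]
        change c * m * c⁻¹ ∈ _
        rw [mem_centralizer_singleton_iff]
        refine C.comm (cj c (cj g' L)) (C.conj _ (C.conj L hL g' (hEX hg')) c hcX) (cj g L) (C.conj L hL g (hEX hg)) ?_
          _ (conj_mem_cj hm) y hy
        rw [← cj_mul, hcE g' hg', cj_mul]
        intro h3
        refine horb (g'⁻¹ * g) (mul_mem (inv_mem hg') hg) ?_
        rw [cj_mul, ← h3, cj_inv_cj]
      rw [mem_comap] at h2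
      exact mem_centralizer_singleton_iff.1 h2
    have h2 : Cen L (c * x * c⁻¹) := fun y hy => h1 1 (one_mem _) y (by rwa [cj_one])
    have h3 : (c * x * c⁻¹) * x = x * (c * x * c⁻¹) := by
      refine SS_comm (fun M hM k hk => ?_) hx
      obtain ⟨g, hg, rfl⟩ := hM
      exact h1 g hg k hk
    -- the element `u`
    set u := (c * x * c⁻¹) * x⁻¹ with hu
    have huN : u ∈ N := by
      have h4 : u = c * (x * c⁻¹ * x⁻¹) := by rw [hu]; group
      rw [h4]
      exact mul_mem hcN (hN x hx𝓛 hxs _ (inv_mem hcN))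
    have hu𝓛 : u ∈ SS 𝓛 := mul_mem (C.SS_cj hcX hx𝓛) (inv_mem hx𝓛)
    have hu2 : u ^ 2 ^ k = 1 := by
      have h4 : Commute (c * x * c⁻¹) x⁻¹ := Commute.inv_right h3
      rw [hu, h4.mul_pow, conj_pow, hk, inv_pow, hk]
      group
    have hux : c * x * c⁻¹ = u * x := by rw [hu]; group
    apply hxn
    rcases hN2 u huN hu𝓛 ⟨k, hu2⟩ with h4 | h4
    · rw [h4, one_mul] at hux
      rwa [hux] at h2
    · rw [h4] at hux
      intro y hy
      have h5 := h2 y hy
      rw [hux] at h5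
      have h6 := ha L hL y hy
      have h7 : a * (x * y) = a * (y * x) := by
        calc a * (x * y) = a * x * y := by group
          _ = y * (a * x) := h5
          _ = (y * a) * x := by group
          _ = a * y * x := by rw [← h6]
          _ = a * (y * x) := by group
      exact mul_left_cancel h7

end orbit

end Cps

end Cfsg.Agent.Cit.Nil.LO

private theorem dce_7abf836aa755 : _root_.True := by
  try have : _root_.True := by simp only [_root_.Cfsg.Agent.Cit.Nil.LO.ZL.eq_1]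
  exact _root_.True.intro
end
end
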